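import Mathlib
import Cfsg.Prelude.Def_Classical

set_option autoImplicit false

namespace Cfsg.Agent.Lib.Helper51

open Matrix

/-- A faithful linear action preserving a bilinear form whose Gram matrix is `J` embeds into `Sp`. -/
theorem embed_symplectic {F : Type*} [Field F] {V : Type*} [AddCommGroup V] [Module F V]
    {n : Type*} [Fintype n] [DecidableEq n]
    (𝔟 : Module.Basis (n ⊕ n) F V) (β : LinearMap.BilinForm F V)
    (hβ : LinearMap.BilinForm.toMatrix 𝔟 β = Matrix.J n F)
    {G : Type*} [Group G] (ρ : G →* (V →ₗ[F] V)) (hρ : Function.Injective ρ)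
    (hpres : ∀ g u v, β (ρ g u) (ρ g v) = β u v) :
    ∃ φ : G →* ↥(Matrix.symplecticGroup n F), Function.Injective φ := by
  have hmem : ∀ g : G,
      ((LinearMap.toMatrixAlgEquiv 𝔟 : (V →ₗ[F] V) →* Matrix (n ⊕ n) (n ⊕ n) F).comp ρ) g
        ∈ Matrix.symplecticGroup n F := by
    intro g
    rw [SymplecticGroup.mem_iff']
    have h1 : β.comp (ρ g) (ρ g) = β := by
      ext u v
      simp [hpres]
    have h2 := LinearMap.BilinForm.toMatrix_comp 𝔟 𝔟 β (ρ g) (ρ g)
    rw [h1, hβ] at h2
    exact h2.symm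
  refine ⟨MonoidHom.codRestrict _ _ hmem, ?_⟩
  intro g g' h
  apply hρ
  have h3 := congrArg Subtype.val h
  simp only [MonoidHom.codRestrict_apply] at h3
  exact (LinearMap.toMatrixAlgEquiv 𝔟).injective h3

/-- A faithful linear action preserving a function which in the coordinates of a basis is `Q`
embeds into the isometry group of `Q`. -/
theorem embed_isometry {F : Type*} [Field F] {V : Type*} [AddCommGroup V] [Module F V]
    {ι : Type} [Fintype ι] [DecidableEq ι]
    (𝔟 : Module.Basis ι F V) (Q : (ι → F) → F) (qV : V → F)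
    (hq : ∀ x : ι → F, qV (∑ i, x i • 𝔟 i) = Q x)
    {G : Type*} [Group G] (ρ : G →* (V →ₗ[F] V)) (hρ : Function.Injective ρ)
    (hpres : ∀ g v, qV (ρ g v) = qV v) :
    ∃ φ : G →* ↥(Cfsg.isometryGroup F Q), Function.Injective φ := by
  let ψ : G →* Matrix ι ι F :=
    (LinearMap.toMatrixAlgEquiv 𝔟 : (V →ₗ[F] V) →* Matrix ι ι F).comp ρ
  let ψu : G →* (Matrix ι ι F)ˣ := ψ.toHomUnits
  have hψ : ∀ g, ψ g = LinearMap.toMatrix 𝔟 𝔟 (ρ g) := fun g => rfl
  have hmem : ∀ g : G, ψu g ∈ Cfsg.isometryGroup F Q := by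
    intro g u v
    show Q ((ψ g) *ᵥ u) = Q u
    rw [← hq, ← hq u]
    have h1 : ∑ i, ((ψ g) *ᵥ u) i • 𝔟 i = ρ g (∑ i, u i • 𝔟 i) := by
      have h2 : (ψ g) *ᵥ u = 𝔟.repr (ρ g (∑ i, u i • 𝔟 i)) := by
        have h3 := LinearMap.toMatrix_mulVec_repr 𝔟 𝔟 (ρ g) (∑ i, u i • 𝔟 i)
        rw [← h3, hψ]
        congr 1
        ext j
        have h4 : ∑ i, u i • 𝔟 i = 𝔟.equivFun.symm u := by
          rw [Module.Basis.equivFun_symm_apply]
        rw [h4, ← Module.Basis.equivFun_apply, LinearEquiv.apply_symm_apply]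
      rw [h2]
      exact 𝔟.sum_repr _
    rw [h1, hpres]
  refine ⟨MonoidHom.codRestrict ψu _ hmem, ?_⟩
  intro g g' h
  apply hρ
  have h3 : ψu g = ψu g' := congrArg Subtype.val h
  have h4 : ψ g = ψ g' := congrArg Units.val h3
  exact (LinearMap.toMatrixAlgEquiv 𝔟).injective h4

/-- The index equivalence used for bases of `ι → K` over the subfield. -/
def sigmaFinTwoEquiv (ι : Type*) : (Σ _ : ι, Fin 2) ≃ ι ⊕ ι where
  toFun x := if x.2 = 0 then Sum.inl x.1 else Sum.inr x.1
  invFun y := Sum.elim (fun i => ⟨i, 0⟩) (fun i => ⟨i, 1⟩) y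
  left_inv := by
    rintro ⟨i, s⟩
    fin_cases s <;> simp
  right_inv := by
    rintro (i | i) <;> simp

/-- The action of matrices over `K` on `ι → K`, read over a subfield `F`. -/
def mulVecRestrict (F : Type*) {K : Type*} [Field F] [Field K] [Algebra F K]
    (ι : Type*) [Fintype ι] [DecidableEq ι] :
    Matrix ι ι K →* ((ι → K) →ₗ[F] (ι → K)) where
  toFun A := (Matrix.mulVecLin A).restrictScalars F
  map_one' := by
    ext v
    simp
  map_mul' A B := by
    ext v
    simp

theorem mulVecRestrict_apply (F : Type*) {K : Type*} [Field F] [Field K] [Algebra F K]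
    (ι : Type*) [Fintype ι] [DecidableEq ι] (A : Matrix ι ι K) (v : ι → K) :
    mulVecRestrict F ι A v = A *ᵥ v := rfl

theorem mulVecRestrict_injective (F : Type*) {K : Type*} [Field F] [Field K] [Algebra F K]
    (ι : Type*) [Fintype ι] [DecidableEq ι] :
    Function.Injective (mulVecRestrict F (K := K) ι) := by
  intro A B h
  apply Matrix.mulVec_injective
  funext v
  exact congrArg (fun f => f v) h

end Cfsg.Agent.Lib.Helper51
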