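import Mathlib
import Cfsg.Agent.Lib.Helper73.RUDefs

set_option autoImplicit false

/-!
# K-RU leaf D (S2280): all `e_jᵀ` are axes (downward induction from the closure properties of `Ax G`)
-/

namespace Cfsg.Agent.Lib.Helper51.RU

open Matrix Cfsg.Agent.Lib.Helper73.RU

theorem single_mem_Ax_of {m : ℕ} {F : Type*} [Field F]
    {G : Subgroup (SpecialLinearGroup (Fin (m + 3)) F)}
    (HA1 : ∀ (s : F) (ψ : Fin (m + 3) → F), ψ ∈ Ax G → s • ψ ∈ Ax G)
    (HA2 : ∀ (ψ : Fin (m + 3) → F), ψ ∈ Ax G → ∀ A : Matrix (Fin (m + 3)) (Fin (m + 3)) F, InG G A →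
      ψ ᵥ* A ∈ Ax G)
    (HA3 : ∀ (ψ₁ ψ₂ : Fin (m + 3) → F), ψ₁ ∈ Ax G → ψ₂ ∈ Ax G → ∀ v₀ : Fin (m + 3) → F,
      ψ₁ ⬝ᵥ v₀ = 1 → ψ₂ ⬝ᵥ v₀ = 0 → ψ₁ + ψ₂ ∈ Ax G)
    (C : Matrix (Fin (m + 3)) (Fin (m + 3)) F) (μ : Fin (m + 3) → F) (hC : InG G C)
    (hrow : ∀ (j : Fin (m + 3)) (hj : j.val + 1 < m + 3),
      (Pi.single ⟨j.val + 1, hj⟩ 1 : Fin (m + 3) → F) ᵥ* C =
        Pi.single ⟨j.val + 1, hj⟩ 1 + μ j • Pi.single j 1)
    (hμ : ∀ j, μ j ≠ 0)
    (hlast : (Pi.single (Fin.last (m + 2)) 1 : Fin (m + 3) → F) ∈ Ax G) :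
    ∀ j : Fin (m + 3), (Pi.single j 1 : Fin (m + 3) → F) ∈ Ax G := by
  classical
  have key : ∀ k : ℕ, ∀ j : Fin (m + 3), j.val + k = m + 2 →
      (Pi.single j 1 : Fin (m + 3) → F) ∈ Ax G := by
    intro k
    induction k with
    | zero =>
      intro j hj
      have : j = Fin.last (m + 2) := by
        apply Fin.ext
        simp only [Fin.val_last]
        omega
      rw [this]
      exact hlast
    | succ k ih =>
      intro j hj
      have hj1 : j.val + 1 < m + 3 := by omega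
      set j' : Fin (m + 3) := ⟨j.val + 1, hj1⟩ with hj'
      have hne : j' ≠ j := by
        intro h
        have := congrArg Fin.val h
        simp [hj'] at this
      have h1 : (Pi.single j' 1 : Fin (m + 3) → F) ∈ Ax G := ih j' (by simp [hj']; omega)
      have h2 : (Pi.single j' 1 : Fin (m + 3) → F) + μ j • Pi.single j 1 ∈ Ax G := by
        have := HA2 _ h1 C hC
        rwa [hrow j hj1] at this
      have h3 : (-1 : F) • (Pi.single j' 1 : Fin (m + 3) → F) ∈ Ax G := HA1 _ _ h1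
      have h4 := HA3 _ _ h2 h3 ((μ j)⁻¹ • (Pi.single j 1 : Fin (m + 3) → F)) (by
        rw [add_dotProduct, dotProduct_smul, dotProduct_smul, smul_dotProduct,
          single_dotProduct, single_dotProduct]
        simp [hne, hμ j]) (by
        rw [smul_dotProduct, dotProduct_smul, single_dotProduct]
        simp [hne])
      have h5 : (Pi.single j' 1 : Fin (m + 3) → F) + μ j • Pi.single j 1 +
          (-1 : F) • (Pi.single j' 1 : Fin (m + 3) → F) = μ j • Pi.single j 1 := by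
        rw [neg_one_smul]; abel
      rw [h5] at h4
      have h6 := HA1 (μ j)⁻¹ _ h4
      rwa [smul_smul, inv_mul_cancel₀ (hμ j), one_smul] at h6
  intro j
  exact key (m + 2 - j.val) j (by have := j.isLt; omega)

end Cfsg.Agent.Lib.Helper51.RU
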