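import Mathlib

set_option autoImplicit false

namespace Cfsg.Agent.Lib.Helper51

open Matrix


section
variable {F : Type*} [Field F] [Fintype F] {n : ℕ}

/-- counting fixed points of a matrix of prime order on an invariant subspace -/
theorem card_invariant_modEq (X : Matrix (Fin n) (Fin n) F) (r : ℕ) [hr : Fact r.Prime]
    (hX : X ^ r = 1) (U : Submodule F (Fin n → F)) (hU : ∀ u ∈ U, X *ᵥ u ∈ U) :
    Nat.card U ≡ Nat.card {u : U // X *ᵥ (u : Fin n → F) = u} [MOD r] := by
  classical
  have : Fintype U := Fintype.ofFinite U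
  let T : Function.End U := fun u => ⟨X *ᵥ (u : Fin n → F), hU u u.2⟩
  have hTapp : ∀ u : U, ((T u : U) : Fin n → F) = X *ᵥ (u : Fin n → F) := fun u => rfl
  have hpow : ∀ k : ℕ, ∀ u : U, (((T ^ k) u : U) : Fin n → F) = (X ^ k) *ᵥ (u : Fin n → F) := by
    intro k
    induction k with
    | zero => intro u; rw [pow_zero, pow_zero, one_mulVec]; rfl
    | succ k ih =>
      intro u
      have h1 : (T ^ (k + 1)) u = T ((T ^ k) u) := by rw [pow_succ']; rfl
      rw [h1, hTapp, ih, mulVec_mulVec, ← pow_succ']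
  have hT : T ^ r ^ 1 = 1 := by
    rw [pow_one]
    funext u
    apply Subtype.ext
    rw [hpow, hX, one_mulVec]
    rfl
  have h := Equiv.Perm.card_fixedPoints_modEq (f := T) (p := r) (n := 1) hT
  rw [Nat.card_eq_fintype_card]
  refine h.trans ?_
  have : Fintype.card (Function.fixedPoints T) = Nat.card {u : U // X *ᵥ (u : Fin n → F) = u} := by
    rw [← Nat.card_eq_fintype_card]
    apply Nat.card_congr
    apply Equiv.subtypeEquivRight
    intro u
    show T u = u ↔ _
    constructor
    · intro h; exact congrArg Subtype.val h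
    · intro h; exact Subtype.ext h
  rw [this]

end



section
variable {F : Type*} [Field F] [Fintype F] {n : ℕ}

theorem natCard_submodule {q : ℕ} (hF : Fintype.card F = q) (U : Submodule F (Fin n → F)) :
    Nat.card U = q ^ Module.finrank F U := by
  rw [Module.natCard_eq_pow_finrank (K := F) (V := U), Nat.card_eq_fintype_card, hF]

/-- the fixed space of a matrix -/
def fixSpace (X : Matrix (Fin n) (Fin n) F) : Submodule F (Fin n → F) :=
  LinearMap.ker (Matrix.toLin' (X - 1))

theorem mem_fixSpace (X : Matrix (Fin n) (Fin n) F) (v : Fin n → F) :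
    v ∈ fixSpace X ↔ X *ᵥ v = v := by
  rw [fixSpace, LinearMap.mem_ker, Matrix.toLin'_apply, sub_mulVec, one_mulVec, sub_eq_zero]

theorem pow_modEq_one_dvd {q r n d : ℕ} (hord : orderOf (q : ZMod r) = n)
    (h : q ^ d ≡ 1 [MOD r]) : n ∣ d := by
  rw [← hord]
  apply orderOf_dvd_of_pow_eq_one
  have := (ZMod.natCast_eq_natCast_iff _ _ _).2 h
  simpa using this

theorem fixSpace_eq_bot {q : ℕ} (hF : Fintype.card F = q) (X : Matrix (Fin n) (Fin n) F) (r : ℕ)
    [hr : Fact r.Prime] (hX : X ^ r = 1) (hX1 : X ≠ 1) (hn : 1 ≤ n)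
    (hord : orderOf (q : ZMod r) = n) : fixSpace X = ⊥ := by
  have h1 := card_invariant_modEq X r hX ⊤ (fun u _ => Submodule.mem_top)
  have h2 : Nat.card {u : (⊤ : Submodule F (Fin n → F)) // X *ᵥ (u : Fin n → F) = u}
      = Nat.card (fixSpace X) := by
    apply Nat.card_congr
    refine ⟨fun u => ⟨u.1.1, (mem_fixSpace X _).2 u.2⟩, fun v => ⟨⟨v.1, Submodule.mem_top⟩,
      (mem_fixSpace X _).1 v.2⟩, fun u => rfl, fun v => rfl⟩
  rw [h2, natCard_submodule hF, natCard_submodule hF, finrank_top, Module.finrank_fintype_fun_eq_card,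
    Fintype.card_fin] at h1
  have hqn : q ^ n ≡ 1 [MOD r] := by
    have := pow_orderOf_eq_one (q : ZMod r)
    rw [hord] at this
    apply (ZMod.natCast_eq_natCast_iff _ _ _).1
    simpa using this
  have h3 : n ∣ Module.finrank F (fixSpace X) := pow_modEq_one_dvd hord (h1.symm.trans hqn)
  have h4 : Module.finrank F (fixSpace X) ≤ n := by
    have := Submodule.finrank_le (fixSpace X)
    rwa [Module.finrank_fintype_fun_eq_card, Fintype.card_fin] at this
  have h5 : Module.finrank F (fixSpace X) ≠ n := by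
    intro h
    apply hX1
    have htop : fixSpace X = ⊤ := by
      apply Submodule.eq_top_of_finrank_eq
      rw [h, Module.finrank_fintype_fun_eq_card, Fintype.card_fin]
    apply Matrix.mulVec_injective
    funext v
    rw [one_mulVec]
    exact (mem_fixSpace X v).1 (htop ▸ Submodule.mem_top)
  have h6 : Module.finrank F (fixSpace X) = 0 := by
    obtain ⟨c, hc⟩ := h3
    rcases Nat.eq_zero_or_pos c with rfl | hc0
    · rw [hc]; simp
    · exfalso
      have : n ≤ Module.finrank F (fixSpace X) := by rw [hc]; exact Nat.le_mul_of_pos_right n hc0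
      omega
  exact Submodule.finrank_eq_zero.1 h6

/-- an invariant subspace of a matrix of primitive prime order is trivial -/
theorem invariant_bot_or_top {q : ℕ} (hF : Fintype.card F = q) (X : Matrix (Fin n) (Fin n) F)
    (r : ℕ) [hr : Fact r.Prime] (hX : X ^ r = 1) (hX1 : X ≠ 1) (hn : 1 ≤ n)
    (hord : orderOf (q : ZMod r) = n) (U : Submodule F (Fin n → F))
    (hU : ∀ u ∈ U, X *ᵥ u ∈ U) : U = ⊥ ∨ U = ⊤ := by
  have hfix := fixSpace_eq_bot hF X r hX hX1 hn hord
  have h1 := card_invariant_modEq X r hX U hU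
  have h2 : Nat.card {u : U // X *ᵥ (u : Fin n → F) = u} = 1 := by
    rw [Nat.card_eq_one_iff_unique]
    refine ⟨⟨?_⟩, ⟨⟨0, by simp⟩⟩⟩
    intro a b
    have ha : (a.1 : Fin n → F) ∈ fixSpace X := (mem_fixSpace X _).2 a.2
    have hb : (b.1 : Fin n → F) ∈ fixSpace X := (mem_fixSpace X _).2 b.2
    rw [hfix, Submodule.mem_bot] at ha hb
    apply Subtype.ext
    apply Subtype.ext
    rw [ha, hb]
  rw [h2, natCard_submodule hF] at h1
  have h3 : n ∣ Module.finrank F U := pow_modEq_one_dvd hord h1
  have h4 : Module.finrank F U ≤ n := by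
    have := Submodule.finrank_le U
    rwa [Module.finrank_fintype_fun_eq_card, Fintype.card_fin] at this
  obtain ⟨c, hc⟩ := h3
  rcases Nat.eq_zero_or_pos c with rfl | hc0
  · left
    apply Submodule.finrank_eq_zero.1
    rw [hc]; simp
  · right
    apply Submodule.eq_top_of_finrank_eq
    rw [Module.finrank_fintype_fun_eq_card, Fintype.card_fin]
    have : n ≤ Module.finrank F U := by rw [hc]; exact Nat.le_mul_of_pos_right n hc0
    omega

end

end Cfsg.Agent.Lib.Helper51
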