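import Mathlib
import Cfsg.Agent.Lib.Helper51.Singer1

set_option autoImplicit false

namespace Cfsg.Agent.Lib.Helper51

open Matrix


section
variable {F : Type*} [Field F] [Fintype F] {n : ℕ}

/-- a nonzero matrix commuting with a matrix of primitive prime order is invertible -/
theorem isUnit_of_commute {q : ℕ} (hF : Fintype.card F = q) (X : Matrix (Fin n) (Fin n) F)
    (r : ℕ) [hr : Fact r.Prime] (hX : X ^ r = 1) (hX1 : X ≠ 1) (hn : 1 ≤ n)
    (hord : orderOf (q : ZMod r) = n) (m : Matrix (Fin n) (Fin n) F) (hm : m * X = X * m)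
    (hm0 : m ≠ 0) : IsUnit m := by
  have hinv : ∀ u ∈ LinearMap.ker (Matrix.toLin' m), X *ᵥ u ∈ LinearMap.ker (Matrix.toLin' m) := by
    intro u hu
    rw [LinearMap.mem_ker, Matrix.toLin'_apply] at hu ⊢
    rw [mulVec_mulVec, hm, ← mulVec_mulVec, hu, mulVec_zero]
  rcases invariant_bot_or_top hF X r hX hX1 hn hord _ hinv with h | h
  · rw [← Matrix.mulVec_injective_iff_isUnit]
    have := LinearMap.ker_eq_bot.1 h
    exact this
  · exfalso
    apply hm0
    apply Matrix.mulVec_injective
    funext v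
    have hv : v ∈ LinearMap.ker (Matrix.toLin' m) := h ▸ Submodule.mem_top
    rw [LinearMap.mem_ker, Matrix.toLin'_apply] at hv
    rw [hv, zero_mulVec]

/-- the commutant of a matrix of primitive prime order has `q ^ n` elements -/
theorem card_commutant {q : ℕ} (hF : Fintype.card F = q) (X : Matrix (Fin n) (Fin n) F)
    (r : ℕ) [hr : Fact r.Prime] (hX : X ^ r = 1) (hX1 : X ≠ 1) (hn : 1 ≤ n)
    (hord : orderOf (q : ZMod r) = n) :
    Nat.card (Subalgebra.centralizer F ({X} : Set (Matrix (Fin n) (Fin n) F))) = q ^ n := by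
  classical
  set D := Subalgebra.centralizer F ({X} : Set (Matrix (Fin n) (Fin n) F)) with hD
  have hmemD : ∀ m : Matrix (Fin n) (Fin n) F, m ∈ D ↔ m * X = X * m := by
    intro m
    rw [hD, Subalgebra.mem_centralizer_iff]
    constructor
    · intro h; exact (h X rfl).symm
    · intro h g hg
      rw [Set.mem_singleton_iff.1 hg]; exact h.symm
  have hXD : X ∈ D := (hmemD X).2 rfl
  -- a nonzero vector
  have : NeZero n := ⟨by omega⟩
  let v₀ : Fin n → F := Pi.single 0 1
  have hv₀ : v₀ ≠ 0 := by
    intro h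
    have := congrFun h 0
    simp [v₀] at this
  let ev : D →ₗ[F] (Fin n → F) :=
    { toFun := fun m => (m : Matrix (Fin n) (Fin n) F) *ᵥ v₀
      map_add' := fun a b => by simp [add_mulVec]
      map_smul' := fun c a => by simp [smul_mulVec] }
  have hev : ∀ m : D, ev m = (m : Matrix (Fin n) (Fin n) F) *ᵥ v₀ := fun m => rfl
  have hinj : Function.Injective ev := by
    rw [← LinearMap.ker_eq_bot, LinearMap.ker_eq_bot']
    intro m hm
    by_contra hm0
    have hm0' : (m : Matrix (Fin n) (Fin n) F) ≠ 0 := fun h => hm0 (Subtype.ext h)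
    have hu := isUnit_of_commute hF X r hX hX1 hn hord _ ((hmemD _).1 m.2) hm0'
    rw [← Matrix.mulVec_injective_iff_isUnit] at hu
    apply hv₀
    apply hu
    rw [mulVec_zero]
    exact hm
  have hsurj : Function.Surjective ev := by
    rw [← LinearMap.range_eq_top]
    have hinv : ∀ u ∈ LinearMap.range ev, X *ᵥ u ∈ LinearMap.range ev := by
      rintro u ⟨m, rfl⟩
      refine ⟨⟨X, hXD⟩ * m, ?_⟩
      rw [hev, hev]
      simp [mulVec_mulVec]
    rcases invariant_bot_or_top hF X r hX hX1 hn hord _ hinv with h | h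
    · exfalso
      apply hv₀
      have : v₀ ∈ LinearMap.range ev := ⟨1, by rw [hev]; simp⟩
      rw [h, Submodule.mem_bot] at this
      exact this
    · exact h
  rw [Nat.card_congr (Equiv.ofBijective ev ⟨hinj, hsurj⟩), Nat.card_eq_fintype_card,
    Fintype.card_fun, Fintype.card_fin, hF]

end

end Cfsg.Agent.Lib.Helper51
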