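import Mathlib
import Cfsg.Agent.S2904
import Cfsg.Agent.Lib.Helper51.Singer2

set_option autoImplicit false

namespace Cfsg.Agent.Lib.Helper51

open Polynomial

/-- a primitive prime divisor of `q ^ n - 1` for a finite field of order `q`, outside the
Zsigmondy exceptions, expressed through the multiplicative order of `q` -/
theorem exists_ppd_field {F : Type*} [Field F] [Fintype F] (n : ℕ) (hn : 2 ≤ n)
    (hex1 : ¬ (n = 6 ∧ Fintype.card F = 2))
    (hex2 : ¬ (n = 2 ∧ (Fintype.card F).Prime ∧ ∃ a : ℕ, Fintype.card F + 1 = 2 ^ a)) :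
    ∃ r : ℕ, r.Prime ∧ r ∣ Fintype.card F ^ n - 1 ∧
      orderOf ((Fintype.card F : ℕ) : ZMod r) = n := by
  set q := Fintype.card F with hq
  have hq1 : 1 < q := Fintype.one_lt_card
  have key : ∃ r : ℕ, r.Prime ∧ r ∣ q ^ n - 1 ∧ ∀ k : ℕ, 0 < k → k < n → ¬ r ∣ q ^ k - 1 := by
    by_cases h2 : n = 2 ∧ ∃ m : ℕ, q + 1 = 2 ^ m
    · obtain ⟨rfl, m, hm⟩ := h2
      obtain ⟨p, _, k, hp, hk⟩ := FiniteField.card' F
      rw [← hq] at hk
      by_cases hk1 : (k : ℕ) = 1
      · exfalso
        apply hex2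
        refine ⟨rfl, ?_, m, hm⟩
        rw [hk, hk1, pow_one]
        exact hp
      · have hk2 : 2 ≤ (k : ℕ) := by
          have := k.pos
          omega
        have h6' : ¬ (p = 2 ∧ 2 * (k : ℕ) = 6) := by
          rintro ⟨rfl, h3⟩
          have hk3 : (k : ℕ) = 3 := by omega
          rw [hk, hk3] at hm
          rcases Nat.eq_zero_or_pos m with rfl | hmpos
          · norm_num at hm
          · have : 2 ∣ 2 ^ m := dvd_pow_self 2 hmpos.ne'
            rw [← hm] at this
            norm_num at this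
        have h2' : ¬ (2 * (k : ℕ) = 2 ∧ ∃ m : ℕ, p + 1 = 2 ^ m) := by
          rintro ⟨h, -⟩
          omega
        obtain ⟨r, hr, hrd, hrn⟩ := Cfsg.Agent.S2904.result p (2 * (k : ℕ)) hp.one_lt (by omega) h6' h2'
        refine ⟨r, hr, ?_, ?_⟩
        · rw [hk, ← pow_mul, mul_comm]
          exact hrd
        · intro j hj0 hj2
          have hj1 : j = 1 := by omega
          rw [hj1, pow_one, hk]
          exact hrn k (by omega) (by omega)
    · exact Cfsg.Agent.S2904.result q n hq1 (by omega) (fun h => hex1 ⟨h.2, h.1⟩) h2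
  obtain ⟨r, hr, hrd, hrn⟩ := key
  refine ⟨r, hr, hrd, ?_⟩
  have hcast : ∀ m : ℕ, ((q : ZMod r)) ^ m = 1 ↔ r ∣ q ^ m - 1 := by
    intro m
    have h1 : 1 ≤ q ^ m := Nat.one_le_pow _ _ (by omega)
    rw [← ZMod.natCast_eq_zero_iff, Nat.cast_sub h1, Nat.cast_pow, Nat.cast_one, sub_eq_zero]
  rw [orderOf_eq_iff (by omega)]
  refine ⟨(hcast n).2 hrd, ?_⟩
  intro m hm hm0 h
  exact hrn m hm0 hm ((hcast m).1 h)

/-- a finite `F`-algebra all of whose nonzero elements are units is isomorphic, as an
`F`-algebra, to any finite field extension of `F` of the same cardinality -/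
theorem nonempty_algEquiv_of_card_eq {F K A : Type*} [Field F] [Finite F] [Field K] [Finite K]
    [Algebra F K] [Ring A] [Nontrivial A] [Finite A] [Algebra F A]
    (hA : ∀ a : A, IsUnit a ∨ a = 0) (hcard : Nat.card K = Nat.card A) :
    Nonempty (K ≃ₐ[F] A) := by
  classical
  letI : DivisionRing A := DivisionRing.ofIsUnitOrEqZero hA
  letI : Field A := littleWedderburn A
  haveI := Fintype.ofFinite K
  haveI := Fintype.ofFinite A
  haveI := Fintype.ofFinite F
  have h1 : IsSplittingField F K (X ^ Fintype.card K - X) := FiniteField.isSplittingField_sub K F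
  have h2 : IsSplittingField F A (X ^ Fintype.card A - X) := FiniteField.isSplittingField_sub A F
  have hc : Fintype.card A = Fintype.card K := by
    rw [Fintype.card_eq_nat_card, Fintype.card_eq_nat_card, hcard]
  rw [hc] at h2
  exact ⟨(IsSplittingField.algEquiv K (X ^ Fintype.card K - X : F[X])).trans
    (IsSplittingField.algEquiv A (X ^ Fintype.card K - X : F[X])).symm⟩

end Cfsg.Agent.Lib.Helper51
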