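import Mathlib
import Cfsg.Agent.Lib.Helper51.Embed

set_option autoImplicit false

namespace Cfsg.Agent.Lib.Helper51

open Matrix


theorem form_single' {K : Type*} [CommRing K] {ι : Type*} [Fintype ι] [DecidableEq ι]
    (M : Matrix ι ι K) (i j : ι) (x y : K) :
    (Pi.single i x) ⬝ᵥ (M *ᵥ (Pi.single j y)) = x * M i j * y := by
  rw [single_dotProduct, mulVec_single]
  simp [mul_assoc]

/-- A matrix whose quadratic form vanishes identically on `F^ι` still does after extending scalars. -/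
theorem quad_vanish_map {F K : Type*} [Field F] [Field K] (f : F →+* K)
    {ι : Type*} [Fintype ι] [DecidableEq ι] (D : Matrix ι ι F)
    (hD : ∀ u : ι → F, u ⬝ᵥ (D *ᵥ u) = 0) (v : ι → K) :
    v ⬝ᵥ ((D.map f) *ᵥ v) = 0 := by
  have hdiag : ∀ i, D i i = 0 := by
    intro i
    have := hD (Pi.single i 1)
    rw [form_single'] at this
    simpa using this
  have hoff : ∀ i j, D i j + D j i = 0 := by
    intro i j
    by_cases hij : i = j
    · subst hij; rw [hdiag]; simp
    · have := hD (Pi.single i 1 + Pi.single j 1)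
      rw [mulVec_add, add_dotProduct, dotProduct_add, dotProduct_add, form_single', form_single',
        form_single', form_single', hdiag, hdiag] at this
      simpa using this
  have hexp : v ⬝ᵥ ((D.map f) *ᵥ v) = ∑ x ∈ (Finset.univ : Finset (ι × ι)), v x.1 * f (D x.1 x.2) * v x.2 := by
    rw [← Finset.univ_product_univ, Finset.sum_product]
    simp only [dotProduct, mulVec, Matrix.map_apply, Finset.mul_sum]
    apply Finset.sum_congr rfl
    intro i _
    apply Finset.sum_congr rfl
    intro j _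
    ring
  rw [hexp]
  apply Finset.sum_involution (fun x _ => (x.2, x.1))
  · intro x _
    have h1 : f (D x.1 x.2) + f (D x.2 x.1) = 0 := by
      rw [← map_add, hoff, map_zero]
    show v x.1 * f (D x.1 x.2) * v x.2 + v x.2 * f (D x.2 x.1) * v x.1 = 0
    linear_combination (v x.1 * v x.2) * h1
  · intro x _ hx hxx
    apply hx
    have h2 : x.2 = x.1 := congrArg Prod.fst hxx
    rw [h2, hdiag, map_zero]; ring
  · intro x _; exact Finset.mem_univ _
  · intro x _; rfl



theorem form_conj {R : Type*} [CommRing R] {ι : Type*} [Fintype ι] [DecidableEq ι]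
    (A C : Matrix ι ι R) (u : ι → R) :
    (A *ᵥ u) ⬝ᵥ (C *ᵥ (A *ᵥ u)) = u ⬝ᵥ ((Aᵀ * C * A) *ᵥ u) := by
  have key : ∀ w : ι → R, (A *ᵥ u) ⬝ᵥ w = u ⬝ᵥ (Aᵀ *ᵥ w) := by
    intro w
    rw [dotProduct_mulVec, vecMul_transpose]
  rw [key, mulVec_mulVec, mulVec_mulVec]

/-- Isometries of a quadratic form given by a matrix stay isometries after extending scalars. -/
theorem isometry_map {F K : Type*} [Field F] [Field K] (f : F →+* K)
    {ι : Type*} [Fintype ι] [DecidableEq ι] (C A : Matrix ι ι F)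
    (hA : ∀ u : ι → F, (A *ᵥ u) ⬝ᵥ (C *ᵥ (A *ᵥ u)) = u ⬝ᵥ (C *ᵥ u)) (v : ι → K) :
    ((A.map f) *ᵥ v) ⬝ᵥ ((C.map f) *ᵥ ((A.map f) *ᵥ v)) = v ⬝ᵥ ((C.map f) *ᵥ v) := by
  have h1 := quad_vanish_map f (Aᵀ * C * A - C) (by
    intro u
    rw [sub_mulVec, dotProduct_sub, ← form_conj, hA, sub_self]) v
  have h2 : (Aᵀ * C * A - C).map f = (A.map f)ᵀ * C.map f * A.map f - C.map f := by
    rw [Matrix.map_sub (f := f) (map_sub f), Matrix.map_mul, Matrix.map_mul, transpose_map]
  rw [h2, sub_mulVec, dotProduct_sub, ← form_conj, sub_eq_zero] at h1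
  exact h1

/-- Variant of `embed_isometry` with a linear equivalence in place of a basis. -/
theorem embed_isometry' {F : Type*} [Field F] {V : Type*} [AddCommGroup V] [Module F V]
    {ι : Type} [Fintype ι] [DecidableEq ι]
    (E : (ι → F) ≃ₗ[F] V) (Q : (ι → F) → F) (qV : V → F)
    (hq : ∀ x : ι → F, qV (E x) = Q x)
    {G : Type*} [Group G] (ρ : G →* (V →ₗ[F] V)) (hρ : Function.Injective ρ)
    (hpres : ∀ g v, qV (ρ g v) = qV v) :
    ∃ φ : G →* ↥(Cfsg.isometryGroup F Q), Function.Injective φ := by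
  refine embed_isometry (Module.Basis.ofEquivFun E.symm) Q qV ?_ ρ hρ hpres
  intro x
  rw [← hq x]
  congr 1
  rw [← Module.Basis.equivFun_symm_apply, Module.Basis.equivFun_ofEquivFun, LinearEquiv.symm_symm]

end Cfsg.Agent.Lib.Helper51
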