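import Mathlib

set_option autoImplicit false

namespace Cfsg.Agent.Lib.Helper51

open Polynomial

/-- The two distinct roots in the quadratic extension of an anisotropic binary form. -/
theorem exists_roots {F K : Type*} [Field F] [Fintype F] [Field K] [Fintype K] [Algebra F K]
    {q : ℕ} (hF : Fintype.card F = q) (hK : Fintype.card K = q ^ 2) (a c : F)
    (hac : ∀ z₁ z₂ : F, z₁ ^ 2 + a * z₁ * z₂ + c * z₂ ^ 2 = 0 → z₁ = 0 ∧ z₂ = 0) :
    ∃ θ θ' : K, θ + θ' = -algebraMap F K a ∧ θ * θ' = algebraMap F K c ∧ θ ≠ θ' := by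
  classical
  have hq : 1 < q := by rw [← hF]; exact Fintype.one_lt_card
  let P : F[X] := X ^ 2 + C a * X + C c
  have hPdeg : P.natDegree = 2 := by
    simp only [P]
    compute_degree!
  have hPmonic : P.Monic := by
    simp only [P]
    monicity!
  have hPne : P ≠ 0 := hPmonic.ne_zero
  have hnoroot : ∀ x : F, ¬ P.IsRoot x := by
    intro x hx
    have h1 : x ^ 2 + a * x * 1 + c * 1 ^ 2 = 0 := by
      simpa [P, IsRoot] using hx
    exact one_ne_zero (hac x 1 h1).2
  have hirr : Irreducible P := by
    apply irreducible_of_degree_le_three_of_not_isRoot _ hnoroot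
    rw [hPdeg]; simp
  have hdvd : P ∣ X ^ (Nat.card F) ^ 2 - X :=
    (hirr.natDegree_dvd_iff_dvd_X_pow_card_pow_sub_X (n := 2)).1 (by rw [hPdeg])
  have hdvdK : P.map (algebraMap F K) ∣ X ^ (Nat.card K) - X := by
    have := Polynomial.map_dvd (algebraMap F K) hdvd
    simpa [Nat.card_eq_fintype_card, hF, hK] using this
  have hXne : (X ^ (Nat.card K) - X : K[X]) ≠ 0 := by
    rw [Nat.card_eq_fintype_card]
    exact FiniteField.X_pow_card_sub_X_ne_zero K Fintype.one_lt_card
  have hsplit : (P.map (algebraMap F K)).Splits :=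
    Polynomial.splits_X_pow_nat_card_sub_X.of_dvd hXne hdvdK
  have hdegK : (P.map (algebraMap F K)).degree ≠ 0 := by
    rw [degree_map, degree_eq_natDegree hPne, hPdeg]; norm_num
  obtain ⟨θ, hθ⟩ := hsplit.exists_eval_eq_zero hdegK
  have hθ' : θ ^ 2 + algebraMap F K a * θ + algebraMap F K c = 0 := by
    simpa [P] using hθ
  refine ⟨θ, -algebraMap F K a - θ, by ring, by linear_combination -hθ', ?_⟩
  intro heq
  -- then (X - θ)^2 = P.map divides a separable polynomial
  obtain ⟨p, hp⟩ := CharP.exists K
  have : Fact p.Prime := ⟨CharP.char_is_prime K p⟩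
  obtain ⟨k, hpk, hk⟩ := FiniteField.card K p
  have hsep : (X ^ (Nat.card K) - X : K[X]).Separable := by
    rw [Nat.card_eq_fintype_card, hk]
    exact galois_poly_separable p _ (dvd_pow_self p k.ne_zero)
  have hPK : P.map (algebraMap F K) = (X - C θ) * (X - C θ) := by
    have h2 : algebraMap F K a = -(θ + θ) := by linear_combination heq
    have h3 : algebraMap F K c = θ * θ := by
      have : θ * (-algebraMap F K a - θ) = algebraMap F K c := by linear_combination -hθ'
      rw [← this, ← heq]
    simp only [P, Polynomial.map_add, Polynomial.map_mul, Polynomial.map_pow, map_X, map_C, h2, h3]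
    simp only [map_neg, map_add, map_mul]
    ring
  have hsq : Squarefree (X ^ (Nat.card K) - X : K[X]) := hsep.squarefree
  have hunit := hsq (X - C θ) (hPK ▸ hdvdK)
  exact not_isUnit_X_sub_C θ hunit

end Cfsg.Agent.Lib.Helper51
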