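import Cfsg.Agent.Lib.Helper51.OPar1
import Cfsg.Agent.Lib.Helper51.QuadExt2
import Cfsg.Agent.Lib.Helper08.SimStd

set_option autoImplicit false
set_option linter.unusedSectionVars false

/-! The minus-type form over a quadratic extension: base change of similarities, square roots,
and a maximal totally singular subspace. -/

namespace Cfsg.Agent.Lib.Helper51.OPar

open Matrix Cfsg.Agent.Lib.Helper08 Cfsg.Agent.Lib.Helper43

section gram

variable {K : Type*} [Field K]

/-- Gram matrix of the polar form of the minus-type form -/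
def gramMinus (k : ℕ) (a b : K) :
    Matrix ((Fin k ⊕ Fin k) ⊕ Fin 2) ((Fin k ⊕ Fin k) ⊕ Fin 2) K :=
  Matrix.fromBlocks
    (Matrix.fromBlocks (0 : Matrix (Fin k) (Fin k) K) (1 : Matrix (Fin k) (Fin k) K)
      (1 : Matrix (Fin k) (Fin k) K) (0 : Matrix (Fin k) (Fin k) K))
    (0 : Matrix (Fin k ⊕ Fin k) (Fin 2) K) (0 : Matrix (Fin 2) (Fin k ⊕ Fin k) K)
    (!![2, a; a, 2 * b] : Matrix (Fin 2) (Fin 2) K)

theorem quadFormMinus_smul (k : ℕ) (a b c : K) (x : (Fin k ⊕ Fin k) ⊕ Fin 2 → K) :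
    Cfsg.quadFormMinus k K a b (c • x) = c * c * Cfsg.quadFormMinus k K a b x := by
  simp only [Cfsg.quadFormMinus, Pi.smul_apply, smul_eq_mul, mul_add, Finset.mul_sum]
  congr 1
  · refine Finset.sum_congr rfl fun i _ => ?_
    ring
  · ring

theorem polar_gramMinus (k : ℕ) (a b : K) (u v : (Fin k ⊕ Fin k) ⊕ Fin 2 → K) :
    QuadraticMap.polar (Cfsg.quadFormMinus k K a b) u v = Matrix.toBilin' (gramMinus k a b) u v :=
  Cfsg.Agent.Lib.Helper50.polar_quadFormMinus k a b u v

/-- the minus-type form with non-zero discriminant as a non-degenerate quadratic form -/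
def qdataMinusDisc (k : ℕ) (a b : K) (hd : a ^ 2 - 4 * b ≠ 0) :
    QData (Cfsg.quadFormMinus k K a b) where
  M := gramMinus k a b
  hsm c x := quadFormMinus_smul k a b c x
  hM := polar_gramMinus k a b
  hdet := by
    unfold gramMinus
    rw [Cfsg.Agent.Lib.Helper50.det_minus_gram]
    exact mul_ne_zero (pow_ne_zero _ (neg_ne_zero.mpr one_ne_zero)) hd

theorem gramMinus_map {F : Type*} [Field F] (φ : F →+* K) (k : ℕ) (a b : F) :
    (gramMinus k a b).map φ = gramMinus k (φ a) (φ b) := by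
  unfold gramMinus
  rw [Matrix.fromBlocks_map, Matrix.fromBlocks_map]
  congr 1
  · simp
  · simp
  · simp
  · ext i j
    fin_cases i <;> fin_cases j <;> simp [map_ofNat]

/-- a similarity satisfies the Gram identity -/
theorem gram_of_similar (k : ℕ) (a b : K)
    (g : Matrix ((Fin k ⊕ Fin k) ⊕ Fin 2) ((Fin k ⊕ Fin k) ⊕ Fin 2) K) (μ : K)
    (h : ∀ v, Cfsg.quadFormMinus k K a b (g *ᵥ v) = μ * Cfsg.quadFormMinus k K a b v) :
    gᵀ * gramMinus k a b * g = μ • gramMinus k a b := by
  apply Matrix.toBilin'.injective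
  rw [map_smul, ← Matrix.toBilin'_comp]
  apply LinearMap.ext₂
  intro u v
  rw [LinearMap.BilinForm.comp_apply, Matrix.toLin'_apply, Matrix.toLin'_apply,
    LinearMap.smul_apply, LinearMap.smul_apply, ← polar_gramMinus, ← polar_gramMinus]
  unfold QuadraticMap.polar
  rw [← Matrix.mulVec_add, h, h, h, smul_eq_mul]
  ring

/-- the Gram identity makes a similarity (odd characteristic) -/
theorem similar_of_gram (h2 : (2 : K) ≠ 0) (k : ℕ) (a b : K)
    (g : Matrix ((Fin k ⊕ Fin k) ⊕ Fin 2) ((Fin k ⊕ Fin k) ⊕ Fin 2) K) (μ : K)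
    (h : gᵀ * gramMinus k a b * g = μ • gramMinus k a b)
    (w : (Fin k ⊕ Fin k) ⊕ Fin 2 → K) :
    Cfsg.quadFormMinus k K a b (g *ᵥ w) = μ * Cfsg.quadFormMinus k K a b w := by
  have hself : ∀ x : (Fin k ⊕ Fin k) ⊕ Fin 2 → K,
      QuadraticMap.polar (Cfsg.quadFormMinus k K a b) x x = 2 * Cfsg.quadFormMinus k K a b x := by
    intro x
    unfold QuadraticMap.polar
    have : x + x = (2 : K) • x := (two_smul K x).symm
    rw [this, quadFormMinus_smul]
    ring
  have h1 : Matrix.toBilin' (gᵀ * gramMinus k a b * g) w w =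
      Matrix.toBilin' (gramMinus k a b) (g *ᵥ w) (g *ᵥ w) := by
    rw [← Matrix.toBilin'_comp, LinearMap.BilinForm.comp_apply, Matrix.toLin'_apply]
  rw [h, map_smul, LinearMap.smul_apply, LinearMap.smul_apply, ← polar_gramMinus,
    ← polar_gramMinus, hself, hself, smul_eq_mul] at h1
  apply mul_left_cancel₀ h2
  rw [← h1]
  ring

/-- base change of a similarity -/
theorem similar_map {F : Type*} [Field F] (φ : F →+* K) (h2 : (2 : K) ≠ 0) (k : ℕ) (a b : F)
    (g : Matrix ((Fin k ⊕ Fin k) ⊕ Fin 2) ((Fin k ⊕ Fin k) ⊕ Fin 2) F) (μ : F)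
    (h : ∀ v, Cfsg.quadFormMinus k F a b (g *ᵥ v) = μ * Cfsg.quadFormMinus k F a b v)
    (w : (Fin k ⊕ Fin k) ⊕ Fin 2 → K) :
    Cfsg.quadFormMinus k K (φ a) (φ b) (g.map φ *ᵥ w) =
      φ μ * Cfsg.quadFormMinus k K (φ a) (φ b) w := by
  apply similar_of_gram h2
  have h1 := congrArg (fun M => M.map φ) (gram_of_similar k a b g μ h)
  simp only [Matrix.map_mul, Matrix.transpose_map, gramMinus_map] at h1
  rw [h1]
  ext i j
  simp [Matrix.map_apply, Matrix.smul_apply, ← gramMinus_map]

end gram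

section field

variable {F K : Type*} [Field F] [Fintype F] [Field K] [Algebra F K]

/-- a quadratic extension of a finite field is finite of square order -/
theorem card_of_finrank_two (h : Module.finrank F K = 2) :
    ∃ _ : Fintype K, Fintype.card K = Fintype.card F ^ 2 := by
  have : Module.Finite F K := Module.finite_of_finrank_pos (by rw [h]; norm_num)
  have : Finite K := Module.finite_of_finite F
  let inst : Fintype K := Fintype.ofFinite K
  refine ⟨inst, ?_⟩
  rw [Module.card_eq_pow_finrank (K := F) (V := K), h]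

/-- the anisotropic binary form has a root in the quadratic extension -/
theorem exists_root_in_ext (h : Module.finrank F K = 2) (a b : F)
    (hab : ∀ z₁ z₂ : F, z₁ ^ 2 + a * z₁ * z₂ + b * z₂ ^ 2 = 0 → z₁ = 0 ∧ z₂ = 0) :
    ∃ θ : K, θ ^ 2 + algebraMap F K a * θ + algebraMap F K b = 0 := by
  obtain ⟨inst, hK⟩ := card_of_finrank_two (F := F) (K := K) h
  obtain ⟨θ, θ', h1, h3, -⟩ := exists_roots (F := F) (K := K) rfl hK a b hab
  refine ⟨θ, ?_⟩
  rw [← h3, (neg_eq_iff_eq_neg.mpr h1).symm]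
  ring

/-- every element of the base field is a square in the quadratic extension -/
theorem exists_sqrt_in_ext (h : Module.finrank F K = 2) (μ : F) :
    ∃ θ : K, θ ^ 2 = algebraMap F K μ := by
  by_cases hsq : IsSquare μ
  · obtain ⟨r, hr⟩ := hsq
    exact ⟨algebraMap F K r, by rw [hr, map_mul]; ring⟩
  · have hab : ∀ z₁ z₂ : F, z₁ ^ 2 + 0 * z₁ * z₂ + (-μ) * z₂ ^ 2 = 0 → z₁ = 0 ∧ z₂ = 0 := by
      intro z₁ z₂ hz
      have hz2 : z₂ = 0 := by
        by_contra hne
        apply hsq
        refine ⟨z₁ / z₂, ?_⟩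
        field_simp
        linear_combination -hz
      subst hz2
      refine ⟨?_, rfl⟩
      have : z₁ ^ 2 = 0 := by linear_combination hz
      exact pow_eq_zero_iff (by norm_num) |>.mp this
    obtain ⟨θ, hθ⟩ := exists_root_in_ext (F := F) (K := K) h 0 (-μ) hab
    refine ⟨θ, ?_⟩
    rw [map_zero, map_neg] at hθ
    linear_combination hθ

end field

end Cfsg.Agent.Lib.Helper51.OPar
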