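import Mathlib
import Cfsg.Agent.Lib.Helper08.SimilarityMult

set_option autoImplicit false
set_option linter.unusedSectionVars false

/-! Base change of similarities of a quadratic form along a field embedding (odd characteristic),
and descent. -/

namespace Cfsg.Agent.Lib.Helper51.POAut

open Matrix Cfsg.Agent.Lib.Helper08

variable {F₀ F : Type*} [Field F₀] [Field F] {ι : Type} [Fintype ι] [DecidableEq ι]
variable (Q₀ : QuadraticForm F₀ (ι → F₀)) (Q : QuadraticForm F (ι → F)) (j : F₀ →+* F)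

/-- the two forms agree along the embedding -/
def Compat : Prop := ∀ v : ι → F₀, Q (fun i => j (v i)) = j (Q₀ v)

variable {Q₀ Q j}

theorem comp_single (i : ι) : (fun k => j ((Pi.single i (1 : F₀) : ι → F₀) k)) = Pi.single i (1 : F) := by
  ext k
  by_cases h : k = i
  · subst h; simp
  · simp [Pi.single_eq_of_ne h]

theorem comp_add (a b : ι → F₀) :
    (fun k => j ((a + b) k)) = (fun k => j (a k)) + (fun k => j (b k)) := by
  ext k
  simp

theorem comp_mulVec (g : Matrix ι ι F₀) (v : ι → F₀) :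
    (fun k => j ((g *ᵥ v) k)) = g.map j *ᵥ (fun k => j (v k)) := by
  ext k
  exact RingHom.map_mulVec j g v k

theorem Compat.polar (hc : Compat Q₀ Q j) (a b : ι → F₀) :
    QuadraticMap.polar Q (fun k => j (a k)) (fun k => j (b k)) = j (QuadraticMap.polar Q₀ a b) := by
  unfold QuadraticMap.polar
  rw [← comp_add, hc, hc, hc, map_sub, map_sub]

theorem polar_sim (g₀ : Matrix ι ι F₀) (μ : F₀) (h : ∀ v, Q₀ (g₀ *ᵥ v) = μ * Q₀ v)
    (a b : ι → F₀) :
    QuadraticMap.polar Q₀ (g₀ *ᵥ a) (g₀ *ᵥ b) = μ * QuadraticMap.polar Q₀ a b := by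
  unfold QuadraticMap.polar
  rw [← Matrix.mulVec_add, h, h, h]
  ring

/-- base change of a similarity -/
theorem bc_sim (h2 : (2 : F) ≠ 0) (hc : Compat Q₀ Q j) (g₀ : Matrix ι ι F₀) (μ : F₀)
    (h : ∀ v, Q₀ (g₀ *ᵥ v) = μ * Q₀ v) (w : ι → F) :
    Q (g₀.map j *ᵥ w) = j μ * Q w := by
  have hB : (QuadraticMap.polarBilin Q).compl₁₂ (Matrix.toLin' (g₀.map j)) (Matrix.toLin' (g₀.map j))
      = (j μ) • QuadraticMap.polarBilin Q := by
    apply LinearMap.ext_basis (Pi.basisFun F ι) (Pi.basisFun F ι)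
    intro i k
    rw [LinearMap.compl₁₂_apply, LinearMap.smul_apply, LinearMap.smul_apply,
      QuadraticMap.polarBilin_apply_apply, QuadraticMap.polarBilin_apply_apply,
      Pi.basisFun_apply, Pi.basisFun_apply, Matrix.toLin'_apply, Matrix.toLin'_apply,
      ← comp_single (j := j) i, ← comp_single (j := j) k, ← comp_mulVec, ← comp_mulVec,
      hc.polar, hc.polar, polar_sim g₀ μ h, map_mul, smul_eq_mul]
  have h1 := LinearMap.congr_fun₂ hB w w
  rw [LinearMap.compl₁₂_apply, LinearMap.smul_apply, LinearMap.smul_apply,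
    QuadraticMap.polarBilin_apply_apply, QuadraticMap.polarBilin_apply_apply,
    Matrix.toLin'_apply, QuadraticMap.polar_self, QuadraticMap.polar_self, smul_eq_mul] at h1
  apply mul_left_cancel₀ h2
  simp only [nsmul_eq_mul, Nat.cast_ofNat] at h1
  rw [h1]
  ring

variable (j) in
/-- base change on `GL` -/
def bcGL : GL ι F₀ →* GL ι F := Matrix.GeneralLinearGroup.map j

theorem bcGL_val (g : GL ι F₀) : ((bcGL j g : GL ι F) : Matrix ι ι F) = (g : Matrix ι ι F₀).map j :=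
  rfl

theorem bcGL_injective : Function.Injective (bcGL (ι := ι) j) := by
  intro a b hab
  apply Units.ext
  ext i k
  have := congrFun (congrFun (congrArg (fun g : GL ι F => (g : Matrix ι ι F)) hab) i) k
  simp only [bcGL_val, Matrix.map_apply] at this
  exact j.injective this

theorem bcGL_mem_sim (h2 : (2 : F) ≠ 0) (hc : Compat Q₀ Q j) {g : GL ι F₀}
    (hg : g ∈ Cfsg.Geo.quadSimilarityGroup (F := F₀) ⇑Q₀) :
    bcGL j g ∈ Cfsg.Geo.quadSimilarityGroup (F := F) ⇑Q := by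
  obtain ⟨c, hcv⟩ := hg
  exact ⟨Units.map j.toMonoidHom c, fun w => bc_sim h2 hc _ (c : F₀) hcv w⟩

theorem bcGL_mem_iso (h2 : (2 : F) ≠ 0) (hc : Compat Q₀ Q j) {g : GL ι F₀}
    (hg : g ∈ Cfsg.isometryGroup F₀ ⇑Q₀) :
    bcGL j g ∈ Cfsg.isometryGroup F ⇑Q := by
  rw [Cfsg.Agent.Lib.Helper19.mem_isometryGroup_iff] at hg ⊢
  intro w
  have := bc_sim (Q := Q) h2 hc (g : Matrix ι ι F₀) 1 (fun v => by rw [hg v, one_mul]) w
  rw [map_one, one_mul] at this
  exact this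

/-- base change on the similarity groups -/
def bcGO (h2 : (2 : F) ≠ 0) (hc : Compat Q₀ Q j) :
    ↥(Cfsg.Geo.quadSimilarityGroup (F := F₀) ⇑Q₀) →* ↥(Cfsg.Geo.quadSimilarityGroup (F := F) ⇑Q) :=
  ((bcGL j).comp (Subgroup.subtype _)).codRestrict _ (fun g => bcGL_mem_sim h2 hc g.2)

theorem bcGO_val (h2 : (2 : F) ≠ 0) (hc : Compat Q₀ Q j)
    (g : ↥(Cfsg.Geo.quadSimilarityGroup (F := F₀) ⇑Q₀)) :
    ((bcGO h2 hc g : GL ι F) : Matrix ι ι F) = ((g : GL ι F₀) : Matrix ι ι F₀).map j := rfl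

theorem bcGO_injective (h2 : (2 : F) ≠ 0) (hc : Compat Q₀ Q j) :
    Function.Injective (bcGO (ι := ι) h2 hc) := by
  intro a b hab
  apply Subtype.ext
  apply bcGL_injective (j := j)
  exact congrArg Subtype.val hab

/-- base change on the isometry groups -/
def bcO (h2 : (2 : F) ≠ 0) (hc : Compat Q₀ Q j) :
    ↥(Cfsg.isometryGroup F₀ ⇑Q₀) →* ↥(Cfsg.isometryGroup F ⇑Q) :=
  ((bcGL j).comp (Subgroup.subtype _)).codRestrict _ (fun g => bcGL_mem_iso h2 hc g.2)

theorem bcO_val (h2 : (2 : F) ≠ 0) (hc : Compat Q₀ Q j) (g : ↥(Cfsg.isometryGroup F₀ ⇑Q₀)) :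
    ((bcO h2 hc g : GL ι F) : Matrix ι ι F) = ((g : GL ι F₀) : Matrix ι ι F₀).map j := rfl

/-- descent: a similarity with entries in the subfield comes from the subfield -/
theorem exists_bcGO_eq (h2 : (2 : F) ≠ 0) (hc : Compat Q₀ Q j) {u₀ : ι → F₀} (hu₀ : Q₀ u₀ = 1)
    (g : ↥(Cfsg.Geo.quadSimilarityGroup (F := F) ⇑Q)) (M₀ : Matrix ι ι F₀)
    (hM : M₀.map j = ((g : GL ι F) : Matrix ι ι F)) :
    ∃ g₀ : ↥(Cfsg.Geo.quadSimilarityGroup (F := F₀) ⇑Q₀), bcGO h2 hc g₀ = g := by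
  have hdet : M₀.det ≠ 0 := by
    intro h0
    have h1 : ((g : GL ι F) : Matrix ι ι F).det = 0 := by
      rw [← hM, ← RingHom.mapMatrix_apply, ← RingHom.map_det, h0, map_zero]
    have h3 : IsUnit ((g : GL ι F) : Matrix ι ι F).det :=
      (Matrix.isUnit_iff_isUnit_det _).mp (Units.isUnit _)
    rw [h1] at h3
    exact not_isUnit_zero h3
  obtain ⟨c, hcv⟩ := g.2
  -- the multiplier lies in the subfield
  have hμ : (c : F) = j (Q₀ (M₀ *ᵥ u₀)) := by
    have h1 := hcv (fun k => j (u₀ k))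
    rw [← hM, ← comp_mulVec, hc, hc, hu₀, map_one, mul_one] at h1
    exact h1.symm
  have hsim : ∀ v, Q₀ (M₀ *ᵥ v) = Q₀ (M₀ *ᵥ u₀) * Q₀ v := by
    intro v
    apply j.injective
    have h1 := hcv (fun k => j (v k))
    rw [← hM, ← comp_mulVec, hc, hc, hμ] at h1
    rw [map_mul]
    exact h1
  have hμ0 : Q₀ (M₀ *ᵥ u₀) ≠ 0 := by
    intro h0
    rw [h0, map_zero] at hμ
    exact Units.ne_zero c hμ
  refine ⟨⟨Matrix.GeneralLinearGroup.mkOfDetNeZero M₀ hdet, ⟨Units.mk0 _ hμ0, hsim⟩⟩, ?_⟩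
  apply Subtype.ext
  apply Units.ext
  exact hM

end Cfsg.Agent.Lib.Helper51.POAut
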