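import Mathlib
import Cfsg.Prelude.Def_LieTypeDatum
import Cfsg.Agent.Lib.Helper07.AutPSL4
import Cfsg.Agent.Lib.Helper43.AutPSpMain
import Cfsg.Agent.Lib.Helper18.SympWitt

set_option autoImplicit false
set_option linter.unusedSectionVars false
set_option linter.unusedVariables false
set_option linter.unusedSimpArgs false

/-! The conformal symplectic group acting on `PSp_2m(F)`: multiplier, conjugation action,
field automorphisms and their interplay. -/

namespace Cfsg.Agent.Lib.Helper51.PSpAut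

open Matrix Cfsg.Agent.Lib.Helper18 Cfsg.Agent.Lib.Helper11.SpPerfect
  Cfsg.Agent.Lib.Helper43.AutPSp Cfsg.Agent.Lib.Helper07

section basic
variable {F : Type*} [Field F] (m : ℕ)

local notation "V" => (Fin m ⊕ Fin m → F)
local notation "ff" => Cfsg.sympForm m F
local notation "S" => Matrix.symplecticGroup (Fin m) F
local notation "Mat" => Matrix (Fin m ⊕ Fin m) (Fin m ⊕ Fin m) F
local notation "GLm" => GL (Fin m ⊕ Fin m) F
local notation "GS" => { x // x ∈ Cfsg.GSp m F }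

theorem mem_GSp_iff (g : GLm) :
    g ∈ Cfsg.GSp m F ↔ ∃ c : Fˣ, ∀ u v : V, ff (g.1 *ᵥ u) (g.1 *ᵥ v) = (c : F) * ff u v :=
  Iff.rfl

/-- two vectors pairing to one -/
theorem exists_pair_one [NeZero m] : ∃ u v : V, ff u v = 1 := by
  have h0 : 0 < m := Nat.pos_of_ne_zero (NeZero.ne m)
  have hv : (Pi.single (Sum.inl ⟨0, h0⟩) 1 : V) ≠ 0 := by
    intro h
    have := congrFun h (Sum.inl ⟨0, h0⟩)
    simp at this
  obtain ⟨x, hx⟩ := exists_pair_ne_zero m hv
  exact ⟨x, _, hx⟩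

theorem mult_unique [NeZero m] {g : Mat} {c d : F}
    (hc : ∀ u v : V, ff (g *ᵥ u) (g *ᵥ v) = c * ff u v)
    (hd : ∀ u v : V, ff (g *ᵥ u) (g *ᵥ v) = d * ff u v) : c = d := by
  obtain ⟨u, v, huv⟩ := exists_pair_one (F := F) m
  have := (hc u v).symm.trans (hd u v)
  rwa [huv, mul_one, mul_one] at this

/-- the multiplier of a similarity -/
noncomputable def mu (g : GS) : Fˣ := Classical.choose ((mem_GSp_iff m g.1).mp g.2)

theorem mu_spec (g : GS) (u v : V) :
    ff (g.1.1 *ᵥ u) (g.1.1 *ᵥ v) = (mu m g : F) * ff u v :=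
  Classical.choose_spec ((mem_GSp_iff m g.1).mp g.2) u v

theorem mu_eq [NeZero m] (g : GS) {c : Fˣ}
    (hc : ∀ u v : V, ff (g.1.1 *ᵥ u) (g.1.1 *ᵥ v) = (c : F) * ff u v) : mu m g = c :=
  Units.ext (mult_unique m (mu_spec m g) hc)

/-- the multiplier as a homomorphism -/
noncomputable def muHom [NeZero m] : GS →* Fˣ where
  toFun := mu m
  map_one' := mu_eq m 1 (fun u v => by
    show ff ((1 : GLm).1 *ᵥ u) ((1 : GLm).1 *ᵥ v) = _
    rw [Units.val_one, one_mulVec, one_mulVec, Units.val_one, one_mul])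
  map_mul' a b := mu_eq m (a * b) (fun u v => by
    show ff ((a.1 * b.1).1 *ᵥ u) ((a.1 * b.1).1 *ᵥ v) = _
    rw [Units.val_mul, ← mulVec_mulVec, ← mulVec_mulVec, mu_spec, mu_spec, Units.val_mul,
      mul_assoc])

theorem muHom_apply [NeZero m] (g : GS) : muHom m g = mu m g := rfl

theorem sf_mul (g : Mat) (u v : V) :
    ff (g *ᵥ u) (g *ᵥ v) = u ⬝ᵥ ((gᵀ * J (Fin m) F * g) *ᵥ v) := by
  unfold Cfsg.sympForm
  rw [← mulVec_mulVec, ← mulVec_mulVec, dotProduct_mulVec u gᵀ, vecMul_transpose]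

theorem mat_eq_of_bilin {A B : Mat} (h : ∀ u v : V, u ⬝ᵥ (A *ᵥ v) = u ⬝ᵥ (B *ᵥ v)) : A = B := by
  ext i j
  have := h (Pi.single i 1) (Pi.single j 1)
  rwa [mulVec_single_one, mulVec_single_one, single_one_dotProduct, single_one_dotProduct] at this

theorem sim_iff_mat (g : Mat) (c : F) :
    (∀ u v : V, ff (g *ᵥ u) (g *ᵥ v) = c * ff u v) ↔ gᵀ * J (Fin m) F * g = c • J (Fin m) F := by
  constructor
  · intro hc
    refine mat_eq_of_bilin m fun u v => ?_
    rw [← sf_mul, hc, smul_mulVec, dotProduct_smul, smul_eq_mul]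
    rfl
  · intro hc u v
    rw [sf_mul, hc, smul_mulVec, dotProduct_smul, smul_eq_mul]
    rfl

theorem mem_GSp_iff_mat (g : GLm) :
    g ∈ Cfsg.GSp m F ↔ ∃ c : Fˣ, g.1ᵀ * J (Fin m) F * g.1 = (c : F) • J (Fin m) F := by
  rw [mem_GSp_iff]
  constructor
  · rintro ⟨c, hc⟩
    exact ⟨c, (sim_iff_mat m g.1 c).mp hc⟩
  · rintro ⟨c, hc⟩
    exact ⟨c, (sim_iff_mat m g.1 c).mpr hc⟩

theorem mu_mat (g : GS) : g.1.1ᵀ * J (Fin m) F * g.1.1 = (mu m g : F) • J (Fin m) F :=
  (sim_iff_mat m g.1.1 _).mp (mu_spec m g)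

/-- `Sp → GL` -/
def spToGL : S →* GLm where
  toFun s := ⟨s.1, s⁻¹.1, by rw [← val_mul, mul_inv_cancel, val_one],
    by rw [← val_mul, inv_mul_cancel, val_one]⟩
  map_one' := Units.ext rfl
  map_mul' a b := Units.ext rfl

theorem spToGL_val (s : S) : (spToGL m s).1 = s.1 := rfl

theorem spToGL_mem (s : S) : spToGL m s ∈ Cfsg.GSp m F :=
  ⟨1, fun u v => by
    rw [Units.val_one, one_mul]
    exact sf_mulVec_of_mem m s.1 s.2 u v⟩

/-- `Sp → GSp` -/
def spG : S →* GS := (spToGL m).codRestrict _ (spToGL_mem m)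

theorem spG_val (s : S) : (spG m s).1.1 = s.1 := rfl

theorem mu_spG [NeZero m] (s : S) : mu m (spG m s) = 1 :=
  mu_eq m _ (fun u v => by
    rw [Units.val_one, one_mul]
    exact sf_mulVec_of_mem m s.1 s.2 u v)

theorem exists_spG_of_mu [NeZero m] (g : GS) (h : mu m g = 1) : ∃ s : S, spG m s = g := by
  have hmem : g.1.1 ∈ Matrix.symplecticGroup (Fin m) F := by
    apply mem_symp_of_preserving
    intro x y
    rw [mu_spec, h, Units.val_one, one_mul]
  exact ⟨⟨g.1.1, hmem⟩, Subtype.ext (Units.ext rfl)⟩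

theorem muHom_ker [NeZero m] : (muHom (F := F) m).ker = (spG m).range := by
  ext g
  rw [MonoidHom.mem_ker, muHom_apply]
  constructor
  · intro h
    obtain ⟨s, hs⟩ := exists_spG_of_mu m g h
    exact ⟨s, hs⟩
  · rintro ⟨s, rfl⟩
    exact mu_spG m s

/-! ### conjugation by similarities -/

theorem conj_mem (g : GS) (s : S) :
    g.1.1 * s.1 * g.1⁻¹.1 ∈ Matrix.symplecticGroup (Fin m) F := by
  apply mem_symp_of_preserving
  intro x y
  have h1 := mu_spec m g (s.1 *ᵥ (g.1⁻¹.1 *ᵥ x)) (s.1 *ᵥ (g.1⁻¹.1 *ᵥ y))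
  rw [sf_mulVec_of_mem m s.1 s.2] at h1
  have h2 := mu_spec m g (g.1⁻¹.1 *ᵥ x) (g.1⁻¹.1 *ᵥ y)
  rw [mulVec_mulVec, mulVec_mulVec, Units.mul_inv, one_mulVec, one_mulVec] at h2
  rw [← mulVec_mulVec, ← mulVec_mulVec, ← mulVec_mulVec, ← mulVec_mulVec, h1, ← h2]

/-- conjugation by a similarity, as an endomorphism of `Sp` -/
def cjFun (g : GS) : S →* S where
  toFun s := ⟨g.1.1 * s.1 * g.1⁻¹.1, conj_mem m g s⟩
  map_one' := Subtype.ext (by
    show g.1.1 * (1 : S).1 * g.1⁻¹.1 = (1 : S).1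
    rw [val_one, mul_one, Units.mul_inv])
  map_mul' a b := Subtype.ext (by
    show g.1.1 * (a * b).1 * g.1⁻¹.1 = (g.1.1 * a.1 * g.1⁻¹.1) * (g.1.1 * b.1 * g.1⁻¹.1)
    rw [val_mul]
    simp only [mul_assoc, Units.inv_mul_cancel_left])

theorem cjFun_val (g : GS) (s : S) : (cjFun m g s).1 = g.1.1 * s.1 * g.1⁻¹.1 := rfl

theorem cjFun_mul (a b : GS) : cjFun m (a * b) = (cjFun m a).comp (cjFun m b) := by
  refine MonoidHom.ext fun s => Subtype.ext ?_
  show (a.1 * b.1).1 * s.1 * (a.1 * b.1)⁻¹.1 = a.1.1 * (b.1.1 * s.1 * b.1⁻¹.1) * a.1⁻¹.1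
  rw [_root_.mul_inv_rev, Units.val_mul, Units.val_mul]
  simp only [mul_assoc]

theorem cjFun_one : cjFun m (1 : GS) = MonoidHom.id S := by
  refine MonoidHom.ext fun s => Subtype.ext ?_
  show (1 : GLm).1 * s.1 * (1 : GLm)⁻¹.1 = s.1
  rw [inv_one, Units.val_one, one_mul, mul_one]

/-- conjugation by similarities on `Sp` -/
def cjHom : GS →* MulAut S where
  toFun g := MonoidHom.toMulEquiv (cjFun m g) (cjFun m g⁻¹)
    (by rw [← cjFun_mul, inv_mul_cancel, cjFun_one])
    (by rw [← cjFun_mul, mul_inv_cancel, cjFun_one])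
  map_one' := MulEquiv.ext fun s => by
    show cjFun m 1 s = s
    rw [cjFun_one]
    rfl
  map_mul' a b := MulEquiv.ext fun s => by
    show cjFun m (a * b) s = cjFun m a (cjFun m b s)
    rw [cjFun_mul]
    rfl

theorem cjHom_val (g : GS) (s : S) : (cjHom m g s).1 = g.1.1 * s.1 * g.1⁻¹.1 := rfl

/-- conjugation by similarities on `PSp` -/
def conjGSp : GS →* MulAut (Cfsg.PSp m F) :=
  (autQuot (Subgroup.center S)).comp (cjHom m)

theorem conjGSp_mk (g : GS) (s : S) :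
    conjGSp m g (QuotientGroup.mk s) = QuotientGroup.mk (cjHom m g s) := rfl

theorem cjHom_spG (t s : S) : cjHom m (spG m t) s = t * s * t⁻¹ := by
  apply Subtype.ext
  rw [cjHom_val, val_mul, val_mul]
  rfl

theorem conjGSp_spG (t : S) :
    conjGSp m (spG m t) = MulAut.conj (QuotientGroup.mk t : Cfsg.PSp m F) := by
  ext z
  obtain ⟨s, rfl⟩ := QuotientGroup.mk_surjective z
  rw [conjGSp_mk, cjHom_spG, MulAut.conj_apply]
  rfl

theorem inn_le_range : Cfsg.Inn (Cfsg.PSp m F) ≤ (conjGSp (F := F) m).range := by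
  rintro _ ⟨z, rfl⟩
  obtain ⟨t, rfl⟩ := QuotientGroup.mk_surjective z
  exact ⟨spG m t, conjGSp_spG m t⟩

/-! ### field automorphisms -/

theorem J_map {F' : Type*} [Field F'] (σ : F →+* F') :
    (J (Fin m) F).map σ = J (Fin m) F' := by
  ext i j
  rcases i with i | i <;> rcases j with j | j <;>
    simp [Matrix.J, Matrix.fromBlocks, Matrix.one_apply, apply_ite]

theorem map_mem {F' : Type*} [Field F'] (σ : F →+* F') (s : S) :
    s.1.map σ ∈ Matrix.symplecticGroup (Fin m) F' := by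
  rw [SymplecticGroup.mem_iff]
  have h := (SymplecticGroup.mem_iff (A := s.1)).mp s.2
  have h2 := congrArg (fun M : Mat => M.map σ) h
  simp only [Matrix.map_mul, Matrix.transpose_map, J_map] at h2
  exact h2

/-- a field automorphism acting entrywise on `Sp` -/
def fmapFun (σ : F →+* F) : S →* S where
  toFun s := ⟨s.1.map σ, map_mem m σ s⟩
  map_one' := Subtype.ext (by
    show (1 : S).1.map σ = (1 : S).1
    rw [val_one]
    exact Matrix.map_one σ (map_zero σ) (map_one σ))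
  map_mul' a b := Subtype.ext (by
    show (a * b).1.map σ = a.1.map σ * b.1.map σ
    rw [val_mul, Matrix.map_mul])

theorem fmapFun_val (σ : F →+* F) (s : S) : (fmapFun m σ s).1 = s.1.map σ := rfl

/-- field automorphisms on `Sp` -/
def fieldAutS : RingAut F →* MulAut S where
  toFun σ := MonoidHom.toMulEquiv (fmapFun m (σ : F →+* F)) (fmapFun m (σ⁻¹ : RingAut F))
    (by
      refine MonoidHom.ext fun s => Subtype.ext ?_
      ext i j
      show σ⁻¹ (σ (s.1 i j)) = s.1 i j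
      exact σ.symm_apply_apply _)
    (by
      refine MonoidHom.ext fun s => Subtype.ext ?_
      ext i j
      show σ (σ⁻¹ (s.1 i j)) = s.1 i j
      exact σ.apply_symm_apply _)
  map_one' := MulEquiv.ext fun s => Subtype.ext (by
    ext i j
    rfl)
  map_mul' a b := MulEquiv.ext fun s => Subtype.ext (by
    ext i j
    rfl)

theorem fieldAutS_val (σ : RingAut F) (s : S) : (fieldAutS m σ s).1 = s.1.map σ := rfl

/-- field automorphisms on `PSp` -/
def fieldAutPSp : RingAut F →* MulAut (Cfsg.PSp m F) :=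
  (autQuot (Subgroup.center S)).comp (fieldAutS m)

theorem fieldAutPSp_mk (σ : RingAut F) (s : S) :
    fieldAutPSp m σ (QuotientGroup.mk s) = QuotientGroup.mk (fieldAutS m σ s) := rfl

end basic

end Cfsg.Agent.Lib.Helper51.PSpAut
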