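import Mathlib
import Cfsg.Agent.Lib.Helper51.PSpAut1

set_option autoImplicit false
set_option linter.unusedSectionVars false
set_option linter.unusedVariables false
set_option linter.unusedSimpArgs false

/-! Field maps on the conformal symplectic group, the commutation relation with conjugation,
characterisations of the Prelude predicates, kernel of the conjugation action. -/

namespace Cfsg.Agent.Lib.Helper51.PSpAut

open Matrix Cfsg.Agent.Lib.Helper18 Cfsg.Agent.Lib.Helper11.SpPerfect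
  Cfsg.Agent.Lib.Helper43.AutPSp Cfsg.Agent.Lib.Helper07

section semi
variable {F : Type*} [Field F] (m : ℕ)

local notation "V" => (Fin m ⊕ Fin m → F)
local notation "ff" => Cfsg.sympForm m F
local notation "S" => Matrix.symplecticGroup (Fin m) F
local notation "Mat" => Matrix (Fin m ⊕ Fin m) (Fin m ⊕ Fin m) F
local notation "GLm" => GL (Fin m ⊕ Fin m) F
local notation "GS" => { x // x ∈ Cfsg.GSp m F }

theorem smul_J_map {F' : Type*} [Field F'] (σ : F →+* F') (c : F) :
    ((c • J (Fin m) F).map σ) = σ c • J (Fin m) F' := by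
  have h := J_map m σ
  ext i j
  have hij := congrFun (congrFun h i) j
  rw [Matrix.map_apply] at hij
  rw [Matrix.map_apply, Matrix.smul_apply, Matrix.smul_apply, smul_eq_mul, smul_eq_mul, map_mul,
    hij]

theorem map_sim {F' : Type*} [Field F'] (σ : F →+* F') (g : GLm) (hg : g ∈ Cfsg.GSp m F) :
    GeneralLinearGroup.map σ g ∈ Cfsg.GSp m F' := by
  rw [mem_GSp_iff_mat] at hg ⊢
  obtain ⟨c, hc⟩ := hg
  refine ⟨Units.map (σ : F →* F') c, ?_⟩
  have h2 := congrArg (fun M : Mat => M.map σ) hc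
  simp only [Matrix.map_mul, Matrix.transpose_map, J_map] at h2
  have h3 : (((c : F) • J (Fin m) F).map σ) = σ (c : F) • J (Fin m) F' := smul_J_map m σ c
  rw [h3] at h2
  exact h2

/-- entrywise field map on `GSp` -/
def gspMap {F' : Type*} [Field F'] (σ : F →+* F') : GS →* { x // x ∈ Cfsg.GSp m F' } :=
  ((GeneralLinearGroup.map (n := Fin m ⊕ Fin m) σ).comp (Cfsg.GSp m F).subtype).codRestrict _
    (fun g => map_sim m σ g.1 g.2)

theorem gspMap_val {F' : Type*} [Field F'] (σ : F →+* F') (g : GS) :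
    (gspMap m σ g).1.1 = g.1.1.map σ := rfl

theorem gspMap_inv_val {F' : Type*} [Field F'] (σ : F →+* F') (g : GS) :
    (gspMap m σ g).1⁻¹.1 = g.1⁻¹.1.map σ := by
  have : (gspMap m σ g).1⁻¹ = (gspMap m σ g⁻¹).1 := by rw [map_inv]; rfl
  rw [this]
  rfl

theorem mu_of_mat [NeZero m] (g : GS) (c : Fˣ)
    (h : g.1.1ᵀ * J (Fin m) F * g.1.1 = (c : F) • J (Fin m) F) : mu m g = c :=
  mu_eq m g ((sim_iff_mat m g.1.1 c).mpr h)

theorem mu_gspMap {F' : Type*} [Field F'] [NeZero m] (σ : F →+* F') (g : GS) :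
    mu m (gspMap m σ g) = Units.map (σ : F →* F') (mu m g) := by
  apply mu_of_mat
  have hc := mu_mat m g
  have h2 := congrArg (fun M : Mat => M.map σ) hc
  simp only [Matrix.map_mul, Matrix.transpose_map, J_map] at h2
  have h3 : (((mu m g : F) • J (Fin m) F).map σ) = σ (mu m g : F) • J (Fin m) F' :=
    smul_J_map m σ _
  rw [h3] at h2
  exact h2

/-- the commutation relation between field automorphisms and conjugations -/
theorem fieldAut_mul_conj (σ : RingAut F) (g : GS) :
    fieldAutPSp m σ * conjGSp m g = conjGSp m (gspMap m (σ : F →+* F) g) * fieldAutPSp m σ := by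
  ext z
  obtain ⟨s, rfl⟩ := QuotientGroup.mk_surjective z
  rw [MulAut.mul_apply, MulAut.mul_apply, conjGSp_mk, fieldAutPSp_mk, fieldAutPSp_mk, conjGSp_mk]
  congr 1
  apply Subtype.ext
  rw [fieldAutS_val, cjHom_val, cjHom_val, fieldAutS_val, gspMap_inv_val, gspMap_val]
  show (g.1.1 * s.1 * g.1⁻¹.1).map (σ : F →+* F) = _
  rw [Matrix.map_mul, Matrix.map_mul]
  rfl

theorem fieldAut_conj (σ : RingAut F) (g : GS) :
    fieldAutPSp m σ * conjGSp m g * (fieldAutPSp m σ)⁻¹
      = conjGSp m (gspMap m (σ : F →+* F) g) := by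
  rw [fieldAut_mul_conj, mul_assoc, mul_inv_cancel, mul_one]

/-! ### the Prelude predicates -/

theorem eq_of_induced {g : GLm} (hg : g ∈ Cfsg.GSp m F) {σ : F ≃+* F}
    {β : MulAut (Cfsg.PSp m F)} (h : Cfsg.IsInducedBySemilinearPSp g σ β) :
    β = conjGSp m ⟨g, hg⟩ * fieldAutPSp m σ := by
  ext z
  obtain ⟨s, rfl⟩ := QuotientGroup.mk_surjective z
  rw [MulAut.mul_apply, fieldAutPSp_mk, conjGSp_mk]
  exact h s _ rfl

theorem fieldAutPSp_refl : fieldAutPSp m (RingEquiv.refl F) = 1 := map_one (fieldAutPSp m)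

theorem eq_conjGSp_of_induced {g : GLm} (hg : g ∈ Cfsg.GSp m F)
    {β : MulAut (Cfsg.PSp m F)} (h : Cfsg.IsInducedBySemilinearPSp g (RingEquiv.refl F) β) :
    β = conjGSp m ⟨g, hg⟩ := by
  rw [eq_of_induced m hg h, fieldAutPSp_refl, mul_one]

theorem isInduced_conjGSp (g : GS) :
    Cfsg.IsInducedBySemilinearPSp g.1 (RingEquiv.refl F) (conjGSp m g) := by
  intro s s' h
  rw [conjGSp_mk]
  congr 1
  apply Subtype.ext
  rw [h, cjHom_val]
  congr 2

theorem eq_fieldAutPSp_of_std {σ : F ≃+* F} {β : MulAut (Cfsg.PSp m F)}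
    (h : Cfsg.IsStdFieldAutPSp σ β) : β = fieldAutPSp m σ := by
  ext z
  obtain ⟨s, rfl⟩ := QuotientGroup.mk_surjective z
  rw [fieldAutPSp_mk]
  exact h s _ rfl

theorem inndiagPSp_eq_range : Cfsg.inndiagPSp m F = (conjGSp (F := F) m).range := by
  unfold Cfsg.inndiagPSp Cfsg.autSubgroupOf
  apply le_antisymm
  · rw [Subgroup.closure_le]
    rintro β ⟨g, hg, h⟩
    exact ⟨⟨g, hg⟩, (eq_conjGSp_of_induced m hg h).symm⟩
  · rintro _ ⟨g, rfl⟩
    exact Subgroup.subset_closure ⟨g.1, g.2, isInduced_conjGSp m g⟩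

/-- normality of the inner-diagonal group once every automorphism is semilinear -/
theorem range_normal_of_gamma (h : Cfsg.gammaPSp m F = ⊤) :
    (conjGSp (F := F) m).range.Normal := by
  rw [← Subgroup.normalizer_eq_top_iff, eq_top_iff, ← h]
  unfold Cfsg.gammaPSp Cfsg.autSubgroupOf
  rw [Subgroup.closure_le]
  rintro β ⟨g, σ, hg, hβ⟩
  rw [eq_of_induced m hg hβ]
  apply Subgroup.mul_mem
  · exact Subgroup.le_normalizer ⟨_, rfl⟩
  · rw [Subgroup.mem_normalizer_iff]
    intro y
    constructor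
    · rintro ⟨k, rfl⟩
      exact ⟨gspMap m ((σ : RingAut F) : F →+* F) k, (fieldAut_conj m σ k).symm⟩
    · rintro ⟨k, hk⟩
      refine ⟨gspMap m (((σ : RingAut F)⁻¹ : RingAut F) : F →+* F) k, ?_⟩
      rw [← fieldAut_conj, hk, map_inv]
      group

end semi

end Cfsg.Agent.Lib.Helper51.PSpAut
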