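import Mathlib
import Cfsg.Agent.Lib.Helper51.PSpAut2

set_option autoImplicit false
set_option linter.unusedSectionVars false
set_option linter.unusedVariables false
set_option linter.unusedSimpArgs false

/-! Kernel of the conjugation action of `GSp` on `PSp`; faithfulness of field automorphisms. -/

namespace Cfsg.Agent.Lib.Helper51.PSpAut

open Matrix Cfsg.Agent.Lib.Helper18 Cfsg.Agent.Lib.Helper11.SpPerfect
  Cfsg.Agent.Lib.Helper43.AutPSp Cfsg.Agent.Lib.Helper07

section gen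
variable {F : Type*} [Field F]

theorem scalar_of_all_eigen {ι : Type*} [Fintype ι] [DecidableEq ι] (M : Matrix ι ι F)
    (h : ∀ v : ι → F, ∃ c : F, M *ᵥ v = c • v) : ∃ c : F, M = c • (1 : Matrix ι ι F) := by
  rcases isEmpty_or_nonempty ι with he | ⟨⟨i₀⟩⟩
  · exact ⟨0, by ext i; exact (he.false i).elim⟩
  choose c hc using fun i : ι => h (Pi.single i 1)
  have hcc : ∀ i j, c i = c j := by
    intro i j
    by_cases hij : i = j
    · rw [hij]
    obtain ⟨d, hd⟩ := h (Pi.single i 1 + Pi.single j 1)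
    rw [mulVec_add, hc, hc, smul_add] at hd
    have h1 := congrFun hd i
    have h2 := congrFun hd j
    simp [Pi.single_apply, hij, Ne.symm hij] at h1 h2
    rw [h1, h2]
  refine ⟨c i₀, ?_⟩
  ext i j
  have := congrFun (hc j) i
  rw [mulVec_single_one] at this
  rw [hcc i₀ j]
  simpa [Matrix.one_apply, Pi.single_apply, eq_comm] using this

end gen

section ker
variable {F : Type*} [Field F] (m : ℕ)

local notation "V" => (Fin m ⊕ Fin m → F)
local notation "ff" => Cfsg.sympForm m F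
local notation "S" => Matrix.symplecticGroup (Fin m) F
local notation "Mat" => Matrix (Fin m ⊕ Fin m) (Fin m ⊕ Fin m) F
local notation "GLm" => GL (Fin m ⊕ Fin m) F
local notation "GS" => { x // x ∈ Cfsg.GSp m F }

theorem gs_inv_act (g : GS) (x : V) : g.1.1 *ᵥ (g.1⁻¹.1 *ᵥ x) = x := by
  rw [mulVec_mulVec, Units.mul_inv, one_mulVec]

theorem gs_act_ne_zero (g : GS) {x : V} (hx : x ≠ 0) : g.1.1 *ᵥ x ≠ 0 := by
  intro h
  have : g.1⁻¹.1 *ᵥ (g.1.1 *ᵥ x) = x := by rw [mulVec_mulVec, Units.inv_mul, one_mulVec]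
  rw [h, mulVec_zero] at this
  exact hx this.symm

/-- conjugation by a similarity on transvections -/
theorem cjHom_tv (g : GS) (v : V) (c : F) :
    cjHom m g (tv m v c) = tv m (g.1.1 *ᵥ v) (c * ((mu m g : F))⁻¹) := by
  apply sp_ext
  intro x
  rw [cjHom_val, ← mulVec_mulVec, ← mulVec_mulVec, tv_act, tv_act, mulVec_add, mulVec_smul,
    gs_inv_act]
  congr 2
  have h := mu_spec m g (g.1⁻¹.1 *ᵥ x) v
  rw [gs_inv_act] at h
  rw [h]
  have hne : (mu m g : F) ≠ 0 := (mu m g).ne_zero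
  field_simp

theorem mem_scalars_of_val {g : GLm} {c : F} (hc : c ≠ 0) (h : g.1 = c • (1 : Mat)) :
    g ∈ Cfsg.Geo.scalars (Fin m ⊕ Fin m) F :=
  (Cfsg.Geo.mem_scalars_iff g).mpr ⟨Units.mk0 c hc, h⟩

theorem conjGSp_eq_one_of_scalar (g : GS) (h : g.1 ∈ Cfsg.Geo.scalars (Fin m ⊕ Fin m) F) :
    conjGSp m g = 1 := by
  obtain ⟨c, hc⟩ := (Cfsg.Geo.mem_scalars_iff g.1).mp h
  ext z
  obtain ⟨s, rfl⟩ := QuotientGroup.mk_surjective z
  rw [conjGSp_mk, MulAut.one_apply]
  congr 1
  apply Subtype.ext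
  rw [cjHom_val]
  have h1 : g.1.1 * s.1 = s.1 * g.1.1 := by
    rw [hc, Matrix.smul_mul, Matrix.mul_smul, Matrix.one_mul, Matrix.mul_one]
  rw [h1, mul_assoc, Units.mul_inv, mul_one]

theorem conjGSp_ker [NeZero m] (hm : 2 ≤ m) :
    (conjGSp (F := F) m).ker = (Cfsg.Geo.scalars (Fin m ⊕ Fin m) F).subgroupOf (Cfsg.GSp m F) := by
  ext g
  rw [MonoidHom.mem_ker, Subgroup.mem_subgroupOf]
  constructor
  · intro h
    have key : ∀ v : V, ∃ c : F, g.1.1 *ᵥ v = c • v := by
      intro v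
      by_cases hv : v = 0
      · exact ⟨0, by rw [hv, mulVec_zero, smul_zero]⟩
      have h1 : conjGSp m g (prj m (tv m v 1)) = prj m (tv m v 1) := by
        rw [h, MulAut.one_apply]
      rw [prj_apply, conjGSp_mk, cjHom_tv, ← prj_apply, ← prj_apply] at h1
      have hne : (1 : F) * ((mu m g : F))⁻¹ ≠ 0 := by
        rw [one_mul]
        exact inv_ne_zero (mu m g).ne_zero
      exact par_of_prj_tv_eq m hm (gs_act_ne_zero m g hv) hne h1.symm
    obtain ⟨c, hc⟩ := scalar_of_all_eigen g.1.1 key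
    have hc0 : c ≠ 0 := by
      rintro rfl
      have h0 : 0 < m := Nat.pos_of_ne_zero (NeZero.ne m)
      have hv : (Pi.single (Sum.inl ⟨0, h0⟩) 1 : V) ≠ 0 := by
        intro h
        have := congrFun h (Sum.inl ⟨0, h0⟩)
        simp at this
      apply gs_act_ne_zero m g hv
      rw [hc, zero_smul, zero_mulVec]
    exact mem_scalars_of_val m hc0 hc
  · exact conjGSp_eq_one_of_scalar m g

end ker

end Cfsg.Agent.Lib.Helper51.PSpAut
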