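import Mathlib
import Cfsg.Agent.Lib.Helper51.PSpAut3
import Cfsg.Agent.Lib.Helper07.H90B

set_option autoImplicit false
set_option linter.unusedSectionVars false
set_option linter.unusedVariables false
set_option linter.unusedSimpArgs false

/-! Faithfulness of the field automorphisms of `PSp`, and the centraliser criterion. -/

namespace Cfsg.Agent.Lib.Helper51.PSpAut

open Matrix Cfsg.Agent.Lib.Helper18 Cfsg.Agent.Lib.Helper11.SpPerfect
  Cfsg.Agent.Lib.Helper43.AutPSp Cfsg.Agent.Lib.Helper07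

section faith
variable {F : Type*} [Field F] (m : ℕ)

local notation "V" => (Fin m ⊕ Fin m → F)
local notation "ff" => Cfsg.sympForm m F
local notation "S" => Matrix.symplecticGroup (Fin m) F
local notation "Mat" => Matrix (Fin m ⊕ Fin m) (Fin m ⊕ Fin m) F
local notation "GLm" => GL (Fin m ⊕ Fin m) F
local notation "GS" => { x // x ∈ Cfsg.GSp m F }

theorem fieldAutS_tv (σ : RingAut F) (v : V) (c : F) :
    fieldAutS m σ (tv m v c) = tv m (fun i => σ (v i)) (σ c) := by
  apply sp_ext
  intro x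
  have hx : x = fun i => σ ((fun j => σ⁻¹ (x j)) i) := by
    ext i
    exact (σ.apply_symm_apply (x i)).symm
  rw [fieldAutS_val]
  nth_rewrite 1 [hx]
  rw [map_mulVec_map, tv_act, tv_act]
  ext i
  simp only [Pi.add_apply, Pi.smul_apply, smul_eq_mul, map_add, map_mul]
  congr 2
  · exact σ.apply_symm_apply (x i)
  · congr 1
    rw [← sympForm_map]
    congr 1
    ext j
    exact σ.apply_symm_apply (x j)

theorem fieldAutPSp_injective [NeZero m] (hm : 2 ≤ m) :
    Function.Injective (fieldAutPSp (F := F) m) := by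
  rw [injective_iff_map_eq_one]
  intro σ h
  have h0 : 0 < m := Nat.pos_of_ne_zero (NeZero.ne m)
  obtain ⟨e, he, hσe, hcoord⟩ : ∃ e : V, e ≠ 0 ∧ (fun i => σ (e i)) = e ∧
      ∀ a b : F, a • e = b • e → a = b := by
    refine ⟨Pi.single (Sum.inl ⟨0, h0⟩) 1, ?_, ?_, ?_⟩
    · intro h
      have := congrFun h (Sum.inl ⟨0, h0⟩)
      simp at this
    · ext i
      simp [Pi.single_apply, apply_ite]
    · intro a b hab
      have := congrFun hab (Sum.inl ⟨0, h0⟩)
      simpa using this
  ext c
  show σ c = c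
  have h1 : prj m (tv m e (σ c)) = prj m (tv m e c) := by
    have := congrArg (fun β : MulAut (Cfsg.PSp m F) => β (prj m (tv m e c))) h
    simp only [MulAut.one_apply] at this
    rw [prj_apply, fieldAutPSp_mk, fieldAutS_tv, hσe] at this
    exact this
  have hplus : (∀ x : V, (tv m e (σ c)).1 *ᵥ x = (tv m e c).1 *ᵥ x) → σ c = c := by
    intro h2
    obtain ⟨x, hx⟩ := exists_pair_ne_zero m he
    have := h2 x
    rw [tv_act, tv_act, hx, mul_one, mul_one] at this
    exact hcoord _ _ (add_left_cancel this)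
  rcases (prj_eq_iff_act m).mp h1 with h2 | h2
  · exact hplus h2
  · obtain ⟨x, hx0, hxe, -⟩ := exists_perp2 m hm e e
    have h3 := h2 x
    rw [tv_act, tv_act, hxe, mul_zero, zero_smul, add_zero, mul_zero, zero_smul, add_zero] at h3
    have h4 : (2 : F) = 0 := by
      by_contra h2ne
      have : (2 : F) • x = 0 := by
        rw [two_smul]
        nth_rewrite 1 [h3]
        rw [neg_add_cancel]
      exact hx0 ((smul_eq_zero.mp this).resolve_left h2ne)
    have hneg : ∀ w : V, -w = w := by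
      intro w
      have : (2 : F) • w = 0 := by rw [h4, zero_smul]
      rw [two_smul] at this
      exact (eq_neg_of_add_eq_zero_left this).symm
    apply hplus
    intro y
    rw [h2 y, hneg]

theorem orderOf_fieldAutPSp [NeZero m] (hm : 2 ≤ m) (σ : RingAut F) :
    orderOf (fieldAutPSp m σ) = orderOf σ :=
  orderOf_injective (fieldAutPSp m) (fieldAutPSp_injective m hm) σ

/-! ### the centraliser criterion -/

theorem conjGSp_eq_of_smul {g h : GS} {c : F} (hc : c ≠ 0) (he : h.1.1 = c • g.1.1) :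
    conjGSp m h = conjGSp m g := by
  have h1 : conjGSp m (g⁻¹ * h) = 1 := by
    apply conjGSp_eq_one_of_scalar
    apply mem_scalars_of_val m hc
    show (g.1⁻¹ * h.1).1 = c • (1 : Mat)
    rw [Units.val_mul, he, Matrix.mul_smul, Units.inv_mul]
  rw [map_mul, map_inv, inv_mul_eq_one] at h1
  exact h1.symm

theorem exists_smul_of_conjGSp_eq [NeZero m] (hm : 2 ≤ m) {g h : GS}
    (he : conjGSp m h = conjGSp m g) : ∃ l : Fˣ, h.1.1 = (l : F) • g.1.1 := by
  have h1 : g⁻¹ * h ∈ (conjGSp (F := F) m).ker := by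
    rw [MonoidHom.mem_ker, map_mul, map_inv, he, inv_mul_cancel]
  rw [conjGSp_ker m hm, Subgroup.mem_subgroupOf] at h1
  obtain ⟨l, hl⟩ := (Cfsg.Geo.mem_scalars_iff _).mp h1
  refine ⟨l, ?_⟩
  have h2 : (g.1⁻¹ * h.1).1 = (l : F) • (1 : Mat) := hl
  rw [Units.val_mul] at h2
  have h3 : g.1.1 * (g.1⁻¹.1 * h.1.1) = h.1.1 := by
    rw [← mul_assoc, Units.mul_inv, one_mul]
  rw [← h3, h2, Matrix.mul_smul, mul_one]

theorem conjGSp_mem_centralizer_iff [NeZero m] (hm : 2 ≤ m) (σ : RingAut F) (g : GS) :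
    conjGSp m g ∈ Subgroup.centralizer {fieldAutPSp m σ}
      ↔ ∃ l : Fˣ, g.1.1.map σ = (l : F) • g.1.1 := by
  rw [Subgroup.mem_centralizer_iff]
  constructor
  · intro h
    have h1 := h (fieldAutPSp m σ) rfl
    rw [fieldAut_mul_conj] at h1
    have h2 : conjGSp m (gspMap m (σ : F →+* F) g) = conjGSp m g := mul_right_cancel h1
    obtain ⟨l, hl⟩ := exists_smul_of_conjGSp_eq m hm h2
    exact ⟨l, hl⟩
  · rintro ⟨l, hl⟩ y hy
    rw [Set.mem_singleton_iff] at hy
    subst hy
    rw [fieldAut_mul_conj]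
    congr 1
    exact conjGSp_eq_of_smul m l.ne_zero hl

end faith

section h90
variable {F : Type*} [Field F]

theorem map_pow_of_map' {ι κ : Type*} (σ : RingAut F) (A : Matrix ι κ F) {l : F}
    (hl : A.map σ = l • A) (k : ℕ) : A.map (σ ^ k) = nrmF σ k l • A := by
  induction k with
  | zero =>
    unfold nrmF
    rw [Finset.prod_range_zero, one_smul, pow_zero]
    ext i j
    rfl
  | succ k ih =>
    have h1 : A.map (σ ^ (k + 1)) = (A.map σ).map (σ ^ k) := by
      ext i j
      simp only [Matrix.map_apply]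
      rw [ringAut_pow_succ_apply']
    rw [h1, hl]
    have h2 : (l • A).map (σ ^ k) = (σ ^ k) l • A.map (σ ^ k) := by
      ext i j
      simp [Matrix.map_apply]
    rw [h2, ih, smul_smul, nrmF_succ', mul_comm]

/-- a matrix with `σ(A) = l A` and a nonzero entry has a `σ`-fixed scalar multiple. -/
theorem exists_fixed_rep' {ι κ : Type*} (σ : RingAut F) {r : ℕ} (hr : orderOf σ = r)
    (hr0 : 0 < r) (A : Matrix ι κ F) (hA : A ≠ 0) {l : F} (hl : A.map σ = l • A) :
    ∃ y : F, y ≠ 0 ∧ (y • A).map σ = y • A := by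
  have hσ : σ ^ r = 1 := by rw [← hr]; exact pow_orderOf_eq_one σ
  have h1 := map_pow_of_map' σ A hl r
  rw [hσ] at h1
  have hN : nrmF σ r l = 1 := by
    obtain ⟨i, j, hij⟩ : ∃ i j, A i j ≠ 0 := by
      by_contra hcon
      push Not at hcon
      apply hA
      ext i j
      exact hcon i j
    have := congrFun (congrFun h1 i) j
    rw [Matrix.smul_apply, smul_eq_mul, Matrix.map_apply] at this
    have h2 : (1 : F) * A i j = nrmF σ r l * A i j := by
      rw [one_mul]
      exact this
    exact (mul_right_cancel₀ hij h2).symm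
  obtain ⟨y, hy0, hy⟩ := h90_scalar σ hr hr0 l hN
  refine ⟨y, hy0, ?_⟩
  have h3 : (y • A).map σ = σ y • A.map σ := by
    ext i j
    simp [Matrix.map_apply]
  rw [h3, hl, smul_smul, mul_comm, hy]

end h90

end Cfsg.Agent.Lib.Helper51.PSpAut
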