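import Cfsg.Agent.Lib.Helper07.OrthRc
import Cfsg.Agent.Lib.Helper05.S2717V4b

/-!
# K-S2717-V4 (keystone 271714): the special similarity in the split coordinates

`Pp * specMat * Pm = ξ • diag(A, A⁻ᵀ)` with `A = diag(ξ, …, ξ, η/ξ)`, `η = c₁ - c₂ ρ`.
-/

set_option autoImplicit false
set_option linter.unusedSimpArgs false
set_option linter.unusedVariables false
set_option linter.unusedSectionVars false

namespace Cfsg.Agent.Lib.Helper51.S2717K

open Module Matrix Cfsg.Agent.Lib.Helper43 Cfsg.Agent.Lib.Helper07.UG Cfsg.Agent.Lib.Helper08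
open Cfsg.Agent.Lib.Helper07.OG Cfsg.Agent.Lib.Helper05.S2717K

universe u

variable {F : Type u} [Field F] [Fintype F] (k : ℕ)

/-- the diagonal of the conjugated special similarity -/
def specDiag (ξ η η' : F) : Fin (k + 1) ⊕ Fin (k + 1) → F :=
  Sum.elim (Fin.lastCases η (fun _ => ξ ^ 2)) (Fin.lastCases η' (fun _ => 1))

theorem Pp_mulVec_inl_last (ρ ρ' : F) (v : (Fin k ⊕ Fin k) ⊕ Fin 2 → F) :
    (Pp k ρ ρ' *ᵥ v) (Sum.inl (Fin.last k)) = v (Sum.inr 0) - ρ * v (Sum.inr 1) := by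
  rw [Pp_mulVec, blkM_mulVec]
  simp [Bp, Matrix.mulVec, dotProduct, Fin.sum_univ_two]
  ring

theorem Pp_mulVec_inr_last (ρ ρ' : F) (v : (Fin k ⊕ Fin k) ⊕ Fin 2 → F) :
    (Pp k ρ ρ' *ᵥ v) (Sum.inr (Fin.last k)) = v (Sum.inr 0) - ρ' * v (Sum.inr 1) := by
  rw [Pp_mulVec, blkM_mulVec]
  simp [Bp, Matrix.mulVec, dotProduct, Fin.sum_univ_two]
  ring

theorem Pp_mulVec_inl_cast (ρ ρ' : F) (v : (Fin k ⊕ Fin k) ⊕ Fin 2 → F) (i : Fin k) :
    (Pp k ρ ρ' *ᵥ v) (Sum.inl i.castSucc) = v (Sum.inl (Sum.inl i)) := by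
  rw [Pp_mulVec, blkM_mulVec]
  simp

theorem Pp_mulVec_inr_cast (ρ ρ' : F) (v : (Fin k ⊕ Fin k) ⊕ Fin 2 → F) (i : Fin k) :
    (Pp k ρ ρ' *ᵥ v) (Sum.inr i.castSucc) = v (Sum.inl (Sum.inr i)) := by
  rw [Pp_mulVec, blkM_mulVec]
  simp

theorem Pp_mul_specMat (ρ ρ' ξ c₁ c₂ : F) :
    Pp k ρ ρ' * specMat k (-(ρ + ρ')) (ρ * ρ') (ξ ^ 2) c₁ c₂ =
      Matrix.diagonal (specDiag k ξ (c₁ - c₂ * ρ) (c₁ - c₂ * ρ')) * Pp k ρ ρ' := by
  rw [Matrix.ext_iff_mulVec]
  intro u
  rw [← Matrix.mulVec_mulVec, ← Matrix.mulVec_mulVec]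
  funext r
  rw [Matrix.mulVec_diagonal]
  rcases r with i | i
  · induction i using Fin.lastCases with
    | last =>
      rw [Pp_mulVec_inl_last, Pp_mulVec_inl_last, specMat_mulVec_inr_zero, specMat_mulVec_inr_one]
      simp only [specDiag, Sum.elim_inl, Fin.lastCases_last]
      ring
    | cast i =>
      rw [Pp_mulVec_inl_cast, Pp_mulVec_inl_cast, specMat_mulVec_inl_inl]
      simp only [specDiag, Sum.elim_inl, Fin.lastCases_castSucc]
  · induction i using Fin.lastCases with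
    | last =>
      rw [Pp_mulVec_inr_last, Pp_mulVec_inr_last, specMat_mulVec_inr_zero, specMat_mulVec_inr_one]
      simp only [specDiag, Sum.elim_inr, Fin.lastCases_last]
      ring
    | cast i =>
      rw [Pp_mulVec_inr_cast, Pp_mulVec_inr_cast, specMat_mulVec_inl_inr]
      simp only [specDiag, Sum.elim_inr, Fin.lastCases_castSucc, one_mul]

/-- K-S2717-V4. -/
theorem spec_conj (ρ ρ' ξ c₁ c₂ : F) (h : ρ ≠ ρ') (hξ : ξ ≠ 0)
    (hη : (c₁ - c₂ * ρ) * (c₁ - c₂ * ρ') = ξ ^ 2) :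
    ∃ A : GL (Fin (k + 1)) F,
      (A : Matrix (Fin (k + 1)) (Fin (k + 1)) F).det = ξ ^ k * ((c₁ - c₂ * ρ) / ξ) ∧
      Pp k ρ ρ' * specMat k (-(ρ + ρ')) (ρ * ρ') (ξ ^ 2) c₁ c₂ * Pm k ρ ρ' =
        ξ • Matrix.fromBlocks (A : Matrix (Fin (k + 1)) (Fin (k + 1)) F) 0 0
          ((A⁻¹ : GL (Fin (k + 1)) F) : Matrix (Fin (k + 1)) (Fin (k + 1)) F)ᵀ := by
  have hη0 : c₁ - c₂ * ρ ≠ 0 := by
    intro h0
    rw [h0, zero_mul] at hη
    exact pow_ne_zero 2 hξ hη.symm
  let dA : Fin (k + 1) → F := Fin.lastCases ((c₁ - c₂ * ρ) / ξ) (fun _ => ξ)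
  let dA' : Fin (k + 1) → F := Fin.lastCases (ξ / (c₁ - c₂ * ρ)) (fun _ => ξ⁻¹)
  have hmul : ∀ i, dA i * dA' i = 1 := by
    intro i
    induction i using Fin.lastCases with
    | last =>
      simp only [dA, dA', Fin.lastCases_last]
      field_simp
    | cast i =>
      simp only [dA, dA', Fin.lastCases_castSucc]
      exact mul_inv_cancel₀ hξ
  have hmul' : ∀ i, dA' i * dA i = 1 := fun i => by rw [mul_comm]; exact hmul i
  let A : GL (Fin (k + 1)) F :=
    ⟨Matrix.diagonal dA, Matrix.diagonal dA', by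
      rw [Matrix.diagonal_mul_diagonal]
      simp only [hmul, Matrix.diagonal_one], by
      rw [Matrix.diagonal_mul_diagonal]
      simp only [hmul', Matrix.diagonal_one]⟩
  refine ⟨A, ?_, ?_⟩
  · show (Matrix.diagonal dA).det = _
    rw [Matrix.det_diagonal, Fin.prod_univ_castSucc]
    simp only [dA, Fin.lastCases_castSucc, Fin.lastCases_last, Finset.prod_const, Finset.card_univ,
      Fintype.card_fin]
  · rw [Pp_mul_specMat, Matrix.mul_assoc, (rpair_Pm_Pp k h).h2, Matrix.mul_one]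
    show _ = ξ • Matrix.fromBlocks (Matrix.diagonal dA) 0 0 (Matrix.diagonal dA')ᵀ
    rw [Matrix.diagonal_transpose, Matrix.fromBlocks_diagonal, ← Matrix.diagonal_smul]
    congr 1
    funext r
    rcases r with i | i
    · induction i using Fin.lastCases with
      | last =>
        simp only [specDiag, dA, Sum.elim_inl, Fin.lastCases_last, Pi.smul_apply, smul_eq_mul]
        field_simp
      | cast i =>
        simp only [specDiag, dA, Sum.elim_inl, Fin.lastCases_castSucc, Pi.smul_apply, smul_eq_mul]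
        ring
    · induction i using Fin.lastCases with
      | last =>
        simp only [specDiag, dA', Sum.elim_inr, Fin.lastCases_last, Pi.smul_apply, smul_eq_mul]
        field_simp
        linear_combination hη
      | cast i =>
        simp only [specDiag, dA', Sum.elim_inr, Fin.lastCases_castSucc, Pi.smul_apply, smul_eq_mul]
        rw [mul_inv_cancel₀ hξ]

end Cfsg.Agent.Lib.Helper51.S2717K
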