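import Mathlib
import Cfsg.Agent.Lib.Helper48.OSub.Std
import Cfsg.Agent.Lib.Helper46.AOLinB

set_option autoImplicit false
set_option linter.unusedSectionVars false
set_option linter.unusedVariables false
set_option linter.unusedSimpArgs false

/-! `Ω_{2m+1}(q)`, `q` odd, `m ≥ 3`, stabilises no proper non-zero subspace. -/

namespace Cfsg.Agent.Lib.Helper51.OOddMax

open Cfsg Cfsg.Geo Cfsg.Agent.Lib.Helper48.OSub Cfsg.Agent.Lib.Helper43
open scoped Matrix

variable {F : Type*} [Field F] [Fintype F] {m : ℕ}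

/-- the Siegel elements of helper48 act as the Siegel transformations of helper43 -/
theorem act_sg_eq (h2 : (2 : F) ≠ 0) (u z : Idx m → F) (hu : Cfsg.quadFormOdd m F u = 0)
    (huz : bf u z = 0) (v : Idx m → F) :
    act h2 (sg h2 u z) v = siegelLin (Qf m h2) u z v := by
  rw [sg_act h2 u z hu huz, siegelLin_apply, pb_eq, pb_eq, Qf_apply, sub_eq_add_neg, neg_smul]

/-- elements of `Ω` map an invariant subspace of `omegaGL` into itself -/
theorem act_mem_of_le (h2 : (2 : F) ≠ 0) (W : Submodule F (Idx m → F))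
    (h : omegaGL (quadFormOdd m F) ≤ subspaceStabilizer W) (g : OG m h2)
    (hg : g ∈ Cfsg.Omega F ⇑(Qf m h2)) {x : Idx m → F} (hx : x ∈ W) : act h2 g x ∈ W := by
  have h1 : (g : GL (Idx m) F) ∈ omegaGL (quadFormOdd m F) :=
    (mem_omegaGL_iff h2 _).mpr ⟨g, hg, rfl⟩
  have h3 := h h1
  rw [act_eq_mulVec]
  exact (h3 x).mp hx

/-- K-OOddMax-N1 -/
theorem omega_not_le_subspaceStabilizer (hodd : Odd (Fintype.card F)) (hm : 3 ≤ m)
    (W : Submodule F (Unit ⊕ (Fin m ⊕ Fin m) → F)) (h0 : W ≠ ⊥) (h1 : W ≠ ⊤) :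
    ¬ omegaGL (quadFormOdd m F) ≤ subspaceStabilizer W := by
  intro h
  have h2 : (2 : F) ≠ 0 := Cfsg.Agent.Lib.Helper43.two_ne_zero_of_odd_card43 hodd
  apply h1
  have hcard : Fintype.card (Idx m) = 2 * m + 1 := by
    show Fintype.card (Unit ⊕ (Fin m ⊕ Fin m)) = _
    rw [Fintype.card_sum, Fintype.card_sum, Fintype.card_fin, Fintype.card_unit]
    ring
  have hd : Disjoint (⊤ : Submodule F (Idx m → F)) (orthC (Qf m h2) ⊤) := by
    rw [disjoint_iff, top_inf_eq, eq_bot_iff]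
    intro v hv
    rw [Submodule.mem_bot]
    rw [mem_orthC] at hv
    apply eq_zero_of_bf h2 v
    intro w
    rw [bf_comm, ← pb_eq h2]
    exact hv w Submodule.mem_top
  refine Cfsg.Agent.Lib.Helper46.AO.irr (Qf m h2) (Qf_nd h2) ⊤ hd ?_ W le_top h0 ?_
  · rw [finrank_top, Module.finrank_pi, hcard]
    omega
  · intro u w _ _ hu huw x hx
    have hu' : Cfsg.quadFormOdd m F u = 0 := by rw [← Qf_apply h2]; exact hu
    have huw' : bf u w = 0 := by rw [← pb_eq h2]; exact huw
    rw [← act_sg_eq h2 u w hu' huw']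
    exact act_mem_of_le h2 W h _ (sg_mem_Omega h2 hm u w hu' huw') hx

end Cfsg.Agent.Lib.Helper51.OOddMax
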