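import Mathlib
import Cfsg.Agent.Lib.Helper51.OOddMaxN1
import Cfsg.Agent.Lib.Helper43.OmegaSimple2
import Cfsg.Agent.Lib.Helper08.OmegaStd

set_option autoImplicit false
set_option linter.unusedSectionVars false
set_option linter.unusedVariables false
set_option linter.unusedSimpArgs false

/-! `Ω_{2m+1}(q)`, `q` odd, `m ≥ 3`, normalises no field subalgebra of degree at least two. -/

namespace Cfsg.Agent.Lib.Helper51.OOddMax

open Cfsg Cfsg.Geo Cfsg.Agent.Lib.Helper48.OSub Cfsg.Agent.Lib.Helper43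
open scoped Matrix

variable {F : Type*} [Field F] [Fintype F] {m : ℕ}

/-- a non-zero vector killed by four functionals -/
theorem exists_common_kernel (h2 : (2 : F) ≠ 0) (hm : 3 ≤ m) (u z : Idx m → F)
    (k : Matrix (Idx m) (Idx m) F) :
    ∃ w : Idx m → F, w ≠ 0 ∧ bf w u = 0 ∧ bf w z = 0 ∧ bf (k *ᵥ w) u = 0 ∧ bf (k *ᵥ w) z = 0 := by
  set B := QuadraticMap.polarBilin (Qf m h2) with hB
  let φ : (Idx m → F) →ₗ[F] (Fin 4 → F) :=
    LinearMap.pi ![B.flip u, B.flip z, (B.flip u) ∘ₗ Matrix.toLin' k, (B.flip z) ∘ₗ Matrix.toLin' k]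
  have hlt : Module.finrank F (Fin 4 → F) < Module.finrank F (Idx m → F) := by
    rw [Module.finrank_pi, Module.finrank_pi, Fintype.card_fin]
    show 4 < Fintype.card (Unit ⊕ (Fin m ⊕ Fin m))
    rw [Fintype.card_sum, Fintype.card_sum, Fintype.card_fin, Fintype.card_unit]
    omega
  have hker := LinearMap.ker_ne_bot_of_finrank_lt (f := φ) hlt
  obtain ⟨w, hw, hw0⟩ := (Submodule.ne_bot_iff _).mp hker
  rw [LinearMap.mem_ker] at hw
  have e0 : B w u = 0 := by simpa [φ] using congrFun hw 0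
  have e1 : B w z = 0 := by simpa [φ] using congrFun hw 1
  have e2 : B (k *ᵥ w) u = 0 := by simpa [φ] using congrFun hw 2
  have e3 : B (k *ᵥ w) z = 0 := by simpa [φ] using congrFun hw 3
  rw [hB, pb_eq] at e0 e1 e2 e3
  exact ⟨w, hw0, e0, e1, e2, e3⟩

/-- the matrix of an element of the isometry group -/
noncomputable abbrev matOf (h2 : (2 : F) ≠ 0) (g : OG m h2) : Matrix (Idx m) (Idx m) F :=
  ((g : GL (Idx m) F) : Matrix (Idx m) (Idx m) F)

theorem matOf_mul_inv (h2 : (2 : F) ≠ 0) (g : OG m h2) : matOf h2 g * matOf h2 g⁻¹ = 1 := by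
  unfold matOf
  rw [Subgroup.coe_inv, ← Units.val_mul, mul_inv_cancel, Units.val_one]

theorem matOf_inv_mul (h2 : (2 : F) ≠ 0) (g : OG m h2) : matOf h2 g⁻¹ * matOf h2 g = 1 := by
  unfold matOf
  rw [Subgroup.coe_inv, ← Units.val_mul, inv_mul_cancel, Units.val_one]

/-- the normaliser condition for an element of `Ω` -/
theorem mem_iff_conj_mem (h2 : (2 : F) ≠ 0) (K : Subalgebra F (Matrix (Idx m) (Idx m) F))
    (h : omegaGL (quadFormOdd m F) ≤ subalgebraNormalizer K) (g : OG m h2)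
    (hg : g ∈ Cfsg.Omega F ⇑(Qf m h2)) (k : Matrix (Idx m) (Idx m) F) :
    k ∈ K ↔ matOf h2 g * k * matOf h2 g⁻¹ ∈ K := by
  have h1 : (g : GL (Idx m) F) ∈ omegaGL (quadFormOdd m F) :=
    (mem_omegaGL_iff h2 _).mpr ⟨g, hg, rfl⟩
  exact h h1 k

/-- elements of a normalised field subalgebra commute with the Siegel elements -/
theorem commute_sg (h2 : (2 : F) ≠ 0) (hm : 3 ≤ m) {r : ℕ}
    (K : Subalgebra F (Matrix (Idx m) (Idx m) F)) (hK : IsFieldSubalgebra r K)
    (h : omegaGL (quadFormOdd m F) ≤ subalgebraNormalizer K)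
    (u z : Idx m → F) (hu : Cfsg.quadFormOdd m F u = 0) (huz : bf u z = 0)
    (k : Matrix (Idx m) (Idx m) F) (hk : k ∈ K) :
    matOf h2 (sg h2 u z) * k = k * matOf h2 (sg h2 u z) := by
  set g := sg h2 u z with hg
  have hgΩ : g ∈ Cfsg.Omega F ⇑(Qf m h2) := sg_mem_Omega h2 hm u z hu huz
  have hx : matOf h2 g * k * matOf h2 g⁻¹ - k ∈ K :=
    K.sub_mem ((mem_iff_conj_mem h2 K h g hgΩ k).mp hk) hk
  have hx0 : matOf h2 g * k * matOf h2 g⁻¹ - k = 0 := by
    by_contra hne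
    obtain ⟨y, -, hy⟩ := hK.inv _ hx hne
    have hy' := (mul_eq_one_comm).mp hy
    obtain ⟨w, hw0, h1, h3, h4, h5⟩ := exists_common_kernel h2 hm u z k
    have hfix : ∀ v : Idx m → F, bf v u = 0 → bf v z = 0 → matOf h2 g *ᵥ v = v := by
      intro v hvu hvz
      have := sg_act h2 u z hu huz v
      rw [act_eq_mulVec, hvu, hvz] at this
      simpa using this
    have hgw : matOf h2 g *ᵥ w = w := hfix w h1 h3
    have hgkw : matOf h2 g *ᵥ (k *ᵥ w) = k *ᵥ w := hfix _ h4 h5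
    have hinvw : matOf h2 g⁻¹ *ᵥ w = w := by
      have := congrArg (fun v => matOf h2 g⁻¹ *ᵥ v) hgw
      simp only [Matrix.mulVec_mulVec, matOf_inv_mul, Matrix.one_mulVec] at this
      exact this.symm
    have hxw : (matOf h2 g * k * matOf h2 g⁻¹ - k) *ᵥ w = 0 := by
      rw [Matrix.sub_mulVec, ← Matrix.mulVec_mulVec, ← Matrix.mulVec_mulVec, hinvw, hgkw, sub_self]
    have : w = 0 := by
      have h6 := congrArg (fun v => y *ᵥ v) hxw
      simp only [Matrix.mulVec_mulVec, hy', Matrix.one_mulVec, Matrix.mulVec_zero] at h6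
      exact h6
    exact hw0 this
  have h7 : matOf h2 g * k * matOf h2 g⁻¹ = k := sub_eq_zero.mp hx0
  calc matOf h2 g * k = matOf h2 g * k * (matOf h2 g⁻¹ * matOf h2 g) := by
        rw [matOf_inv_mul, mul_one]
    _ = (matOf h2 g * k * matOf h2 g⁻¹) * matOf h2 g := by simp only [mul_assoc]
    _ = k * matOf h2 g := by rw [h7]

/-- elements of a normalised field subalgebra fix the line of the first singular basis vector -/
theorem line_sb (h2 : (2 : F) ≠ 0) (hm : 3 ≤ m) {r : ℕ}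
    (K : Subalgebra F (Matrix (Idx m) (Idx m) F)) (hK : IsFieldSubalgebra r K)
    (h : omegaGL (quadFormOdd m F) ≤ subalgebraNormalizer K)
    (k : Matrix (Idx m) (Idx m) F) (hk : k ∈ K) :
    ∃ β : F, k *ᵥ (sb ⟨0, by omega⟩ true : Idx m → F) = β • sb ⟨0, by omega⟩ true := by
  obtain ⟨u, hu⟩ : ∃ u : Idx m → F, u = sb ⟨0, by omega⟩ true := ⟨_, rfl⟩
  obtain ⟨v, hv⟩ : ∃ v : Idx m → F, v = sb ⟨1, by omega⟩ true := ⟨_, rfl⟩
  obtain ⟨z, hz⟩ : ∃ z : Idx m → F, z = sb ⟨1, by omega⟩ false := ⟨_, rfl⟩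
  obtain ⟨t, ht⟩ : ∃ t : Idx m → F, t = sb ⟨2, by omega⟩ true := ⟨_, rfl⟩
  have h01 : (⟨0, by omega⟩ : Fin m) ≠ ⟨1, by omega⟩ := by
    intro h; have := congrArg Fin.val h; simp at this
  have h02 : (⟨0, by omega⟩ : Fin m) ≠ ⟨2, by omega⟩ := by
    intro h; have := congrArg Fin.val h; simp at this
  have h12 : (⟨1, by omega⟩ : Fin m) ≠ ⟨2, by omega⟩ := by
    intro h; have := congrArg Fin.val h; simp at this
  have sbval : ∀ (i j : Fin m) (ε δ : Bool), (sb i ε : Idx m → F) (ps j δ) =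
      if i = j ∧ ε = δ then 1 else 0 := by
    intro i j ε δ
    unfold sb
    rw [Pi.single_apply]
    by_cases hc : i = j ∧ ε = δ
    · rw [if_pos hc, if_pos (by rw [hc.1, hc.2])]
    · rw [if_neg hc, if_neg]
      intro h'
      exact hc ⟨(ps_injective h').1.symm, (ps_injective h').2.symm⟩
  have hQu : Cfsg.quadFormOdd m F u = 0 := by rw [hu]; exact Q_sb _ _
  have hQz : Cfsg.quadFormOdd m F z = 0 := by rw [hz]; exact Q_sb _ _
  have hQt : Cfsg.quadFormOdd m F t = 0 := by rw [ht]; exact Q_sb _ _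
  have huz : bf u z = 0 := by
    rw [hu, hz, bf_sb_left, sbval, if_neg]
    rintro ⟨h', -⟩; exact h01 h'.symm
  have hut : bf u t = 0 := by
    rw [hu, ht, bf_sb_left, sbval, if_neg]
    rintro ⟨-, h'⟩; simp at h'
  have hzt : bf z t = 0 := by
    rw [hz, ht, bf_sb_left, sbval, if_neg]
    rintro ⟨h', -⟩; exact h12 h'.symm
  have hvu : bf v u = 0 := by
    rw [hv, hu, bf_sb_left, sbval, if_neg]
    rintro ⟨-, h'⟩; simp at h'
  have hvz : bf v z = 1 := by
    rw [hv, hz, bf_sb_left, sbval, if_pos]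
    exact ⟨rfl, rfl⟩
  have hvt : bf v t = 0 := by
    rw [hv, ht, bf_sb_left, sbval, if_neg]
    rintro ⟨-, h'⟩; simp at h'
  have huzt : bf u (z + t) = 0 := by rw [bf_add_right, huz, hut, add_zero]
  have hQzt : Cfsg.quadFormOdd m F (z + t) = 0 := by rw [Cfsg.Agent.Lib.Helper48.OSub.Q_add, hQz, hQt, hzt]; ring
  -- the two relations
  have rel : ∀ z' : Idx m → F, Cfsg.quadFormOdd m F z' = 0 → bf u z' = 0 → bf v z' = 1 →
      k *ᵥ u = bf (k *ᵥ v) z' • u - bf (k *ᵥ v) u • z' := by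
    intro z' hQz' huz' hvz'
    have hc := commute_sg h2 hm K hK h u z' hQu huz' k hk
    have h1 := congrArg (fun M : Matrix (Idx m) (Idx m) F => M *ᵥ v) hc
    simp only [← Matrix.mulVec_mulVec] at h1
    have h3 := sg_act h2 u z' hQu huz' v
    rw [act_eq_mulVec, hvu, hvz', hQz'] at h3
    have h4 := sg_act h2 u z' hQu huz' (k *ᵥ v)
    rw [act_eq_mulVec, hQz'] at h4
    have h3' : matOf h2 (sg h2 u z') *ᵥ v = v + u := by
      rw [h3]; simp
    rw [h3', h4, Matrix.mulVec_add] at h1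
    have h5 : k *ᵥ u = (k *ᵥ v + (bf (k *ᵥ v) z' - 0 * bf (k *ᵥ v) u) • u - bf (k *ᵥ v) u • z')
        - k *ᵥ v := by
      rw [h1]; abel
    rw [h5]
    simp only [zero_mul, sub_zero]
    abel
  have r1 := rel z hQz huz hvz
  have r2 := rel (z + t) hQzt huzt (by rw [bf_add_right, hvz, hvt, add_zero])
  -- compare at the coordinate of `t`
  have hβ : bf (k *ᵥ v) u = 0 := by
    have e := r1.symm.trans r2
    have e' := congrFun e (ps ⟨2, by omega⟩ true)
    simp only [Pi.sub_apply, Pi.smul_apply, Pi.add_apply, smul_eq_mul] at e'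
    have hu_t : u (ps ⟨2, by omega⟩ true) = 0 := by
      rw [hu, sbval, if_neg]
      rintro ⟨h', -⟩; exact h02 h'
    have hz_t : z (ps ⟨2, by omega⟩ true) = 0 := by
      rw [hz, sbval, if_neg]
      rintro ⟨h', -⟩; exact h12 h'
    have ht_t : t (ps ⟨2, by omega⟩ true) = 1 := by
      rw [ht, sbval, if_pos ⟨rfl, rfl⟩]
    rw [hu_t, hz_t, ht_t] at e'
    simpa using e'
  refine ⟨bf (k *ᵥ v) z, ?_⟩
  rw [← hu, r1, hβ, zero_smul, sub_zero]

/-- K-OOddMax-N3 -/
theorem omega_not_le_subalgebraNormalizer (hodd : Odd (Fintype.card F)) (hm : 3 ≤ m) {r : ℕ}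
    (hr : 2 ≤ r)
    (K : Subalgebra F (Matrix (Unit ⊕ (Fin m ⊕ Fin m)) (Unit ⊕ (Fin m ⊕ Fin m)) F))
    (hK : IsFieldSubalgebra r K) :
    ¬ omegaGL (quadFormOdd m F) ≤ subalgebraNormalizer K := by
  intro h
  have h2 : (2 : F) ≠ 0 := Cfsg.Agent.Lib.Helper43.two_ne_zero_of_odd_card43 hodd
  have hcard : 7 ≤ Fintype.card (Idx m) := card_idx hm
  have HT : Cfsg.Agent.Lib.Helper08.HypTriple (Qf m h2)
      (fun i => Pi.single (Sum.inr (Sum.inl (Fin.castLE hm i))) 1)
      (fun i => Pi.single (Sum.inr (Sum.inr (Fin.castLE hm i))) 1) := by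
    have := Cfsg.Agent.Lib.Helper08.hypTriple_odd (F := F) m hm h2
    exact ⟨this.qe, this.qf, this.ee, this.ff, this.ef⟩
  -- every element of `K` is a scalar
  have hscal : ∀ k ∈ K, ∃ c : F, k = c • (1 : Matrix (Idx m) (Idx m) F) := by
    intro k hk
    have hline : ∀ w : Idx m → F, (Qf m h2) w = 0 → w ≠ 0 →
        ∃ β : F, (Matrix.toLin' k) w = β • w := by
      intro w hw hw0
      have hu0 : (sb ⟨0, by omega⟩ true : Idx m → F) ≠ 0 := by
        intro h0
        have := congrFun h0 (ps ⟨0, by omega⟩ true)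
        simp [sb] at this
      obtain ⟨g, hgΩ, hg⟩ := exists_Omega_map (Qf m h2) (Qf_nd h2) hcard
        (sb ⟨0, by omega⟩ true : Idx m → F) w hu0 hw0 (by rw [Qf_apply, Q_sb]; exact hw.symm)
      -- the conjugate of `k`
      have hk' : matOf h2 g⁻¹ * k * matOf h2 g ∈ K := by
        have := (mem_iff_conj_mem h2 K h g⁻¹ (Subgroup.inv_mem _ hgΩ) k).mp hk
        rwa [inv_inv] at this
      obtain ⟨β, hβ⟩ := line_sb h2 hm K hK h _ hk'
      refine ⟨β, ?_⟩
      have hgw : matOf h2 g *ᵥ (sb ⟨0, by omega⟩ true : Idx m → F) = w := by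
        rw [← act_eq_mulVec, act_def]
        exact hg
      rw [Matrix.toLin'_apply, ← hgw]
      have h5 := congrArg (fun v => matOf h2 g *ᵥ v) hβ
      simp only [Matrix.mulVec_mulVec, Matrix.mulVec_smul] at h5
      rw [Matrix.mulVec_mulVec, ← h5]
      congr 1
      rw [← mul_assoc, ← mul_assoc, matOf_mul_inv, one_mul]
    obtain ⟨c, hc⟩ := Cfsg.Agent.Lib.Helper08.scalar_of_lines _ _ HT (Matrix.toLin' k) hline
    refine ⟨c, ?_⟩
    apply Matrix.toLin'.injective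
    apply LinearMap.ext
    intro v
    rw [hc v, Matrix.toLin'_apply, Matrix.smul_mulVec, Matrix.one_mulVec]
  have hle : K ≤ ⊥ := by
    intro k hk
    obtain ⟨c, rfl⟩ := hscal k hk
    rw [Algebra.mem_bot]
    exact ⟨c, by rw [Algebra.algebraMap_eq_smul_one]⟩
  have hbot : K = ⊥ := le_bot_iff.mp hle
  have h1 := hK.finrank_eq
  rw [hbot, Subalgebra.finrank_bot] at h1
  omega

end Cfsg.Agent.Lib.Helper51.OOddMax
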