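import Mathlib
import Cfsg.Agent.Lib.Helper08.GUCard

set_option autoImplicit false
set_option linter.unusedSectionVars false

namespace Cfsg.Agent.Lib.Helper51

open Matrix Cfsg.Agent.Lib.Helper08
open Cfsg.Agent.Lib.Helper19 (pow_q_pow_q add_pow_q sum_pow_q q_pos one_lt_q frobQ frobQ_apply)

section blocks2

variable {F : Type*} [Field F] {q : ℕ} {ι κ : Type} [Fintype ι] [Fintype κ]

theorem hform_sum_type (x y : ι ⊕ κ → F) :
    hform (ι ⊕ κ) F q x y =
      hform ι F q (x ∘ Sum.inl) (y ∘ Sum.inl) + hform κ F q (x ∘ Sum.inr) (y ∘ Sum.inr) := by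
  unfold hform
  rw [Fintype.sum_sum_type]
  rfl

theorem hform_zero_right' (hq : q ≠ 0) (x : ι → F) : hform ι F q x 0 = 0 := by
  simp [hform, hq]

variable [DecidableEq ι] [DecidableEq κ]

theorem isIsoMat_fromBlocks {A : Matrix ι ι F} {D : Matrix κ κ F} (hA : IsIsoMat q A)
    (hD : IsIsoMat q D) : IsIsoMat q (fromBlocks A 0 0 D) := by
  intro x y
  rw [hform_sum_type, hform_sum_type x y, fromBlocks_mulVec, fromBlocks_mulVec]
  simp only [Sum.elim_comp_inl, Sum.elim_comp_inr, zero_mulVec, add_zero, zero_add]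
  rw [hA, hD]

theorem isIsoMat_blocks [Fintype F] (hF : Fintype.card F = q ^ 2)
    (M : Matrix (ι ⊕ κ) (ι ⊕ κ) F) (hM : IsIsoMat q M) (hC : M.toBlocks₂₁ = 0) :
    M.toBlocks₁₂ = 0 ∧ IsIsoMat q M.toBlocks₁₁ ∧ IsIsoMat q M.toBlocks₂₂ := by
  have hq : q ≠ 0 := (q_pos hF).ne'
  set A := M.toBlocks₁₁ with hA
  set B := M.toBlocks₁₂ with hB
  set D := M.toBlocks₂₂ with hD
  have hM' : M = fromBlocks A B 0 D := by
    rw [← hC]
    exact (fromBlocks_toBlocks M).symm
  have hMx : ∀ x : ι ⊕ κ → F, M *ᵥ x =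
      Sum.elim (A *ᵥ (x ∘ Sum.inl) + B *ᵥ (x ∘ Sum.inr)) (D *ᵥ (x ∘ Sum.inr)) := by
    intro x
    rw [hM', fromBlocks_mulVec]
    simp
  have hAiso : IsIsoMat q A := by
    intro x₁ y₁
    have h := hM (Sum.elim x₁ 0) (Sum.elim y₁ 0)
    rw [hform_sum_type, hform_sum_type (Sum.elim x₁ 0), hMx, hMx] at h
    simp only [Sum.elim_comp_inl, Sum.elim_comp_inr, mulVec_zero, add_zero, hform_zero_left] at h
    exact h
  have hAsurj : Function.Surjective (A.mulVec) :=
    Matrix.mulVec_surjective_iff_isUnit.2 (hAiso.isUnit hF)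
  have hBy : ∀ y₂ : κ → F, B *ᵥ y₂ = 0 := by
    intro y₂
    apply hform_nondeg hF
    intro z
    obtain ⟨x₁, rfl⟩ := hAsurj z
    have h := hM (Sum.elim x₁ 0) (Sum.elim 0 y₂)
    rw [hform_sum_type, hform_sum_type (Sum.elim x₁ 0), hMx, hMx] at h
    simp only [Sum.elim_comp_inl, Sum.elim_comp_inr, mulVec_zero, add_zero, zero_add,
      hform_zero_left, hform_zero_right' hq] at h
    rw [← hform_conj hF, h]
    exact zero_pow hq
  have hB0 : B = 0 := by
    ext i j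
    have := congrFun (hBy (Pi.single j 1)) i
    rw [Matrix.mulVec_single_one] at this
    simpa using this
  refine ⟨hB0, hAiso, ?_⟩
  intro x₂ y₂
  have h := hM (Sum.elim 0 x₂) (Sum.elim 0 y₂)
  rw [hform_sum_type, hform_sum_type (Sum.elim 0 x₂), hMx, hMx, hB0] at h
  simp only [Sum.elim_comp_inl, Sum.elim_comp_inr, mulVec_zero, add_zero, zero_mulVec,
    hform_zero_left, zero_add] at h
  exact h

end blocks2

section blk

variable {F : Type*} [Field F] {q : ℕ} {n k : ℕ}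

/-- `Fin k ⊕ Fin (n-k) ≃ Fin n` -/
def usig (hk : k ≤ n) : Fin k ⊕ Fin (n - k) ≃ Fin n :=
  finSumFinEquiv.trans (finCongr (by omega))

/-- block diagonal embedding -/
def ublk (hk : k ≤ n) (A : Matrix (Fin k) (Fin k) F) (D : Matrix (Fin (n - k)) (Fin (n - k)) F) :
    Matrix (Fin n) (Fin n) F :=
  (fromBlocks A 0 0 D).submatrix (usig hk).symm (usig hk).symm

theorem ublk_mul (hk : k ≤ n) (A A' : Matrix (Fin k) (Fin k) F)
    (D D' : Matrix (Fin (n - k)) (Fin (n - k)) F) :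
    ublk hk A D * ublk hk A' D' = ublk hk (A * A') (D * D') := by
  unfold ublk
  rw [Matrix.submatrix_mul_equiv, Matrix.fromBlocks_multiply]
  simp

theorem ublk_one (hk : k ≤ n) :
    ublk hk (1 : Matrix (Fin k) (Fin k) F) (1 : Matrix (Fin (n - k)) (Fin (n - k)) F) = 1 := by
  unfold ublk
  rw [Matrix.fromBlocks_one, Matrix.submatrix_one_equiv]

theorem ublk_inj (hk : k ≤ n) {A A' : Matrix (Fin k) (Fin k) F}
    {D D' : Matrix (Fin (n - k)) (Fin (n - k)) F}
    (h : ublk hk A D = ublk hk A' D') : A = A' ∧ D = D' := by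
  unfold ublk at h
  have h' := congrArg (fun M => M.submatrix (usig hk) (usig hk)) h
  simp only [Matrix.submatrix_submatrix, Equiv.symm_comp_self, Matrix.submatrix_id_id] at h'
  rw [Matrix.fromBlocks_inj] at h'
  exact ⟨h'.1, h'.2.2.2⟩

theorem ublk_iso (hk : k ≤ n) {A : Matrix (Fin k) (Fin k) F}
    {D : Matrix (Fin (n - k)) (Fin (n - k)) F} (hA : IsIsoMat q A) (hD : IsIsoMat q D) :
    IsIsoMat q (ublk hk A D) :=
  isIsoMat_reindex (usig hk) _ (isIsoMat_fromBlocks hA hD)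

/-- block diagonal embedding of general linear groups -/
def ublkGL (hk : k ≤ n) : GL (Fin k) F × GL (Fin (n - k)) F →* GL (Fin n) F where
  toFun p := ⟨ublk hk p.1.1 p.2.1, ublk hk (p.1⁻¹).1 (p.2⁻¹).1, by
      rw [ublk_mul, ← Units.val_mul, ← Units.val_mul, mul_inv_cancel, mul_inv_cancel]
      exact ublk_one hk, by
      rw [ublk_mul, ← Units.val_mul, ← Units.val_mul, inv_mul_cancel, inv_mul_cancel]
      exact ublk_one hk⟩
  map_one' := Units.ext (ublk_one hk)
  map_mul' p p' := Units.ext (ublk_mul hk _ _ _ _).symm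

theorem ublkGL_val (hk : k ≤ n) (p : GL (Fin k) F × GL (Fin (n - k)) F) :
    ((ublkGL hk p : GL (Fin n) F) : Matrix (Fin n) (Fin n) F) = ublk hk p.1.1 p.2.1 := rfl

/-- the block-diagonal homomorphism on unitary groups -/
def uPsi (hk : k ≤ n) : ↥(Cfsg.GU k F q) × ↥(Cfsg.GU (n - k) F q) →* ↥(Cfsg.GU n F q) where
  toFun p := ⟨ublkGL hk (p.1.1, p.2.1), ublk_iso hk p.1.2 p.2.2⟩
  map_one' := Subtype.ext (map_one (ublkGL hk))
  map_mul' p p' := Subtype.ext (map_mul (ublkGL hk) (p.1.1, p.2.1) (p'.1.1, p'.2.1))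

theorem uPsi_val (hk : k ≤ n) (p : ↥(Cfsg.GU k F q) × ↥(Cfsg.GU (n - k) F q)) :
    (((uPsi hk p : ↥(Cfsg.GU n F q)) : GL (Fin n) F) : Matrix (Fin n) (Fin n) F) =
      ublk hk (p.1.1 : Matrix (Fin k) (Fin k) F) (p.2.1 : Matrix (Fin (n - k)) (Fin (n - k)) F) := rfl

theorem uPsi_injective (hk : k ≤ n) : Function.Injective (uPsi (F := F) (q := q) hk) := by
  intro p p' h
  have h' := congrArg (fun g : ↥(Cfsg.GU n F q) => ((g : GL (Fin n) F) : Matrix (Fin n) (Fin n) F)) h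
  simp only [uPsi_val] at h'
  obtain ⟨h1, h2⟩ := ublk_inj hk h'
  exact Prod.ext (Subtype.ext (Units.ext h1)) (Subtype.ext (Units.ext h2))

/-- coordinates outside the first block -/
def upOut (hk : k ≤ n) (x : Fin n) : Prop := ∃ y, x = usig hk (Sum.inr y)

theorem upOut_inr (hk : k ≤ n) (y : Fin (n - k)) : upOut hk (usig hk (Sum.inr y)) := ⟨y, rfl⟩

theorem not_upOut_inl (hk : k ≤ n) (x : Fin k) : ¬ upOut hk (usig hk (Sum.inl x)) := by
  rintro ⟨y, hy⟩
  have := (usig hk).injective hy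
  simp at this

end blk

end Cfsg.Agent.Lib.Helper51
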