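import Mathlib
import Cfsg.Agent.Lib.Helper51.UStab1
import Cfsg.Agent.Lib.Helper18.Stab
import Cfsg.Agent.S0755

set_option autoImplicit false
set_option linter.unusedSectionVars false

namespace Cfsg.Agent.Lib.Helper51

open Matrix Cfsg.Agent.Lib.Helper08
open Cfsg.Agent.Lib.Helper19 (pow_q_pow_q add_pow_q sum_pow_q q_pos one_lt_q frobQ frobQ_apply)

section partB

variable {F : Type*} [Field F] [Fintype F] {q : ℕ} {n k : ℕ}

/-- matrices of the unitary group -/
abbrev guToMat (n : ℕ) (F : Type*) [Field F] (q : ℕ) : ↥(Cfsg.GU n F q) →* Matrix (Fin n) (Fin n) F :=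
  (Cfsg.glToMat (Fin n) F).comp (Cfsg.GU n F q).subtype

theorem ustab_W0 (hF : Fintype.card F = q ^ 2) (hk : k ≤ n) (h : ↥(Cfsg.GU n F q)) :
    h ∈ Cfsg.stabilizing (guToMat n F q) {v : Fin n → F | ∀ x, upOut hk x → v x = 0} ↔
      h ∈ (uPsi (F := F) (q := q) hk).range := by
  rw [Cfsg.Agent.Lib.Helper18.mem_stabilizing_coord_iff]
  constructor
  · intro hC
    set G : Matrix (Fin n) (Fin n) F := ((h : GL (Fin n) F) : Matrix (Fin n) (Fin n) F) with hG
    have hGiso : IsIsoMat q G := h.2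
    set M := G.submatrix (usig hk) (usig hk) with hM
    have hMiso : IsIsoMat q M := by
      have := isIsoMat_reindex (usig hk).symm G hGiso
      rwa [Matrix.reindex_apply, Equiv.symm_symm] at this
    have hC0 : M.toBlocks₂₁ = 0 := by
      ext y x
      simp only [Matrix.toBlocks₂₁, hM, Matrix.submatrix_apply, Matrix.of_apply, Matrix.zero_apply]
      exact hC _ _ (upOut_inr hk y) (not_upOut_inl hk x)
    obtain ⟨hB, hA, hD⟩ := isIsoMat_blocks hF M hMiso hC0
    have hM2 : M = fromBlocks M.toBlocks₁₁ 0 0 M.toBlocks₂₂ := by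
      conv_lhs => rw [← Matrix.fromBlocks_toBlocks M, hC0, hB]
    let a : ↥(Cfsg.GU k F q) := ⟨(hA.isUnit hF).unit, hA⟩
    let d : ↥(Cfsg.GU (n - k) F q) := ⟨(hD.isUnit hF).unit, hD⟩
    refine ⟨(a, d), ?_⟩
    apply Subtype.ext
    apply Units.ext
    rw [uPsi_val]
    show ublk hk M.toBlocks₁₁ M.toBlocks₂₂ = G
    unfold ublk
    rw [← hM2, hM]
    simp
  · rintro ⟨p, rfl⟩ i j hi hj
    obtain ⟨y, rfl⟩ := hi
    have hj' : ∃ x, j = usig hk (Sum.inl x) := by
      rcases hx : (usig hk).symm j with x | y'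
      · exact ⟨x, by rw [← hx]; simp⟩
      · exfalso; apply hj; exact ⟨y', by rw [← hx]; simp⟩
    obtain ⟨x, rfl⟩ := hj'
    show ublk hk _ _ _ _ = 0
    simp [ublk]

end partB

end Cfsg.Agent.Lib.Helper51
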