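import Mathlib
import Cfsg.Agent.Lib.Helper51.UStab2
import Cfsg.Agent.Lib.Helper43.HermField

set_option autoImplicit false
set_option linter.unusedSectionVars false

namespace Cfsg.Agent.Lib.Helper51

open Matrix Cfsg.Agent.Lib.Helper08
open Cfsg.Agent.Lib.Helper19 (pow_q_pow_q add_pow_q sum_pow_q q_pos one_lt_q frobQ frobQ_apply)

section partC

variable {F : Type*} [Field F] [Fintype F] {q : ℕ} {n : ℕ}

/-- hermitian form restricted to a submodule, as a sesquilinear map -/
noncomputable def hB (hF : Fintype.card F = q ^ 2) (W : Submodule F (Fin n → F)) :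
    W →ₛₗ[frobQ hF] W →ₗ[F] F :=
  LinearMap.mk₂'ₛₗ (frobQ hF) (RingHom.id F)
    (fun u v => hform (Fin n) F q (v : Fin n → F) (u : Fin n → F))
    (fun u u' v => by
      simp only [Submodule.coe_add]
      exact hform_add_right hF _ _ _)
    (fun c u v => by
      simp only [Submodule.coe_smul, smul_eq_mul, frobQ_apply]
      exact hform_smul_right _ _ _)
    (fun u v v' => by
      simp only [Submodule.coe_add]
      exact hform_add_left _ _ _)
    (fun c u v => by
      simp only [Submodule.coe_smul, smul_eq_mul, RingHom.id_apply]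
      exact hform_smul_left _ _ _)

theorem hB_apply (hF : Fintype.card F = q ^ 2) (W : Submodule F (Fin n → F)) (u v : W) :
    hB hF W u v = hform (Fin n) F q (v : Fin n → F) (u : Fin n → F) := rfl

theorem hB_isSymm (hF : Fintype.card F = q ^ 2) (W : Submodule F (Fin n → F)) :
    (hB hF W).IsSymm := ⟨fun u v => by
  rw [hB_apply, hB_apply, frobQ_apply]
  exact hform_conj hF _ _⟩

theorem hB_nondeg (hF : Fintype.card F = q ^ 2) (W : Submodule F (Fin n → F))
    (hW : ∀ u ∈ W, (∀ v ∈ W, hform (Fin n) F q u v = 0) → u = 0) : (hB hF W).Nondegenerate := by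
  have hq : q ≠ 0 := (q_pos hF).ne'
  constructor
  · intro u hu
    apply Subtype.ext
    apply hW u.1 u.2
    intro v hv
    have := hu ⟨v, hv⟩
    rw [hB_apply] at this
    rw [← hform_conj hF, this]
    exact zero_pow hq
  · intro v hv
    apply Subtype.ext
    apply hW v.1 v.2
    intro u hu
    exact hv ⟨u, hu⟩

theorem frobQ_ne_id (hF : Fintype.card F = q ^ 2) : frobQ hF ≠ RingHom.id F := by
  intro h
  obtain ⟨θ, hθ⟩ := Cfsg.Agent.Lib.Helper43.exists_pow_q_ne hF
  apply hθ
  rw [← frobQ_apply hF, h]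
  rfl

/-- an orthonormal basis of a non-degenerate subspace -/
theorem exists_onb_sub (hF : Fintype.card F = q ^ 2) (W : Submodule F (Fin n → F)) (k : ℕ)
    (hWk : Module.finrank F W = k)
    (hW : ∀ u ∈ W, (∀ v ∈ W, hform (Fin n) F q u v = 0) → u = 0) :
    ∃ b : Module.Basis (Fin k) F W, ∀ i j,
      hform (Fin n) F q ((b i : W) : Fin n → F) ((b j : W) : Fin n → F) = if i = j then 1 else 0 := by
  obtain ⟨b, hb⟩ := Cfsg.Agent.S0755.result (frobQ hF) (frobQ_ne_id hF)
    (fun a => by rw [frobQ_apply, frobQ_apply, pow_q_pow_q hF]) (hB hF W) (hB_isSymm hF W)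
    (hB_nondeg hF W hW)
  refine ⟨b.reindex (finCongr hWk), ?_⟩
  intro i j
  rw [Module.Basis.reindex_apply, Module.Basis.reindex_apply]
  have := hb ((finCongr hWk).symm j) ((finCongr hWk).symm i)
  rw [hB_apply] at this
  rw [this]
  simp [eq_comm]

end partC

end Cfsg.Agent.Lib.Helper51
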