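import Mathlib
import Cfsg.Agent.Lib.Helper51.UStab3

set_option autoImplicit false
set_option linter.unusedSectionVars false

namespace Cfsg.Agent.Lib.Helper51

open Matrix Cfsg.Agent.Lib.Helper08
open Cfsg.Agent.Lib.Helper19 (pow_q_pow_q add_pow_q sum_pow_q q_pos one_lt_q frobQ frobQ_apply)

section sums

variable {F : Type*} [Field F] [Fintype F] {q : ℕ} {ι : Type} [Fintype ι]

theorem hform_sum_left {α : Type*} (s : Finset α) (f : α → ι → F) (y : ι → F) :
    hform ι F q (∑ a ∈ s, f a) y = ∑ a ∈ s, hform ι F q (f a) y := by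
  unfold hform
  simp only [Finset.sum_apply, Finset.sum_mul]
  rw [Finset.sum_comm]

theorem hform_sum_right {α : Type*} (hF : Fintype.card F = q ^ 2) (s : Finset α) (f : α → ι → F)
    (x : ι → F) :
    hform ι F q x (∑ a ∈ s, f a) = ∑ a ∈ s, hform ι F q x (f a) := by
  unfold hform
  simp only [Finset.sum_apply, sum_pow_q hF, Finset.mul_sum]
  rw [Finset.sum_comm]

end sums

section partD

variable {F : Type*} [Field F] [Fintype F] {q : ℕ} {n k : ℕ}

/-- the linear map `v ↦ (hform v (b i))_i` -/
noncomputable def hL (q : ℕ) (W : Submodule F (Fin n → F)) (b : Fin k → W) :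
    (Fin n → F) →ₗ[F] (Fin k → F) where
  toFun v i := hform (Fin n) F q v ((b i : W) : Fin n → F)
  map_add' u v := by funext i; exact hform_add_left _ _ _
  map_smul' c v := by funext i; exact hform_smul_left _ _ _

theorem hL_apply (W : Submodule F (Fin n → F)) (b : Fin k → W) (v : Fin n → F) (i : Fin k) :
    hL q W b v i = hform (Fin n) F q v ((b i : W) : Fin n → F) := rfl

variable (hF : Fintype.card F = q ^ 2) (W : Submodule F (Fin n → F))
  (b : Module.Basis (Fin k) F W)
  (hb : ∀ i j, hform (Fin n) F q ((b i : W) : Fin n → F) ((b j : W) : Fin n → F) =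
    if i = j then 1 else 0)

include hb in
theorem hL_comb (c : Fin k → F) :
    hL q W b (∑ j, c j • ((b j : W) : Fin n → F)) = c := by
  funext i
  rw [hL_apply, hform_sum_left]
  simp only [hform_smul_left, hb]
  simp

include hb in
theorem hL_surjective : Function.Surjective (hL q W b) := fun c => ⟨_, hL_comb W b hb c⟩

include hb in
theorem finrank_ker_hL (hk : k ≤ n) : Module.finrank F (LinearMap.ker (hL q W b)) = n - k := by
  have h1 := LinearMap.finrank_range_add_finrank_ker (hL q W b)
  rw [LinearMap.range_eq_top.2 (hL_surjective W b hb), finrank_top, Module.finrank_pi,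
    Fintype.card_fin, Module.finrank_pi, Fintype.card_fin] at h1
  omega

include hF in
theorem hform_W_ker (w : Fin n → F) (hw : w ∈ W) (u : Fin n → F)
    (hu : u ∈ LinearMap.ker (hL q W b)) : hform (Fin n) F q w u = 0 := by
  have hq : q ≠ 0 := (q_pos hF).ne'
  have h1 := b.sum_repr ⟨w, hw⟩
  have h2 := congrArg (Subtype.val) h1
  simp only [Submodule.coe_sum, Submodule.coe_smul] at h2
  rw [← h2, hform_sum_left]
  apply Finset.sum_eq_zero
  intro i _
  rw [hform_smul_left, ← hform_conj hF]
  have h3 : hL q W b u i = 0 := by rw [LinearMap.mem_ker.1 hu]; rfl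
  rw [hL_apply] at h3
  rw [h3, zero_pow hq, mul_zero]

include hF hb in
theorem ker_hL_nondeg (u : Fin n → F) (hu : u ∈ LinearMap.ker (hL q W b))
    (h : ∀ v ∈ LinearMap.ker (hL q W b), hform (Fin n) F q u v = 0) : u = 0 := by
  have hq : q ≠ 0 := (q_pos hF).ne'
  apply hform_nondeg hF
  intro y
  set w : Fin n → F := ∑ j, (hL q W b y j) • ((b j : W) : Fin n → F) with hw
  have hwW : w ∈ W := by
    rw [hw]
    apply Submodule.sum_mem
    intro j _
    exact W.smul_mem _ (b j).2
  have hyw : y - w ∈ LinearMap.ker (hL q W b) := by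
    rw [LinearMap.mem_ker, map_sub, hw, hL_comb W b hb, sub_self]
  have h1 : y = w + (y - w) := by abel
  rw [h1, hform_add_right hF, h _ hyw, add_zero, ← hform_conj hF,
    hform_W_ker hF W b w hwW u hu, zero_pow hq]

end partD

end Cfsg.Agent.Lib.Helper51
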