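import Mathlib
import Cfsg.Agent.Lib.Helper51.UStab4

set_option autoImplicit false
set_option linter.unusedSectionVars false

namespace Cfsg.Agent.Lib.Helper51

open Matrix Cfsg.Agent.Lib.Helper08
open Cfsg.Agent.Lib.Helper19 (pow_q_pow_q add_pow_q sum_pow_q q_pos one_lt_q frobQ frobQ_apply)

section partE

variable {F : Type*} [Field F] [Fintype F] {q : ℕ} {n k : ℕ}

theorem exists_uP (hF : Fintype.card F = q ^ 2) (hk : k ≤ n) (W : Submodule F (Fin n → F))
    (hWk : Module.finrank F W = k)
    (hW : ∀ u ∈ W, (∀ v ∈ W, hform (Fin n) F q u v = 0) → u = 0) :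
    ∃ P : ↥(Cfsg.GU n F q), ∀ v : Fin n → F,
      v ∈ W ↔ ∀ x, upOut hk x → ((guToMat n F q P⁻¹) *ᵥ v) x = 0 := by
  classical
  have hq : q ≠ 0 := (q_pos hF).ne'
  obtain ⟨b, hb⟩ := exists_onb_sub hF W k hWk hW
  set W' := LinearMap.ker (hL q W b) with hW'
  have hW'dim : Module.finrank F W' = n - k := finrank_ker_hL W b hb hk
  obtain ⟨b', hb'⟩ := exists_onb_sub hF W' (n - k) hW'dim
    (fun u hu h => ker_hL_nondeg hF W b hb u hu h)
  -- columns
  let c : Fin n → (Fin n → F) := fun z =>
    Sum.elim (fun x => ((b x : W) : Fin n → F)) (fun y => ((b' y : W') : Fin n → F))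
      ((usig hk).symm z)
  let P : Matrix (Fin n) (Fin n) F := Matrix.of (fun i j => c j i)
  have hPcol : ∀ u : Fin n → F, P *ᵥ u = ∑ z, u z • c z := by
    intro u
    ext i
    simp only [P, Matrix.mulVec, dotProduct, Matrix.of_apply, Finset.sum_apply, Pi.smul_apply,
      smul_eq_mul]
    apply Finset.sum_congr rfl
    intro z _
    ring
  have hgram : ∀ z z', hform (Fin n) F q (c z) (c z') = if z = z' then 1 else 0 := by
    intro z z'
    obtain ⟨a, rfl⟩ := (usig hk).surjective z
    obtain ⟨a', rfl⟩ := (usig hk).surjective z'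
    simp only [c, Equiv.symm_apply_apply, (usig hk).injective.eq_iff]
    rcases a with x | y <;> rcases a' with x' | y'
    · simp only [Sum.elim_inl, Sum.inl.injEq]
      exact hb x x'
    · simp only [Sum.elim_inl, Sum.elim_inr, reduceCtorEq, if_false]
      exact hform_W_ker hF W b _ (b x).2 _ (b' y').2
    · simp only [Sum.elim_inl, Sum.elim_inr, reduceCtorEq, if_false]
      have h3 : hL q W b ((b' y : W') : Fin n → F) x' = 0 := by
        rw [LinearMap.mem_ker.1 (b' y).2]; rfl
      exact h3
    · simp only [Sum.elim_inr, Sum.inr.injEq]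
      exact hb' y y'
  have hPiso : IsIsoMat q P := by
    intro x y
    rw [hPcol, hPcol, hform_sum_left]
    simp only [hform_sum_right hF, hform_smul_left, hform_smul_right, hgram]
    unfold hform
    apply Finset.sum_congr rfl
    intro z _
    simp [mul_comm]
  let Pg : ↥(Cfsg.GU n F q) := ⟨(hPiso.isUnit hF).unit, hPiso⟩
  have hPgval : guToMat n F q Pg = P := rfl
  have hinvP : guToMat n F q Pg⁻¹ * P = 1 := by
    rw [← hPgval, ← map_mul, inv_mul_cancel, map_one]
  have hPinv : P * guToMat n F q Pg⁻¹ = 1 := by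
    rw [← hPgval, ← map_mul, mul_inv_cancel, map_one]
  have claim1 : ∀ u : Fin n → F, (∀ x, upOut hk x → u x = 0) → P *ᵥ u ∈ W := by
    intro u hu
    rw [hPcol]
    apply Submodule.sum_mem
    intro z _
    obtain ⟨a, rfl⟩ := (usig hk).surjective z
    rcases a with x | y
    · apply Submodule.smul_mem
      simp only [c, Equiv.symm_apply_apply, Sum.elim_inl]
      exact (b x).2
    · rw [hu _ (upOut_inr hk y), zero_smul]
      exact W.zero_mem
  have claim2 : ∀ v ∈ W, ∃ u : Fin n → F, (∀ x, upOut hk x → u x = 0) ∧ P *ᵥ u = v := by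
    intro v hv
    refine ⟨fun z => Sum.elim (fun x => b.repr ⟨v, hv⟩ x) (fun _ => 0) ((usig hk).symm z), ?_, ?_⟩
    · rintro x ⟨y, rfl⟩
      simp
    · rw [hPcol]
      rw [← Equiv.sum_comp (usig hk)]
      rw [Fintype.sum_sum_type]
      simp only [c, Equiv.symm_apply_apply, Sum.elim_inl, Sum.elim_inr, zero_smul,
        Finset.sum_const_zero, add_zero]
      have := b.sum_repr ⟨v, hv⟩
      have h2 := congrArg (Subtype.val) this
      simp only [Submodule.coe_sum, Submodule.coe_smul] at h2
      exact h2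
  refine ⟨Pg, ?_⟩
  intro v
  constructor
  · intro hv
    obtain ⟨u, hu, rfl⟩ := claim2 v hv
    rw [Matrix.mulVec_mulVec, hinvP, Matrix.one_mulVec]
    exact hu
  · intro hu
    have := claim1 _ hu
    rw [Matrix.mulVec_mulVec, hPinv, Matrix.one_mulVec] at this
    exact this

end partE

end Cfsg.Agent.Lib.Helper51
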