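import Mathlib
set_option autoImplicit false
set_option linter.unusedSectionVars false

namespace Cfsg.Agent.Lib.Helper51


/-- Hilbert's theorem 90 for a cyclic group of field automorphisms (Lagrange resolvent). -/
theorem hilbert90_cyclic {F : Type*} [Field F] (σ : F ≃+* F) (r : ℕ) (hr : 0 < r)
    (hσ : orderOf σ = r) (c : F) (hc : ∏ i ∈ Finset.range r, (σ ^ i) c = 1) :
    ∃ d : F, d ≠ 0 ∧ c * σ d = d := by
  classical
  let a : ℕ → F := fun i => ∏ j ∈ Finset.range i, (σ ^ j) c
  have ha0 : a 0 = 1 := by simp [a]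
  have has : ∀ i, a (i + 1) = c * σ (a i) := by
    intro i
    simp only [a]
    rw [Finset.prod_range_succ', map_prod]
    rw [mul_comm]
    congr 1
    apply Finset.prod_congr rfl
    intro j _
    rw [pow_succ', RingAut.mul_apply]
  have har : a r = 1 := hc
  have hσr : σ ^ r = 1 := by rw [← hσ]; exact pow_orderOf_eq_one σ
  let Λ : F → F := fun θ => ∑ i ∈ Finset.range r, a i * (σ ^ i) θ
  have hΛ : ∀ θ, c * σ (Λ θ) = Λ θ := by
    intro θ
    simp only [Λ]
    rw [map_sum, Finset.mul_sum]
    have h1 : ∀ i ∈ Finset.range r, c * σ (a i * (σ ^ i) θ) = a (i + 1) * (σ ^ (i + 1)) θ := by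
      intro i _
      rw [map_mul, has, pow_succ', RingAut.mul_apply]
      ring
    rw [Finset.sum_congr rfl h1]
    have h2 := Finset.sum_range_succ' (fun k => a k * (σ ^ k) θ) r
    have h3 := Finset.sum_range_succ (fun k => a k * (σ ^ k) θ) r
    rw [h3] at h2
    simp only [ha0, har, hσr, pow_zero, RingAut.one_apply, one_mul] at h2
    exact (add_right_cancel h2).symm
  by_cases hex : ∃ θ, Λ θ ≠ 0
  · obtain ⟨θ, hθ⟩ := hex
    exact ⟨Λ θ, hθ, hΛ θ⟩
  · exfalso
    have hall : ∀ θ, Λ θ = 0 := fun θ => by
      by_contra h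
      exact hex ⟨θ, h⟩
    have hli := linearIndependent_monoidHom F F
    let χ : Fin r → (F →* F) := fun i => ((σ ^ (i : ℕ) : F ≃+* F) : F →* F)
    have hχinj : Function.Injective χ := by
      intro i j hij
      have h1 : σ ^ (i : ℕ) = σ ^ (j : ℕ) := by
        ext x
        exact DFunLike.congr_fun hij x
      apply Fin.ext
      apply pow_injOn_Iio_orderOf (x := σ) _ _ h1
      · rw [hσ]; exact i.2
      · rw [hσ]; exact j.2
    have hli' := hli.comp χ hχinj
    rw [Fintype.linearIndependent_iff] at hli'
    have h0 : ∑ i : Fin r, a i • ((fun f : F →* F => (f : F → F)) ∘ χ) i = 0 := by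
      funext θ
      rw [Finset.sum_apply]
      have := hall θ
      simp only [Λ] at this
      rw [← Fin.sum_univ_eq_sum_range (fun i => a i * (σ ^ i) θ) r] at this
      simpa [χ] using this
    have := hli' (fun i => a i) h0 ⟨0, hr⟩
    rw [ha0] at this
    exact one_ne_zero this



section
variable {F : Type*} [Field F] [Fintype F] (σ : F ≃+* F)

/-- the fixed field of an automorphism -/
noncomputable abbrev fixField : Subfield F := FixedPoints.subfield (Subgroup.zpowers σ) F

theorem mem_fixField (x : F) : x ∈ fixField σ ↔ σ x = x := by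
  constructor
  · intro h
    exact h ⟨σ, Subgroup.mem_zpowers σ⟩
  · intro h g
    obtain ⟨g, k, rfl⟩ := g
    show (σ ^ k) x = x
    have hinv : σ⁻¹ x = x := by
      have : σ⁻¹ (σ x) = x := by
        rw [← RingAut.mul_apply, inv_mul_cancel, RingAut.one_apply]
      rw [h] at this
      exact this
    have hpow : ∀ m : ℕ, (σ ^ m) x = x := by
      intro m
      induction m with
      | zero => simp
      | succ m ih => rw [pow_succ, RingAut.mul_apply, h, ih]
    have hpowinv : ∀ m : ℕ, ((σ⁻¹) ^ m) x = x := by
      intro m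
      induction m with
      | zero => simp
      | succ m ih => rw [pow_succ, RingAut.mul_apply, hinv, ih]
    rcases Int.eq_nat_or_neg k with ⟨m, rfl | rfl⟩
    · rw [zpow_natCast]; exact hpow m
    · rw [zpow_neg, zpow_natCast, ← inv_pow]; exact hpowinv m

theorem card_fixField {q₀ r : ℕ} (hr : r ≠ 0) (hF : Fintype.card F = q₀ ^ r)
    (hσ : orderOf σ = r) : Nat.card (fixField σ) = q₀ := by
  classical
  have hfin : Finite (F ≃+* F) := Finite.of_injective (fun e : F ≃+* F => (e : F → F)) DFunLike.coe_injective
  have : Finite (Subgroup.zpowers σ) := inferInstance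
  have : Fintype (Subgroup.zpowers σ) := Fintype.ofFinite _
  have h1 : Module.finrank (fixField σ) F = r := by
    rw [FixedPoints.finrank_eq_card, Fintype.card_eq_nat_card, Nat.card_zpowers, hσ]
  have h2 := Module.natCard_eq_pow_finrank (K := fixField σ) (V := F)
  rw [h1, Nat.card_eq_fintype_card (α := F), hF] at h2
  exact (Nat.pow_left_injective hr h2).symm

end


end Cfsg.Agent.Lib.Helper51
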