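import Mathlib
import Cfsg.Agent.Lib.Helper51.FieldAut
set_option autoImplicit false
set_option linter.unusedSectionVars false
set_option linter.style.haveILetI false

namespace Cfsg.Agent.Lib.Helper51

open Matrix

section
variable {F : Type*} [Field F] [Fintype F] (σ : F ≃+* F) {n : ℕ}

/-- the map `Fˣ × GL_n(F₀) → GL_n(F)`, `(d, h) ↦ d • h`. -/
noncomputable def scalarTimes : Fˣ × GL (Fin n) (fixField σ) →* GL (Fin n) F :=
  MonoidHom.noncommCoprod (Matrix.GeneralLinearGroup.scalar (Fin n))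
    (Matrix.GeneralLinearGroup.map (fixField σ).subtype)
    (fun d _ => show Commute _ _ from Matrix.GeneralLinearGroup.scalar_commute d _)

theorem scalarTimes_val (d : Fˣ) (h : GL (Fin n) (fixField σ)) :
    ((scalarTimes σ (d, h) : GL (Fin n) F) : Matrix (Fin n) (Fin n) F) =
      (d : F) • (h : Matrix (Fin n) (Fin n) (fixField σ)).map (fixField σ).subtype := by
  unfold scalarTimes
  rw [MonoidHom.noncommCoprod_apply]
  rw [Units.val_mul, Matrix.GeneralLinearGroup.coe_scalar]
  show Matrix.scalar (Fin n) (d : F) * ((h : Matrix (Fin n) (Fin n) (fixField σ)).map (fixField σ).subtype) = _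
  rw [Matrix.scalar_apply, ← Matrix.smul_eq_diagonal_mul]

theorem map_subtype_map (M : Matrix (Fin n) (Fin n) (fixField σ)) :
    (M.map (fixField σ).subtype).map σ = M.map (fixField σ).subtype := by
  ext i j
  simp only [Matrix.map_apply]
  exact (mem_fixField σ _).1 (M i j).2

theorem scalarTimes_mem (p : Fˣ × GL (Fin n) (fixField σ)) :
    ∃ c : F, c ≠ 0 ∧ ((scalarTimes σ p : GL (Fin n) F) : Matrix (Fin n) (Fin n) F).map σ =
      c • ((scalarTimes σ p : GL (Fin n) F) : Matrix (Fin n) (Fin n) F) := by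
  obtain ⟨d, h⟩ := p
  refine ⟨σ d / d, div_ne_zero ((map_ne_zero σ).2 d.ne_zero) d.ne_zero, ?_⟩
  rw [scalarTimes_val]
  ext i j
  have := congr_fun (congr_fun (map_subtype_map σ (h : Matrix (Fin n) (Fin n) (fixField σ))) i) j
  simp only [Matrix.map_apply, Matrix.smul_apply, smul_eq_mul, map_mul] at this ⊢
  rw [this]
  field_simp

theorem map_pow_eq (g : Matrix (Fin n) (Fin n) F) (c : F) (hg : g.map σ = c • g) (i : ℕ) :
    g.map (σ ^ i : F ≃+* F) = (∏ j ∈ Finset.range i, (σ ^ j) c) • g := by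
  induction i with
  | zero => ext a b; simp
  | succ i ih =>
    ext a b
    have h1 := congr_fun (congr_fun ih a) b
    have h2 := congr_fun (congr_fun hg a) b
    simp only [Matrix.map_apply, Matrix.smul_apply, smul_eq_mul] at h1 h2 ⊢
    rw [pow_succ', RingAut.mul_apply, h1, map_mul, h2, Finset.prod_range_succ', map_prod]
    have : ∀ j ∈ Finset.range i, σ ((σ ^ j) c) = (σ ^ (j + 1)) c := by
      intro j _
      rw [pow_succ', RingAut.mul_apply]
    rw [Finset.prod_congr rfl this]
    simp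
    ring

theorem exists_scalarTimes_eq {r : ℕ} (hr : 0 < r) (hσ : orderOf σ = r) (hn : 1 ≤ n)
    (g : GL (Fin n) F)
    (hg : ∃ c : F, c ≠ 0 ∧ (g : Matrix (Fin n) (Fin n) F).map σ = c • (g : Matrix (Fin n) (Fin n) F)) :
    ∃ p, scalarTimes σ p = g := by
  classical
  obtain ⟨c, hc0, hc⟩ := hg
  -- g has a nonzero entry
  have hne : ∃ a b, (g : Matrix (Fin n) (Fin n) F) a b ≠ 0 := by
    by_contra hcon
    have hz : (g : Matrix (Fin n) (Fin n) F) = 0 := by
      ext a b
      by_contra h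
      exact hcon ⟨a, b, h⟩
    have hdet := Matrix.GeneralLinearGroup.det_ne_zero g
    rw [hz] at hdet
    have : Nonempty (Fin n) := ⟨⟨0, hn⟩⟩
    rw [Matrix.det_zero] at hdet
    exact hdet rfl
  obtain ⟨a, b, hab⟩ := hne
  have hσr : σ ^ r = 1 := by rw [← hσ]; exact pow_orderOf_eq_one σ
  have hN : ∏ j ∈ Finset.range r, (σ ^ j) c = 1 := by
    have h1 := congr_fun (congr_fun (map_pow_eq σ (g : Matrix (Fin n) (Fin n) F) c hc r) a) b
    simp only [hσr, Matrix.map_apply, RingAut.one_apply, Matrix.smul_apply, smul_eq_mul] at h1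
    have h2 : (∏ j ∈ Finset.range r, (σ ^ j) c - 1) * (g : Matrix (Fin n) (Fin n) F) a b = 0 := by
      rw [sub_mul, one_mul, ← h1, sub_self]
    rcases mul_eq_zero.1 h2 with h | h
    · exact sub_eq_zero.1 h
    · exact absurd h hab
  obtain ⟨d, hd0, hd⟩ := hilbert90_cyclic σ r hr hσ c hN
  -- d • g is fixed by σ
  have hfix : ∀ i j, σ (d * (g : Matrix (Fin n) (Fin n) F) i j) = d * (g : Matrix (Fin n) (Fin n) F) i j := by
    intro i j
    have h2 := congr_fun (congr_fun hc i) j
    simp only [Matrix.map_apply, Matrix.smul_apply, smul_eq_mul] at h2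
    rw [map_mul, h2]
    calc σ d * (c * (g : Matrix (Fin n) (Fin n) F) i j)
        = (c * σ d) * (g : Matrix (Fin n) (Fin n) F) i j := by ring
      _ = d * (g : Matrix (Fin n) (Fin n) F) i j := by rw [hd]
  let M₀ : Matrix (Fin n) (Fin n) (fixField σ) :=
    fun i j => ⟨d * (g : Matrix (Fin n) (Fin n) F) i j, (mem_fixField σ _).2 (hfix i j)⟩
  have hM₀ : M₀.map (fixField σ).subtype = d • (g : Matrix (Fin n) (Fin n) F) := by
    ext i j
    rfl
  have hdetM : (fixField σ).subtype M₀.det ≠ 0 := by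
    rw [RingHom.map_det, RingHom.mapMatrix_apply, hM₀, Matrix.det_smul]
    exact mul_ne_zero (pow_ne_zero _ hd0) (Matrix.GeneralLinearGroup.det_ne_zero g)
  have hdetM' : M₀.det ≠ 0 := by
    intro h
    rw [h, map_zero] at hdetM
    exact hdetM rfl
  have hunit : IsUnit M₀ := (Matrix.isUnit_iff_isUnit_det M₀).2 (isUnit_iff_ne_zero.2 hdetM')
  refine ⟨((Units.mk0 d hd0)⁻¹, hunit.unit), ?_⟩
  apply Units.ext
  rw [scalarTimes_val]
  rw [IsUnit.unit_spec, hM₀]
  ext i j
  simp only [Matrix.smul_apply, smul_eq_mul, Units.val_inv_eq_inv_val, Units.val_mk0]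
  field_simp

end

end Cfsg.Agent.Lib.Helper51
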