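import Mathlib
import Cfsg.Agent.Lib.Helper51.FieldAut2
set_option autoImplicit false
set_option linter.unusedSectionVars false

namespace Cfsg.Agent.Lib.Helper51

open Matrix

section
variable {F : Type*} [Field F] [Fintype F] (σ : F ≃+* F) {n : ℕ}

theorem card_ker_scalarTimes (hn : 1 ≤ n) :
    Nat.card (scalarTimes (n := n) σ).ker = Nat.card (fixField σ)ˣ := by
  classical
  symm
  have hιinj : Function.Injective (fixField σ).subtype := Subtype.val_injective
  have hmem : ∀ e : (fixField σ)ˣ,
      ((Units.map ((fixField σ).subtype : fixField σ →* F) e)⁻¹,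
        Matrix.GeneralLinearGroup.scalar (Fin n) e) ∈ (scalarTimes (n := n) σ).ker := by
    intro e
    rw [MonoidHom.mem_ker]
    apply Units.ext
    rw [scalarTimes_val]
    ext i j
    by_cases hij : i = j
    · subst hij
      simp
    · simp [hij]
  apply Nat.card_eq_of_bijective (fun e => (⟨_, hmem e⟩ : (scalarTimes (n := n) σ).ker))
  constructor
  · intro e e' h
    have h1 := congr_arg (fun x : (scalarTimes (n := n) σ).ker => (x : Fˣ × GL (Fin n) (fixField σ)).1) h
    simp only [_root_.inv_inj] at h1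
    exact Units.map_injective hιinj h1
  · rintro ⟨⟨d, h⟩, hk⟩
    rw [MonoidHom.mem_ker] at hk
    have hk' := congr_arg (fun x : GL (Fin n) F => (x : Matrix (Fin n) (Fin n) F)) hk
    simp only [scalarTimes_val, Units.val_one] at hk'
    have hent : ∀ i j, (d : F) * ((h : Matrix (Fin n) (Fin n) (fixField σ)) i j : F) = (1 : Matrix (Fin n) (Fin n) F) i j := by
      intro i j
      have := congr_fun (congr_fun hk' i) j
      simpa using this
    let z : Fin n := ⟨0, hn⟩
    have hz : (d : F) * ((h : Matrix (Fin n) (Fin n) (fixField σ)) z z : F) = 1 := by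
      rw [hent, Matrix.one_apply_eq]
    have hz0 : (h : Matrix (Fin n) (Fin n) (fixField σ)) z z ≠ 0 := by
      intro h0
      rw [h0] at hz
      simp at hz
    refine ⟨Units.mk0 _ hz0, ?_⟩
    apply Subtype.ext
    apply Prod.ext
    · show (Units.map ((fixField σ).subtype : fixField σ →* F) (Units.mk0 _ hz0))⁻¹ = d
      apply Units.ext
      simp only [Units.val_inv_eq_inv_val, Units.coe_map, Units.val_mk0]
      exact (eq_inv_of_mul_eq_one_left hz).symm
    · show Matrix.GeneralLinearGroup.scalar (Fin n) (Units.mk0 _ hz0) = h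
      apply Units.ext
      ext i j
      by_cases hij : i = j
      · subst hij
        simp
        have h1 := hent i i
        rw [Matrix.one_apply_eq, ← hz] at h1
        exact Subtype.ext (mul_left_cancel₀ d.ne_zero h1).symm
      · simp [hij]
        have h1 := hent i j
        rw [Matrix.one_apply_ne hij] at h1
        rcases mul_eq_zero.1 h1 with h2 | h2
        · exact absurd h2 d.ne_zero
        · exact h2.symm

theorem card_sigma_scalar {q₀ r : ℕ} (hr : r ≠ 0) (hn : 1 ≤ n) (hF : Fintype.card F = q₀ ^ r)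
    (hσ : orderOf σ = r) :
    Nat.card {g : GL (Fin n) F // ∃ c : F, c ≠ 0 ∧
      (g : Matrix (Fin n) (Fin n) F).map σ = c • (g : Matrix (Fin n) (Fin n) F)} =
      (q₀ ^ r - 1) / (q₀ - 1) * ∏ i : Fin n, (q₀ ^ n - q₀ ^ (i : ℕ)) := by
  classical
  have hq₀ : Nat.card (fixField σ) = q₀ := card_fixField σ hr hF hσ
  have : Fintype (fixField σ) := Fintype.ofFinite _
  have hq₀' : Fintype.card (fixField σ) = q₀ := by rw [← Nat.card_eq_fintype_card, hq₀]
  have hGL : Nat.card (GL (Fin n) (fixField σ)) = ∏ i : Fin n, (q₀ ^ n - q₀ ^ (i : ℕ)) := by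
    rw [Matrix.card_GL_field, hq₀']
  have hS : Nat.card {g : GL (Fin n) F // ∃ c : F, c ≠ 0 ∧
      (g : Matrix (Fin n) (Fin n) F).map σ = c • (g : Matrix (Fin n) (Fin n) F)} =
      Nat.card (scalarTimes (n := n) σ).range := by
    apply Nat.card_congr
    apply Equiv.subtypeEquivRight
    intro g
    rw [MonoidHom.mem_range]
    constructor
    · exact exists_scalarTimes_eq σ (Nat.pos_of_ne_zero hr) hσ hn g
    · rintro ⟨p, rfl⟩
      exact scalarTimes_mem σ p
  have hcard := Subgroup.card_mul_index (scalarTimes (n := n) σ).ker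
  rw [Subgroup.index_ker, card_ker_scalarTimes σ hn, Nat.card_prod, hGL, ← hS] at hcard
  have hu0 : Nat.card (fixField σ)ˣ = q₀ - 1 := by
    rw [Nat.card_eq_fintype_card, Fintype.card_units, hq₀']
  have hu : Nat.card Fˣ = q₀ ^ r - 1 := by
    rw [Nat.card_eq_fintype_card, Fintype.card_units, hF]
  rw [hu0, hu] at hcard
  have hq2 : 2 ≤ q₀ := by
    rw [← hq₀']
    exact Fintype.one_lt_card
  have hdvd : (q₀ - 1) ∣ (q₀ ^ r - 1) := by simpa only [one_pow] using Nat.sub_dvd_pow_sub_pow q₀ 1 r
  apply Nat.eq_of_mul_eq_mul_left (show 0 < q₀ - 1 by omega)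
  rw [hcard, ← mul_assoc, Nat.mul_div_cancel' hdvd]

end

end Cfsg.Agent.Lib.Helper51
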