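import Mathlib
import Cfsg.Prelude.Def_LieClassical
import Cfsg.Agent.Lib.Helper51.FieldAut3
set_option autoImplicit false
set_option linter.unusedSectionVars false

namespace Cfsg.Agent.Lib.Helper51

open Matrix

section gu
variable {K : Type*} [Field K] {q : ℕ} {n : ℕ}

theorem hermForm_eq_dot (φ : K →+* K) (hφ : ∀ x, φ x = x ^ q) (x y : Fin n → K) :
    Cfsg.hermForm n K q x y = x ⬝ᵥ (φ ∘ y) := by
  unfold Cfsg.hermForm dotProduct
  apply Finset.sum_congr rfl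
  intro i _
  rw [Function.comp_apply, hφ]

theorem hermForm_mulVec_eq (φ : K →+* K) (hφ : ∀ x, φ x = x ^ q)
    (M : Matrix (Fin n) (Fin n) K) (u v : Fin n → K) :
    Cfsg.hermForm n K q (M *ᵥ u) (M *ᵥ v) = u ⬝ᵥ ((Mᵀ * M.map φ) *ᵥ (φ ∘ v)) := by
  rw [hermForm_eq_dot φ hφ]
  have h1 : φ ∘ (M *ᵥ v) = M.map φ *ᵥ (φ ∘ v) := by
    funext i
    rw [Function.comp_apply, RingHom.map_mulVec]
  rw [h1, ← Matrix.mulVec_mulVec]
  calc (M *ᵥ u) ⬝ᵥ (M.map φ *ᵥ (φ ∘ v))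
      = (u ᵥ* Mᵀ) ⬝ᵥ (M.map φ *ᵥ (φ ∘ v)) := by rw [Matrix.vecMul_transpose]
    _ = u ⬝ᵥ (Mᵀ *ᵥ (M.map φ *ᵥ (φ ∘ v))) := by rw [← Matrix.dotProduct_mulVec]

theorem mem_GU_iff_mul (φ : K →+* K) (hφ : ∀ x, φ x = x ^ q) (g : GL (Fin n) K) :
    g ∈ Cfsg.GU n K q ↔
      (g : Matrix (Fin n) (Fin n) K)ᵀ * (g : Matrix (Fin n) (Fin n) K).map φ = 1 := by
  constructor
  · intro hg
    ext a b
    have h := hg (Pi.single a 1) (Pi.single b 1)
    simp only [Units.coeHom_apply] at h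
    rw [hermForm_mulVec_eq φ hφ, hermForm_eq_dot φ hφ] at h
    have h2 : φ ∘ (Pi.single b (1 : K) : Fin n → K) = Pi.single b 1 := by
      funext i
      by_cases hi : i = b
      · subst hi; simp
      · simp [hi]
    rw [h2, Matrix.mulVec_single_one, single_one_dotProduct, single_one_dotProduct] at h
    rw [Matrix.one_apply]
    simpa [Pi.single_apply, eq_comm] using h
  · intro hg u v
    simp only [Units.coeHom_apply]
    rw [hermForm_mulVec_eq φ hφ, hg, Matrix.one_mulVec, hermForm_eq_dot φ hφ]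

end gu

end Cfsg.Agent.Lib.Helper51
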