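import Mathlib
import Cfsg.Prelude.Def_LieClassical
import Cfsg.Agent.Lib.Helper51.FieldAut3
set_option autoImplicit false
set_option linter.unusedSectionVars false

namespace Cfsg.Agent.Lib.Helper51

open Matrix

section ker
variable {F : Type*} [Field F] [Fintype F] (σ : F ≃+* F) {n : ℕ}

/-- the kernel elements of `scalarTimes` -/
noncomputable def kerElt (e : (fixField σ)ˣ) : Fˣ × GL (Fin n) (fixField σ) :=
  ((Units.map ((fixField σ).subtype : fixField σ →* F) e)⁻¹,
    Matrix.GeneralLinearGroup.scalar (Fin n) e)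

theorem scalarTimes_kerElt (e : (fixField σ)ˣ) : scalarTimes (n := n) σ (kerElt σ e) = 1 := by
  apply Units.ext
  unfold kerElt
  rw [scalarTimes_val]
  ext i j
  by_cases hij : i = j
  · subst hij
    simp
  · simp [hij]

theorem exists_kerElt_of_mem_ker (hn : 1 ≤ n) (p : Fˣ × GL (Fin n) (fixField σ))
    (hp : scalarTimes (n := n) σ p = 1) : ∃ e : (fixField σ)ˣ, p = kerElt σ e := by
  obtain ⟨d, h⟩ := p
  have hk' := congr_arg (fun x : GL (Fin n) F => (x : Matrix (Fin n) (Fin n) F)) hp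
  simp only [scalarTimes_val, Units.val_one] at hk'
  have hent : ∀ i j, (d : F) * ((h : Matrix (Fin n) (Fin n) (fixField σ)) i j : F) =
      (1 : Matrix (Fin n) (Fin n) F) i j := by
    intro i j
    have := congr_fun (congr_fun hk' i) j
    simpa using this
  let z : Fin n := ⟨0, hn⟩
  have hz : (d : F) * ((h : Matrix (Fin n) (Fin n) (fixField σ)) z z : F) = 1 := by
    rw [hent, Matrix.one_apply_eq]
  have hz0 : (h : Matrix (Fin n) (Fin n) (fixField σ)) z z ≠ 0 := by
    intro h0
    rw [h0] at hz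
    simp at hz
  refine ⟨Units.mk0 _ hz0, ?_⟩
  apply Prod.ext
  · show d = (Units.map ((fixField σ).subtype : fixField σ →* F) (Units.mk0 _ hz0))⁻¹
    apply Units.ext
    simp only [Units.val_inv_eq_inv_val, Units.coe_map, Units.val_mk0]
    exact eq_inv_of_mul_eq_one_left hz
  · show h = Matrix.GeneralLinearGroup.scalar (Fin n) (Units.mk0 _ hz0)
    apply Units.ext
    ext i j
    by_cases hij : i = j
    · subst hij
      simp
      have h1 := hent i i
      rw [Matrix.one_apply_eq, ← hz] at h1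
      exact Subtype.ext (mul_left_cancel₀ d.ne_zero h1)
    · simp [hij]
      have h1 := hent i j
      rw [Matrix.one_apply_ne hij] at h1
      rcases mul_eq_zero.1 h1 with h2 | h2
      · exact absurd h2 d.ne_zero
      · exact Subtype.ext h2

end ker

section pw

theorem pow_q_eq_pow_q₀ {L : Type*} [Field L] [Fintype L] {q₀ : ℕ}
    (hL : Fintype.card L = q₀ ^ 2) (r : ℕ) (hr : Odd r) (x : L) : x ^ (q₀ ^ r) = x ^ q₀ := by
  obtain ⟨k, rfl⟩ := hr
  have h1 : q₀ ^ (2 * k + 1) = (q₀ ^ 2) ^ k * q₀ := by rw [pow_succ, pow_mul]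
  rw [h1, pow_mul, ← hL, FiniteField.pow_card_pow]

theorem exists_frob {L : Type*} [Field L] [Fintype L] {q : ℕ} (hL : Fintype.card L = q ^ 2) :
    ∃ φ : L →+* L, ∀ x, φ x = x ^ q := by
  obtain ⟨p, hchar⟩ := CharP.exists L
  have hp : p.Prime := CharP.char_is_prime L p
  have : Fact p.Prime := ⟨hp⟩
  obtain ⟨k, _, hk⟩ := FiniteField.card L p
  have hdvd : q ∣ p ^ (k : ℕ) := by
    rw [← hk, hL]; exact Dvd.intro_left (q ^ 1) (by ring)
  obtain ⟨j, _, hj⟩ := (Nat.dvd_prime_pow hp).mp hdvd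
  refine ⟨iterateFrobenius L p j, ?_⟩
  intro x
  rw [iterateFrobenius_def, hj]

end pw

end Cfsg.Agent.Lib.Helper51
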