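import Mathlib
import Cfsg.Prelude.Def_LieClassical
import Cfsg.Agent.Lib.Helper51.FieldAutU1
import Cfsg.Agent.Lib.Helper51.FieldAutU2
set_option autoImplicit false
set_option linter.unusedSectionVars false

namespace Cfsg.Agent.Lib.Helper51

open Matrix

section unitary
variable {K : Type*} [Field K] [Fintype K] (σ : K ≃+* K) {n : ℕ} {q q₀ : ℕ}
variable (φ : K →+* K) (φ₀ : fixField σ →+* fixField σ)

theorem herm_map_subtype (hc : ∀ x : fixField σ, φ (x : K) = (φ₀ x : K))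
    (M₀ : Matrix (Fin n) (Fin n) (fixField σ)) :
    (M₀.map (fixField σ).subtype)ᵀ * (M₀.map (fixField σ).subtype).map φ =
      (M₀ᵀ * M₀.map φ₀).map (fixField σ).subtype := by
  rw [Matrix.map_mul, Matrix.transpose_map]
  congr 1
  ext i j
  simp only [Matrix.map_apply]
  exact hc _

theorem herm_smul (c : K) (M : Matrix (Fin n) (Fin n) K) :
    (c • M)ᵀ * (c • M).map φ = (c * φ c) • (Mᵀ * M.map φ) := by
  have h1 : (c • M).map φ = φ c • M.map φ := by
    ext i j
    simp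
  rw [h1, Matrix.transpose_smul, Matrix.smul_mul, Matrix.mul_smul, smul_smul]

theorem scalarTimes_mem_GU (hφ : ∀ x, φ x = x ^ q) (hφ₀ : ∀ x, φ₀ x = x ^ q₀)
    (hc : ∀ x : fixField σ, φ (x : K) = (φ₀ x : K))
    (z : Kˣ) (hz : (z : K) * φ z = 1) (h : GL (Fin n) (fixField σ))
    (hh : h ∈ Cfsg.GU n (fixField σ) q₀) : scalarTimes σ (z, h) ∈ Cfsg.GU n K q := by
  rw [mem_GU_iff_mul φ hφ, scalarTimes_val, herm_smul, hz, one_smul, herm_map_subtype σ φ φ₀ hc,
    (mem_GU_iff_mul φ₀ hφ₀ h).1 hh, Matrix.map_one _ (map_zero _) (map_one _)]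

theorem exists_scalarTimes_GU (hn : 1 ≤ n) (hφ : ∀ x, φ x = x ^ q) (hφ₀ : ∀ x, φ₀ x = x ^ q₀)
    (hφφ : ∀ x, φ (φ x) = x)
    (hc : ∀ x : fixField σ, φ (x : K) = (φ₀ x : K))
    (hnorm : ∀ μ : fixField σ, μ ≠ 0 → φ₀ μ = μ → ∃ e : fixField σ, e * φ₀ e = μ)
    (d : Kˣ) (h₁ : GL (Fin n) (fixField σ))
    (hg : scalarTimes σ (d, h₁) ∈ Cfsg.GU n K q) :
    ∃ (z : Kˣ) (h : GL (Fin n) (fixField σ)), (z : K) * φ z = 1 ∧ h ∈ Cfsg.GU n (fixField σ) q₀ ∧
      scalarTimes σ (z, h) = scalarTimes σ (d, h₁) := by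
  classical
  rw [mem_GU_iff_mul φ hφ, scalarTimes_val, herm_smul, herm_map_subtype σ φ φ₀ hc] at hg
  set A : Matrix (Fin n) (Fin n) (fixField σ) :=
    (h₁ : Matrix (Fin n) (Fin n) (fixField σ))ᵀ * (h₁ : Matrix (Fin n) (Fin n) (fixField σ)).map φ₀
    with hA
  set lam : K := (d : K) * φ d with hlam
  have hlam0 : lam ≠ 0 := mul_ne_zero d.ne_zero ((map_ne_zero φ).2 d.ne_zero)
  have hent : ∀ i j, lam * ((A i j : fixField σ) : K) = (1 : Matrix (Fin n) (Fin n) K) i j := by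
    intro i j
    have := congr_fun (congr_fun hg i) j
    simpa using this
  let z₀ : Fin n := ⟨0, hn⟩
  set μ : fixField σ := A z₀ z₀ with hμ
  have hμ1 : lam * (μ : K) = 1 := by rw [hμ, hent, Matrix.one_apply_eq]
  have hμ0 : μ ≠ 0 := by
    intro h0
    rw [h0] at hμ1
    simp at hμ1
  have hAμ : A = μ • (1 : Matrix (Fin n) (Fin n) (fixField σ)) := by
    ext i j
    by_cases hij : i = j
    · subst hij
      have h1 := hent i i
      rw [Matrix.one_apply_eq, ← hμ1] at h1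
      simp
      exact Subtype.ext (mul_left_cancel₀ hlam0 h1)
    · have h1 := hent i j
      rw [Matrix.one_apply_ne hij] at h1
      simp [hij]
      rcases mul_eq_zero.1 h1 with h2 | h2
      · exact absurd h2 hlam0
      · exact Subtype.ext h2
  have hlamφ : φ lam = lam := by
    rw [hlam, map_mul, hφφ, mul_comm]
  have hμφ : φ₀ μ = μ := by
    apply Subtype.ext
    rw [← hc]
    have h1 : φ (lam * (μ : K)) = 1 := by rw [hμ1, map_one]
    rw [map_mul, hlamφ] at h1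
    exact mul_left_cancel₀ hlam0 (h1.trans hμ1.symm)
  obtain ⟨e, he⟩ := hnorm μ hμ0 hμφ
  have he0 : e ≠ 0 := by
    intro h0
    rw [h0, zero_mul] at he
    exact hμ0 he.symm
  let eu : (fixField σ)ˣ := Units.mk0 e he0
  refine ⟨d * Units.map ((fixField σ).subtype : fixField σ →* K) eu,
    h₁ * (Matrix.GeneralLinearGroup.scalar (Fin n) eu)⁻¹, ?_, ?_, ?_⟩
  · -- norm one
    have h1 : ((d * Units.map ((fixField σ).subtype : fixField σ →* K) eu : Kˣ) : K) = d * (e : K) := by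
      simp [eu]
    rw [h1, map_mul, hc]
    have h2 : (e : K) * ((φ₀ e : fixField σ) : K) = (μ : K) := by
      rw [← he]; rfl
    calc (d : K) * (e : K) * (φ d * ((φ₀ e : fixField σ) : K))
        = lam * ((e : K) * ((φ₀ e : fixField σ) : K)) := by rw [hlam]; ring
      _ = 1 := by rw [h2, hμ1]
  · -- unitary
    rw [mem_GU_iff_mul φ₀ hφ₀]
    have hval : ((h₁ * (Matrix.GeneralLinearGroup.scalar (Fin n) eu)⁻¹ : GL (Fin n) (fixField σ)) :
        Matrix (Fin n) (Fin n) (fixField σ)) = e⁻¹ • (h₁ : Matrix (Fin n) (Fin n) (fixField σ)) := by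
      rw [← map_inv, Units.val_mul, Matrix.GeneralLinearGroup.coe_scalar, Matrix.scalar_apply,
        ← Matrix.smul_eq_mul_diagonal]
      simp [eu]
    rw [hval, herm_smul, ← hA, hAμ, smul_smul]
    have : e⁻¹ * φ₀ e⁻¹ * μ = 1 := by
      rw [map_inv₀, ← he]
      have h3 : φ₀ e ≠ 0 := (map_ne_zero φ₀).2 he0
      field_simp
    rw [this, one_smul]
  · -- same image
    have h1 : ((d * Units.map ((fixField σ).subtype : fixField σ →* K) eu,
        h₁ * (Matrix.GeneralLinearGroup.scalar (Fin n) eu)⁻¹) : Kˣ × GL (Fin n) (fixField σ)) =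
        (d, h₁) * (kerElt σ eu)⁻¹ := by
      unfold kerElt
      simp
    rw [h1, map_mul, map_inv, scalarTimes_kerElt, inv_one, mul_one]

end unitary

end Cfsg.Agent.Lib.Helper51
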