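import Mathlib
import Cfsg.Prelude.Def_LieClassical
import Cfsg.Agent.Lib.Helper51.FieldAutU3
import Cfsg.Agent.Lib.Helper46.UnitaryField
set_option autoImplicit false
set_option linter.unusedSectionVars false

namespace Cfsg.Agent.Lib.Helper51

open Matrix

section count

/-- the group of elements of norm one -/
def normOneU (L : Type*) [Field L] (q : ℕ) : Subgroup Lˣ := (powMonoidHom (q + 1) : Lˣ →* Lˣ).ker

theorem mem_normOneU {L : Type*} [Field L] {q : ℕ} (x : Lˣ) :
    x ∈ normOneU L q ↔ x ^ (q + 1) = 1 := by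
  unfold normOneU
  rw [MonoidHom.mem_ker, powMonoidHom_apply]

theorem sq_sub_one_eq (q : ℕ) (hq : 1 ≤ q) : q ^ 2 - 1 = (q + 1) * (q - 1) := by
  obtain ⟨r, rfl⟩ : ∃ r, q = r + 1 := ⟨q - 1, by omega⟩
  simp only [Nat.add_sub_cancel]
  have : (r + 1) ^ 2 = (r + 1 + 1) * r + 1 := by ring
  rw [this, Nat.add_sub_cancel]

theorem card_normOneU {L : Type*} [Field L] [Fintype L] {q : ℕ} (hL : Fintype.card L = q ^ 2) :
    Nat.card (normOneU L q) = q + 1 := by
  have hq : 1 ≤ q := by
    rcases Nat.eq_zero_or_pos q with h | h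
    · subst h
      have : 0 < Fintype.card L := Fintype.card_pos
      omega
    · exact h
  unfold normOneU
  rw [IsCyclic.card_powMonoidHom_ker, Nat.card_units, Nat.card_eq_fintype_card, hL,
    sq_sub_one_eq q hq]
  exact Nat.gcd_eq_right (Dvd.intro _ rfl)

theorem exists_norm_eq {L : Type*} [Field L] [Fintype L] {q : ℕ} (hL : Fintype.card L = q ^ 2)
    (μ : L) (hμ0 : μ ≠ 0) (hμ : μ ^ q = μ) : ∃ e : L, e * e ^ q = μ := by
  have hq : 1 ≤ q := by
    rcases Nat.eq_zero_or_pos q with h | h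
    · subst h
      have : 0 < Fintype.card L := Fintype.card_pos
      omega
    · exact h
  have hcard : Nat.card Lˣ = (q + 1) * (q - 1) := by
    rw [Nat.card_units, Nat.card_eq_fintype_card, hL, sq_sub_one_eq q hq]
  have hy : (Units.mk0 μ hμ0) ^ (q - 1) = 1 := by
    apply Units.ext
    rw [Units.val_pow_eq_pow_val, Units.val_mk0, Units.val_one]
    have h1 : μ ^ (q - 1) * μ = 1 * μ := by
      rw [← pow_succ, Nat.sub_add_cancel hq, hμ, one_mul]
    exact mul_right_cancel₀ hμ0 h1
  obtain ⟨x, hx⟩ := Cfsg.Agent.Lib.Helper46.exists_pow_eq_of_pow_eq_one (q + 1) (q - 1) hcard _ hy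
  refine ⟨(x : L), ?_⟩
  have := congr_arg Units.val hx
  rw [Units.val_pow_eq_pow_val, Units.val_mk0] at this
  rw [← this, pow_succ']

end count

end Cfsg.Agent.Lib.Helper51
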