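import Mathlib
import Cfsg.Agent.Lib.Helper51.FieldAutU4
import Cfsg.Agent.Lib.Helper08.GUCard
set_option autoImplicit false
set_option linter.unusedSectionVars false

namespace Cfsg.Agent.Lib.Helper51

open Matrix Polynomial Cfsg.Agent.Lib.Helper08

section tr
variable {K : Type*} [Field K] [Fintype K] {q : ℕ}

theorem one_lt_q' (hK : Fintype.card K = q ^ 2) : 1 < q := by
  have h1 : 1 < Fintype.card K := Fintype.one_lt_card
  rw [hK] at h1
  by_contra h
  have h2 : q ≤ 1 := by omega
  have : q ^ 2 ≤ 1 ^ 2 := Nat.pow_le_pow_left h2 2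
  omega

/-- The trace `z ↦ z + z ^ q` is not identically zero. -/
theorem exists_tr_ne_zero (hK : Fintype.card K = q ^ 2) : ∃ z : K, z + z ^ q ≠ 0 := by
  classical
  have hq : 1 < q := one_lt_q' hK
  by_contra hcon
  have hall : ∀ z : K, z + z ^ q = 0 := fun z => by
    by_contra h
    exact hcon ⟨z, h⟩
  let P : K[X] := X ^ q + X
  have hdeg : P.natDegree = q := by
    simp only [P]
    rw [natDegree_add_eq_left_of_natDegree_lt]
    · simp
    · simpa using hq
  have hP : P ≠ 0 := by
    intro h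
    rw [h, natDegree_zero] at hdeg
    omega
  have hsub : (Finset.univ : Finset K) ⊆ P.roots.toFinset := by
    intro z _
    rw [Multiset.mem_toFinset, mem_roots hP]
    simp only [P, IsRoot, eval_add, eval_pow, eval_X]
    rw [add_comm]; exact hall z
  have h1 := Finset.card_le_card hsub
  have h2 : P.roots.toFinset.card ≤ q :=
    calc P.roots.toFinset.card ≤ Multiset.card P.roots := Multiset.toFinset_card_le _
      _ ≤ P.natDegree := card_roots' P
      _ = q := hdeg
  rw [Finset.card_univ, hK] at h1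
  nlinarith

theorem pow_q_pow_q' (hK : Fintype.card K = q ^ 2) (x : K) : (x ^ q) ^ q = x := by
  rw [← pow_mul, ← sq, ← hK, FiniteField.pow_card]

theorem add_pow_q' (hK : Fintype.card K = q ^ 2) (x y : K) : (x + y) ^ q = x ^ q + y ^ q := by
  obtain ⟨φ, hφ⟩ := exists_frob hK
  rw [← hφ, map_add, hφ, hφ]

/-- the trace is onto the fixed field -/
theorem exists_tr_eq (hK : Fintype.card K = q ^ 2) (η : K) (hη : η ^ q = η) :
    ∃ β : K, β + β ^ q = η := by
  obtain ⟨θ, hθ⟩ := exists_tr_ne_zero hK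
  have hτ : (θ + θ ^ q) ^ q = θ + θ ^ q := by
    rw [add_pow_q' hK, pow_q_pow_q' hK, add_comm]
  refine ⟨η * θ / (θ + θ ^ q), ?_⟩
  rw [div_pow, mul_pow, hτ, hη]
  field_simp

end tr

section transv
variable {K : Type*} [Field K] [Fintype K] {q : ℕ} {n : ℕ}

theorem rank_one_decomp_h {K : Type*} [Field K] {n : ℕ} (N : Matrix (Fin n) (Fin n) K)
    (h1 : N.rank = 1) (h2 : N * N = 0) :
    ∃ (φ : Module.Dual K (Fin n → K)) (v : Fin n → K), v ≠ 0 ∧ φ ≠ 0 ∧ φ v = 0 ∧
      ∀ x, N.mulVec x = φ x • v := by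
  have hR : Module.finrank K (LinearMap.range (Matrix.toLin' N)) = 1 := by
    rw [Matrix.toLin'_apply']; exact h1
  obtain ⟨v₀, hv₀, hspan⟩ := finrank_eq_one_iff'.mp hR
  obtain ⟨u₀, hu₀⟩ := v₀.2
  have hv : (v₀ : Fin n → K) ≠ 0 := fun h => hv₀ (Subtype.ext h)
  obtain ⟨ψ, hψ⟩ := Module.Projective.exists_dual_eq_one K hv
  refine ⟨ψ ∘ₗ Matrix.toLin' N, v₀, hv, ?_, ?_, ?_⟩
  · intro h
    have := LinearMap.congr_fun h u₀
    rw [LinearMap.comp_apply, hu₀, hψ] at this
    simp at this
  · rw [LinearMap.comp_apply, ← hu₀, Matrix.toLin'_apply, Matrix.toLin'_apply,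
      Matrix.mulVec_mulVec, h2]
    simp
  · intro x
    obtain ⟨c, hc⟩ := hspan ⟨Matrix.toLin' N x, LinearMap.mem_range_self _ x⟩
    have hc' : c • (v₀ : Fin n → K) = N.mulVec x := by
      have := congrArg Subtype.val hc
      simpa using this
    rw [LinearMap.comp_apply, Matrix.toLin'_apply, ← hc', map_smul, hψ]
    simp

/-- a transvection preserving the hermitian form is a unitary transvection -/
theorem transvection_form (hK : Fintype.card K = q ^ 2) (M : Matrix (Fin n) (Fin n) K)
    (hM : IsIsoMat q M) (ht : Cfsg.IsTransvection M) :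
    ∃ (a : Fin n → K) (c : K), a ≠ 0 ∧ hform (Fin n) K q a a = 0 ∧ c ≠ 0 ∧ c + c ^ q = 0 ∧
      M = qrefl q a c := by
  obtain ⟨φ, a, ha, hφ, hφa, hN⟩ := rank_one_decomp_h _ ht.1 ht.2
  have hMx : ∀ x, M *ᵥ x = x + φ x • a := by
    intro x
    have := hN x
    rw [Matrix.sub_mulVec, Matrix.one_mulVec, sub_eq_iff_eq_add] at this
    rw [this, add_comm]
  -- the isometry identity
  have hiso : ∀ x y, φ x * hform (Fin n) K q a y + (φ y) ^ q * hform (Fin n) K q x a +
      φ x * (φ y) ^ q * hform (Fin n) K q a a = 0 := by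
    intro x y
    have := hM x y
    rw [hMx, hMx, hform_add_left, hform_add_right hK, hform_add_right hK, hform_smul_left,
      hform_smul_left, hform_smul_right, hform_smul_right] at this
    linear_combination this
  obtain ⟨y₀, hy₀⟩ : ∃ y₀, φ y₀ = 1 := by
    have : ∃ y, φ y ≠ 0 := by
      by_contra hcon
      apply hφ
      apply LinearMap.ext
      intro y
      by_contra h
      exact hcon ⟨y, h⟩
    obtain ⟨y, hy⟩ := this
    exact ⟨(φ y)⁻¹ • y, by rw [map_smul, smul_eq_mul, inv_mul_cancel₀ hy]⟩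
  have haa : hform (Fin n) K q a a = 0 := by
    have := hiso y₀ a
    rw [hφa, hy₀] at this
    have hq := (one_lt_q' hK)
    simpa [zero_pow (by omega : q ≠ 0)] using this
  set κ : K := - hform (Fin n) K q a y₀ with hκ
  have hxa : ∀ x, hform (Fin n) K q x a = κ * φ x := by
    intro x
    have := hiso x y₀
    rw [hy₀, haa, one_pow] at this
    rw [hκ]
    linear_combination this
  have hκ0 : κ ≠ 0 := by
    intro h0
    apply ha
    apply hform_nondeg hK
    intro y
    have h1 := hxa y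
    rw [h0, zero_mul] at h1
    rw [← hform_conj hK, h1, zero_pow (by have := one_lt_q' hK; omega)]
  have hκq : κ ^ q = -κ := by
    have h1 := hxa y₀
    rw [hy₀, mul_one] at h1
    calc κ ^ q = (hform (Fin n) K q y₀ a) ^ q := by rw [h1]
      _ = hform (Fin n) K q a y₀ := hform_conj hK _ _
      _ = -κ := by rw [hκ, neg_neg]
  refine ⟨a, κ⁻¹, ha, haa, inv_ne_zero hκ0, ?_, ?_⟩
  · rw [inv_pow, hκq]
    field_simp
    ring
  · apply Matrix.mulVec_injective
    funext x
    rw [hMx, qrefl_mulVec, hxa, ← mul_assoc, inv_mul_cancel₀ hκ0, one_mul]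

end transv

end Cfsg.Agent.Lib.Helper51
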