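import Mathlib
import Cfsg.Agent.Lib.Helper51.UnitaryT1
set_option autoImplicit false
set_option linter.unusedSectionVars false

namespace Cfsg.Agent.Lib.Helper51

open Matrix Cfsg.Agent.Lib.Helper08

section iso
variable {K : Type*} [Field K] [Fintype K] {q : ℕ} {ι : Type} [Fintype ι] [DecidableEq ι]

theorem exists_hform_ne_zero (hK : Fintype.card K = q ^ 2) (a : ι → K) (ha : a ≠ 0) :
    ∃ y, hform ι K q a y ≠ 0 := by
  by_contra hcon
  apply ha
  apply hform_nondeg hK
  intro y
  by_contra h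
  exact hcon ⟨y, h⟩

theorem hform_self_pow (hK : Fintype.card K = q ^ 2) (x : ι → K) :
    (hform ι K q x x) ^ q = hform ι K q x x := hform_conj hK x x

theorem exists_iso_map_isotropic_of_ne (hK : Fintype.card K = q ^ 2) (a b : ι → K)
    (ha : hform ι K q a a = 0) (hb : hform ι K q b b = 0) (hab : hform ι K q a b ≠ 0) :
    ∃ M : Matrix ι ι K, IsIsoMat q M ∧ M *ᵥ a = b := by
  set t := hform ι K q a b with ht
  have hba : hform ι K q b a = t ^ q := by rw [ht, hform_conj hK]
  have htq : t ^ q ≠ 0 := pow_ne_zero _ hab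
  refine ⟨qrefl q (a - b) t⁻¹, qrefl_iso hK _ _ ?_, ?_⟩
  · have hww : hform ι K q (a - b) (a - b) = -t - t ^ q := by
      rw [hform_sub_left, hform_sub_right hK, hform_sub_right hK, ha, hb, hba, ← ht]
      ring
    rw [hww, inv_pow]
    field_simp
    ring
  · rw [qrefl_mulVec, hform_sub_right hK, ha, ← ht, zero_sub, mul_neg, inv_mul_cancel₀ hab]
    simp

theorem exists_isotropic_nonorth (hK : Fintype.card K = q ^ 2) (a b : ι → K)
    (ha0 : a ≠ 0) (hb0 : b ≠ 0) (ha : hform ι K q a a = 0) (hab : hform ι K q a b = 0) :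
    ∃ z, hform ι K q z z = 0 ∧ hform ι K q a z ≠ 0 ∧ hform ι K q z b ≠ 0 := by
  have hq0 : q ≠ 0 := by have := one_lt_q' hK; omega
  have hba : hform ι K q b a = 0 := by rw [← hform_conj hK, hab, zero_pow hq0]
  obtain ⟨x₁, hx₁⟩ := exists_hform_ne_zero hK a ha0
  obtain ⟨x₂, hx₂⟩ := exists_hform_ne_zero hK b hb0
  obtain ⟨x, hxa, hxb⟩ : ∃ x, hform ι K q a x ≠ 0 ∧ hform ι K q b x ≠ 0 := by
    by_cases h1 : hform ι K q b x₁ = 0
    · by_cases h2 : hform ι K q a x₂ = 0
      · refine ⟨x₁ + x₂, ?_, ?_⟩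
        · rw [hform_add_right hK, h2, add_zero]; exact hx₁
        · rw [hform_add_right hK, h1, zero_add]; exact hx₂
      · exact ⟨x₂, h2, hx₂⟩
    · exact ⟨x₁, hx₁, h1⟩
  set s := hform ι K q a x with hs
  have hxa' : hform ι K q x a = s ^ q := by rw [hs, hform_conj hK]
  obtain ⟨β, hβ⟩ := exists_tr_eq hK (- hform ι K q x x) (by
    rw [neg_pow_q hK, hform_self_pow hK])
  refine ⟨x + (β / s) • a, ?_, ?_, ?_⟩
  · rw [hform_add_left, hform_add_right hK, hform_add_right hK, hform_smul_left, hform_smul_left,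
      hform_smul_right, hform_smul_right, ha, hxa', ← hs]
    have h1 : (β / s) ^ q * s ^ q = β ^ q := by
      rw [← mul_pow, div_mul_cancel₀ _ hxa]
    have h2 : β / s * s = β := div_mul_cancel₀ _ hxa
    rw [mul_zero, mul_zero, add_zero, h1, h2]
    linear_combination hβ
  · rw [hform_add_right hK, hform_smul_right, ha, mul_zero, add_zero]
    exact hxa
  · rw [hform_add_left, hform_smul_left, hab, mul_zero, add_zero, ← hform_conj hK]
    exact pow_ne_zero _ hxb

theorem exists_iso_map_isotropic (hK : Fintype.card K = q ^ 2) (a b : ι → K)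
    (ha0 : a ≠ 0) (hb0 : b ≠ 0)
    (ha : hform ι K q a a = 0) (hb : hform ι K q b b = 0) :
    ∃ M : Matrix ι ι K, IsIsoMat q M ∧ M *ᵥ a = b := by
  by_cases hab : hform ι K q a b = 0
  · obtain ⟨z, hz, haz, hzb⟩ := exists_isotropic_nonorth hK a b ha0 hb0 ha hab
    obtain ⟨M₁, hM₁, h1⟩ := exists_iso_map_isotropic_of_ne hK a z ha hz haz
    obtain ⟨M₂, hM₂, h2⟩ := exists_iso_map_isotropic_of_ne hK z b hz hb hzb
    exact ⟨M₂ * M₁, hM₂.mul hM₁, by rw [← Matrix.mulVec_mulVec, h1, h2]⟩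
  · exact exists_iso_map_isotropic_of_ne hK a b ha hb hab

/-- polarisation -/
theorem hform_eq_zero_of_isotropic (hK : Fintype.card K = q ^ 2) (x y : ι → K)
    (hx : hform ι K q x x = 0) (hy : hform ι K q y y = 0)
    (hxy : ∀ α : K, hform ι K q (x + α • y) (x + α • y) = 0) : hform ι K q x y = 0 := by
  by_contra hs
  obtain ⟨θ, hθ⟩ := exists_tr_ne_zero hK
  set s := hform ι K q x y with hs'
  have hyx : hform ι K q y x = s ^ q := by rw [hs', hform_conj hK]
  have := hxy ((θ / s) ^ q)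
  rw [hform_add_left, hform_add_right hK, hform_add_right hK, hform_smul_left, hform_smul_left,
    hform_smul_right, hform_smul_right, hx, hy, ← hs', hyx, pow_q_pow_q' hK, ← mul_pow,
    div_mul_cancel₀ _ hs] at this
  apply hθ
  linear_combination this

end iso

end Cfsg.Agent.Lib.Helper51
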