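import Mathlib
import Cfsg.Agent.Lib.Helper51.UnitaryT2
set_option autoImplicit false
set_option linter.unusedSectionVars false

namespace Cfsg.Agent.Lib.Helper51

open Matrix Cfsg.Agent.Lib.Helper08

section stab
variable {K : Type*} [Field K] [Fintype K] {q : ℕ} {n : ℕ}

theorem hform_single_left (hK : Fintype.card K = q ^ 2) (x : Fin n → K) (i : Fin n) :
    hform (Fin n) K q (Pi.single i 1) x = (x i) ^ q := by
  rw [← hform_conj hK, hform_single_right hK]

/-- a non-isotropic vector orthogonal to a given nonzero vector, in dimension at least 3 -/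
theorem exists_nonisotropic_orth (hK : Fintype.card K = q ^ 2) (hn : 3 ≤ n) (b : Fin n → K)
    (hb0 : b ≠ 0) : ∃ w, hform (Fin n) K q w b = 0 ∧ hform (Fin n) K q w w ≠ 0 := by
  classical
  have hq0 : q ≠ 0 := by have := one_lt_q' hK; omega
  obtain ⟨k, hk⟩ : ∃ k, b k ≠ 0 := by
    by_contra hcon
    apply hb0
    funext k
    by_contra h
    exact hcon ⟨k, h⟩
  have hkq : (b k) ^ q ≠ 0 := pow_ne_zero _ hk
  -- two further indices
  have hcard : 1 < (Finset.univ.erase k : Finset (Fin n)).card := by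
    rw [Finset.card_erase_of_mem (Finset.mem_univ k), Finset.card_univ, Fintype.card_fin]
    omega
  obtain ⟨i, hi, j, hj, hij⟩ := Finset.one_lt_card.1 hcard
  have hik : i ≠ k := Finset.ne_of_mem_erase hi
  have hjk : j ≠ k := Finset.ne_of_mem_erase hj
  let γ : Fin n → K := fun l => (b l) ^ q / (b k) ^ q
  let w : Fin n → Fin n → K := fun l => Pi.single l 1 - γ l • Pi.single k 1
  have hwb : ∀ l, hform (Fin n) K q (w l) b = 0 := by
    intro l
    simp only [w, γ]
    rw [hform_sub_left, hform_smul_left, hform_single_left hK, hform_single_left hK,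
      div_mul_cancel₀ _ hkq, sub_self]
  have hwk : ∀ l, l ≠ k → w l k = - γ l := by
    intro l hl
    simp [w, hl]
  have hwl : ∀ l, l ≠ k → w l l = 1 := by
    intro l hl
    simp [w, hl.symm]
  have hwlm : ∀ l m, m ≠ l → m ≠ k → w l m = 0 := by
    intro l m h1 h2
    simp [w, h1, h2]
  have hww : ∀ l m, l ≠ k → m ≠ k → hform (Fin n) K q (w l) (w m) =
      w l m + (γ m) ^ q * γ l := by
    intro l m hl hm
    have : w m = Pi.single m 1 - γ m • Pi.single k 1 := rfl
    rw [this, hform_sub_right hK, hform_smul_right, hform_single_right hK, hform_single_right hK,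
      hwk l hl]
    ring
  by_contra hcon
  have hall : ∀ w', hform (Fin n) K q w' b = 0 → hform (Fin n) K q w' w' = 0 := by
    intro w' h1
    by_contra h2
    exact hcon ⟨w', h1, h2⟩
  have h1 := hall (w i) (hwb i)
  have h2 := hall (w j) (hwb j)
  have h3 : hform (Fin n) K q (w i) (w j) = 0 := by
    apply hform_eq_zero_of_isotropic hK _ _ h1 h2
    intro α
    apply hall
    rw [hform_add_left, hform_smul_left, hwb, hwb, mul_zero, add_zero]
  rw [hww i i hik hik, hwl i hik] at h1
  rw [hww i j hik hjk, hwlm i j hij.symm hjk, zero_add] at h3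
  rw [hww j j hjk hjk, hwl j hjk] at h2
  rcases mul_eq_zero.1 h3 with h4 | h4
  · have : γ j = 0 := pow_eq_zero_iff hq0 |>.1 h4
    rw [this, mul_zero, add_zero] at h2
    exact one_ne_zero h2
  · rw [h4, mul_zero, add_zero] at h1
    exact one_ne_zero h1

theorem det_qrefl (w : Fin n → K) (c : K) :
    (qrefl q w c).det = 1 + c * hform (Fin n) K q w w := by
  unfold qrefl
  have h1 : c • Matrix.vecMulVec w (fun j => w j ^ q) =
      Matrix.replicateCol Unit (c • w) * Matrix.replicateRow Unit (fun j => w j ^ q) := by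
    rw [← Matrix.vecMulVec_eq, Matrix.smul_vecMulVec]
  rw [h1, Matrix.det_one_add_replicateCol_mul_replicateRow]
  congr 1
  unfold hform dotProduct
  rw [Finset.mul_sum]
  apply Finset.sum_congr rfl
  intro i _
  simp only [Pi.smul_apply, smul_eq_mul]
  ring

theorem exists_stab_det (hK : Fintype.card K = q ^ 2) (hn : 3 ≤ n) (b : Fin n → K)
    (hb0 : b ≠ 0) (δ : K) (hδ : δ * δ ^ q = 1) :
    ∃ D : Matrix (Fin n) (Fin n) K, IsIsoMat q D ∧ D *ᵥ b = b ∧ D.det = δ := by
  have hq0 : q ≠ 0 := by have := one_lt_q' hK; omega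
  obtain ⟨w, hwb, hww⟩ := exists_nonisotropic_orth hK hn b hb0
  set η := hform (Fin n) K q w w with hη
  have hηq : η ^ q = η := hform_self_pow hK w
  have hbw : hform (Fin n) K q b w = 0 := by rw [← hform_conj hK, hwb, zero_pow hq0]
  refine ⟨qrefl q w ((δ - 1) / η), qrefl_iso hK _ _ ?_, ?_, ?_⟩
  · rw [← hη, div_pow, hηq, sub_pow_q hK, one_pow]
    field_simp
    linear_combination hδ
  · rw [qrefl_mulVec, hbw, mul_zero, zero_smul, add_zero]
  · rw [det_qrefl, ← hη, div_mul_cancel₀ _ hww]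
    ring

theorem det_norm_of_iso (hK : Fintype.card K = q ^ 2) (M : Matrix (Fin n) (Fin n) K)
    (hM : IsIsoMat q M) : M.det * M.det ^ q = 1 := by
  have hu := hM.isUnit hK
  have h1 : hu.unit ∈ Cfsg.GU n K q := by
    intro x y
    exact hM x y
  have := Cfsg.Agent.Lib.Helper19.det_pow_of_mem_GU hK hu.unit h1
  rw [IsUnit.unit_spec, pow_succ'] at this
  exact this

/-- `SU_n` is transitive on nonzero isotropic vectors for `n ≥ 3` -/
theorem exists_SU_map (hK : Fintype.card K = q ^ 2) (hn : 3 ≤ n) (a b : Fin n → K)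
    (ha0 : a ≠ 0) (hb0 : b ≠ 0)
    (ha : hform (Fin n) K q a a = 0) (hb : hform (Fin n) K q b b = 0) :
    ∃ M : Matrix (Fin n) (Fin n) K, IsIsoMat q M ∧ M.det = 1 ∧ M *ᵥ a = b := by
  obtain ⟨M, hM, hMa⟩ := exists_iso_map_isotropic hK a b ha0 hb0 ha hb
  have hdet := det_norm_of_iso hK M hM
  have hd0 : M.det ≠ 0 := by
    intro h0
    rw [h0, zero_mul] at hdet
    exact zero_ne_one hdet
  obtain ⟨D, hD, hDb, hDdet⟩ := exists_stab_det hK hn b hb0 (M.det)⁻¹ (by
    rw [inv_pow, ← mul_inv, hdet, inv_one])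
  refine ⟨D * M, hD.mul hM, ?_, ?_⟩
  · rw [Matrix.det_mul, hDdet, inv_mul_cancel₀ hd0]
  · rw [← Matrix.mulVec_mulVec, hMa, hDb]

end stab

end Cfsg.Agent.Lib.Helper51
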