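import Mathlib
import Cfsg.Agent.Lib.Helper51.UStab5
import Cfsg.Agent.Lib.Helper51.UnitaryT3
import Cfsg.Agent.S0754
set_option autoImplicit false
set_option linter.unusedSectionVars false

/-! Unitary transvections: basic algebra, the monoid they generate. -/

namespace Cfsg.Agent.Lib.Helper51

open Matrix Cfsg.Agent.Lib.Helper08

section sugen1
variable {F : Type*} [Field F] [Fintype F] {q : ℕ} {ι : Type} [Fintype ι] [DecidableEq ι]

theorem mat_ext_mulVec {κ : Type} [Fintype κ] [DecidableEq κ] {M N : Matrix ι κ F}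
    (h : ∀ x, M *ᵥ x = N *ᵥ x) : M = N := by
  apply Matrix.toLin'.injective
  apply LinearMap.ext
  intro x
  simp only [Matrix.toLin'_apply]
  exact h x

theorem q_ne_zero' (hF : Fintype.card F = q ^ 2) : q ≠ 0 := by
  have := one_lt_q' hF; omega

/-- a nonzero trace-zero element -/
theorem exists_skew_ne_zero (hF : Fintype.card F = q ^ 2) : ∃ s : F, s ≠ 0 ∧ s + s ^ q = 0 := by
  obtain ⟨θ, hθ⟩ := Cfsg.Agent.Lib.Helper43.exists_pow_q_ne hF
  refine ⟨θ - θ ^ q, sub_ne_zero.mpr (Ne.symm hθ), ?_⟩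
  rw [sub_pow_q hF, pow_q_pow_q' hF]
  ring

theorem skew_pow (c : F) (hc : c + c ^ q = 0) : c ^ q = -c := by
  linear_combination hc

theorem skew_mul_fix (a s : F) (ha : a ^ q = a) (hs : s + s ^ q = 0) :
    a * s + (a * s) ^ q = 0 := by
  rw [mul_pow, ha]
  linear_combination a * hs

theorem skew_neg (hF : Fintype.card F = q ^ 2) (s : F) (hs : s + s ^ q = 0) :
    -s + (-s) ^ q = 0 := by
  rw [neg_pow_q hF]
  linear_combination -hs

theorem skew_add (hF : Fintype.card F = q ^ 2) (s t : F) (hs : s + s ^ q = 0)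
    (ht : t + t ^ q = 0) : (s + t) + (s + t) ^ q = 0 := by
  rw [add_pow_q' hF]
  linear_combination hs + ht

theorem skew_inv (s : F) (hs : s + s ^ q = 0) : s⁻¹ + (s⁻¹) ^ q = 0 := by
  by_cases h0 : s = 0
  · subst h0
    rcases Nat.eq_zero_or_pos q with hq | hq
    · subst hq; simp at hs
    · simp [zero_pow (Nat.pos_iff_ne_zero.mp hq)]
  · rw [inv_pow, skew_pow s hs, inv_neg]
    ring

theorem fix_of_skew_mul_skew (s t : F) (hs : s + s ^ q = 0) (ht : t + t ^ q = 0) :
    (s * t) ^ q = s * t := by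
  rw [mul_pow, skew_pow s hs, skew_pow t ht]
  ring

theorem tr_fix (hF : Fintype.card F = q ^ 2) (x : F) : (x + x ^ q) ^ q = x + x ^ q := by
  rw [add_pow_q' hF, pow_q_pow_q' hF]
  ring

theorem nm_fix (hF : Fintype.card F = q ^ 2) (x : F) : (x * x ^ q) ^ q = x * x ^ q := by
  rw [mul_pow, pow_q_pow_q' hF]
  ring

/-- the norm is onto the fixed field -/
theorem exists_nm_eq (hF : Fintype.card F = q ^ 2) (a : F) (ha : a ^ q = a) :
    ∃ c : F, c * c ^ q = a := by
  by_cases h0 : a = 0
  · refine ⟨0, ?_⟩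
    rw [h0, zero_mul]
  · have hcard := Cfsg.Agent.S0754.result hF a h0 ha
    have hne : Nonempty {x : F // x ^ (q + 1) = a} := by
      by_contra hcon
      rw [not_nonempty_iff] at hcon
      rw [Nat.card_of_isEmpty] at hcard
      omega
    obtain ⟨l, hl⟩ := hne
    refine ⟨l, ?_⟩
    rw [← pow_succ']
    exact hl

theorem qrefl_zero (d : ι → F) : qrefl q d (0 : F) = 1 := by
  unfold qrefl
  rw [zero_smul, add_zero]

theorem qrefl_mul_same (hF : Fintype.card F = q ^ 2) (d : ι → F) (hd : hform ι F q d d = 0)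
    (c c' : F) : qrefl q d c * qrefl q d c' = qrefl q d (c + c') := by
  apply mat_ext_mulVec
  intro x
  rw [← Matrix.mulVec_mulVec, qrefl_mulVec, qrefl_mulVec, qrefl_mulVec, hform_add_left,
    hform_smul_left, hd, mul_zero, add_zero]
  rw [add_assoc, ← add_smul]
  congr 2
  ring

theorem qrefl_mul_neg (hF : Fintype.card F = q ^ 2) (d : ι → F) (hd : hform ι F q d d = 0)
    (c : F) : qrefl q d c * qrefl q d (-c) = 1 := by
  rw [qrefl_mul_same hF d hd, add_neg_cancel, qrefl_zero]

theorem qrefl_neg_mul (hF : Fintype.card F = q ^ 2) (d : ι → F) (hd : hform ι F q d d = 0)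
    (c : F) : qrefl q d (-c) * qrefl q d c = 1 := by
  rw [qrefl_mul_same hF d hd, neg_add_cancel, qrefl_zero]

theorem qrefl_smul (d : ι → F) (a c : F) :
    qrefl q (a • d) c = qrefl q d (a * a ^ q * c) := by
  apply mat_ext_mulVec
  intro x
  rw [qrefl_mulVec, qrefl_mulVec, hform_smul_right, smul_smul]
  congr 2
  ring

theorem qrefl_iso_skew (hF : Fintype.card F = q ^ 2) (d : ι → F) (hd : hform ι F q d d = 0)
    (c : F) (hc : c + c ^ q = 0) : IsIsoMat q (qrefl q d c) := by
  apply qrefl_iso hF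
  rw [hd, mul_zero, add_zero]
  exact hc

theorem det_qrefl' (w : ι → F) (c : F) :
    (qrefl q w c).det = 1 + c * hform ι F q w w := by
  unfold qrefl
  have h1 : c • Matrix.vecMulVec w (fun j => w j ^ q) =
      Matrix.replicateCol Unit (c • w) * Matrix.replicateRow Unit (fun j => w j ^ q) := by
    rw [← Matrix.vecMulVec_eq, Matrix.smul_vecMulVec]
  rw [h1, Matrix.det_one_add_replicateCol_mul_replicateRow]
  congr 1
  unfold hform dotProduct
  rw [Finset.mul_sum]
  apply Finset.sum_congr rfl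
  intro i _
  simp only [Pi.smul_apply, smul_eq_mul]
  ring

/-- the set of unitary transvection matrices -/
def TS (ι : Type) [Fintype ι] [DecidableEq ι] (F : Type*) [Field F] (q : ℕ) :
    Set (Matrix ι ι F) :=
  {M | ∃ (d : ι → F) (c : F), hform ι F q d d = 0 ∧ c + c ^ q = 0 ∧ M = qrefl q d c}

/-- the monoid generated by the unitary transvections -/
def TT (ι : Type) [Fintype ι] [DecidableEq ι] (F : Type*) [Field F] (q : ℕ) :
    Submonoid (Matrix ι ι F) :=
  Submonoid.closure (TS ι F q)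

theorem qrefl_mem_TT (d : ι → F) (hd : hform ι F q d d = 0) (c : F) (hc : c + c ^ q = 0) :
    qrefl q d c ∈ TT ι F q :=
  Submonoid.subset_closure ⟨d, c, hd, hc, rfl⟩

theorem TT_iso (hF : Fintype.card F = q ^ 2) {M : Matrix ι ι F} (hM : M ∈ TT ι F q) :
    IsIsoMat q M := by
  induction hM using Submonoid.closure_induction with
  | mem x hx =>
    obtain ⟨d, c, hd, hc, rfl⟩ := hx
    exact qrefl_iso_skew hF d hd c hc
  | one =>
    intro x y
    rw [Matrix.one_mulVec, Matrix.one_mulVec]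
  | mul x y _ _ hx hy => exact hx.mul hy

theorem TT_det {M : Matrix ι ι F} (hM : M ∈ TT ι F q) : M.det = 1 := by
  induction hM using Submonoid.closure_induction with
  | mem x hx =>
    obtain ⟨d, c, hd, hc, rfl⟩ := hx
    rw [det_qrefl', hd, mul_zero, add_zero]
  | one => exact Matrix.det_one
  | mul x y _ _ hx hy => rw [Matrix.det_mul, hx, hy, mul_one]

theorem TT_inv (hF : Fintype.card F = q ^ 2) {M : Matrix ι ι F} (hM : M ∈ TT ι F q) :
    ∃ M' ∈ TT ι F q, M * M' = 1 ∧ M' * M = 1 := by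
  induction hM using Submonoid.closure_induction with
  | mem x hx =>
    obtain ⟨d, c, hd, hc, rfl⟩ := hx
    exact ⟨qrefl q d (-c), qrefl_mem_TT d hd _ (skew_neg hF c hc), qrefl_mul_neg hF d hd c,
      qrefl_neg_mul hF d hd c⟩
  | one => exact ⟨1, Submonoid.one_mem _, one_mul _, one_mul _⟩
  | mul x y _ _ hx hy =>
    obtain ⟨x', hx', h1, h2⟩ := hx
    obtain ⟨y', hy', h3, h4⟩ := hy
    refine ⟨y' * x', Submonoid.mul_mem _ hy' hx', ?_, ?_⟩
    · calc x * y * (y' * x') = x * (y * y') * x' := by simp only [Matrix.mul_assoc]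
        _ = 1 := by rw [h3, Matrix.mul_one, h1]
    · calc y' * x' * (x * y) = y' * (x' * x) * y := by simp only [Matrix.mul_assoc]
        _ = 1 := by rw [h2, Matrix.mul_one, h4]

/-- if `t M` is a product of transvections for a product of transvections `t`, so is `M` -/
theorem TT_of_mul_mem (hF : Fintype.card F = q ^ 2) {t M : Matrix ι ι F} (ht : t ∈ TT ι F q)
    (htM : t * M ∈ TT ι F q) : M ∈ TT ι F q := by
  obtain ⟨t', ht', _, h2⟩ := TT_inv hF ht
  have : M = t' * (t * M) := by rw [← Matrix.mul_assoc, h2, Matrix.one_mul]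
  rw [this]
  exact Submonoid.mul_mem _ ht' htM

/-- the orbit relation of the transvection monoid on vectors -/
def TRel (q : ℕ) (a b : ι → F) : Prop := ∃ M ∈ TT ι F q, M *ᵥ a = b

theorem TRel.refl (a : ι → F) : TRel q a a := ⟨1, Submonoid.one_mem _, Matrix.one_mulVec a⟩

theorem TRel.symm (hF : Fintype.card F = q ^ 2) {a b : ι → F} (h : TRel q a b) : TRel q b a := by
  obtain ⟨M, hM, hab⟩ := h
  obtain ⟨M', hM', _, h2⟩ := TT_inv hF hM
  refine ⟨M', hM', ?_⟩
  rw [← hab, Matrix.mulVec_mulVec, h2, Matrix.one_mulVec]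

theorem TRel.trans {a b c : ι → F} (h1 : TRel q a b) (h2 : TRel q b c) : TRel q a c := by
  obtain ⟨M, hM, hab⟩ := h1
  obtain ⟨N, hN, hbc⟩ := h2
  refine ⟨N * M, Submonoid.mul_mem _ hN hM, ?_⟩
  rw [← Matrix.mulVec_mulVec, hab, hbc]

/-- one transvection moves `u` to `w` when `w - u` is isotropic and not orthogonal to `u` -/
theorem TRel_of_diff_isotropic (hF : Fintype.card F = q ^ 2) (u w : ι → F)
    (hn : hform ι F q u u = hform ι F q w w)
    (hd : hform ι F q (w - u) (w - u) = 0) (hne : hform ι F q u (w - u) ≠ 0) :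
    TRel q u w := by
  set d := w - u with hdd
  have hw : w = u + d := by rw [hdd]; abel
  have htr : hform ι F q u d + (hform ι F q u d) ^ q = 0 := by
    rw [hform_conj hF]
    have h1 : hform ι F q w w = hform ι F q u u + hform ι F q u d + hform ι F q d u
        + hform ι F q d d := by
      rw [hw, hform_add_left, hform_add_right hF, hform_add_right hF]
      ring
    rw [hd, ← hn] at h1
    linear_combination -h1
  refine ⟨qrefl q d (hform ι F q u d)⁻¹, qrefl_mem_TT d hd _ (skew_inv _ htr), ?_⟩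
  rw [qrefl_mulVec, inv_mul_cancel₀ hne, one_smul, hw]

end sugen1

end Cfsg.Agent.Lib.Helper51
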