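import Mathlib
import Cfsg.Agent.Lib.Helper51.SUGen1
set_option autoImplicit false
set_option linter.unusedSectionVars false
set_option linter.unusedVariables false

/-! Extending matrices acting on a subspace spanned by a family `w` (with dual family `w'`). -/

namespace Cfsg.Agent.Lib.Helper51

open Matrix Cfsg.Agent.Lib.Helper08

section sugen2
variable {F : Type*} [Field F] [Fintype F] {q : ℕ} {ι : Type} [Fintype ι] [DecidableEq ι]
  {κ : Type} [Fintype κ] [DecidableEq κ]

/-- the matrix with columns `w j` -/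
def Wm (w : κ → ι → F) : Matrix ι κ F := fun i j => w j i

/-- the matrix with rows `(w j)^q` -/
def Ws (q : ℕ) (w : κ → ι → F) : Matrix κ ι F := fun j i => (w j i) ^ q

theorem Wm_mulVec (w : κ → ι → F) (c : κ → F) : Wm w *ᵥ c = ∑ j, c j • w j := by
  funext i
  simp only [Matrix.mulVec, dotProduct, Wm, Finset.sum_apply, Pi.smul_apply, smul_eq_mul]
  apply Finset.sum_congr rfl
  intro j _
  ring

theorem Ws_mulVec (w : κ → ι → F) (x : ι → F) (j : κ) :
    (Ws q w *ᵥ x) j = hform ι F q x (w j) := by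
  simp only [Matrix.mulVec, dotProduct, Ws, hform]
  apply Finset.sum_congr rfl
  intro i _
  ring

/-- `w, w'` are dual families -/
def IsDual (q : ℕ) (w w' : κ → ι → F) : Prop :=
  ∀ j l, hform ι F q (w j) (w' l) = if j = l then 1 else 0

theorem Ws_mul_Wm (w w' : κ → ι → F) (hw : IsDual q w w') : Ws q w' * Wm w = 1 := by
  ext j l
  rw [Matrix.mul_apply, Matrix.one_apply]
  have : ∑ i, Ws q w' j i * Wm w i l = hform ι F q (w l) (w' j) := by
    simp only [Ws, Wm, hform]
    apply Finset.sum_congr rfl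
    intro i _
    ring
  rw [this, hw l j]
  simp only [eq_comm]

theorem Ws_Wm_mulVec (w w' : κ → ι → F) (hw : IsDual q w w') (c : κ → F) :
    Ws q w' *ᵥ (Wm w *ᵥ c) = c := by
  rw [Matrix.mulVec_mulVec, Ws_mul_Wm w w' hw, Matrix.one_mulVec]

/-- `h(x, W b) = h(S x, b)` -/
theorem hform_right_Wm (hF : Fintype.card F = q ^ 2) (w : κ → ι → F) (x : ι → F) (b : κ → F) :
    hform ι F q x (Wm w *ᵥ b) = hform κ F q (Ws q w *ᵥ x) b := by
  rw [Wm_mulVec, hform_sum_right hF]
  unfold hform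
  apply Finset.sum_congr rfl
  intro j _
  have := Ws_mulVec (q := q) w x j
  unfold hform at this
  rw [this]
  have h2 := hform_smul_right (q := q) (b j) x (w j)
  unfold hform at h2
  rw [h2]
  ring

/-- the extension of a `κ × κ` matrix to the big space, acting on the span of `w` -/
def Ew (q : ℕ) (w w' : κ → ι → F) (M' : Matrix κ κ F) : Matrix ι ι F :=
  1 + Wm w * (M' - 1) * Ws q w'

theorem Ew_one (w w' : κ → ι → F) : Ew q w w' (1 : Matrix κ κ F) = 1 := by
  unfold Ew
  rw [sub_self, Matrix.mul_zero, Matrix.zero_mul, add_zero]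

theorem Ew_mul (w w' : κ → ι → F) (hw : IsDual q w w') (A B : Matrix κ κ F) :
    Ew q w w' (A * B) = Ew q w w' A * Ew q w w' B := by
  unfold Ew
  have hSW := Ws_mul_Wm w w' hw
  have key : Wm w * (A - 1) * Ws q w' * (Wm w * (B - 1) * Ws q w') =
      Wm w * ((A - 1) * (B - 1)) * Ws q w' := by
    calc Wm w * (A - 1) * Ws q w' * (Wm w * (B - 1) * Ws q w')
        = Wm w * (A - 1) * (Ws q w' * Wm w) * (B - 1) * Ws q w' := by
          simp only [Matrix.mul_assoc]
      _ = Wm w * ((A - 1) * (B - 1)) * Ws q w' := by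
          rw [hSW, Matrix.mul_one]
          simp only [Matrix.mul_assoc]
  rw [Matrix.add_mul, Matrix.mul_add, Matrix.mul_add, Matrix.one_mul, Matrix.one_mul,
    Matrix.mul_one, key]
  have e : A * B - 1 = (A - 1) + (B - 1) + (A - 1) * (B - 1) := by
    rw [Matrix.sub_mul, Matrix.mul_sub, Matrix.mul_sub, Matrix.one_mul, Matrix.mul_one,
      Matrix.mul_one]
    abel
  rw [e, Matrix.mul_add, Matrix.mul_add, Matrix.add_mul, Matrix.add_mul]
  abel

theorem Ew_mulVec (w w' : κ → ι → F) (M' : Matrix κ κ F) (x : ι → F) :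
    Ew q w w' M' *ᵥ x = x + Wm w *ᵥ (M' *ᵥ (Ws q w' *ᵥ x) - Ws q w' *ᵥ x) := by
  unfold Ew
  rw [Matrix.add_mulVec, Matrix.one_mulVec, ← Matrix.mulVec_mulVec, ← Matrix.mulVec_mulVec,
    Matrix.sub_mulVec, Matrix.one_mulVec]

theorem Ew_det (w w' : κ → ι → F) (hw : IsDual q w w') (M' : Matrix κ κ F) :
    (Ew q w w' M').det = M'.det := by
  unfold Ew
  rw [Matrix.mul_assoc, Matrix.det_one_add_mul_comm, Matrix.mul_assoc, Ws_mul_Wm w w' hw,
    Matrix.mul_one, add_sub_cancel]

/-- extension of a transvection is a transvection (orthonormal-type case `w' = w`) -/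
theorem Ew_qrefl (hF : Fintype.card F = q ^ 2) (w : κ → ι → F) (d' : κ → F) (c : F) :
    Ew q w w (qrefl q d' c) = qrefl q (Wm w *ᵥ d') c := by
  apply mat_ext_mulVec
  intro x
  rw [Ew_mulVec, qrefl_mulVec, qrefl_mulVec, add_sub_cancel_left, Matrix.mulVec_smul,
    hform_right_Wm hF]

theorem hform_Wm (hF : Fintype.card F = q ^ 2) (w : κ → ι → F) (hw : IsDual q w w)
    (c c' : κ → F) : hform ι F q (Wm w *ᵥ c) (Wm w *ᵥ c') = hform κ F q c c' := by
  rw [hform_right_Wm hF, Ws_Wm_mulVec w w hw]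

theorem Ew_mem_TT (hF : Fintype.card F = q ^ 2) (w : κ → ι → F) (hw : IsDual q w w)
    {M' : Matrix κ κ F} (hM' : M' ∈ TT κ F q) : Ew q w w M' ∈ TT ι F q := by
  induction hM' using Submonoid.closure_induction with
  | mem x hx =>
    obtain ⟨d, c, hd, hc, rfl⟩ := hx
    rw [Ew_qrefl hF]
    apply qrefl_mem_TT _ _ _ hc
    rw [hform_Wm hF w hw, hd]
  | one => rw [Ew_one]; exact Submonoid.one_mem _
  | mul x y _ _ hx hy =>
    rw [Ew_mul w w hw]
    exact Submonoid.mul_mem _ hx hy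

/-- an isometry fixing the orthogonal complement of the span is an extension -/
theorem exists_Ew_decomp (hF : Fintype.card F = q ^ 2) (w w' : κ → ι → F) (hw : IsDual q w w')
    (hperp : ∀ x : ι → F, (∀ j, hform ι F q x (w' j) = 0) → ∀ j, hform ι F q x (w j) = 0)
    (M : Matrix ι ι F) (hM : IsIsoMat q M)
    (hfix : ∀ x : ι → F, (∀ j, hform ι F q x (w' j) = 0) → M *ᵥ x = x) :
    ∃ M' : Matrix κ κ F, M'.det = M.det ∧ M = Ew q w w' M' ∧
      (∀ a b : κ → F, hform ι F q (Wm w *ᵥ (M' *ᵥ a)) (Wm w *ᵥ (M' *ᵥ b)) =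
        hform ι F q (Wm w *ᵥ a) (Wm w *ᵥ b)) := by
  have hq0 := q_ne_zero' hF
  -- the complement part of a vector
  have hperp_part : ∀ x : ι → F, ∀ j, hform ι F q (x - Wm w *ᵥ (Ws q w' *ᵥ x)) (w' j) = 0 := by
    intro x j
    rw [← Ws_mulVec, Matrix.mulVec_sub, Ws_Wm_mulVec w w' hw, sub_self, Pi.zero_apply]
  -- `h(W a, y) = 0` for `y` orthogonal to the span
  have hWperp : ∀ (a : κ → F) (y : ι → F), (∀ j, hform ι F q y (w j) = 0) →
      hform ι F q (Wm w *ᵥ a) y = 0 := by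
    intro a y hy
    rw [← hform_conj hF, hform_right_Wm hF]
    have : Ws q w *ᵥ y = 0 := by
      funext j
      rw [Ws_mulVec, hy j, Pi.zero_apply]
    rw [this, hform_zero_left, zero_pow hq0]
  -- invariance of the span
  have hinv : ∀ c : κ → F, Wm w *ᵥ (Ws q w' *ᵥ (M *ᵥ (Wm w *ᵥ c))) = M *ᵥ (Wm w *ᵥ c) := by
    intro c
    set y := M *ᵥ (Wm w *ᵥ c) with hy
    have hr : y - Wm w *ᵥ (Ws q w' *ᵥ y) = 0 := by
      apply hform_nondeg hF
      intro x
      set r := y - Wm w *ᵥ (Ws q w' *ᵥ y) with hrdef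
      have hr' : ∀ j, hform ι F q r (w' j) = 0 := hperp_part y
      have hr'' : ∀ j, hform ι F q r (w j) = 0 := hperp r hr'
      set xp := x - Wm w *ᵥ (Ws q w' *ᵥ x) with hxp
      have hx : x = xp + Wm w *ᵥ (Ws q w' *ᵥ x) := by rw [hxp]; abel
      have hxp' : ∀ j, hform ι F q xp (w' j) = 0 := hperp_part x
      have hxp'' : ∀ j, hform ι F q xp (w j) = 0 := hperp xp hxp'
      rw [hx, hform_add_right hF]
      have h1 : hform ι F q r (Wm w *ᵥ (Ws q w' *ᵥ x)) = 0 := by
        rw [hform_right_Wm hF]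
        have : Ws q w *ᵥ r = 0 := by
          funext j
          rw [Ws_mulVec, hr'' j, Pi.zero_apply]
        rw [this, hform_zero_left]
      have h2 : hform ι F q r xp = 0 := by
        rw [hrdef, hform_sub_left, hWperp _ xp hxp'', sub_zero, hy]
        have := hM (Wm w *ᵥ c) xp
        rw [hfix xp hxp'] at this
        rw [this]
        exact hWperp _ xp hxp''
      rw [h1, h2, add_zero]
    exact (sub_eq_zero.mp hr).symm
  have hdec : M = Ew q w w' (Ws q w' * M * Wm w) := by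
    apply mat_ext_mulVec
    intro x
    rw [Ew_mulVec, ← Matrix.mulVec_mulVec, ← Matrix.mulVec_mulVec, Matrix.mulVec_sub, hinv]
    set xp := x - Wm w *ᵥ (Ws q w' *ᵥ x) with hxp
    have hx : x = xp + Wm w *ᵥ (Ws q w' *ᵥ x) := by rw [hxp]; abel
    have hxp' : ∀ j, hform ι F q xp (w' j) = 0 := hperp_part x
    conv_lhs => rw [hx]
    rw [Matrix.mulVec_add, hfix xp hxp']
    rw [hxp]
    abel
  refine ⟨Ws q w' * M * Wm w, ?_, hdec, ?_⟩
  · conv_rhs => rw [hdec]
    rw [Ew_det w w' hw]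
  · intro a b
    rw [← Matrix.mulVec_mulVec, ← Matrix.mulVec_mulVec, ← Matrix.mulVec_mulVec,
      ← Matrix.mulVec_mulVec, hinv, hinv]
    exact hM _ _

end sugen2

end Cfsg.Agent.Lib.Helper51
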