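import Mathlib
import Cfsg.Agent.Lib.Helper51.SUGen2
set_option autoImplicit false
set_option linter.unusedSectionVars false
set_option linter.unusedVariables false

/-! Isometries of determinant one supported on a hyperbolic plane are products of transvections;
`SU_2` is generated by transvections. -/

namespace Cfsg.Agent.Lib.Helper51

open Matrix Cfsg.Agent.Lib.Helper08

section sugen3
variable {F : Type*} [Field F] [Fintype F] {q : ℕ} {ι : Type} [Fintype ι] [DecidableEq ι]

theorem hyp_isDual (hF : Fintype.card F = q ^ 2) (u v : ι → F) (huu : hform ι F q u u = 0)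
    (hvv : hform ι F q v v = 0) (huv : hform ι F q u v = 1) :
    IsDual q (![u, v] : Fin 2 → ι → F) ![v, u] := by
  have hvu : hform ι F q v u = 1 := by rw [← hform_conj hF, huv, one_pow]
  intro j l
  fin_cases j <;> fin_cases l <;> simp [huu, hvv, huv, hvu]

theorem Ew_X (hF : Fintype.card F = q ^ 2) (u v : ι → F) (p : F) :
    Ew q (![u, v] : Fin 2 → ι → F) ![v, u] !![1, p; 0, 1] = qrefl q u p := by
  apply mat_ext_mulVec
  intro x
  rw [Ew_mulVec, qrefl_mulVec, Wm_mulVec]
  congr 1
  rw [Fin.sum_univ_two]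
  simp only [Pi.sub_apply, Matrix.mulVec, dotProduct, Fin.sum_univ_two, Matrix.of_apply,
    Matrix.cons_val_zero, Matrix.cons_val_one, Matrix.cons_val', Matrix.empty_val',
    Matrix.cons_val_fin_one]
  have h0 : ∀ j, (Ws q (![v, u] : Fin 2 → ι → F) *ᵥ x) j = hform ι F q x ((![v, u] : Fin 2 → ι → F) j) :=
    fun j => Ws_mulVec _ x j
  have e0 := h0 0
  have e1 := h0 1
  simp only [Matrix.mulVec, dotProduct, Matrix.cons_val_zero, Matrix.cons_val_one] at e0 e1
  rw [e0, e1]
  funext i
  simp only [Pi.add_apply, Pi.smul_apply, smul_eq_mul]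
  ring

theorem Ew_Y (hF : Fintype.card F = q ^ 2) (u v : ι → F) (r : F) :
    Ew q (![u, v] : Fin 2 → ι → F) ![v, u] !![1, 0; r, 1] = qrefl q v r := by
  apply mat_ext_mulVec
  intro x
  rw [Ew_mulVec, qrefl_mulVec, Wm_mulVec]
  congr 1
  rw [Fin.sum_univ_two]
  simp only [Pi.sub_apply, Matrix.mulVec, dotProduct, Fin.sum_univ_two, Matrix.of_apply,
    Matrix.cons_val_zero, Matrix.cons_val_one, Matrix.cons_val', Matrix.empty_val',
    Matrix.cons_val_fin_one]
  have h0 : ∀ j, (Ws q (![v, u] : Fin 2 → ι → F) *ᵥ x) j = hform ι F q x ((![v, u] : Fin 2 → ι → F) j) :=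
    fun j => Ws_mulVec _ x j
  have e0 := h0 0
  have e1 := h0 1
  simp only [Matrix.mulVec, dotProduct, Matrix.cons_val_zero, Matrix.cons_val_one] at e0 e1
  rw [e0, e1]
  funext i
  simp only [Pi.add_apply, Pi.smul_apply, smul_eq_mul]
  ring

/-- the case of nonzero lower-left entry: three transvections -/
theorem Ew_sl2_mem_of_ne (hF : Fintype.card F = q ^ 2) (u v : ι → F) (huu : hform ι F q u u = 0)
    (hvv : hform ι F q v v = 0) (huv : hform ι F q u v = 1) (A B C D : F)
    (hA : A ^ q = A) (hD : D ^ q = D) (hC : C + C ^ q = 0)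
    (hdet : A * D - B * C = 1) (hC0 : C ≠ 0) :
    Ew q (![u, v] : Fin 2 → ι → F) ![v, u] !![A, B; C, D] ∈ TT ι F q := by
  have hdual := hyp_isDual hF u v huu hvv huv
  have hfac : (!![A, B; C, D] : Matrix (Fin 2) (Fin 2) F) =
      !![1, (A - 1) / C; 0, 1] * !![1, 0; C, 1] * !![1, (D - 1) / C; 0, 1] := by
    ext i j
    fin_cases i <;> fin_cases j
    · simp [Matrix.mul_apply, Fin.sum_univ_two]
      field_simp
      ring
    · simp [Matrix.mul_apply, Fin.sum_univ_two]
      field_simp
      linear_combination (-1 : F) * hdet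
    · simp [Matrix.mul_apply, Fin.sum_univ_two]
    · simp [Matrix.mul_apply, Fin.sum_univ_two]
      field_simp
      ring
  rw [hfac, Ew_mul _ _ hdual, Ew_mul _ _ hdual, Ew_X hF, Ew_Y hF, Ew_X hF]
  have hCi := skew_inv C hC
  have h1 : ((A - 1) / C) + ((A - 1) / C) ^ q = 0 := by
    rw [div_eq_mul_inv]
    apply skew_mul_fix _ _ _ hCi
    rw [sub_pow_q hF, hA, one_pow]
  have h2 : ((D - 1) / C) + ((D - 1) / C) ^ q = 0 := by
    rw [div_eq_mul_inv]
    apply skew_mul_fix _ _ _ hCi
    rw [sub_pow_q hF, hD, one_pow]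
  exact Submonoid.mul_mem _ (Submonoid.mul_mem _ (qrefl_mem_TT u huu _ h1)
    (qrefl_mem_TT v hvv _ hC)) (qrefl_mem_TT u huu _ h2)

theorem Ew_sl2_mem (hF : Fintype.card F = q ^ 2) (u v : ι → F) (huu : hform ι F q u u = 0)
    (hvv : hform ι F q v v = 0) (huv : hform ι F q u v = 1) (A B C D : F)
    (hA : A ^ q = A) (hD : D ^ q = D) (hB : B + B ^ q = 0) (hC : C + C ^ q = 0)
    (hdet : A * D - B * C = 1) :
    Ew q (![u, v] : Fin 2 → ι → F) ![v, u] !![A, B; C, D] ∈ TT ι F q := by
  have hdual := hyp_isDual hF u v huu hvv huv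
  by_cases hC0 : C = 0
  · obtain ⟨s, hs0, hs⟩ := exists_skew_ne_zero hF
    have hA0 : A ≠ 0 := by
      rintro rfl
      rw [hC0] at hdet
      simp at hdet
    have hY : qrefl q v s ∈ TT ι F q := qrefl_mem_TT v hvv s hs
    apply TT_of_mul_mem hF hY
    rw [← Ew_Y hF u v s, ← Ew_mul _ _ hdual]
    have hmul : (!![1, 0; s, 1] : Matrix (Fin 2) (Fin 2) F) * !![A, B; C, D] =
        !![A, B; s * A + C, s * B + D] := by
      ext i j
      fin_cases i <;> fin_cases j <;> simp [Matrix.mul_apply, Fin.sum_univ_two]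
    rw [hmul]
    apply Ew_sl2_mem_of_ne hF u v huu hvv huv _ _ _ _ hA
    · rw [add_pow_q' hF, hD, fix_of_skew_mul_skew s B hs hB]
    · rw [hC0, add_zero, mul_comm]
      exact skew_mul_fix A s hA hs
    · linear_combination hdet
    · rw [hC0, add_zero]
      exact mul_ne_zero hs0 hA0
  · exact Ew_sl2_mem_of_ne hF u v huu hvv huv A B C D hA hD hC hdet hC0

/-- an isometry of determinant one which fixes the orthogonal complement of a hyperbolic plane
pointwise is a product of transvections -/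
theorem TT_of_hyp_pair (hF : Fintype.card F = q ^ 2) (u v : ι → F) (huu : hform ι F q u u = 0)
    (hvv : hform ι F q v v = 0) (huv : hform ι F q u v = 1) (M : Matrix ι ι F)
    (hM : IsIsoMat q M) (hdet : M.det = 1)
    (hfix : ∀ x : ι → F, hform ι F q x u = 0 → hform ι F q x v = 0 → M *ᵥ x = x) :
    M ∈ TT ι F q := by
  have hq0 := q_ne_zero' hF
  have hvu : hform ι F q v u = 1 := by rw [← hform_conj hF, huv, one_pow]
  have hdual := hyp_isDual hF u v huu hvv huv
  obtain ⟨M', hdet', hdec, hpres⟩ := exists_Ew_decomp hF (![u, v] : Fin 2 → ι → F) ![v, u] hdual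
    (by
      intro x hx j
      fin_cases j
      · exact hx 1
      · exact hx 0) M hM
    (by
      intro x hx
      exact hfix x (hx 1) (hx 0))
  -- the form on the span in coordinates
  have hWform : ∀ a b : Fin 2 → F, hform ι F q (Wm (![u, v] : Fin 2 → ι → F) *ᵥ a)
      (Wm (![u, v] : Fin 2 → ι → F) *ᵥ b) = a 0 * (b 1) ^ q + a 1 * (b 0) ^ q := by
    intro a b
    rw [Wm_mulVec, Wm_mulVec, Fin.sum_univ_two, Fin.sum_univ_two]
    simp only [Matrix.cons_val_zero, Matrix.cons_val_one]
    rw [hform_add_left, hform_add_right hF, hform_add_right hF, hform_smul_left, hform_smul_left,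
      hform_smul_right, hform_smul_right, hform_smul_left, hform_smul_left, hform_smul_right,
      hform_smul_right, huu, hvv, huv, hvu]
    ring
  -- entries
  set A := M' 0 0 with hAdef
  set B := M' 0 1 with hBdef
  set C := M' 1 0 with hCdef
  set D := M' 1 1 with hDdef
  have hM'eq : M' = !![A, B; C, D] := by
    ext i j
    fin_cases i <;> fin_cases j <;> rfl
  have hcol0 : M' *ᵥ (![1, 0] : Fin 2 → F) = ![A, C] := by
    funext i
    fin_cases i <;> simp [Matrix.mulVec, dotProduct, Fin.sum_univ_two, hAdef, hCdef]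
  have hcol1 : M' *ᵥ (![0, 1] : Fin 2 → F) = ![B, D] := by
    funext i
    fin_cases i <;> simp [Matrix.mulVec, dotProduct, Fin.sum_univ_two, hBdef, hDdef]
  have E0 : A * C ^ q + C * A ^ q = 0 := by
    have := hpres ![1, 0] ![1, 0]
    rw [hWform, hWform, hcol0] at this
    simpa [zero_pow hq0] using this
  have E3 : B * D ^ q + D * B ^ q = 0 := by
    have := hpres ![0, 1] ![0, 1]
    rw [hWform, hWform, hcol1] at this
    simpa [zero_pow hq0] using this
  have E2 : A * D ^ q + C * B ^ q = 1 := by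
    have := hpres ![1, 0] ![0, 1]
    rw [hWform, hWform, hcol0, hcol1] at this
    simpa [zero_pow hq0] using this
  have E2' : B * C ^ q + D * A ^ q = 1 := by
    have := hpres ![0, 1] ![1, 0]
    rw [hWform, hWform, hcol0, hcol1] at this
    simpa [zero_pow hq0] using this
  have E1 : A * D - B * C = 1 := by
    rw [hdet] at hdet'
    rw [hM'eq, Matrix.det_fin_two_of] at hdet'
    exact hdet'
  have hDq : D ^ q = D := by
    linear_combination (-(D ^ q)) * E1 + D * E2 - C * E3
  have hAq : A ^ q = A := by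
    linear_combination (-(A ^ q)) * E1 + A * E2' - B * E0
  have hBq : B + B ^ q = 0 := by
    linear_combination (-B) * E2 + A * E3 - (B ^ q) * E1
  have hCq : C + C ^ q = 0 := by
    linear_combination D * E0 - C * E2' - (C ^ q) * E1
  rw [hdec, hM'eq]
  exact Ew_sl2_mem hF u v huu hvv huv A B C D hAq hDq hBq hCq E1

theorem exists_nm_neg_one (hF : Fintype.card F = q ^ 2) : ∃ ε : F, ε * ε ^ q = -1 := by
  apply exists_nm_eq hF
  rw [neg_pow_q hF, one_pow]

/-- a norm-one element different from one -/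
theorem exists_nm_one_ne_one (hF : Fintype.card F = q ^ 2) :
    ∃ l : F, l * l ^ q = 1 ∧ l ≠ 1 ∧ l ^ q ≠ 1 := by
  obtain ⟨θ, hθ⟩ := Cfsg.Agent.Lib.Helper43.exists_pow_q_ne hF
  have hq0 := q_ne_zero' hF
  have hθ0 : θ ≠ 0 := by
    rintro rfl
    exact hθ (zero_pow hq0)
  have hθq0 : θ ^ q ≠ 0 := pow_ne_zero _ hθ0
  have h1 : (θ ^ q / θ) ≠ 1 := by
    intro h
    rw [div_eq_one_iff_eq hθ0] at h
    exact hθ h
  refine ⟨θ ^ q / θ, ?_, h1, ?_⟩
  · rw [div_pow, pow_q_pow_q' hF]
    field_simp
  · intro h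
    apply h1
    have := congrArg (fun z => z ^ q) h
    simp only [one_pow] at this
    rw [pow_q_pow_q' hF] at this
    exact this

/-- `SU_2` is generated by transvections -/
theorem SU2_le_TT (hF : Fintype.card F = q ^ 2) (M : Matrix (Fin 2) (Fin 2) F)
    (hM : IsIsoMat q M) (hdet : M.det = 1) : M ∈ TT (Fin 2) F q := by
  have hq0 := q_ne_zero' hF
  obtain ⟨ε, hε⟩ := exists_nm_neg_one hF
  obtain ⟨l, hl, hl1, hlq⟩ := exists_nm_one_ne_one hF
  have hε0 : ε ≠ 0 := by
    rintro rfl
    rw [zero_mul] at hε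
    exact one_ne_zero (neg_eq_zero.mp hε.symm)
  set u : Fin 2 → F := ![1, ε] with hu
  set u' : Fin 2 → F := ![1, ε * l] with hu'
  have hf : ∀ x y : Fin 2 → F, hform (Fin 2) F q x y = x 0 * (y 0) ^ q + x 1 * (y 1) ^ q := by
    intro x y
    unfold hform
    rw [Fin.sum_univ_two]
  have huu : hform (Fin 2) F q u u = 0 := by
    rw [hf, hu]
    simp only [Matrix.cons_val_zero, Matrix.cons_val_one, one_pow, one_mul]
    rw [hε]; ring
  have hu'u' : hform (Fin 2) F q u' u' = 0 := by
    rw [hf, hu']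
    simp only [Matrix.cons_val_zero, Matrix.cons_val_one, one_pow, one_mul]
    rw [mul_pow]
    linear_combination (l * l ^ q) * hε - hl
  set κ := hform (Fin 2) F q u u' with hκ
  have hκv : κ = 1 - l ^ q := by
    rw [hκ, hf, hu, hu']
    simp only [Matrix.cons_val_zero, Matrix.cons_val_one, one_pow, one_mul]
    rw [mul_pow]
    linear_combination (l ^ q) * hε
  have hκ0 : κ ≠ 0 := by
    rw [hκv]
    intro h
    apply hlq
    linear_combination -h
  have hκq0 : κ ^ q ≠ 0 := pow_ne_zero _ hκ0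
  set v : Fin 2 → F := (κ ^ q)⁻¹ • u' with hv
  have hvv : hform (Fin 2) F q v v = 0 := by
    rw [hv, hform_smul_left, hform_smul_right, hu'u']
    ring
  have huv : hform (Fin 2) F q u v = 1 := by
    rw [hv, hform_smul_right, ← hκ, inv_pow, pow_q_pow_q' hF]
    exact inv_mul_cancel₀ hκ0
  apply TT_of_hyp_pair hF u v huu hvv huv M hM hdet
  intro x hxu hxv
  have hxu' : hform (Fin 2) F q x u' = 0 := by
    rw [hv, hform_smul_right] at hxv
    rcases mul_eq_zero.mp hxv with h | h
    · exact absurd h (pow_ne_zero _ (inv_ne_zero hκq0))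
    · exact h
  rw [hf, hu] at hxu
  rw [hf, hu'] at hxu'
  simp only [Matrix.cons_val_zero, Matrix.cons_val_one, one_pow, mul_one] at hxu hxu'
  rw [mul_pow] at hxu'
  have h1 : x 1 * (ε ^ q * κ) = 0 := by
    rw [hκv]
    linear_combination hxu - hxu'
  have hx1 : x 1 = 0 := by
    rcases mul_eq_zero.mp h1 with h | h
    · exact h
    · exact absurd h (mul_ne_zero (pow_ne_zero _ hε0) hκ0)
  have hx0 : x 0 = 0 := by
    rw [hx1] at hxu
    linear_combination hxu
  have : x = 0 := by
    funext i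
    fin_cases i
    · exact hx0
    · exact hx1
  rw [this, Matrix.mulVec_zero]

end sugen3

end Cfsg.Agent.Lib.Helper51
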