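import Mathlib
import Cfsg.Agent.Lib.Helper51.SUGen3
import Cfsg.Agent.Lib.Helper99.HermCount
set_option autoImplicit false
set_option linter.unusedSectionVars false
set_option linter.unusedVariables false
set_option linter.unusedSimpArgs false

/-! The transvection monoid is transitive on vectors of norm one (dimension at least three). -/

namespace Cfsg.Agent.Lib.Helper51

open Matrix Cfsg.Agent.Lib.Helper08

section sugen4
variable {F : Type*} [Field F] [Fintype F] {q : ℕ} {ι : Type} [Fintype ι] [DecidableEq ι]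

theorem hform_fin_two (x y : Fin 2 → F) :
    hform (Fin 2) F q x y = x 0 * (y 0) ^ q + x 1 * (y 1) ^ q := by
  unfold hform
  rw [Fin.sum_univ_two]

/-- the rotation matrix of `SU_2` -/
theorem rot_iso (hF : Fintype.card F = q ^ 2) (α β : F) (h : α * α ^ q + β * β ^ q = 1) :
    IsIsoMat q (!![α, -(β ^ q); β, α ^ q] : Matrix (Fin 2) (Fin 2) F) := by
  intro x y
  rw [hform_fin_two, hform_fin_two]
  simp only [Matrix.mulVec, dotProduct, Fin.sum_univ_two, Matrix.of_apply, Matrix.cons_val_zero,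
    Matrix.cons_val_one, Matrix.cons_val', Matrix.empty_val', Matrix.cons_val_fin_one]
  rw [add_pow_q' hF, add_pow_q' hF, mul_pow, mul_pow, mul_pow, mul_pow, neg_pow_q hF,
    pow_q_pow_q' hF, pow_q_pow_q' hF]
  linear_combination (x 0 * (y 0) ^ q + x 1 * (y 1) ^ q) * h

/-- moving inside the plane spanned by an orthonormal pair -/
theorem TRel_plane (hF : Fintype.card F = q ^ 2) (a b : ι → F) (haa : hform ι F q a a = 1)
    (hbb : hform ι F q b b = 1) (hab : hform ι F q a b = 0) (α β : F)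
    (h : α * α ^ q + β * β ^ q = 1) : TRel q a (α • a + β • b) := by
  have hq0 := q_ne_zero' hF
  have hba : hform ι F q b a = 0 := by rw [← hform_conj hF, hab, zero_pow hq0]
  have hdual : IsDual q (![a, b] : Fin 2 → ι → F) ![a, b] := by
    intro j l
    fin_cases j <;> fin_cases l <;> simp [haa, hbb, hab, hba]
  have hR : (!![α, -(β ^ q); β, α ^ q] : Matrix (Fin 2) (Fin 2) F) ∈ TT (Fin 2) F q := by
    apply SU2_le_TT hF _ (rot_iso hF α β h)
    rw [Matrix.det_fin_two_of]
    linear_combination h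
  refine ⟨_, Ew_mem_TT hF _ hdual hR, ?_⟩
  rw [Ew_mulVec]
  have hS : Ws q (![a, b] : Fin 2 → ι → F) *ᵥ a = ![1, 0] := by
    funext j
    rw [Ws_mulVec]
    fin_cases j <;> simp [haa, hab]
  rw [hS, Wm_mulVec, Fin.sum_univ_two]
  simp only [Pi.sub_apply, Matrix.mulVec, dotProduct, Fin.sum_univ_two, Matrix.of_apply,
    Matrix.cons_val_zero, Matrix.cons_val_one, Matrix.cons_val', Matrix.empty_val',
    Matrix.cons_val_fin_one]
  funext i
  simp only [Pi.add_apply, Pi.smul_apply, smul_eq_mul]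
  ring

theorem hform_single_left' (hF : Fintype.card F = q ^ 2) (x : ι → F) (i : ι) :
    hform ι F q (Pi.single i 1) x = (x i) ^ q := by
  rw [← hform_conj hF, hform_single_right hF]

theorem nm_pow_q (hF : Fintype.card F = q ^ 2) (x : F) : x ^ q * (x ^ q) ^ q = x * x ^ q := by
  rw [pow_q_pow_q' hF]; ring

/-- combination of two basis vectors as middle vector -/
theorem exists_mid_two (hF : Fintype.card F = q ^ 2) (i j i0 : ι) (hij : i ≠ j) (hi : i ≠ i0)
    (hj : j ≠ i0) (y : ι → F) (hyi : y i * (y i) ^ q = 1) (hyj : y j * (y j) ^ q = 1)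
    (x₁ x₂ : F) (hN : x₁ * x₁ ^ q + x₂ * x₂ ^ q = 1)
    (hne : (x₁ + x₂) * (x₁ + x₂) ^ q ≠ 1) :
    ∃ z : ι → F, z i0 = 0 ∧ hform ι F q z z = 1 ∧
      hform ι F q z y * (hform ι F q z y) ^ q ≠ 1 := by
  have hq0 := q_ne_zero' hF
  have hyi0 : (y i) ^ q ≠ 0 := by
    intro h
    rw [h, mul_zero] at hyi
    exact zero_ne_one hyi
  have hyj0 : (y j) ^ q ≠ 0 := by
    intro h
    rw [h, mul_zero] at hyj
    exact zero_ne_one hyj
  set c₁ := x₁ / (y i) ^ q with hc₁
  set c₂ := x₂ / (y j) ^ q with hc₂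
  have hc₁y : c₁ * (y i) ^ q = x₁ := by rw [hc₁]; field_simp
  have hc₂y : c₂ * (y j) ^ q = x₂ := by rw [hc₂]; field_simp
  have hNc₁ : c₁ * c₁ ^ q = x₁ * x₁ ^ q := by
    have h1 : x₁ * x₁ ^ q = (c₁ * c₁ ^ q) * ((y i) ^ q * ((y i) ^ q) ^ q) := by
      rw [← hc₁y, mul_pow]; ring
    rw [h1, nm_pow_q hF, hyi, mul_one]
  have hNc₂ : c₂ * c₂ ^ q = x₂ * x₂ ^ q := by
    have h1 : x₂ * x₂ ^ q = (c₂ * c₂ ^ q) * ((y j) ^ q * ((y j) ^ q) ^ q) := by
      rw [← hc₂y, mul_pow]; ring
    rw [h1, nm_pow_q hF, hyj, mul_one]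
  set z : ι → F := c₁ • Pi.single i 1 + c₂ • Pi.single j 1 with hz
  have hzi : z i = c₁ := by
    rw [hz]
    simp [Pi.single_apply, hij]
  have hzj : z j = c₂ := by
    rw [hz]
    simp [Pi.single_apply, hij.symm]
  refine ⟨z, ?_, ?_, ?_⟩
  · rw [hz]
    simp [Pi.single_apply, hi.symm, hj.symm]
  · have : hform ι F q z z = c₁ ^ q * z i + c₂ ^ q * z j := by
      conv_lhs => rw [hz]
      rw [hform_add_right hF, hform_smul_right, hform_smul_right, hform_single_right hF,
        hform_single_right hF]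
    rw [this, hzi, hzj]
    linear_combination hNc₁ + hNc₂ + hN
  · have : hform ι F q z y = x₁ + x₂ := by
      rw [hz, hform_add_left, hform_smul_left, hform_smul_left, hform_single_left' hF,
        hform_single_left' hF, hc₁y, hc₂y]
    rw [this]
    exact hne

/-- combination of three basis vectors as middle vector -/
theorem exists_mid_three (hF : Fintype.card F = q ^ 2) (i j k i0 : ι) (hij : i ≠ j) (hik : i ≠ k)
    (hjk : j ≠ k) (hi : i ≠ i0) (hj : j ≠ i0) (hk : k ≠ i0) (y : ι → F)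
    (hyi : y i * (y i) ^ q = 1) (hyj : y j * (y j) ^ q = 1) (hyk : y k * (y k) ^ q = 1)
    (x₁ x₂ x₃ : F) (hN : x₁ * x₁ ^ q + x₂ * x₂ ^ q + x₃ * x₃ ^ q = 1)
    (hne : (x₁ + x₂ + x₃) * (x₁ + x₂ + x₃) ^ q ≠ 1) :
    ∃ z : ι → F, z i0 = 0 ∧ hform ι F q z z = 1 ∧
      hform ι F q z y * (hform ι F q z y) ^ q ≠ 1 := by
  have hq0 := q_ne_zero' hF
  have hyi0 : (y i) ^ q ≠ 0 := by
    intro h
    rw [h, mul_zero] at hyi
    exact zero_ne_one hyi
  have hyj0 : (y j) ^ q ≠ 0 := by
    intro h
    rw [h, mul_zero] at hyj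
    exact zero_ne_one hyj
  have hyk0 : (y k) ^ q ≠ 0 := by
    intro h
    rw [h, mul_zero] at hyk
    exact zero_ne_one hyk
  set c₁ := x₁ / (y i) ^ q with hc₁
  set c₂ := x₂ / (y j) ^ q with hc₂
  set c₃ := x₃ / (y k) ^ q with hc₃
  have hc₁y : c₁ * (y i) ^ q = x₁ := by rw [hc₁]; field_simp
  have hc₂y : c₂ * (y j) ^ q = x₂ := by rw [hc₂]; field_simp
  have hc₃y : c₃ * (y k) ^ q = x₃ := by rw [hc₃]; field_simp
  have hNc₁ : c₁ * c₁ ^ q = x₁ * x₁ ^ q := by
    have h1 : x₁ * x₁ ^ q = (c₁ * c₁ ^ q) * ((y i) ^ q * ((y i) ^ q) ^ q) := by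
      rw [← hc₁y, mul_pow]; ring
    rw [h1, nm_pow_q hF, hyi, mul_one]
  have hNc₂ : c₂ * c₂ ^ q = x₂ * x₂ ^ q := by
    have h1 : x₂ * x₂ ^ q = (c₂ * c₂ ^ q) * ((y j) ^ q * ((y j) ^ q) ^ q) := by
      rw [← hc₂y, mul_pow]; ring
    rw [h1, nm_pow_q hF, hyj, mul_one]
  have hNc₃ : c₃ * c₃ ^ q = x₃ * x₃ ^ q := by
    have h1 : x₃ * x₃ ^ q = (c₃ * c₃ ^ q) * ((y k) ^ q * ((y k) ^ q) ^ q) := by
      rw [← hc₃y, mul_pow]; ring
    rw [h1, nm_pow_q hF, hyk, mul_one]
  set z : ι → F := c₁ • Pi.single i 1 + c₂ • Pi.single j 1 + c₃ • Pi.single k 1 with hz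
  have hzi : z i = c₁ := by
    rw [hz]
    simp [Pi.single_apply, hij, hik]
  have hzj : z j = c₂ := by
    rw [hz]
    simp [Pi.single_apply, hij.symm, hjk]
  have hzk : z k = c₃ := by
    rw [hz]
    simp [Pi.single_apply, hik.symm, hjk.symm]
  refine ⟨z, ?_, ?_, ?_⟩
  · rw [hz]
    simp [Pi.single_apply, hi.symm, hj.symm, hk.symm]
  · have : hform ι F q z z = c₁ ^ q * z i + c₂ ^ q * z j + c₃ ^ q * z k := by
      conv_lhs => rw [hz]
      rw [hform_add_right hF, hform_add_right hF, hform_smul_right, hform_smul_right,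
        hform_smul_right, hform_single_right hF, hform_single_right hF, hform_single_right hF]
    rw [this, hzi, hzj, hzk]
    linear_combination hNc₁ + hNc₂ + hNc₃ + hN
  · have : hform ι F q z y = x₁ + x₂ + x₃ := by
      rw [hz, hform_add_left, hform_add_left, hform_smul_left, hform_smul_left, hform_smul_left,
        hform_single_left' hF, hform_single_left' hF, hform_single_left' hF, hc₁y, hc₂y, hc₃y]
    rw [this]
    exact hne

/-- a fixed-field element different from `0` and `1`, for `q ≥ 3` -/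
theorem exists_fix_ne (hF : Fintype.card F = q ^ 2) (hq : 3 ≤ q) :
    ∃ a : F, a ^ q = a ∧ a ≠ 0 ∧ a ≠ 1 := by
  classical
  have hcard := (Cfsg.Agent.Lib.Helper99.card_fixNZ_and_normFib hF).1
  have h2 : 1 < (Cfsg.Agent.Lib.Helper99.fixNZ F q).card := by rw [hcard]; omega
  obtain ⟨a, ha, b, hb, hab⟩ := Finset.one_lt_card.mp h2
  rw [Cfsg.Agent.Lib.Helper99.mem_fixNZ] at ha hb
  by_cases h1 : a = 1
  · refine ⟨b, hb.2, hb.1, ?_⟩
    rintro rfl
    exact hab h1
  · exact ⟨a, ha.2, ha.1, h1⟩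

theorem two_pow_q (hF : Fintype.card F = q ^ 2) : (2 : F) ^ q = 2 := by
  have : (2 : F) = 1 + 1 := by norm_num
  rw [this, add_pow_q' hF, one_pow]

/-- the middle vector: orthogonal to `e_{i0}`, norm one, spanning a nondegenerate plane
with `y` -/
theorem exists_mid (hF : Fintype.card F = q ^ 2) {n : ℕ} (hn : 3 ≤ n) (h32 : ¬ (n = 3 ∧ q = 2))
    (i0 : Fin n) (y : Fin n → F) :
    ∃ z : Fin n → F, z i0 = 0 ∧ hform (Fin n) F q z z = 1 ∧
      hform (Fin n) F q z y * (hform (Fin n) F q z y) ^ q ≠ 1 := by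
  classical
  have hq0 := q_ne_zero' hF
  have hq1 := one_lt_q' hF
  by_cases hA : ∃ i, i ≠ i0 ∧ y i * (y i) ^ q ≠ 1
  · obtain ⟨i, hi, hyi⟩ := hA
    refine ⟨Pi.single i 1, ?_, ?_, ?_⟩
    · simp [Pi.single_apply, hi.symm]
    · rw [hform_single_right hF]
      simp
    · rw [hform_single_left' hF, pow_q_pow_q' hF, mul_comm]
      exact hyi
  push Not at hA
  have hcard : (Finset.univ.erase i0 : Finset (Fin n)).card = n - 1 := by
    rw [Finset.card_erase_of_mem (Finset.mem_univ _), Finset.card_univ, Fintype.card_fin]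
  obtain ⟨l, hl, hl1, hlq⟩ := exists_nm_one_ne_one hF
  by_cases h2 : (2 : F) = 0
  · by_cases hq2 : q = 2
    · -- three indices
      have hn4 : 4 ≤ n := by
        by_contra h
        exact h32 ⟨by omega, hq2⟩
      have h3 : 2 < (Finset.univ.erase i0 : Finset (Fin n)).card := by rw [hcard]; omega
      obtain ⟨i, j, k, hi, hj, hk, hij, hik, hjk⟩ := Finset.two_lt_card_iff.mp h3
      have hi' := (Finset.mem_erase.mp hi).1
      have hj' := (Finset.mem_erase.mp hj).1
      have hk' := (Finset.mem_erase.mp hk).1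
      subst hq2
      have hl3 : l ^ 3 = 1 := by linear_combination hl
      have hl2 : 1 + l + l ^ 2 = 0 := by
        have : (l - 1) * (1 + l + l ^ 2) = 0 := by linear_combination hl3
        rcases mul_eq_zero.mp this with h | h
        · exact absurd (sub_eq_zero.mp h) hl1
        · exact h
      apply exists_mid_three hF i j k i0 hij hik hjk hi' hj' hk' y (hA i hi') (hA j hj')
        (hA k hk') 1 l (l ^ 2)
      · linear_combination (l ^ 3 + 2) * hl3 + h2
      · rw [hl2]
        simp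
    · -- two indices, `q ≥ 3`
      have hq3 : 3 ≤ q := by omega
      obtain ⟨a, haq, ha0, ha1⟩ := exists_fix_ne hF hq3
      have h3 : 1 < (Finset.univ.erase i0 : Finset (Fin n)).card := by rw [hcard]; omega
      obtain ⟨i, hi, j, hj, hij⟩ := Finset.one_lt_card.mp h3
      have hi' := (Finset.mem_erase.mp hi).1
      have hj' := (Finset.mem_erase.mp hj).1
      have h1aq : (1 + a) ^ q = 1 + a := by rw [add_pow_q' hF, one_pow, haq]
      apply exists_mid_two hF i j i0 hij hi' hj' y (hA i hi') (hA j hj') (a * l) (1 + a)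
      · rw [mul_pow, haq, h1aq]
        linear_combination (a * a) * hl + (a + a * a) * h2
      · rw [add_pow_q' hF, mul_pow, haq, h1aq]
        intro h
        have h4 : a * (1 + a) * (l + l ^ q) = 0 := by
          linear_combination h - (a * a) * hl - (a + a * a) * h2
        have h1a : 1 + a ≠ 0 := by
          intro h5
          apply ha1
          linear_combination h5 - h2
        rcases mul_eq_zero.mp h4 with h5 | h5
        · rcases mul_eq_zero.mp h5 with h6 | h6
          · exact ha0 h6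
          · exact h1a h6
        · -- `l ^ q = l` in characteristic two, so `l ^ 2 = 1`
          have h6 : l ^ q = l := by linear_combination h5 - l * h2
          rw [h6] at hl
          have h7 : (l - 1) * (l - 1) = 0 := by linear_combination hl - l * h2 + h2
          rcases mul_eq_zero.mp h7 with h8 | h8 <;> exact hl1 (sub_eq_zero.mp h8)
  · -- odd characteristic
    have h3 : 1 < (Finset.univ.erase i0 : Finset (Fin n)).card := by rw [hcard]; omega
    obtain ⟨i, hi, j, hj, hij⟩ := Finset.one_lt_card.mp h3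
    have hi' := (Finset.mem_erase.mp hi).1
    have hj' := (Finset.mem_erase.mp hj).1
    obtain ⟨x, hx⟩ := exists_nm_eq hF ((2 : F)⁻¹) (by rw [inv_pow, two_pow_q hF])
    apply exists_mid_two hF i j i0 hij hi' hj' y (hA i hi') (hA j hj') x x
    · rw [hx]
      field_simp
      norm_num
    · rw [add_pow_q' hF]
      intro h
      have h4 : (4 : F) * (x * x ^ q) = 1 := by linear_combination h
      rw [hx] at h4
      have h5 : (2 : F) = 1 := by
        have : (4 : F) * (2 : F)⁻¹ = 2 := by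
          field_simp
          norm_num
        rw [this] at h4
        exact h4
      have : (1 : F) = 0 := by linear_combination h5
      exact one_ne_zero this

/-- the transvection monoid is transitive on vectors of norm one -/
theorem TRel_norm_one (hF : Fintype.card F = q ^ 2) {n : ℕ} (hn : 3 ≤ n)
    (h32 : ¬ (n = 3 ∧ q = 2)) (i0 : Fin n) (y : Fin n → F) (hy : hform (Fin n) F q y y = 1) :
    TRel q (Pi.single i0 1 : Fin n → F) y := by
  have hq0 := q_ne_zero' hF
  obtain ⟨z, hz0, hzz, hzy⟩ := exists_mid hF hn h32 i0 y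
  -- first step: from `e` to `z`
  have hee : hform (Fin n) F q (Pi.single i0 1 : Fin n → F) (Pi.single i0 1) = 1 := by
    rw [hform_single_right hF]; simp
  have hez : hform (Fin n) F q (Pi.single i0 1 : Fin n → F) z = 0 := by
    rw [hform_single_left' hF, hz0, zero_pow hq0]
  have h1 : TRel q (Pi.single i0 1 : Fin n → F) z := by
    have := TRel_plane hF (Pi.single i0 1 : Fin n → F) z hee hzz hez 0 1 (by
      rw [zero_mul, one_pow, mul_one, zero_add])
    rwa [zero_smul, one_smul, zero_add] at this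
  -- second step: from `z` to `y`
  set γ := hform (Fin n) F q y z with hγ
  have hγq : γ ^ q = hform (Fin n) F q z y := by rw [hγ, hform_conj hF]
  set y'' := y - γ • z with hy''
  have hy''z : hform (Fin n) F q y'' z = 0 := by
    rw [hy'', hform_sub_left, hform_smul_left, hzz, mul_one, ← hγ, sub_self]
  have hzy'' : hform (Fin n) F q z y'' = 0 := by
    rw [← hform_conj hF, hy''z, zero_pow hq0]
  have hyy'' : hform (Fin n) F q y'' y'' = 1 - γ * γ ^ q := by
    have e1 : hform (Fin n) F q y'' y'' = hform (Fin n) F q y y'' - γ * hform (Fin n) F q z y'' := by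
      conv_lhs => rw [hy'']
      rw [hform_sub_left, hform_smul_left]
    rw [e1, hzy'', mul_zero, sub_zero, hy'', hform_sub_right hF, hform_smul_right, hy, ← hγ]
    ring
  set ν := 1 - γ * γ ^ q with hν
  have hν0 : ν ≠ 0 := by
    intro h
    apply hzy
    rw [← hγq, pow_q_pow_q' hF]
    linear_combination -h
  have hνq : ν ^ q = ν := by
    rw [hν, sub_pow_q hF, one_pow, nm_fix hF]
  obtain ⟨μ, hμ⟩ := exists_nm_eq hF ν hνq
  have hμ0 : μ ≠ 0 := by
    rintro rfl
    rw [zero_mul] at hμ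
    exact hν0 hμ.symm
  set b := μ⁻¹ • y'' with hb
  have hbb : hform (Fin n) F q b b = 1 := by
    rw [hb, hform_smul_left, hform_smul_right, hyy'', ← hμ, inv_pow]
    have : μ ^ q ≠ 0 := pow_ne_zero _ hμ0
    field_simp
  have hzb : hform (Fin n) F q z b = 0 := by
    rw [hb, hform_smul_right, hzy'', mul_zero]
  have h2 := TRel_plane hF z b hzz hbb hzb γ μ (by rw [hμ, hν]; ring)
  have e : γ • z + μ • b = y := by
    rw [hb, smul_smul, mul_inv_cancel₀ hμ0, one_smul, hy'']
    abel
  rw [e] at h2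
  exact h1.trans h2

end sugen4

end Cfsg.Agent.Lib.Helper51
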