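import Mathlib
import Cfsg.Agent.Lib.Helper51.SUGen4
set_option autoImplicit false
set_option linter.unusedSectionVars false
set_option linter.unusedVariables false
set_option linter.unusedSimpArgs false

/-! Transitivity of the transvection monoid on isotropic vectors; Siegel elements. -/

namespace Cfsg.Agent.Lib.Helper51

open Matrix Cfsg.Agent.Lib.Helper08

section sugen5
variable {F : Type*} [Field F] [Fintype F] {q : ℕ} {n : ℕ}

/-- a vector of prescribed norm orthogonal to a non-degenerate proper subspace -/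
theorem exists_perp_norm (hF : Fintype.card F = q ^ 2) (W : Submodule F (Fin n → F)) (k : ℕ)
    (hWk : Module.finrank F W = k) (hkn : k < n)
    (hW : ∀ u ∈ W, (∀ v ∈ W, hform (Fin n) F q u v = 0) → u = 0) (ν : F) (hν : ν ^ q = ν) :
    ∃ r : Fin n → F, (∀ w ∈ W, hform (Fin n) F q w r = 0) ∧ hform (Fin n) F q r r = ν := by
  obtain ⟨b, hb⟩ := exists_onb_sub hF W k hWk hW
  set W' := LinearMap.ker (hL q W b) with hW'
  have hW'dim : Module.finrank F W' = n - k := finrank_ker_hL W b hb hkn.le
  obtain ⟨b', hb'⟩ := exists_onb_sub hF W' (n - k) hW'dim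
    (fun u hu h => ker_hL_nondeg hF W b hb u hu h)
  obtain ⟨μ, hμ⟩ := exists_nm_eq hF ν hν
  have h0 : 0 < n - k := by omega
  refine ⟨μ • ((b' ⟨0, h0⟩ : W') : Fin n → F), ?_, ?_⟩
  · intro w hw
    rw [hform_smul_right, hform_W_ker hF W b w hw _ (b' ⟨0, h0⟩).2, mul_zero]
  · rw [hform_smul_left, hform_smul_right, hb' ⟨0, h0⟩ ⟨0, h0⟩, if_pos rfl, mul_one, hμ]

/-- a vector of prescribed norm orthogonal to a hyperbolic plane -/
theorem exists_perp_pair_norm (hF : Fintype.card F = q ^ 2) (hn : 3 ≤ n) (a b : Fin n → F)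
    (ha : hform (Fin n) F q a a = 0) (hb : hform (Fin n) F q b b = 0)
    (hab : hform (Fin n) F q a b ≠ 0) (ν : F) (hν : ν ^ q = ν) :
    ∃ r : Fin n → F, hform (Fin n) F q r a = 0 ∧ hform (Fin n) F q r b = 0 ∧
      hform (Fin n) F q r r = ν := by
  have hq0 := q_ne_zero' hF
  have hba : hform (Fin n) F q b a ≠ 0 := by
    rw [← hform_conj hF]
    exact pow_ne_zero _ hab
  have hli : LinearIndependent F ![a, b] := by
    rw [LinearIndependent.pair_iff]
    intro s t hst
    have h1 : hform (Fin n) F q (s • a + t • b) b = 0 := by rw [hst, hform_zero_left]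
    have h2 : hform (Fin n) F q (s • a + t • b) a = 0 := by rw [hst, hform_zero_left]
    rw [hform_add_left, hform_smul_left, hform_smul_left, hb, mul_zero, add_zero] at h1
    rw [hform_add_left, hform_smul_left, hform_smul_left, ha, mul_zero, zero_add] at h2
    exact ⟨(mul_eq_zero.mp h1).resolve_right hab, (mul_eq_zero.mp h2).resolve_right hba⟩
  set W := Submodule.span F (Set.range ![a, b]) with hWdef
  have hWk : Module.finrank F W = 2 := by
    rw [hWdef, finrank_span_eq_card hli]
    simp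
  have haW : a ∈ W := Submodule.subset_span ⟨0, rfl⟩
  have hbW : b ∈ W := Submodule.subset_span ⟨1, rfl⟩
  have hmem : ∀ u ∈ W, ∃ s t : F, u = s • a + t • b := by
    intro u hu
    rw [hWdef, Matrix.range_cons, Matrix.range_cons, Matrix.range_empty, Set.union_empty] at hu
    have : ({a} ∪ {b} : Set (Fin n → F)) = {a, b} := by
      ext x; simp [or_comm]
    rw [this, Submodule.mem_span_pair] at hu
    obtain ⟨s, t, rfl⟩ := hu
    exact ⟨s, t, rfl⟩
  have hW : ∀ u ∈ W, (∀ v ∈ W, hform (Fin n) F q u v = 0) → u = 0 := by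
    intro u hu h
    obtain ⟨s, t, rfl⟩ := hmem u hu
    have h1 := h b hbW
    have h2 := h a haW
    rw [hform_add_left, hform_smul_left, hform_smul_left, hb, mul_zero, add_zero] at h1
    rw [hform_add_left, hform_smul_left, hform_smul_left, ha, mul_zero, zero_add] at h2
    rw [(mul_eq_zero.mp h1).resolve_right hab, (mul_eq_zero.mp h2).resolve_right hba]
    simp
  obtain ⟨r, hr, hrr⟩ := exists_perp_norm hF W 2 hWk (by omega) hW ν hν
  refine ⟨r, ?_, ?_, hrr⟩
  · rw [← hform_conj hF, hr a haW, zero_pow hq0]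
  · rw [← hform_conj hF, hr b hbW, zero_pow hq0]

/-- the transvection monoid connects non-orthogonal isotropic vectors -/
theorem TRel_isotropic_of_ne (hF : Fintype.card F = q ^ 2) (hn : 3 ≤ n) (a b : Fin n → F)
    (ha : hform (Fin n) F q a a = 0) (hb : hform (Fin n) F q b b = 0)
    (hab : hform (Fin n) F q a b ≠ 0) : TRel q a b := by
  have hq0 := q_ne_zero' hF
  obtain ⟨s, hs0, hs⟩ := exists_skew_ne_zero hF
  have hsq : s ^ q = -s := skew_pow s hs
  set β := hform (Fin n) F q a b with hβ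
  have hba : hform (Fin n) F q b a = β ^ q := by rw [hβ, hform_conj hF]
  set x := s / β with hx
  set ν := -(s * s / β + (s * s / β) ^ q) with hνdef
  have hν : ν ^ q = ν := by
    rw [hνdef, neg_pow_q hF, tr_fix hF]
  obtain ⟨r, hra, hrb, hrr⟩ := exists_perp_pair_norm hF hn a b ha hb hab ν hν
  have har : hform (Fin n) F q a r = 0 := by rw [← hform_conj hF, hra, zero_pow hq0]
  have hbr : hform (Fin n) F q b r = 0 := by rw [← hform_conj hF, hrb, zero_pow hq0]
  set z := x • a + (x ^ q) • b + r with hz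
  have hxβ : x * β = s := by rw [hx]; field_simp
  have haz : hform (Fin n) F q a z = s := by
    rw [hz, hform_add_right hF, hform_add_right hF, hform_smul_right, hform_smul_right, ha, har,
      pow_q_pow_q' hF, ← hβ, hxβ]
    ring
  have hzb : hform (Fin n) F q z b = s := by
    rw [hz, hform_add_left, hform_add_left, hform_smul_left, hform_smul_left, hb, hrb, ← hβ, hxβ]
    ring
  have hza : hform (Fin n) F q z a = -s := by
    rw [← hform_conj hF, haz, hsq]
  have hbz : hform (Fin n) F q b z = -s := by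
    rw [← hform_conj hF, hzb, hsq]
  have hzz : hform (Fin n) F q z z = 0 := by
    have e1 : hform (Fin n) F q z z = x * hform (Fin n) F q a z + x ^ q * hform (Fin n) F q b z
        + hform (Fin n) F q r z := by
      conv_lhs => rw [hz]
      rw [hform_add_left, hform_add_left, hform_smul_left, hform_smul_left]
    have e2 : hform (Fin n) F q r z = ν := by
      rw [hz, hform_add_right hF, hform_add_right hF, hform_smul_right, hform_smul_right, hra, hrb,
        hrr]
      ring
    rw [e1, e2, haz, hbz, hνdef]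
    have e3 : s * s / β = x * s := by rw [hx]; ring
    rw [e3, mul_pow, hsq]
    ring
  have h1 : TRel q a z := by
    apply TRel_of_diff_isotropic hF a z (by rw [ha, hzz])
    · rw [hform_sub_left, hform_sub_right hF, hform_sub_right hF, hzz, ha, hza, haz]
      ring
    · rw [hform_sub_right hF, haz, ha, sub_zero]
      exact hs0
  have h2 : TRel q z b := by
    apply TRel_of_diff_isotropic hF z b (by rw [hb, hzz])
    · rw [hform_sub_left, hform_sub_right hF, hform_sub_right hF, hzz, hb, hzb, hbz]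
      ring
    · rw [hform_sub_right hF, hzb, hzz, sub_zero]
      exact hs0
  exact h1.trans h2

/-- the transvection monoid is transitive on nonzero isotropic vectors -/
theorem TRel_isotropic (hF : Fintype.card F = q ^ 2) (hn : 3 ≤ n) (a b : Fin n → F)
    (ha0 : a ≠ 0) (hb0 : b ≠ 0)
    (ha : hform (Fin n) F q a a = 0) (hb : hform (Fin n) F q b b = 0) : TRel q a b := by
  by_cases hab : hform (Fin n) F q a b = 0
  · obtain ⟨z, hzz, haz, hzb⟩ := exists_isotropic_nonorth hF a b ha0 hb0 ha hab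
    exact (TRel_isotropic_of_ne hF hn a z ha hzz haz).trans
      (TRel_isotropic_of_ne hF hn z b hzz hb hzb)
  · exact TRel_isotropic_of_ne hF hn a b ha hb hab

section siegel
variable {ι : Type} [Fintype ι] [DecidableEq ι]

/-- Siegel-type elements: products of three transvections -/
theorem exists_siegel (hF : Fintype.card F = q ^ 2) (u y₁ : ι → F)
    (huu : hform ι F q u u = 0) (hyy : hform ι F q y₁ y₁ = 0) (huy : hform ι F q u y₁ = 0) :
    ∃ S ∈ TT ι F q, ∀ x : ι → F,
      S *ᵥ x = x + hform ι F q x u • y₁ - hform ι F q x y₁ • u := by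
  have hq0 := q_ne_zero' hF
  obtain ⟨s, hs0, hs⟩ := exists_skew_ne_zero hF
  have hsq : s ^ q = -s := skew_pow s hs
  have hyu : hform ι F q y₁ u = 0 := by rw [← hform_conj hF, huy, zero_pow hq0]
  set y := s⁻¹ • y₁ with hy
  have hyy' : hform ι F q y y = 0 := by
    rw [hy, hform_smul_left, hform_smul_right, hyy]; ring
  have huy' : hform ι F q u y = 0 := by rw [hy, hform_smul_right, huy, mul_zero]
  have hyu' : hform ι F q y u = 0 := by rw [hy, hform_smul_left, hyu, mul_zero]
  have hd : hform ι F q (u + y) (u + y) = 0 := by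
    rw [hform_add_left, hform_add_right hF, hform_add_right hF, huu, hyy', huy', hyu']
    ring
  have hsn := skew_neg hF s hs
  refine ⟨qrefl q (u + y) s * qrefl q u (-s) * qrefl q y (-s),
    Submonoid.mul_mem _ (Submonoid.mul_mem _ (qrefl_mem_TT _ hd s hs) (qrefl_mem_TT u huu _ hsn))
      (qrefl_mem_TT y hyy' _ hsn), ?_⟩
  intro x
  rw [← Matrix.mulVec_mulVec, ← Matrix.mulVec_mulVec, qrefl_mulVec, qrefl_mulVec, qrefl_mulVec]
  simp only [hform_add_left, hform_add_right hF, hform_smul_left, huu, hyy', huy', hyu',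
    mul_zero, add_zero, zero_add]
  have e1 : hform ι F q x y = -(s⁻¹) * hform ι F q x y₁ := by
    rw [hy, hform_smul_right, inv_pow, hsq, inv_neg]
  rw [e1, hy]
  funext i
  simp only [Pi.add_apply, Pi.smul_apply, Pi.sub_apply, smul_eq_mul]
  field_simp
  ring

/-- a hyperbolic pair supported on two coordinates -/
theorem exists_hyp_pair_coord (hF : Fintype.card F = q ^ 2) (i j : ι) (hij : i ≠ j) :
    ∃ u v : ι → F, hform ι F q u u = 0 ∧ hform ι F q v v = 0 ∧ hform ι F q u v = 1 ∧
      (∀ m, m ≠ i → m ≠ j → u m = 0 ∧ v m = 0) ∧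
      (∀ x : ι → F, hform ι F q x u = 0 → hform ι F q x v = 0 → x i = 0 ∧ x j = 0) := by
  have hq0 := q_ne_zero' hF
  obtain ⟨ε, hε⟩ := exists_nm_neg_one hF
  obtain ⟨l, hl, hl1, hlq⟩ := exists_nm_one_ne_one hF
  have hε0 : ε ≠ 0 := by
    rintro rfl
    rw [zero_mul] at hε
    exact one_ne_zero (neg_eq_zero.mp hε.symm)
  have hf : ∀ (x : ι → F) (c : F), hform ι F q x (Pi.single i 1 + c • Pi.single j 1) =
      x i + c ^ q * x j := by
    intro x c
    rw [hform_add_right hF, hform_smul_right, hform_single_right hF, hform_single_right hF]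
  have hval : ∀ (c : F), (Pi.single i 1 + c • Pi.single j 1 : ι → F) i = 1 ∧
      (Pi.single i 1 + c • Pi.single j 1 : ι → F) j = c := by
    intro c
    constructor
    · simp [Pi.single_apply, hij]
    · simp [Pi.single_apply, hij.symm]
  set u : ι → F := Pi.single i 1 + ε • Pi.single j 1 with hu
  set u' : ι → F := Pi.single i 1 + (ε * l) • Pi.single j 1 with hu'
  have huu : hform ι F q u u = 0 := by
    rw [hu, hf, (hval ε).1, (hval ε).2]
    linear_combination hε
  have hu'u' : hform ι F q u' u' = 0 := by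
    rw [hu', hf, (hval (ε * l)).1, (hval (ε * l)).2, mul_pow]
    linear_combination (l * l ^ q) * hε - hl
  set κ := hform ι F q u u' with hκ
  have hκv : κ = 1 - l ^ q := by
    rw [hκ, hu', hf, hu, (hval ε).1, (hval ε).2, mul_pow]
    linear_combination (l ^ q) * hε
  have hκ0 : κ ≠ 0 := by
    rw [hκv]
    intro h
    apply hlq
    linear_combination -h
  have hκq0 : κ ^ q ≠ 0 := pow_ne_zero _ hκ0
  refine ⟨u, (κ ^ q)⁻¹ • u', huu, ?_, ?_, ?_, ?_⟩
  · rw [hform_smul_left, hform_smul_right, hu'u']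
    ring
  · rw [hform_smul_right, ← hκ, inv_pow, pow_q_pow_q' hF]
    exact inv_mul_cancel₀ hκ0
  · intro m hmi hmj
    constructor
    · rw [hu]
      simp [Pi.single_apply, hmi, hmj]
    · rw [hu']
      simp [Pi.single_apply, hmi, hmj]
  · intro x hxu hxv
    have hxu' : hform ι F q x u' = 0 := by
      rw [hform_smul_right] at hxv
      rcases mul_eq_zero.mp hxv with h | h
      · exact absurd h (pow_ne_zero _ (inv_ne_zero hκq0))
      · exact h
    rw [hu, hf] at hxu
    rw [hu', hf, mul_pow] at hxu'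
    have h1 : x j * (ε ^ q * κ) = 0 := by
      rw [hκv]
      linear_combination hxu - hxu'
    have hx1 : x j = 0 := by
      rcases mul_eq_zero.mp h1 with h | h
      · exact h
      · exact absurd h (mul_ne_zero (pow_ne_zero _ hε0) hκ0)
    refine ⟨?_, hx1⟩
    rw [hx1] at hxu
    linear_combination hxu

/-- moving the second member of a hyperbolic pair while fixing the first -/
theorem exists_TT_fix_move (hF : Fintype.card F = q ^ 2) (u v r₁ r₂ : ι → F)
    (huu : hform ι F q u u = 0) (hvv : hform ι F q v v = 0) (huv : hform ι F q u v = 1)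
    (hr₁ : hform ι F q r₁ r₁ = 0) (hr₂ : hform ι F q r₂ r₂ = 0)
    (hr₁u : hform ι F q r₁ u = 0) (hr₁v : hform ι F q r₁ v = 0)
    (hr₂u : hform ι F q r₂ u = 0) (hr₂v : hform ι F q r₂ v = 0)
    (hcomp : ∀ x : ι → F, hform ι F q x u = 0 → hform ι F q x v = 0 →
      ∃ c₁ c₂ : F, x = c₁ • r₁ + c₂ • r₂)
    (v' : ι → F) (hv'v' : hform ι F q v' v' = 0) (huv' : hform ι F q u v' = 1) :
    ∃ t ∈ TT ι F q, t *ᵥ u = u ∧ t *ᵥ v = v' := by
  have hq0 := q_ne_zero' hF
  have hvu : hform ι F q v u = 1 := by rw [← hform_conj hF, huv, one_pow]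
  have hv'u : hform ι F q v' u = 1 := by rw [← hform_conj hF, huv', one_pow]
  have hur₁ : hform ι F q u r₁ = 0 := by rw [← hform_conj hF, hr₁u, zero_pow hq0]
  have hur₂ : hform ι F q u r₂ = 0 := by rw [← hform_conj hF, hr₂u, zero_pow hq0]
  have hvr₁ : hform ι F q v r₁ = 0 := by rw [← hform_conj hF, hr₁v, zero_pow hq0]
  have hvr₂ : hform ι F q v r₂ = 0 := by rw [← hform_conj hF, hr₂v, zero_pow hq0]
  set α := hform ι F q v' v with hα
  set y := v' - v - α • u with hy
  have hyu : hform ι F q y u = 0 := by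
    rw [hy, hform_sub_left, hform_sub_left, hform_smul_left, hv'u, hvu, huu]; ring
  have hyv : hform ι F q y v = 0 := by
    rw [hy, hform_sub_left, hform_sub_left, hform_smul_left, ← hα, hvv, huv]; ring
  obtain ⟨c₁, c₂, hyc⟩ := hcomp y hyu hyv
  set y₁ := c₁ • r₁ with hy₁
  set y₂ := c₂ • r₂ with hy₂
  have hy₁y₁ : hform ι F q y₁ y₁ = 0 := by
    rw [hy₁, hform_smul_left, hform_smul_right, hr₁]; ring
  have hy₂y₂ : hform ι F q y₂ y₂ = 0 := by
    rw [hy₂, hform_smul_left, hform_smul_right, hr₂]; ring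
  have huy₁ : hform ι F q u y₁ = 0 := by rw [hy₁, hform_smul_right, hur₁, mul_zero]
  have huy₂ : hform ι F q u y₂ = 0 := by rw [hy₂, hform_smul_right, hur₂, mul_zero]
  have hvy₁ : hform ι F q v y₁ = 0 := by rw [hy₁, hform_smul_right, hvr₁, mul_zero]
  have hvy₂ : hform ι F q v y₂ = 0 := by rw [hy₂, hform_smul_right, hvr₂, mul_zero]
  have hy₁u : hform ι F q y₁ u = 0 := by rw [hy₁, hform_smul_left, hr₁u, mul_zero]
  have hy₂u : hform ι F q y₂ u = 0 := by rw [hy₂, hform_smul_left, hr₂u, mul_zero]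
  have hy₁v : hform ι F q y₁ v = 0 := by rw [hy₁, hform_smul_left, hr₁v, mul_zero]
  have hy₂v : hform ι F q y₂ v = 0 := by rw [hy₂, hform_smul_left, hr₂v, mul_zero]
  obtain ⟨S₁, hS₁, hS₁x⟩ := exists_siegel hF u y₁ huu hy₁y₁ huy₁
  obtain ⟨S₂, hS₂, hS₂x⟩ := exists_siegel hF u y₂ huu hy₂y₂ huy₂
  set α'' := -hform ι F q y₁ y₂ with hα''
  have hv'eq : v' = v + y₁ + y₂ + α • u := by
    have : y = y₁ + y₂ := hyc
    rw [hy] at this
    have h2 : v' = v + α • u + (v' - v - α • u) := by abel
    rw [h2, this]; abel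
  -- images
  have hS₁u : S₁ *ᵥ u = u := by
    rw [hS₁x, huu, huy₁, zero_smul, zero_smul, add_zero, sub_zero]
  have hS₂u : S₂ *ᵥ u = u := by
    rw [hS₂x, huu, huy₂, zero_smul, zero_smul, add_zero, sub_zero]
  have hS₁v : S₁ *ᵥ v = v + y₁ := by
    rw [hS₁x, hvu, hvy₁, one_smul, zero_smul, sub_zero]
  have hS₂v : S₂ *ᵥ (v + y₁) = v + y₁ + y₂ + α'' • u := by
    rw [hS₂x, hform_add_left, hform_add_left, hvu, hy₁u, hvy₂, hα'']
    rw [add_zero, zero_add, one_smul, neg_smul, sub_eq_add_neg]
  -- isotropy gives the trace condition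
  have hisoG : ∀ (Y : ι → F) (a : F), hform ι F q Y u = 0 → hform ι F q Y v = 0 →
      hform ι F q u Y = 0 → hform ι F q v Y = 0 →
      hform ι F q (v + Y + a • u) (v + Y + a • u) = a + a ^ q + hform ι F q Y Y := by
    intro Y a h1 h2 h3 h4
    simp only [hform_add_left, hform_add_right hF, hform_smul_left, hform_smul_right, huu, hvv,
      huv, hvu, h1, h2, h3, h4]
    ring
  have hiso : ∀ a : F, hform ι F q (v + y₁ + y₂ + a • u) (v + y₁ + y₂ + a • u) =
      a + a ^ q + hform ι F q (y₁ + y₂) (y₁ + y₂) := by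
    intro a
    have e : v + y₁ + y₂ + a • u = v + (y₁ + y₂) + a • u := by abel
    rw [e]
    apply hisoG
    · rw [hform_add_left, hy₁u, hy₂u, add_zero]
    · rw [hform_add_left, hy₁v, hy₂v, add_zero]
    · rw [hform_add_right hF, huy₁, huy₂, add_zero]
    · rw [hform_add_right hF, hvy₁, hvy₂, add_zero]
  have hMiso : IsIsoMat q (S₂ * S₁) := (TT_iso hF hS₂).mul (TT_iso hF hS₁)
  have hv''iso : hform ι F q (v + y₁ + y₂ + α'' • u) (v + y₁ + y₂ + α'' • u) = 0 := by
    have := hMiso v v
    rw [← Matrix.mulVec_mulVec, hS₁v, hS₂v, hvv] at this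
    exact this
  have hδ : (α - α'') + (α - α'') ^ q = 0 := by
    have e1 := hiso α
    rw [← hv'eq, hv'v'] at e1
    have e2 := hiso α''
    rw [hv''iso] at e2
    rw [sub_pow_q hF]
    linear_combination e2 - e1
  refine ⟨qrefl q u (α - α'') * (S₂ * S₁), Submonoid.mul_mem _ (qrefl_mem_TT u huu _ hδ)
    (Submonoid.mul_mem _ hS₂ hS₁), ?_, ?_⟩
  · rw [← Matrix.mulVec_mulVec, ← Matrix.mulVec_mulVec, hS₁u, hS₂u, qrefl_mulVec, huu, mul_zero,
      zero_smul, add_zero]
  · rw [← Matrix.mulVec_mulVec, ← Matrix.mulVec_mulVec, hS₁v, hS₂v, qrefl_mulVec]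
    have e : hform ι F q (v + y₁ + y₂ + α'' • u) u = 1 := by
      rw [hform_add_left, hform_add_left, hform_add_left, hvu, hy₁u, hy₂u, hform_smul_left, huu]
      ring
    rw [e, mul_one, hv'eq, sub_smul]
    abel

end siegel

end sugen5

end Cfsg.Agent.Lib.Helper51
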