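import Mathlib
import Cfsg.Agent.Lib.Helper51.SUGen5
set_option autoImplicit false
set_option linter.unusedSectionVars false
set_option linter.unusedVariables false
set_option linter.unusedSimpArgs false

/-! `SU_n(q)` is generated by unitary transvections. -/

namespace Cfsg.Agent.Lib.Helper51

open Matrix Cfsg.Agent.Lib.Helper08

section sugen6
variable {F : Type*} [Field F] [Fintype F] {q : ℕ}

/-- isometries from the decomposition lemma, orthonormal case -/
theorem exists_Ew_decomp_on (hF : Fintype.card F = q ^ 2) {ι κ : Type} [Fintype ι] [DecidableEq ι]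
    [Fintype κ] [DecidableEq κ] (w : κ → ι → F) (hw : IsDual q w w)
    (M : Matrix ι ι F) (hM : IsIsoMat q M)
    (hfix : ∀ x : ι → F, (∀ j, hform ι F q x (w j) = 0) → M *ᵥ x = x) :
    ∃ M' : Matrix κ κ F, M'.det = M.det ∧ M = Ew q w w M' ∧ IsIsoMat q M' := by
  obtain ⟨M', hdet, hdec, hpres⟩ := exists_Ew_decomp hF w w hw (fun x hx => hx) M hM hfix
  refine ⟨M', hdet, hdec, ?_⟩
  intro a b
  have := hpres a b
  rwa [hform_Wm hF w hw, hform_Wm hF w hw] at this

/-- the induction step -/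
theorem SU_succ_le_TT (hF : Fintype.card F = q ^ 2) (n : ℕ) (hn : 3 ≤ n + 1)
    (h32 : ¬ (n + 1 = 3 ∧ q = 2))
    (IH : ∀ M' : Matrix (Fin n) (Fin n) F, IsIsoMat q M' → M'.det = 1 → M' ∈ TT (Fin n) F q)
    (M : Matrix (Fin (n + 1)) (Fin (n + 1)) F) (hM : IsIsoMat q M) (hdet : M.det = 1) :
    M ∈ TT (Fin (n + 1)) F q := by
  have hq0 := q_ne_zero' hF
  set e : Fin (n + 1) → F := Pi.single (Fin.last n) 1 with he
  have hee : hform (Fin (n + 1)) F q e e = 1 := by
    rw [he, hform_single_right hF]; simp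
  have hy : hform (Fin (n + 1)) F q (M *ᵥ e) (M *ᵥ e) = 1 := by rw [hM, hee]
  obtain ⟨t, ht, hte⟩ := (TRel_norm_one hF hn h32 (Fin.last n) (M *ᵥ e) hy).symm hF
  apply TT_of_mul_mem hF ht
  have hM₁ : IsIsoMat q (t * M) := (TT_iso hF ht).mul hM
  have hM₁e : (t * M) *ᵥ e = e := by rw [← Matrix.mulVec_mulVec, hte]
  set w : Fin n → Fin (n + 1) → F := fun j => Pi.single (Fin.castSucc j) 1 with hw
  have hdual : IsDual q w w := by
    intro j l
    rw [hw]
    simp only
    rw [hform_single_right hF, Pi.single_apply]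
    by_cases hjl : j = l
    · subst hjl; simp
    · rw [if_neg hjl, if_neg]
      intro h
      exact hjl (Fin.castSucc_injective _ h).symm
  obtain ⟨M', hdet', hdec, hiso'⟩ := exists_Ew_decomp_on hF w hdual (t * M) hM₁ (by
    intro x hx
    have hx' : ∀ j : Fin n, x (Fin.castSucc j) = 0 := by
      intro j
      have := hx j
      rw [hw] at this
      simp only at this
      rwa [hform_single_right hF] at this
    have hxe : x = x (Fin.last n) • e := by
      funext m
      rw [he]
      refine Fin.lastCases ?_ (fun j => ?_) m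
      · simp
      · rw [hx' j]
        simp [Pi.single_apply, Fin.castSucc_ne_last]
    rw [hxe, Matrix.mulVec_smul, hM₁e])
  rw [hdec]
  apply Ew_mem_TT hF w hdual
  apply IH M' hiso'
  rw [hdet', Matrix.det_mul, TT_det ht, hdet, mul_one]

/-- `SU_4` -/
theorem SU4_le_TT (hF : Fintype.card F = q ^ 2) (M : Matrix (Fin 4) (Fin 4) F)
    (hM : IsIsoMat q M) (hdet : M.det = 1) : M ∈ TT (Fin 4) F q := by
  have hq0 := q_ne_zero' hF
  obtain ⟨u, v, huu, hvv, huv, hsupp, hperp⟩ :=
    exists_hyp_pair_coord hF (0 : Fin 4) 1 (by decide)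
  obtain ⟨r₁, r₂, hr₁, hr₂, hr₁₂, hsupp', hperp'⟩ :=
    exists_hyp_pair_coord hF (2 : Fin 4) 3 (by decide)
  have hvu : hform (Fin 4) F q v u = 1 := by rw [← hform_conj hF, huv, one_pow]
  have hr₂₁ : hform (Fin 4) F q r₂ r₁ = 1 := by rw [← hform_conj hF, hr₁₂, one_pow]
  have hu2 := (hsupp 2 (by decide) (by decide)).1
  have hu3 := (hsupp 3 (by decide) (by decide)).1
  have hv2 := (hsupp 2 (by decide) (by decide)).2
  have hv3 := (hsupp 3 (by decide) (by decide)).2
  have hr₁0 := (hsupp' 0 (by decide) (by decide)).1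
  have hr₁1 := (hsupp' 1 (by decide) (by decide)).1
  have hr₂0 := (hsupp' 0 (by decide) (by decide)).2
  have hr₂1 := (hsupp' 1 (by decide) (by decide)).2
  have hf4 : ∀ x y : Fin 4 → F, hform (Fin 4) F q x y =
      x 0 * (y 0) ^ q + x 1 * (y 1) ^ q + x 2 * (y 2) ^ q + x 3 * (y 3) ^ q := by
    intro x y
    unfold hform
    rw [Fin.sum_univ_four]
  have hr₁u : hform (Fin 4) F q r₁ u = 0 := by
    rw [hf4, hr₁0, hr₁1, hu2, hu3, zero_pow hq0]; ring
  have hr₁v : hform (Fin 4) F q r₁ v = 0 := by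
    rw [hf4, hr₁0, hr₁1, hv2, hv3, zero_pow hq0]; ring
  have hr₂u : hform (Fin 4) F q r₂ u = 0 := by
    rw [hf4, hr₂0, hr₂1, hu2, hu3, zero_pow hq0]; ring
  have hr₂v : hform (Fin 4) F q r₂ v = 0 := by
    rw [hf4, hr₂0, hr₂1, hv2, hv3, zero_pow hq0]; ring
  have hcomp : ∀ x : Fin 4 → F, hform (Fin 4) F q x u = 0 → hform (Fin 4) F q x v = 0 →
      ∃ c₁ c₂ : F, x = c₁ • r₁ + c₂ • r₂ := by
    intro x hxu hxv
    obtain ⟨hx0, hx1⟩ := hperp x hxu hxv
    refine ⟨hform (Fin 4) F q x r₂, hform (Fin 4) F q x r₁, ?_⟩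
    set rest := x - hform (Fin 4) F q x r₂ • r₁ - hform (Fin 4) F q x r₁ • r₂ with hrest
    have h1 : hform (Fin 4) F q rest r₁ = 0 := by
      rw [hrest, hform_sub_left, hform_sub_left, hform_smul_left, hform_smul_left, hr₁, hr₂₁]
      ring
    have h2 : hform (Fin 4) F q rest r₂ = 0 := by
      rw [hrest, hform_sub_left, hform_sub_left, hform_smul_left, hform_smul_left, hr₂, hr₁₂]
      ring
    obtain ⟨h3, h4⟩ := hperp' rest h1 h2
    have h5 : rest = 0 := by
      funext m
      fin_cases m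
      · simp [hrest, hx0, hr₁0, hr₂0]
      · simp [hrest, hx1, hr₁1, hr₂1]
      · exact h3
      · exact h4
    have : x = rest + (hform (Fin 4) F q x r₂ • r₁ + hform (Fin 4) F q x r₁ • r₂) := by
      rw [hrest]; abel
    conv_lhs => rw [this]
    rw [h5, zero_add]
  -- step 1
  have hu0 : u ≠ 0 := by
    rintro rfl
    rw [hform_zero_left] at huv
    exact zero_ne_one huv
  have hMu0 : M *ᵥ u ≠ 0 := by
    intro h
    have := hM u v
    rw [h, hform_zero_left, huv] at this
    exact zero_ne_one this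
  have hMuMu : hform (Fin 4) F q (M *ᵥ u) (M *ᵥ u) = 0 := by rw [hM, huu]
  obtain ⟨t₁, ht₁, ht₁u⟩ := TRel_isotropic hF (by norm_num) (M *ᵥ u) u hMu0 hu0 hMuMu huu
  apply TT_of_mul_mem hF ht₁
  have hM₁ : IsIsoMat q (t₁ * M) := (TT_iso hF ht₁).mul hM
  have hM₁u : (t₁ * M) *ᵥ u = u := by rw [← Matrix.mulVec_mulVec, ht₁u]
  -- step 2
  set v' := (t₁ * M) *ᵥ v with hv'
  have hv'v' : hform (Fin 4) F q v' v' = 0 := by rw [hv', hM₁, hvv]
  have huv' : hform (Fin 4) F q u v' = 1 := by
    have := hM₁ u v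
    rw [hM₁u] at this
    rw [hv', this, huv]
  obtain ⟨t₂, ht₂, ht₂u, ht₂v⟩ := exists_TT_fix_move hF u v r₁ r₂ huu hvv huv hr₁ hr₂ hr₁u hr₁v
    hr₂u hr₂v hcomp v' hv'v' huv'
  obtain ⟨t₂', ht₂', h21, h12⟩ := TT_inv hF ht₂
  have hM₂TT : t₂' * (t₁ * M) ∈ TT (Fin 4) F q := by
    have hM₂ : IsIsoMat q (t₂' * (t₁ * M)) := (TT_iso hF ht₂').mul hM₁
    have hM₂u : (t₂' * (t₁ * M)) *ᵥ u = u := by
      rw [← Matrix.mulVec_mulVec, hM₁u]
      conv_lhs => rw [← ht₂u]
      rw [Matrix.mulVec_mulVec, h12, Matrix.one_mulVec]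
    have hM₂v : (t₂' * (t₁ * M)) *ᵥ v = v := by
      rw [← Matrix.mulVec_mulVec, ← hv', ← ht₂v, Matrix.mulVec_mulVec, h12, Matrix.one_mulVec]
    set w : Fin 2 → Fin 4 → F := ![Pi.single 2 1, Pi.single 3 1] with hw
    have hdual : IsDual q w w := by
      intro j l
      fin_cases j <;> fin_cases l <;> simp [hw, hform_single_right hF]
    obtain ⟨M', hdet', hdec, hiso'⟩ := exists_Ew_decomp_on hF w hdual _ hM₂ (by
      intro x hx
      have hx2 : x 2 = 0 := by
        have := hx 0
        simpa [hw, hform_single_right hF] using this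
      have hx3 : x 3 = 0 := by
        have := hx 1
        simpa [hw, hform_single_right hF] using this
      set rest := x - hform (Fin 4) F q x v • u - hform (Fin 4) F q x u • v with hrest
      have h1 : hform (Fin 4) F q rest u = 0 := by
        rw [hrest, hform_sub_left, hform_sub_left, hform_smul_left, hform_smul_left, huu, hvu]
        ring
      have h2 : hform (Fin 4) F q rest v = 0 := by
        rw [hrest, hform_sub_left, hform_sub_left, hform_smul_left, hform_smul_left, hvv, huv]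
        ring
      obtain ⟨h3, h4⟩ := hperp rest h1 h2
      have h5 : rest = 0 := by
        funext m
        fin_cases m
        · exact h3
        · exact h4
        · simp [hrest, hx2, hu2, hv2]
        · simp [hrest, hx3, hu3, hv3]
      have hxe : x = hform (Fin 4) F q x v • u + hform (Fin 4) F q x u • v := by
        have : x = rest + (hform (Fin 4) F q x v • u + hform (Fin 4) F q x u • v) := by
          rw [hrest]; abel
        conv_lhs => rw [this]
        rw [h5, zero_add]
      rw [hxe, Matrix.mulVec_add, Matrix.mulVec_smul, Matrix.mulVec_smul, hM₂u, hM₂v])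
    rw [hdec]
    apply Ew_mem_TT hF w hdual
    apply SU2_le_TT hF M' hiso'
    rw [hdet', Matrix.det_mul, Matrix.det_mul, TT_det ht₂', TT_det ht₁, hdet]
    ring
  exact TT_of_mul_mem hF ht₂' hM₂TT

theorem SU_ge4_le_TT (hF : Fintype.card F = q ^ 2) : ∀ n, 4 ≤ n →
    ∀ M : Matrix (Fin n) (Fin n) F, IsIsoMat q M → M.det = 1 → M ∈ TT (Fin n) F q := by
  intro n hn
  induction n, hn using Nat.le_induction with
  | base => exact SU4_le_TT hF
  | succ n hn ih => exact SU_succ_le_TT hF n (by omega) (by omega) ih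

/-- `SU_n(q)` is generated by transvections, except for `SU_3(2)` -/
theorem SU_le_TT (hF : Fintype.card F = q ^ 2) (n : ℕ) (h32 : ¬ (n = 3 ∧ q = 2))
    (M : Matrix (Fin n) (Fin n) F) (hM : IsIsoMat q M) (hdet : M.det = 1) :
    M ∈ TT (Fin n) F q := by
  by_cases h4 : 4 ≤ n
  · exact SU_ge4_le_TT hF n h4 M hM hdet
  · have : n = 0 ∨ n = 1 ∨ n = 2 ∨ n = 3 := by omega
    rcases this with rfl | rfl | rfl | rfl
    · have : M = 1 := Subsingleton.elim _ _
      rw [this]
      exact Submonoid.one_mem _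
    · have : M = 1 := by
        ext i j
        have hi : i = 0 := Subsingleton.elim _ _
        have hj : j = 0 := Subsingleton.elim _ _
        subst hi hj
        rw [Matrix.det_fin_one] at hdet
        rw [hdet]
        simp
      rw [this]
      exact Submonoid.one_mem _
    · exact SU2_le_TT hF M hM hdet
    · exact SU_succ_le_TT hF 2 (by norm_num) h32 (fun M' h1 h2 => SU2_le_TT hF M' h1 h2) M hM hdet

end sugen6

end Cfsg.Agent.Lib.Helper51
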