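import Mathlib
import Cfsg.Agent.Lib.Helper51.SUGen6
set_option autoImplicit false
set_option linter.unusedSectionVars false
set_option linter.unusedVariables false
set_option linter.unusedSimpArgs false

/-! Unitary transvections are commutators. -/

namespace Cfsg.Agent.Lib.Helper51

open Matrix Cfsg.Agent.Lib.Helper08

section sugen7
variable {F : Type*} [Field F] [Fintype F] {q : ℕ} {ι : Type} [Fintype ι] [DecidableEq ι]

theorem qrefl_conj (g : Matrix ι ι F) (hg : IsIsoMat q g) (d : ι → F) (c : F) :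
    g * qrefl q d c = qrefl q (g *ᵥ d) c * g := by
  apply mat_ext_mulVec
  intro x
  rw [← Matrix.mulVec_mulVec, ← Matrix.mulVec_mulVec, qrefl_mulVec, qrefl_mulVec, hg,
    Matrix.mulVec_add, Matrix.mulVec_smul]

/-- an isometric `x ↦ x + c h(x,v) v` with `v ≠ 0` isotropic has `c` of trace zero -/
theorem skew_of_qrefl_iso (hF : Fintype.card F = q ^ 2) (v : ι → F) (hv : v ≠ 0)
    (hv0 : hform ι F q v v = 0) (c : F) (hiso : IsIsoMat q (qrefl q v c)) : c + c ^ q = 0 := by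
  obtain ⟨y, hy⟩ := exists_hform_ne_zero hF v hv
  have hyv : hform ι F q y v ≠ 0 := by
    rw [← hform_conj hF]
    exact pow_ne_zero _ hy
  have h1 := hiso y y
  rw [qrefl_mulVec] at h1
  simp only [hform_add_left, hform_add_right hF, hform_smul_left, hform_smul_right, hv0] at h1
  have hvy : hform ι F q v y = (hform ι F q y v) ^ q := (hform_conj hF y v).symm
  rw [hvy, mul_pow] at h1
  have h2 : (c + c ^ q) * (hform ι F q y v * (hform ι F q y v) ^ q) = 0 := by
    linear_combination h1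
  rcases mul_eq_zero.mp h2 with h | h
  · exact h
  · exact absurd h (mul_ne_zero hyv (pow_ne_zero _ hyv))

/-- for `q ≥ 3` a transvection is a commutator with an element scaling its centre -/
theorem exists_comm_torus {n : ℕ} (hF : Fintype.card F = q ^ 2) (hn : 3 ≤ n) (hq : 3 ≤ q)
    (v : Fin n → F) (hv : v ≠ 0) (hv0 : hform (Fin n) F q v v = 0) (c : F)
    (hc : c + c ^ q = 0) :
    ∃ B C : Matrix (Fin n) (Fin n) F, IsIsoMat q B ∧ B.det = 1 ∧ IsIsoMat q C ∧ C.det = 1 ∧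
      B * C = qrefl q v c * C * B := by
  obtain ⟨a, haq, ha0, ha1⟩ := exists_fix_ne hF hq
  obtain ⟨l, hl⟩ := exists_nm_eq hF a haq
  have hl0 : l ≠ 0 := by
    rintro rfl
    rw [zero_mul] at hl
    exact ha0 hl.symm
  have hlv0 : l • v ≠ 0 := smul_ne_zero hl0 hv
  have hlv : hform (Fin n) F q (l • v) (l • v) = 0 := by
    rw [hform_smul_left, hform_smul_right, hv0]; ring
  obtain ⟨B, hB, hBdet, hBv⟩ := exists_SU_map hF hn v (l • v) hv hlv0 hv0 hlv
  have ha1' : a - 1 ≠ 0 := sub_ne_zero.mpr ha1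
  set c' := (a - 1)⁻¹ * c with hc'
  have hc's : c' + c' ^ q = 0 := by
    apply skew_mul_fix _ _ _ hc
    rw [inv_pow, sub_pow_q hF, haq, one_pow]
  refine ⟨B, qrefl q v c', hB, hBdet, qrefl_iso_skew hF v hv0 c' hc's, ?_, ?_⟩
  · rw [det_qrefl', hv0, mul_zero, add_zero]
  · rw [qrefl_conj B hB, hBv, qrefl_smul, qrefl_mul_same hF v hv0, hl]
    congr 2
    rw [hc']
    field_simp
    ring

/-- every trace-zero element is of the form `β - β^q` -/
theorem exists_sub_pow_eq (hF : Fintype.card F = q ^ 2) (c : F) (hc : c + c ^ q = 0) :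
    ∃ β : F, β - β ^ q = c := by
  obtain ⟨s, hs0, hs⟩ := exists_skew_ne_zero hF
  have hsq := skew_pow s hs
  have hcq := skew_pow c hc
  have hfix : (c / s) ^ q = c / s := by
    rw [div_pow, hsq, hcq, neg_div_neg_eq]
  obtain ⟨β', hβ'⟩ := exists_tr_eq hF (c / s) hfix
  refine ⟨s * β', ?_⟩
  rw [mul_pow, hsq]
  have : s * β' - -s * β' ^ q = s * (β' + β' ^ q) := by ring
  rw [this, hβ']
  field_simp

/-- in dimension at least four a transvection is a commutator of two Siegel elements -/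
theorem exists_comm_siegel {n : ℕ} (hF : Fintype.card F = q ^ 2) (hn : 4 ≤ n)
    (v : Fin n → F) (hv : v ≠ 0) (hv0 : hform (Fin n) F q v v = 0) (c : F)
    (hc : c + c ^ q = 0) :
    ∃ B C : Matrix (Fin n) (Fin n) F, B ∈ TT (Fin n) F q ∧ C ∈ TT (Fin n) F q ∧
      B * C = qrefl q v c * C * B := by
  have hq0 := q_ne_zero' hF
  have h01 : (⟨0, by omega⟩ : Fin n) ≠ ⟨1, by omega⟩ := by
    intro h; simp [Fin.ext_iff] at h
  have h23 : (⟨2, by omega⟩ : Fin n) ≠ ⟨3, by omega⟩ := by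
    intro h; simp [Fin.ext_iff] at h
  obtain ⟨u, u', huu, hu'u', huu', hsupp, hperp⟩ :=
    exists_hyp_pair_coord hF (⟨0, by omega⟩ : Fin n) ⟨1, by omega⟩ h01
  obtain ⟨r₁, r₂, hr₁, hr₂, hr₁₂, hsupp', hperp'⟩ :=
    exists_hyp_pair_coord hF (⟨2, by omega⟩ : Fin n) ⟨3, by omega⟩ h23
  have hu0 : u ≠ 0 := by
    rintro rfl
    rw [hform_zero_left] at huu'
    exact zero_ne_one huu'
  -- disjoint supports
  have hdisj : ∀ m : Fin n, u m = 0 ∨ (r₁ m = 0 ∧ r₂ m = 0) := by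
    intro m
    by_cases h2 : m = ⟨2, by omega⟩
    · left
      refine (hsupp m ?_ ?_).1 <;> (rw [h2]; intro h; simp [Fin.ext_iff] at h)
    · by_cases h3 : m = ⟨3, by omega⟩
      · left
        refine (hsupp m ?_ ?_).1 <;> (rw [h3]; intro h; simp [Fin.ext_iff] at h)
      · right
        exact hsupp' m h2 h3
  have hur₁ : hform (Fin n) F q u r₁ = 0 := by
    unfold hform
    apply Finset.sum_eq_zero
    intro m _
    rcases hdisj m with h | h
    · rw [h, zero_mul]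
    · rw [h.1, zero_pow hq0, mul_zero]
  have hur₂ : hform (Fin n) F q u r₂ = 0 := by
    unfold hform
    apply Finset.sum_eq_zero
    intro m _
    rcases hdisj m with h | h
    · rw [h, zero_mul]
    · rw [h.2, zero_pow hq0, mul_zero]
  obtain ⟨g, hg, _, hgu⟩ := exists_SU_map hF (by omega) u v hu0 hv huu hv0
  obtain ⟨β, hβ⟩ := exists_sub_pow_eq hF c hc
  set y₁ := g *ᵥ r₁ with hy₁
  set y₂ := g *ᵥ (β ^ q • r₂) with hy₂
  have hy₁y₁ : hform (Fin n) F q y₁ y₁ = 0 := by rw [hy₁, hg, hr₁]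
  have hy₂y₂ : hform (Fin n) F q y₂ y₂ = 0 := by
    rw [hy₂, hg, hform_smul_left, hform_smul_right, hr₂]; ring
  have hvy₁ : hform (Fin n) F q v y₁ = 0 := by rw [hy₁, ← hgu, hg, hur₁]
  have hvy₂ : hform (Fin n) F q v y₂ = 0 := by
    rw [hy₂, ← hgu, hg, hform_smul_right, hur₂, mul_zero]
  have hy₁v : hform (Fin n) F q y₁ v = 0 := by rw [← hform_conj hF, hvy₁, zero_pow hq0]
  have hy₂v : hform (Fin n) F q y₂ v = 0 := by rw [← hform_conj hF, hvy₂, zero_pow hq0]
  have hy₁y₂ : hform (Fin n) F q y₁ y₂ = β := by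
    rw [hy₁, hy₂, hg, hform_smul_right, hr₁₂, pow_q_pow_q' hF, mul_one]
  have hy₂y₁ : hform (Fin n) F q y₂ y₁ = β ^ q := by rw [← hform_conj hF, hy₁y₂]
  obtain ⟨S₁, hS₁, hS₁x⟩ := exists_siegel hF v y₁ hv0 hy₁y₁ hvy₁
  obtain ⟨S₂, hS₂, hS₂x⟩ := exists_siegel hF v y₂ hv0 hy₂y₂ hvy₂
  refine ⟨S₁, S₂, hS₁, hS₂, ?_⟩
  apply mat_ext_mulVec
  intro x
  rw [← Matrix.mulVec_mulVec, ← Matrix.mulVec_mulVec, ← Matrix.mulVec_mulVec, qrefl_mulVec]
  rw [hS₂x x, hS₁x x, hS₁x, hS₂x]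
  simp only [hform_add_left, hform_sub_left, hform_smul_left, hv0, hy₁v, hy₂v, hy₁y₂, hy₂y₁,
    hy₁y₁, hy₂y₂, hvy₁, hvy₂, mul_zero, add_zero, sub_zero]
  funext i
  simp only [Pi.add_apply, Pi.sub_apply, Pi.smul_apply, smul_eq_mul]
  linear_combination (hform (Fin n) F q x v * v i) * hβ

end sugen7

end Cfsg.Agent.Lib.Helper51
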