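import Mathlib
import Cfsg.Agent.Lib.Helper51.SUGen7
set_option autoImplicit false
set_option linter.unusedSectionVars false
set_option linter.unusedVariables false
set_option linter.unusedSimpArgs false

/-! Eichler transformations; `SU_n` is transitive on hyperbolic pairs. -/

namespace Cfsg.Agent.Lib.Helper51

open Matrix Cfsg.Agent.Lib.Helper08

section sugen8
variable {F : Type*} [Field F] [Fintype F] {q : ℕ} {ι : Type} [Fintype ι] [DecidableEq ι]

/-- the matrix of `x ↦ x + h(x,y) p` -/
def rk1 (q : ℕ) (p y : ι → F) : Matrix ι ι F := 1 + Matrix.vecMulVec p (fun j => y j ^ q)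

theorem rk1_mulVec (p y x : ι → F) : rk1 q p y *ᵥ x = x + hform ι F q x y • p := by
  unfold rk1
  rw [Matrix.add_mulVec, Matrix.one_mulVec]
  congr 1
  funext i
  simp only [Matrix.mulVec, Matrix.vecMulVec_apply, dotProduct, Pi.smul_apply, smul_eq_mul, hform]
  rw [Finset.sum_mul]
  apply Finset.sum_congr rfl
  intro j _
  ring

theorem det_rk1 (p y : ι → F) : (rk1 q p y).det = 1 + hform ι F q p y := by
  unfold rk1
  have h1 : Matrix.vecMulVec p (fun j => y j ^ q) =
      Matrix.replicateCol Unit p * Matrix.replicateRow Unit (fun j => y j ^ q) := by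
    rw [← Matrix.vecMulVec_eq]
  rw [h1, Matrix.det_one_add_replicateCol_mul_replicateRow]
  congr 1
  unfold hform dotProduct
  apply Finset.sum_congr rfl
  intro i _
  ring

/-- Eichler transformation -/
def eichler (q : ℕ) (u y : ι → F) (α : F) : Matrix ι ι F :=
  rk1 q (-u) y * rk1 q (y + (α + hform ι F q y y) • u) u

theorem eichler_mulVec (hF : Fintype.card F = q ^ 2) (u y : ι → F) (α : F)
    (hu : hform ι F q u u = 0) (huy : hform ι F q u y = 0) (x : ι → F) :
    eichler q u y α *ᵥ x = x + hform ι F q x u • (y + α • u) - hform ι F q x y • u := by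
  unfold eichler
  rw [← Matrix.mulVec_mulVec, rk1_mulVec, rk1_mulVec]
  simp only [hform_add_left, hform_smul_left, huy, mul_zero, add_zero]
  funext i
  simp only [Pi.add_apply, Pi.sub_apply, Pi.smul_apply, Pi.neg_apply, smul_eq_mul]
  ring

theorem eichler_det (hF : Fintype.card F = q ^ 2) (u y : ι → F) (α : F)
    (hu : hform ι F q u u = 0) (huy : hform ι F q u y = 0) : (eichler q u y α).det = 1 := by
  have hq0 := q_ne_zero' hF
  have hyu : hform ι F q y u = 0 := by rw [← hform_conj hF, huy, zero_pow hq0]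
  unfold eichler
  rw [Matrix.det_mul, det_rk1, det_rk1, hform_neg_left, huy, hform_add_left, hform_smul_left, hu,
    hyu]
  ring

theorem eichler_iso (hF : Fintype.card F = q ^ 2) (u y : ι → F) (α : F)
    (hu : hform ι F q u u = 0) (huy : hform ι F q u y = 0)
    (hα : α + α ^ q + hform ι F q y y = 0) : IsIsoMat q (eichler q u y α) := by
  have hq0 := q_ne_zero' hF
  have hyu : hform ι F q y u = 0 := by rw [← hform_conj hF, huy, zero_pow hq0]
  intro x x'
  rw [eichler_mulVec hF u y α hu huy, eichler_mulVec hF u y α hu huy]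
  have e1 : hform ι F q u x' = (hform ι F q x' u) ^ q := (hform_conj hF x' u).symm
  have e2 : hform ι F q y x' = (hform ι F q x' y) ^ q := (hform_conj hF x' y).symm
  simp only [hform_add_left, hform_sub_left, hform_add_right hF, hform_sub_right hF,
    hform_smul_left, hform_smul_right, hu, huy, hyu, e1, e2]
  linear_combination (hform ι F q x u * (hform ι F q x' u) ^ q) * hα

/-- moving the second member of a hyperbolic pair by an Eichler transformation -/
theorem exists_SU_fix_move (hF : Fintype.card F = q ^ 2) (u v v' : ι → F)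
    (huu : hform ι F q u u = 0) (hvv : hform ι F q v v = 0) (huv : hform ι F q u v = 1)
    (hv'v' : hform ι F q v' v' = 0) (huv' : hform ι F q u v' = 1) :
    ∃ E : Matrix ι ι F, IsIsoMat q E ∧ E.det = 1 ∧ E *ᵥ u = u ∧ E *ᵥ v = v' := by
  have hq0 := q_ne_zero' hF
  have hvu : hform ι F q v u = 1 := by rw [← hform_conj hF, huv, one_pow]
  have hv'u : hform ι F q v' u = 1 := by rw [← hform_conj hF, huv', one_pow]
  set α := hform ι F q v' v with hα
  set y := v' - v - α • u with hy
  have hyu : hform ι F q y u = 0 := by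
    rw [hy, hform_sub_left, hform_sub_left, hform_smul_left, hv'u, hvu, huu]; ring
  have hyv : hform ι F q y v = 0 := by
    rw [hy, hform_sub_left, hform_sub_left, hform_smul_left, ← hα, hvv, huv]; ring
  have huy : hform ι F q u y = 0 := by rw [← hform_conj hF, hyu, zero_pow hq0]
  have hvy : hform ι F q v y = 0 := by rw [← hform_conj hF, hyv, zero_pow hq0]
  have hv'eq : v' = v + y + α • u := by rw [hy]; abel
  have hαy : α + α ^ q + hform ι F q y y = 0 := by
    have h1 : hform ι F q (v + y + α • u) (v + y + α • u) = α + α ^ q + hform ι F q y y := by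
      simp only [hform_add_left, hform_add_right hF, hform_smul_left, hform_smul_right, huu, hvv,
        huv, hvu, hyu, hyv, huy, hvy]
      ring
    rw [← hv'eq, hv'v'] at h1
    exact h1.symm
  refine ⟨eichler q u y α, eichler_iso hF u y α huu huy hαy, eichler_det hF u y α huu huy, ?_, ?_⟩
  · rw [eichler_mulVec hF u y α huu huy, huu, huy, zero_smul, zero_smul, add_zero, sub_zero]
  · rw [eichler_mulVec hF u y α huu huy, hvu, hvy, one_smul, zero_smul, sub_zero, hv'eq]
    abel

/-- `SU_n` is transitive on hyperbolic pairs -/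
theorem exists_SU_hyp_map {n : ℕ} (hF : Fintype.card F = q ^ 2) (hn : 3 ≤ n)
    (u v u' v' : Fin n → F)
    (huu : hform (Fin n) F q u u = 0) (hvv : hform (Fin n) F q v v = 0)
    (huv : hform (Fin n) F q u v = 1)
    (hu'u' : hform (Fin n) F q u' u' = 0) (hv'v' : hform (Fin n) F q v' v' = 0)
    (hu'v' : hform (Fin n) F q u' v' = 1) :
    ∃ M : Matrix (Fin n) (Fin n) F, IsIsoMat q M ∧ M.det = 1 ∧ M *ᵥ u = u' ∧ M *ᵥ v = v' := by
  have hu0 : u ≠ 0 := by
    rintro rfl
    rw [hform_zero_left] at huv
    exact zero_ne_one huv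
  have hu'0 : u' ≠ 0 := by
    rintro rfl
    rw [hform_zero_left] at hu'v'
    exact zero_ne_one hu'v'
  obtain ⟨g, hg, hgd, hgu⟩ := exists_SU_map hF hn u u' hu0 hu'0 huu hu'u'
  obtain ⟨E, hE, hEd, hEu, hEv⟩ := exists_SU_fix_move hF u' (g *ᵥ v) v' hu'u'
    (by rw [hg, hvv]) (by rw [← hgu, hg, huv]) hv'v' hu'v'
  refine ⟨E * g, hE.mul hg, by rw [Matrix.det_mul, hEd, hgd, mul_one], ?_, ?_⟩
  · rw [← Matrix.mulVec_mulVec, hgu, hEu]
  · rw [← Matrix.mulVec_mulVec, hEv]

end sugen8

end Cfsg.Agent.Lib.Helper51
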