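import Mathlib
import Cfsg.Agent.Lib.Helper51.SUGen8
set_option autoImplicit false
set_option linter.unusedSectionVars false
set_option linter.unusedVariables false
set_option linter.unusedSimpArgs false

/-! The action of `SU_n(q)` on isotropic points is primitive. -/

namespace Cfsg.Agent.Lib.Helper51

open Matrix Cfsg.Agent.Lib.Helper08
open scoped LinearAlgebra.Projectivization Pointwise

section sugen9
variable {F : Type*} [Field F] [Fintype F] {q : ℕ} {n : ℕ}

/-- isotropic points -/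
def IsoP (q : ℕ) (p : ℙ F (Fin n → F)) : Prop := hform (Fin n) F q p.rep p.rep = 0

theorem isoP_mk_iff (v : Fin n → F) (hv : v ≠ 0) :
    IsoP q (Projectivization.mk F v hv) ↔ hform (Fin n) F q v v = 0 := by
  obtain ⟨a, ha⟩ := Projectivization.exists_smul_eq_mk_rep F v hv
  unfold IsoP
  have ha0 : (a : F) ≠ 0 := a.ne_zero
  rw [← ha, Units.smul_def, hform_smul_left, hform_smul_right]
  constructor
  · intro h
    rcases mul_eq_zero.mp h with h1 | h1
    · exact absurd h1 ha0
    · rcases mul_eq_zero.mp h1 with h2 | h2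
      · exact absurd h2 (pow_ne_zero _ ha0)
      · exact h2
  · intro h
    rw [h]
    ring

/-- matrices in `SU` -/
def toSU (M : Matrix (Fin n) (Fin n) F) (hM : IsIsoMat q M) (hdet : M.det = 1) :
    ↥(Cfsg.SU n F q) := ⟨⟨M, hdet⟩, fun u v => hM u v⟩

theorem SU_iso (g : ↥(Cfsg.SU n F q)) :
    IsIsoMat q ((g : Matrix.SpecialLinearGroup (Fin n) F) : Matrix (Fin n) (Fin n) F) :=
  fun u v => g.2 u v

theorem SU_mulVec_ne_zero (hF : Fintype.card F = q ^ 2) (g : ↥(Cfsg.SU n F q)) (v : Fin n → F)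
    (hv : v ≠ 0) :
    ((g : Matrix.SpecialLinearGroup (Fin n) F) : Matrix (Fin n) (Fin n) F) *ᵥ v ≠ 0 := by
  intro h
  apply hv
  apply hform_nondeg hF
  intro y
  rw [← SU_iso g v y, h, hform_zero_left]

/-- the sub-action on isotropic points -/
def isoPts (n : ℕ) (F : Type*) [Field F] [Fintype F] (q : ℕ) :
    SubMulAction ↥(Cfsg.SU n F q) (ℙ F (Fin n → F)) where
  carrier := {p | IsoP q p}
  smul_mem' := by
    intro g p hp
    induction p using Projectivization.ind with
    | h v hv =>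
    have hp' : hform (Fin n) F q v v = 0 := (isoP_mk_iff v hv).mp hp
    show IsoP q (g • Projectivization.mk F v hv)
    have : g • Projectivization.mk F v hv = Projectivization.mk F
        (((g : Matrix.SpecialLinearGroup (Fin n) F) : Matrix (Fin n) (Fin n) F) *ᵥ v)
        ((smul_ne_zero_iff_ne (g : Matrix.SpecialLinearGroup (Fin n) F) (x := v)).mpr hv) := rfl
    rw [this, isoP_mk_iff, SU_iso g, hp']

/-- an isotropic point from an isotropic vector -/
def mkO (v : Fin n → F) (hv : v ≠ 0) (hiso : hform (Fin n) F q v v = 0) : ↥(isoPts n F q) :=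
  ⟨Projectivization.mk F v hv, (isoP_mk_iff v hv).mpr hiso⟩

theorem exists_mkO (p : ↥(isoPts n F q)) :
    ∃ (v : Fin n → F) (hv : v ≠ 0) (hiso : hform (Fin n) F q v v = 0), p = mkO v hv hiso := by
  obtain ⟨p, hp⟩ := p
  induction p using Projectivization.ind with
  | h v hv => exact ⟨v, hv, (isoP_mk_iff v hv).mp hp, rfl⟩

theorem smul_mkO (g : ↥(Cfsg.SU n F q)) (v : Fin n → F) (hv : v ≠ 0)
    (hiso : hform (Fin n) F q v v = 0) :
    g • mkO v hv hiso = mkO
      (((g : Matrix.SpecialLinearGroup (Fin n) F) : Matrix (Fin n) (Fin n) F) *ᵥ v)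
      ((smul_ne_zero_iff_ne (g : Matrix.SpecialLinearGroup (Fin n) F) (x := v)).mpr hv)
      (by rw [SU_iso g, hiso]) := rfl

theorem mkO_eq_iff (v w : Fin n → F) (hv : v ≠ 0) (hw : w ≠ 0)
    (hiv : hform (Fin n) F q v v = 0) (hiw : hform (Fin n) F q w w = 0) :
    mkO v hv hiv = mkO w hw hiw ↔ ∃ a : F, a • w = v := by
  constructor
  · intro h
    have := congrArg Subtype.val h
    exact (Projectivization.mk_eq_mk_iff' F v w hv hw).mp this
  · intro h
    apply Subtype.ext
    exact (Projectivization.mk_eq_mk_iff' F v w hv hw).mpr h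

theorem isoPts_pretransitive (hF : Fintype.card F = q ^ 2) (hn : 3 ≤ n) :
    MulAction.IsPretransitive ↥(Cfsg.SU n F q) ↥(isoPts n F q) := by
  constructor
  intro p p'
  obtain ⟨v, hv, hiv, rfl⟩ := exists_mkO p
  obtain ⟨w, hw, hiw, rfl⟩ := exists_mkO p'
  obtain ⟨M, hM, hdet, hMv⟩ := exists_SU_map hF hn v w hv hw hiv hiw
  refine ⟨toSU M hM hdet, ?_⟩
  rw [smul_mkO, mkO_eq_iff]
  exact ⟨1, by rw [one_smul]; exact hMv.symm⟩

theorem toSU_val (M : Matrix (Fin n) (Fin n) F) (hM : IsIsoMat q M) (hdet : M.det = 1) :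
    ((toSU M hM hdet : ↥(Cfsg.SU n F q)) : Matrix.SpecialLinearGroup (Fin n) F).1 = M := rfl

/-- first spreading step -/
theorem spread1 (hF : Fintype.card F = q ^ 2) (B : Set ↥(isoPts n F q))
    (hB : MulAction.IsBlock ↥(Cfsg.SU n F q) B) (x y z : Fin n → F)
    (hx : x ≠ 0) (hy : y ≠ 0) (hz : z ≠ 0)
    (hix : hform (Fin n) F q x x = 0) (hiy : hform (Fin n) F q y y = 0)
    (hiz : hform (Fin n) F q z z = 0)
    (hxB : mkO x hx hix ∈ B) (hyB : mkO y hy hiy ∈ B)
    (hxy : hform (Fin n) F q x y ≠ 0) (hxz : hform (Fin n) F q x z ≠ 0) :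
    mkO z hz hiz ∈ B := by
  have hq0 := q_ne_zero' hF
  have hyx : hform (Fin n) F q y x ≠ 0 := by
    rw [← hform_conj hF]; exact pow_ne_zero _ hxy
  have hzx : hform (Fin n) F q z x ≠ 0 := by
    rw [← hform_conj hF]; exact pow_ne_zero _ hxz
  set y₁ := (hform (Fin n) F q y x)⁻¹ • y with hy₁
  set z₁ := (hform (Fin n) F q z x)⁻¹ • z with hz₁
  have hxy₁ : hform (Fin n) F q x y₁ = 1 := by
    rw [hy₁, hform_smul_right, inv_pow, hform_conj hF]
    exact inv_mul_cancel₀ hxy
  have hxz₁ : hform (Fin n) F q x z₁ = 1 := by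
    rw [hz₁, hform_smul_right, inv_pow, hform_conj hF]
    exact inv_mul_cancel₀ hxz
  have hy₁y₁ : hform (Fin n) F q y₁ y₁ = 0 := by
    rw [hy₁, hform_smul_left, hform_smul_right, hiy]; ring
  have hz₁z₁ : hform (Fin n) F q z₁ z₁ = 0 := by
    rw [hz₁, hform_smul_left, hform_smul_right, hiz]; ring
  obtain ⟨E, hE, hEd, hEx, hEy⟩ := exists_SU_fix_move hF x y₁ z₁ hix hy₁y₁ hxy₁ hz₁z₁ hxz₁
  have hgx : toSU E hE hEd • mkO x hx hix ∈ B := by
    have e : toSU E hE hEd • mkO x hx hix = mkO x hx hix := by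
      rw [smul_mkO, mkO_eq_iff]
      exact ⟨1, by rw [one_smul]; exact hEx.symm⟩
    rw [e]
    exact hxB
  have hgB : toSU E hE hEd • B = B := hB.smul_eq_of_mem hxB hgx
  have hgy : toSU E hE hEd • mkO y hy hiy ∈ B := by
    rw [← hgB]
    exact Set.smul_mem_smul_set hyB
  have e2 : toSU E hE hEd • mkO y hy hiy = mkO z hz hiz := by
    rw [smul_mkO, mkO_eq_iff]
    refine ⟨hform (Fin n) F q y x * (hform (Fin n) F q z x)⁻¹, ?_⟩
    have hyy₁ : y = hform (Fin n) F q y x • y₁ := by
      rw [hy₁, smul_smul, mul_inv_cancel₀ hyx, one_smul]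
    show _ = E *ᵥ y
    conv_rhs => rw [hyy₁]
    rw [Matrix.mulVec_smul, hEy, hz₁, smul_smul]
  rw [← e2]
  exact hgy

theorem spread2 (hF : Fintype.card F = q ^ 2) (B : Set ↥(isoPts n F q))
    (hB : MulAction.IsBlock ↥(Cfsg.SU n F q) B) (x y z : Fin n → F)
    (hx : x ≠ 0) (hy : y ≠ 0) (hz : z ≠ 0)
    (hix : hform (Fin n) F q x x = 0) (hiy : hform (Fin n) F q y y = 0)
    (hiz : hform (Fin n) F q z z = 0)
    (hxB : mkO x hx hix ∈ B) (hyB : mkO y hy hiy ∈ B)
    (hxy : hform (Fin n) F q x y ≠ 0) : mkO z hz hiz ∈ B := by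
  have hq0 := q_ne_zero' hF
  by_cases hxz : hform (Fin n) F q x z = 0
  · obtain ⟨t, htt, hxt, htz⟩ := exists_isotropic_nonorth hF x z hx hz hix hxz
    have ht0 : t ≠ 0 := by
      rintro rfl
      rw [hform_zero_left] at htz
      exact htz rfl
    have htB : mkO t ht0 htt ∈ B := spread1 hF B hB x y t hx hy ht0 hix hiy htt hxB hyB hxy hxt
    have htx : hform (Fin n) F q t x ≠ 0 := by
      rw [← hform_conj hF]; exact pow_ne_zero _ hxt
    exact spread1 hF B hB t x z ht0 hx hz htt hix hiz htB hxB htx htz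
  · exact spread1 hF B hB x y z hx hy hz hix hiy hiz hxB hyB hxy hxz

/-- a vector orthogonal to `u'` but not to `u` -/
theorem exists_sep_herm (hF : Fintype.card F = q ^ 2) (u u' : Fin n → F) (hu' : u' ≠ 0)
    (hne : ∀ a : F, a • u' ≠ u) :
    ∃ y : Fin n → F, hform (Fin n) F q y u' = 0 ∧ hform (Fin n) F q u y ≠ 0 := by
  have hq0 := q_ne_zero' hF
  by_contra hcon
  push Not at hcon
  obtain ⟨y0, hy0⟩ := exists_hform_ne_zero hF u' hu'
  have hy0' : hform (Fin n) F q y0 u' ≠ 0 := by
    rw [← hform_conj hF]; exact pow_ne_zero _ hy0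
  set v₁ := (hform (Fin n) F q y0 u')⁻¹ • y0 with hv₁
  have hv₁u' : hform (Fin n) F q v₁ u' = 1 := by
    rw [hv₁, hform_smul_left]
    exact inv_mul_cancel₀ hy0'
  have key : ∀ y : Fin n → F,
      hform (Fin n) F q (u - hform (Fin n) F q u v₁ • u') y = 0 := by
    intro y
    have h1 : hform (Fin n) F q (y - hform (Fin n) F q y u' • v₁) u' = 0 := by
      rw [hform_sub_left, hform_smul_left, hv₁u', mul_one, sub_self]
    have h2 := hcon _ h1
    rw [hform_sub_right hF, hform_smul_right, sub_eq_zero] at h2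
    rw [hform_sub_left, hform_smul_left, h2, hform_conj hF]
    ring
  have hz : u - hform (Fin n) F q u v₁ • u' = 0 := hform_nondeg hF _ key
  exact hne _ (sub_eq_zero.mp hz).symm

theorem block_trivial (hF : Fintype.card F = q ^ 2) (B : Set ↥(isoPts n F q))
    (hB : MulAction.IsBlock ↥(Cfsg.SU n F q) B) : MulAction.IsTrivialBlock B := by
  have hq0 := q_ne_zero' hF
  by_cases hsub : B.Subsingleton
  · exact Or.inl hsub
  right
  rw [Set.not_subsingleton_iff] at hsub
  obtain ⟨p, hp, p', hp', hpp'⟩ := hsub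
  obtain ⟨u, hu, hiu, rfl⟩ := exists_mkO p
  obtain ⟨u', hu', hiu', rfl⟩ := exists_mkO p'
  have hpair : ∃ (x y : Fin n → F) (hx : x ≠ 0) (hy : y ≠ 0)
      (hix : hform (Fin n) F q x x = 0) (hiy : hform (Fin n) F q y y = 0),
      mkO x hx hix ∈ B ∧ mkO y hy hiy ∈ B ∧ hform (Fin n) F q x y ≠ 0 := by
    by_cases huu' : hform (Fin n) F q u u' = 0
    · have hne : ∀ a : F, a • u' ≠ u := by
        intro a ha
        apply hpp'
        rw [mkO_eq_iff]
        exact ⟨a, ha⟩
      obtain ⟨y, hyu', huy⟩ := exists_sep_herm hF u u' hu' hne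
      -- make it isotropic
      have hu'u : hform (Fin n) F q u' u = 0 := by rw [← hform_conj hF, huu', zero_pow hq0]
      set η := -hform (Fin n) F q y y with hη
      have hηq : η ^ q = η := by
        rw [hη, neg_pow_q hF, hform_self_pow hF]
      obtain ⟨β, hβ⟩ := exists_tr_eq hF η hηq
      set a := β / hform (Fin n) F q u y with ha
      set r := y + a • u with hr
      have hru' : hform (Fin n) F q r u' = 0 := by
        rw [hr, hform_add_left, hform_smul_left, hyu', huu', mul_zero, add_zero]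
      have hur : hform (Fin n) F q u r = hform (Fin n) F q u y := by
        rw [hr, hform_add_right hF, hform_smul_right, hiu, mul_zero, add_zero]
      have hrr : hform (Fin n) F q r r = 0 := by
        have e1 : hform (Fin n) F q r r = hform (Fin n) F q y y + a * hform (Fin n) F q u y +
            (a * hform (Fin n) F q u y) ^ q := by
          rw [hr]
          simp only [hform_add_left, hform_add_right hF, hform_smul_left, hform_smul_right, hiu]
          rw [mul_pow, hform_conj hF]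
          ring
        have e2 : a * hform (Fin n) F q u y = β := by
          rw [ha]; field_simp
        rw [e1, e2]
        linear_combination hβ
      obtain ⟨s, hs0, hs⟩ := exists_skew_ne_zero hF
      have hT := qrefl_iso_skew hF r hrr s hs
      have hTd : (qrefl q r s).det = 1 := by rw [det_qrefl', hrr, mul_zero, add_zero]
      have hTu' : qrefl q r s *ᵥ u' = u' := by
        have : hform (Fin n) F q u' r = 0 := by rw [← hform_conj hF, hru', zero_pow hq0]
        rw [qrefl_mulVec, this, mul_zero, zero_smul, add_zero]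
      have hTu : qrefl q r s *ᵥ u = u + (s * hform (Fin n) F q u y) • r := by
        rw [qrefl_mulVec, hur]
      have hgp' : toSU (qrefl q r s) hT hTd • mkO u' hu' hiu' ∈ B := by
        have e : toSU (qrefl q r s) hT hTd • mkO u' hu' hiu' = mkO u' hu' hiu' := by
          rw [smul_mkO, mkO_eq_iff]
          exact ⟨1, by rw [one_smul]; exact hTu'.symm⟩
        rw [e]
        exact hp'
      have hgB : toSU (qrefl q r s) hT hTd • B = B := hB.smul_eq_of_mem hp' hgp'
      have hgp : toSU (qrefl q r s) hT hTd • mkO u hu hiu ∈ B := by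
        rw [← hgB]
        exact Set.smul_mem_smul_set hp
      rw [smul_mkO] at hgp
      refine ⟨u, _, hu, _, hiu, _, hp, hgp, ?_⟩
      show hform (Fin n) F q u (qrefl q r s *ᵥ u) ≠ 0
      rw [hTu, hform_add_right hF, hform_smul_right, hiu, zero_add, hur]
      exact mul_ne_zero (pow_ne_zero _ (mul_ne_zero hs0 huy)) huy
    · exact ⟨u, u', hu, hu', hiu, hiu', hp, hp', huu'⟩
  obtain ⟨x, y, hx, hy, hix, hiy, hxB, hyB, hxy⟩ := hpair
  rw [Set.eq_univ_iff_forall]
  intro p
  obtain ⟨z, hz, hiz, rfl⟩ := exists_mkO p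
  exact spread2 hF B hB x y z hx hy hz hix hiy hiz hxB hyB hxy

theorem isoPts_preprimitive (hF : Fintype.card F = q ^ 2) (hn : 3 ≤ n) :
    MulAction.IsPreprimitive ↥(Cfsg.SU n F q) ↥(isoPts n F q) := by
  have := isoPts_pretransitive (F := F) hF hn
  exact ⟨fun {B} hB => block_trivial hF B hB⟩

end sugen9

end Cfsg.Agent.Lib.Helper51
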