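import Mathlib
import Cfsg.Agent.Lib.Helper51.SUGen9
set_option autoImplicit false
set_option linter.unusedSectionVars false
set_option linter.unusedVariables false
set_option linter.unusedSimpArgs false

/-! Iwasawa structure on isotropic points; `SU_n(q)` is perfect; kernel of the action. -/

namespace Cfsg.Agent.Lib.Helper51

open Matrix Cfsg.Agent.Lib.Helper08
open scoped LinearAlgebra.Projectivization Pointwise

section sugen10
variable {F : Type*} [Field F] [Fintype F] {q : ℕ} {n : ℕ}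

/-- the matrix of an element of `SU` -/
def smat (A : ↥(Cfsg.SU n F q)) : Matrix (Fin n) (Fin n) F :=
  ((A : Matrix.SpecialLinearGroup (Fin n) F) : Matrix (Fin n) (Fin n) F)

theorem smat_mul (A B : ↥(Cfsg.SU n F q)) : smat (A * B) = smat A * smat B := rfl

theorem smat_one : smat (1 : ↥(Cfsg.SU n F q)) = 1 := rfl

theorem smat_injective {A B : ↥(Cfsg.SU n F q)} (h : smat A = smat B) : A = B :=
  Subtype.ext (Subtype.ext h)

theorem smat_inv_mul (A : ↥(Cfsg.SU n F q)) : smat A⁻¹ * smat A = 1 := by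
  rw [← smat_mul, inv_mul_cancel, smat_one]

theorem smat_mul_inv (A : ↥(Cfsg.SU n F q)) : smat A * smat A⁻¹ = 1 := by
  rw [← smat_mul, mul_inv_cancel, smat_one]

theorem smat_iso (A : ↥(Cfsg.SU n F q)) : IsIsoMat q (smat A) := SU_iso A

theorem smat_det (A : ↥(Cfsg.SU n F q)) : (smat A).det = 1 := A.1.2

theorem smat_toSU (M : Matrix (Fin n) (Fin n) F) (hM : IsIsoMat q M) (hdet : M.det = 1) :
    smat (toSU M hM hdet) = M := rfl

theorem qrefl_mul_same'' {ι : Type} [Fintype ι] [DecidableEq ι] (d : ι → F) (c c' : F)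
    (hc : c * hform ι F q d d = 0) : qrefl q d c * qrefl q d c' = qrefl q d (c + c') := by
  apply mat_ext_mulVec
  intro x
  rw [← Matrix.mulVec_mulVec, qrefl_mulVec, qrefl_mulVec, qrefl_mulVec, hform_add_left,
    hform_smul_left]
  rw [add_assoc, ← add_smul]
  congr 2
  linear_combination (c' * hform ι F q x d) * hc

/-- root subgroups -/
def XS (v : Fin n → F) : Subgroup ↥(Cfsg.SU n F q) where
  carrier := {A | ∃ c : F, c * hform (Fin n) F q v v = 0 ∧ smat A = qrefl q v c}
  one_mem' := ⟨0, zero_mul _, by rw [qrefl_zero, smat_one]⟩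
  mul_mem' := by
    rintro A B ⟨c, hc, hA⟩ ⟨d, hd, hB⟩
    refine ⟨c + d, by rw [add_mul, hc, hd, add_zero], ?_⟩
    rw [smat_mul, hA, hB, qrefl_mul_same'' v c d hc]
  inv_mem' := by
    rintro A ⟨c, hc, hA⟩
    refine ⟨-c, by rw [neg_mul, hc, neg_zero], ?_⟩
    have h1 : qrefl q v c * qrefl q v (-c) = 1 := by
      rw [qrefl_mul_same'' v c (-c) hc, add_neg_cancel, qrefl_zero]
    calc smat A⁻¹ = smat A⁻¹ * (qrefl q v c * qrefl q v (-c)) := by rw [h1, Matrix.mul_one]
      _ = (smat A⁻¹ * smat A) * qrefl q v (-c) := by rw [hA, Matrix.mul_assoc]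
      _ = qrefl q v (-c) := by rw [smat_inv_mul, Matrix.one_mul]

theorem mem_XS (v : Fin n → F) (A : ↥(Cfsg.SU n F q)) :
    A ∈ XS v ↔ ∃ c : F, c * hform (Fin n) F q v v = 0 ∧ smat A = qrefl q v c := Iff.rfl

theorem XS_smul (a : F) (ha : a ≠ 0) (v : Fin n → F) :
    (XS (a • v) : Subgroup ↥(Cfsg.SU n F q)) = XS v := by
  have haq : a ^ q ≠ 0 := pow_ne_zero _ ha
  ext A
  rw [mem_XS, mem_XS]
  constructor
  · rintro ⟨c, hc, hA⟩
    refine ⟨a * a ^ q * c, ?_, by rw [hA, qrefl_smul]⟩
    rw [hform_smul_left, hform_smul_right] at hc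
    linear_combination hc
  · rintro ⟨c, hc, hA⟩
    refine ⟨c / (a * a ^ q), ?_, ?_⟩
    · rw [hform_smul_left, hform_smul_right]
      have : c / (a * a ^ q) * (a * (a ^ q * hform (Fin n) F q v v)) =
          c * hform (Fin n) F q v v := by
        field_simp
      rw [this, hc]
    · rw [hA, qrefl_smul]
      congr 1
      field_simp

theorem XS_conj (g : ↥(Cfsg.SU n F q)) (v : Fin n → F) :
    MulAut.conj g • (XS v : Subgroup ↥(Cfsg.SU n F q)) = XS (smat g *ᵥ v) := by
  ext A
  rw [Subgroup.mem_smul_pointwise_iff_exists, mem_XS]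
  constructor
  · rintro ⟨s, ⟨c, hc, hs⟩, rfl⟩
    refine ⟨c, by rw [smat_iso g, hc], ?_⟩
    rw [MulAut.smul_def, MulAut.conj_apply, smat_mul, smat_mul, hs, qrefl_conj _ (smat_iso g),
      Matrix.mul_assoc, smat_mul_inv, Matrix.mul_one]
  · rintro ⟨c, hc, hA⟩
    refine ⟨g⁻¹ * A * g, ⟨c, by rw [smat_iso g] at hc; exact hc, ?_⟩, ?_⟩
    · rw [smat_mul, smat_mul, hA, Matrix.mul_assoc, ← qrefl_conj _ (smat_iso g),
        ← Matrix.mul_assoc, smat_inv_mul, Matrix.one_mul]
    · rw [MulAut.smul_def, MulAut.conj_apply]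
      group

theorem rep_smul (g : ↥(Cfsg.SU n F q)) (p : ↥(isoPts n F q)) :
    ∃ a : F, a ≠ 0 ∧ (g • p).1.rep = a • (smat g *ᵥ p.1.rep) := by
  have hne : smat g *ᵥ p.1.rep ≠ 0 :=
    (smul_ne_zero_iff_ne (g : Matrix.SpecialLinearGroup (Fin n) F) (x := p.1.rep)).mpr
      p.1.rep_nonzero
  have hp : (g • p).1 = Projectivization.mk F (smat g *ᵥ p.1.rep) hne := by
    show g • p.1 = _
    conv_lhs => rw [← Projectivization.mk_rep p.1]
    rfl
  obtain ⟨a, ha⟩ := Projectivization.exists_smul_eq_mk_rep F (smat g *ᵥ p.1.rep) hne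
  refine ⟨(a : F), a.ne_zero, ?_⟩
  rw [hp, ← ha, Units.smul_def]

theorem rep_mkO (v : Fin n → F) (hv : v ≠ 0) (hiso : hform (Fin n) F q v v = 0) :
    ∃ a : F, a ≠ 0 ∧ (mkO v hv hiso : ↥(isoPts n F q)).1.rep = a • v := by
  obtain ⟨a, ha⟩ := Projectivization.exists_smul_eq_mk_rep F v hv
  refine ⟨(a : F), a.ne_zero, ?_⟩
  show (Projectivization.mk F v hv).rep = _
  rw [← ha, Units.smul_def]

/-- every element of `SU` whose matrix is a product of transvections lies in the join of the
root subgroups -/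
theorem mem_iSup_XS_of_TT (hF : Fintype.card F = q ^ 2) {M : Matrix (Fin n) (Fin n) F}
    (hM : M ∈ TT (Fin n) F q) :
    ∀ A : ↥(Cfsg.SU n F q), smat A = M →
      A ∈ ⨆ p : ↥(isoPts n F q), (XS p.1.rep : Subgroup ↥(Cfsg.SU n F q)) := by
  induction hM using Submonoid.closure_induction with
  | mem x hx =>
    intro A hA
    obtain ⟨d, c, hd, hc, rfl⟩ := hx
    by_cases hd0 : d = 0
    · have : A = 1 := by
        apply smat_injective
        rw [hA, hd0, smat_one]
        apply mat_ext_mulVec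
        intro x
        rw [qrefl_mulVec, smul_zero, add_zero, Matrix.one_mulVec]
      rw [this]
      exact Subgroup.one_mem _
    · apply Subgroup.mem_iSup_of_mem (mkO d hd0 hd)
      obtain ⟨a, ha0, ha⟩ := rep_mkO d hd0 hd
      rw [ha, XS_smul a ha0]
      exact ⟨c, by rw [hd, mul_zero], hA⟩
  | one =>
    intro A hA
    have : A = 1 := smat_injective (by rw [hA, smat_one])
    rw [this]
    exact Subgroup.one_mem _
  | mul x y hx hy ihx ihy =>
    intro A hA
    have hAXY : A = toSU x (TT_iso hF hx) (TT_det hx) * toSU y (TT_iso hF hy) (TT_det hy) := by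
      apply smat_injective
      rw [hA]
      rfl
    rw [hAXY]
    exact Subgroup.mul_mem _ (ihx _ rfl) (ihy _ rfl)

/-- the Iwasawa structure on isotropic points -/
noncomputable def iwaSU (hF : Fintype.card F = q ^ 2) (h32 : ¬ (n = 3 ∧ q = 2)) :
    MulAction.IwasawaStructure ↥(Cfsg.SU n F q) ↥(isoPts n F q) where
  T := fun p => XS p.1.rep
  is_comm := fun p => ⟨⟨by
    rintro ⟨A, c, hc, hA⟩ ⟨B, d, hd, hB⟩
    apply Subtype.ext
    apply smat_injective
    show smat A * smat B = smat B * smat A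
    rw [hA, hB, qrefl_mul_same'' _ c d hc, qrefl_mul_same'' _ d c hd, add_comm]⟩⟩
  is_conj := by
    intro g p
    rw [XS_conj]
    obtain ⟨a, ha0, ha⟩ := rep_smul g p
    rw [ha, XS_smul a ha0]
  is_generator := by
    rw [eq_top_iff]
    intro A _
    exact mem_iSup_XS_of_TT hF (SU_le_TT hF n h32 (smat A) (smat_iso A) (smat_det A)) A rfl

theorem mem_commSet_of_mats' (A : ↥(Cfsg.SU n F q)) (B C : Matrix (Fin n) (Fin n) F)
    (hB : IsIsoMat q B) (hBd : B.det = 1) (hC : IsIsoMat q C) (hCd : C.det = 1)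
    (h : B * C = smat A * C * B) : A ∈ commutatorSet ↥(Cfsg.SU n F q) := by
  have hBC : toSU B hB hBd * toSU C hC hCd = A * toSU C hC hCd * toSU B hB hBd := by
    apply smat_injective
    exact h
  refine ⟨toSU B hB hBd, toSU C hC hCd, ?_⟩
  rw [commutatorElement_def, hBC]
  group

theorem mem_commutator_of_TT (hF : Fintype.card F = q ^ 2) (hn : 4 ≤ n ∨ (n = 3 ∧ 3 ≤ q))
    {M : Matrix (Fin n) (Fin n) F} (hM : M ∈ TT (Fin n) F q) :
    ∀ A : ↥(Cfsg.SU n F q), smat A = M → A ∈ commutator ↥(Cfsg.SU n F q) := by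
  induction hM using Submonoid.closure_induction with
  | mem x hx =>
    intro A hA
    obtain ⟨d, c, hd, hc, rfl⟩ := hx
    by_cases hd0 : d = 0
    · have : A = 1 := by
        apply smat_injective
        rw [hA, hd0, smat_one]
        apply mat_ext_mulVec
        intro x
        rw [qrefl_mulVec, smul_zero, add_zero, Matrix.one_mulVec]
      rw [this]
      exact Subgroup.one_mem _
    · rw [commutator_eq_closure]
      apply Subgroup.subset_closure
      rcases hn with h4 | ⟨h3, hq3⟩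
      · obtain ⟨B, C, hB, hC, hBC⟩ := exists_comm_siegel hF h4 d hd0 hd c hc
        apply mem_commSet_of_mats' A B C (TT_iso hF hB) (TT_det hB) (TT_iso hF hC) (TT_det hC)
        rw [hA]
        exact hBC
      · obtain ⟨B, C, hB, hBd, hC, hCd, hBC⟩ :=
          exists_comm_torus hF (by omega) hq3 d hd0 hd c hc
        apply mem_commSet_of_mats' A B C hB hBd hC hCd
        rw [hA]
        exact hBC
  | one =>
    intro A hA
    have : A = 1 := smat_injective (by rw [hA, smat_one])
    rw [this]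
    exact Subgroup.one_mem _
  | mul x y hx hy ihx ihy =>
    intro A hA
    have hAXY : A = toSU x (TT_iso hF hx) (TT_det hx) * toSU y (TT_iso hF hy) (TT_det hy) := by
      apply smat_injective
      rw [hA]
      rfl
    rw [hAXY]
    exact Subgroup.mul_mem _ (ihx _ rfl) (ihy _ rfl)

theorem SU_perfect (hF : Fintype.card F = q ^ 2) (hn : 3 ≤ n) (h32 : ¬ (n = 3 ∧ q = 2)) :
    commutator ↥(Cfsg.SU n F q) = ⊤ := by
  rw [eq_top_iff]
  intro A _
  have hq := one_lt_q' hF
  have hn' : 4 ≤ n ∨ (n = 3 ∧ 3 ≤ q) := by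
    by_cases h4 : 4 ≤ n
    · exact Or.inl h4
    · right
      have h3 : n = 3 := by omega
      refine ⟨h3, ?_⟩
      by_contra hq3
      exact h32 ⟨h3, by omega⟩
  exact mem_commutator_of_TT hF hn' (SU_le_TT hF n h32 (smat A) (smat_iso A) (smat_det A)) A rfl

theorem fix_scalar (hF : Fintype.card F = q ^ 2) (k : ↥(Cfsg.SU n F q))
    (hk : ∀ p : ↥(isoPts n F q), k • p = p) (v : Fin n → F) (hv : v ≠ 0)
    (hiv : hform (Fin n) F q v v = 0) : ∃ a : F, smat k *ᵥ v = a • v := by
  have h1 := hk (mkO v hv hiv)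
  rw [smul_mkO, mkO_eq_iff] at h1
  obtain ⟨a, ha⟩ := h1
  exact ⟨a, ha.symm⟩

/-- an element fixing all isotropic points commutes with all transvections -/
theorem comm_qrefl_of_fixes (hF : Fintype.card F = q ^ 2) (k : ↥(Cfsg.SU n F q))
    (hk : ∀ p : ↥(isoPts n F q), k • p = p) (v : Fin n → F) (hv : v ≠ 0)
    (hiv : hform (Fin n) F q v v = 0) (c : F) :
    smat k * qrefl q v c = qrefl q v c * smat k := by
  have hq0 := q_ne_zero' hF
  obtain ⟨z, hzz, hvz, hzv⟩ := exists_isotropic_nonorth hF v v hv hv hiv hiv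
  have hz0 : z ≠ 0 := by
    rintro rfl
    rw [hform_zero_left] at hzv
    exact hzv rfl
  obtain ⟨l, hl⟩ := fix_scalar hF k hk v hv hiv
  obtain ⟨m, hm⟩ := fix_scalar hF k hk z hz0 hzz
  obtain ⟨s, hs0, hs⟩ := exists_skew_ne_zero hF
  set a := (s / hform (Fin n) F q v z) ^ q with ha
  have haq : a ^ q * hform (Fin n) F q v z = s := by
    rw [ha, pow_q_pow_q' hF]
    field_simp
  have ha0 : a ≠ 0 := by
    rw [ha]
    exact pow_ne_zero _ (div_ne_zero hs0 hvz)
  have hazv : a * hform (Fin n) F q z v = s ^ q := by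
    rw [← haq, mul_pow, pow_q_pow_q' hF, hform_conj hF]
  set x := v + a • z with hx
  have hxx : hform (Fin n) F q x x = 0 := by
    rw [hx]
    simp only [hform_add_left, hform_add_right hF, hform_smul_left, hform_smul_right, hiv, hzz]
    linear_combination haq + hazv + hs
  have hxz : hform (Fin n) F q x z = hform (Fin n) F q v z := by
    rw [hx, hform_add_left, hform_smul_left, hzz, mul_zero, add_zero]
  have hx0 : x ≠ 0 := by
    intro h
    rw [h, hform_zero_left] at hxz
    exact hvz hxz.symm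
  obtain ⟨ν, hν⟩ := fix_scalar hF k hk x hx0 hxx
  have hkx : smat k *ᵥ x = l • v + (a * m) • z := by
    rw [hx, Matrix.mulVec_add, Matrix.mulVec_smul, hl, hm, smul_smul]
  have hrel : (l - ν) • v + (a * (m - ν)) • z = 0 := by
    have : l • v + (a * m) • z = ν • (v + a • z) := by rw [← hkx, hν]
    rw [smul_add, smul_smul] at this
    rw [sub_smul, mul_sub, sub_smul]
    rw [sub_add_sub_comm, this, mul_comm ν a, sub_self]
  have h1 : l = ν := by
    have := congrArg (fun y => hform (Fin n) F q y z) hrel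
    simp only [hform_add_left, hform_smul_left, hzz, hform_zero_left, mul_zero, add_zero] at this
    rcases mul_eq_zero.mp this with h | h
    · exact sub_eq_zero.mp h
    · exact absurd h hvz
  have h2 : m = ν := by
    have := congrArg (fun y => hform (Fin n) F q y v) hrel
    simp only [hform_add_left, hform_smul_left, hiv, hform_zero_left, mul_zero, zero_add] at this
    rcases mul_eq_zero.mp this with h | h
    · rcases mul_eq_zero.mp h with h' | h'
      · exact absurd h' ha0
      · exact sub_eq_zero.mp h'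
    · exact absurd h hzv
  have hlm : l * m ^ q = 1 := by
    have := smat_iso k v z
    rw [hl, hm, hform_smul_left, hform_smul_right] at this
    have h3 : (l * m ^ q - 1) * hform (Fin n) F q v z = 0 := by linear_combination this
    rcases mul_eq_zero.mp h3 with h | h
    · exact sub_eq_zero.mp h
    · exact absurd h hvz
  have hll : l * l ^ q = 1 := by rw [h2, ← h1] at hlm; exact hlm
  rw [qrefl_conj _ (smat_iso k), hl, qrefl_smul, hll, one_mul]

theorem comm_TT_of_fixes (hF : Fintype.card F = q ^ 2) (k : ↥(Cfsg.SU n F q))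
    (hk : ∀ p : ↥(isoPts n F q), k • p = p) {M : Matrix (Fin n) (Fin n) F}
    (hM : M ∈ TT (Fin n) F q) : smat k * M = M * smat k := by
  induction hM using Submonoid.closure_induction with
  | mem x hx =>
    obtain ⟨d, c, hd, hc, rfl⟩ := hx
    by_cases hd0 : d = 0
    · have : qrefl q d c = 1 := by
        rw [hd0]
        apply mat_ext_mulVec
        intro x
        rw [qrefl_mulVec, smul_zero, add_zero, Matrix.one_mulVec]
      rw [this, Matrix.mul_one, Matrix.one_mul]
    · exact comm_qrefl_of_fixes hF k hk d hd0 hd c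
  | one => rw [Matrix.mul_one, Matrix.one_mul]
  | mul x y _ _ hx hy =>
    rw [← Matrix.mul_assoc, hx, Matrix.mul_assoc, hy, Matrix.mul_assoc]

theorem mem_center_of_fixes (hF : Fintype.card F = q ^ 2) (h32 : ¬ (n = 3 ∧ q = 2))
    (k : ↥(Cfsg.SU n F q)) (hk : ∀ p : ↥(isoPts n F q), k • p = p) :
    k ∈ Subgroup.center ↥(Cfsg.SU n F q) := by
  rw [Subgroup.mem_center_iff]
  intro g
  apply smat_injective
  rw [smat_mul, smat_mul]
  exact (comm_TT_of_fixes hF k hk
    (SU_le_TT hF n h32 (smat g) (smat_iso g) (smat_det g))).symm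

/-- a nontrivial element of `SU_n`, `n ≥ 2` -/
theorem exists_SU_ne_one (hF : Fintype.card F = q ^ 2) (hn : 2 ≤ n) :
    ∃ A : ↥(Cfsg.SU n F q), A ≠ 1 := by
  have hq0 := q_ne_zero' hF
  have h01 : (⟨0, by omega⟩ : Fin n) ≠ ⟨1, by omega⟩ := by
    intro h; simp [Fin.ext_iff] at h
  obtain ⟨u, v, huu, hvv, huv, _, _⟩ :=
    exists_hyp_pair_coord hF (⟨0, by omega⟩ : Fin n) ⟨1, by omega⟩ h01
  obtain ⟨s, hs0, hs⟩ := exists_skew_ne_zero hF
  refine ⟨toSU (qrefl q u s) (qrefl_iso_skew hF u huu s hs)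
    (by rw [det_qrefl', huu, mul_zero, add_zero]), ?_⟩
  intro h
  have h1 := congrArg (fun A : ↥(Cfsg.SU n F q) => smat A *ᵥ v) h
  simp only [smat_toSU, smat_one, Matrix.one_mulVec, qrefl_mulVec] at h1
  have hvu : hform (Fin n) F q v u = 1 := by rw [← hform_conj hF, huv, one_pow]
  rw [hvu, mul_one] at h1
  have h2 : s • u = 0 := by
    have : v + s • u = v + 0 := by rw [add_zero]; exact h1
    exact add_left_cancel this
  have hu0 : u ≠ 0 := by
    rintro rfl
    rw [hform_zero_left] at huv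
    exact zero_ne_one huv
  rcases smul_eq_zero.mp h2 with h3 | h3
  · exact hs0 h3
  · exact hu0 h3

end sugen10

end Cfsg.Agent.Lib.Helper51
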