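import Mathlib
import Cfsg.Prelude.Def_GeometricClasses
import Cfsg.Agent.Lib.Helper51.SUGen10
set_option autoImplicit false
set_option linter.unusedSectionVars false
set_option linter.unusedVariables false
set_option linter.unusedSimpArgs false

/-! Overgroups of subgroups of `SU_n(q)` inside `GL_n`: the set of centres of transvection
subgroups contained in a subgroup `M`. -/

namespace Cfsg.Agent.Lib.Helper51

open Matrix Cfsg.Agent.Lib.Helper08

section sumax1
variable {F : Type*} [Field F] [Fintype F] {q : ℕ} {n : ℕ}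

local notation "GLn" => Matrix.GeneralLinearGroup (Fin n) F
local notation "hh" => hform (Fin n) F q

theorem mem_GUSL_iff (g : GLn) :
    g ∈ Cfsg.GU n F q ⊓ Cfsg.Geo.specialLinear (Fin n) F ↔
      IsIsoMat q (g : Matrix (Fin n) (Fin n) F) ∧ (g : Matrix (Fin n) (Fin n) F).det = 1 := by
  rw [Subgroup.mem_inf]
  constructor
  · rintro ⟨h1, h2⟩
    refine ⟨h1, ?_⟩
    have h3 : Matrix.GeneralLinearGroup.det g = 1 := h2
    have h4 := congrArg Units.val h3
    rwa [Matrix.GeneralLinearGroup.val_det_apply] at h4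
  · rintro ⟨h1, h2⟩
    refine ⟨h1, ?_⟩
    show Matrix.GeneralLinearGroup.det g = 1
    apply Units.ext
    rw [Matrix.GeneralLinearGroup.val_det_apply, h2]
    rfl

theorem gl_mul_act' (g h : GLn) (x : Fin n → F) : (g * h).1 *ᵥ x = g.1 *ᵥ (h.1 *ᵥ x) := by
  rw [Units.val_mul, Matrix.mulVec_mulVec]

theorem gl_inv_act' (g : GLn) (x : Fin n → F) : g⁻¹.1 *ᵥ (g.1 *ᵥ x) = x := by
  rw [← gl_mul_act', inv_mul_cancel, Units.val_one, Matrix.one_mulVec]

theorem gl_act_inv' (g : GLn) (x : Fin n → F) : g.1 *ᵥ (g⁻¹.1 *ᵥ x) = x := by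
  rw [← gl_mul_act', mul_inv_cancel, Units.val_one, Matrix.one_mulVec]

/-- an invertible matrix mapping `W` into itself stabilises `W` (finite group) -/
theorem mem_stab_of_maps (W : Submodule F (Fin n → F)) (g : GLn)
    (h1 : ∀ v ∈ W, g.1 *ᵥ v ∈ W) : g ∈ Cfsg.Geo.subspaceStabilizer W := by
  have hpow : ∀ k : ℕ, ∀ v ∈ W, (g ^ k).1 *ᵥ v ∈ W := by
    intro k
    induction k with
    | zero => intro v hv; rw [pow_zero, Units.val_one, Matrix.one_mulVec]; exact hv
    | succ k ih =>
      intro v hv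
      rw [pow_succ, gl_mul_act']
      exact ih _ (h1 v hv)
  have hinv : g⁻¹ = g ^ (orderOf g - 1) := by
    apply inv_eq_of_mul_eq_one_right
    rw [← pow_succ', Nat.sub_add_cancel (orderOf_pos g), pow_orderOf_eq_one]
  show ∀ v, v ∈ (W : Set (Fin n → F)) ↔ (Cfsg.glToMat (Fin n) F g) *ᵥ v ∈ (W : Set (Fin n → F))
  intro v
  constructor
  · intro hv; exact h1 v hv
  · intro hv
    have h2 := hpow (orderOf g - 1) _ hv
    rw [← hinv] at h2
    have h3 : g⁻¹.1 *ᵥ (g.1 *ᵥ v) = v := gl_inv_act' g v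
    have h4 : (Cfsg.glToMat (Fin n) F g) *ᵥ v = g.1 *ᵥ v := rfl
    rw [h4] at h2
    rw [h3] at h2
    exact h2

theorem stab_maps (W : Submodule F (Fin n → F)) (g : GLn)
    (hg : g ∈ Cfsg.Geo.subspaceStabilizer W) (v : Fin n → F) (hv : v ∈ W) : g.1 *ᵥ v ∈ W :=
  (hg v).mp hv

/-- centres of transvection subgroups contained in `M` -/
def XM (q : ℕ) (M : Subgroup GLn) : Set (Fin n → F) :=
  {v | hform (Fin n) F q v v = 0 ∧
    ∀ c : F, c + c ^ q = 0 → ∀ t : GLn, t.1 = qrefl q v c → t ∈ M}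

theorem XM_iso (M : Subgroup GLn) (v : Fin n → F) (hv : v ∈ XM q M) : hh v v = 0 := hv.1

theorem XM_act (hF : Fintype.card F = q ^ 2) (M : Subgroup GLn) (g : GLn) (hgM : g ∈ M)
    (hg : IsIsoMat q g.1) (v : Fin n → F) (hv : v ∈ XM q M) : g.1 *ᵥ v ∈ XM q M := by
  refine ⟨by rw [hg]; exact hv.1, ?_⟩
  intro c hc t ht
  have hs : (g⁻¹ * t * g).1 = qrefl q v c := by
    rw [Units.val_mul, Units.val_mul, ht, Matrix.mul_assoc, ← qrefl_conj g.1 hg, ← Matrix.mul_assoc,
      ← Units.val_mul, inv_mul_cancel, Units.val_one, Matrix.one_mul]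
  have h1 := hv.2 c hc _ hs
  have h2 : t = g * (g⁻¹ * t * g) * g⁻¹ := by group
  rw [h2]
  exact M.mul_mem (M.mul_mem hgM h1) (M.inv_mem hgM)

theorem XM_smul (hF : Fintype.card F = q ^ 2) (M : Subgroup GLn) (a : F) (v : Fin n → F)
    (hv : v ∈ XM q M) : a • v ∈ XM q M := by
  refine ⟨by rw [hform_smul_left, hform_smul_right, hv.1, mul_zero, mul_zero], ?_⟩
  intro c hc t ht
  rw [qrefl_smul] at ht
  exact hv.2 _ (skew_mul_fix (a * a ^ q) c (nm_fix hF a) hc) t ht

/-- a subgroup containing all transvection subgroups contains `SU_n` -/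
theorem le_of_XM (hF : Fintype.card F = q ^ 2) (h32 : ¬ (n = 3 ∧ q = 2)) (M : Subgroup GLn)
    (h : ∀ v : Fin n → F, hh v v = 0 → v ∈ XM q M) :
    Cfsg.GU n F q ⊓ Cfsg.Geo.specialLinear (Fin n) F ≤ M := by
  intro g hg
  rw [mem_GUSL_iff] at hg
  have hTT := SU_le_TT hF n h32 g.1 hg.1 hg.2
  have key : ∀ A ∈ TT (Fin n) F q, ∀ t : GLn, t.1 = A → t ∈ M := by
    intro A hA
    induction hA using Submonoid.closure_induction with
    | mem x hx =>
      intro t ht
      obtain ⟨d, c, hd, hc, rfl⟩ := hx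
      exact (h d hd).2 c hc t ht
    | one =>
      intro t ht
      have : t = 1 := Units.ext ht
      rw [this]
      exact M.one_mem
    | mul x y hx hy ihx ihy =>
      intro t ht
      have hxu : IsUnit x := (TT_iso hF hx).isUnit hF
      have hyu : IsUnit y := (TT_iso hF hy).isUnit hF
      have : t = hxu.unit * hyu.unit := by
        apply Units.ext
        rw [ht, Units.val_mul]
        rfl
      rw [this]
      exact M.mul_mem (ihx _ rfl) (ihy _ rfl)
  exact key _ hTT g rfl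

/-- separation: a vector outside a subspace is detected by the perp of the subspace -/
theorem perp_sep (hF : Fintype.card F = q ^ 2) (W : Submodule F (Fin n → F)) (x : Fin n → F)
    (hx : x ∉ W) : ∃ u : Fin n → F, (∀ w ∈ W, hh w u = 0) ∧ hh x u ≠ 0 := by
  classical
  obtain ⟨φ, hφx, hφW⟩ := Submodule.exists_dual_map_eq_bot_of_notMem hx inferInstance
  set a : Fin n → F := fun i => φ (fun j => if i = j then 1 else 0) with ha
  have hφ : ∀ y : Fin n → F, φ y = hh y (fun i => a i ^ q) := by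
    intro y
    rw [LinearMap.pi_apply_eq_sum_univ φ y]
    unfold hform
    apply Finset.sum_congr rfl
    intro i _
    rw [pow_q_pow_q' hF, ha, smul_eq_mul]
  refine ⟨fun i => a i ^ q, ?_, ?_⟩
  · intro w hw
    rw [← hφ]
    have : φ w ∈ W.map φ := Submodule.mem_map_of_mem hw
    rw [hφW] at this
    exact this
  · rw [← hφ]
    exact hφx

end sumax1

end Cfsg.Agent.Lib.Helper51
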