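import Mathlib
import Cfsg.Agent.Lib.Helper51.SUMax1
set_option autoImplicit false
set_option linter.unusedSectionVars false
set_option linter.unusedVariables false
set_option linter.unusedSimpArgs false

/-! Extensions of isometries along orthonormal families, transitivity of the unitary group on
vectors of equal norm, hyperbolic-line closure of the set of transvection centres. -/

namespace Cfsg.Agent.Lib.Helper51

open Matrix Cfsg.Agent.Lib.Helper08

section sumax2a
variable {F : Type*} [Field F] [Fintype F] {q : ℕ} {ι : Type} [Fintype ι] [DecidableEq ι]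
  {κ : Type} [Fintype κ] [DecidableEq κ]

theorem hform_zero_right'' (hF : Fintype.card F = q ^ 2) (x : ι → F) : hform ι F q x 0 = 0 := by
  rw [← hform_conj hF, hform_zero_left, zero_pow (q_ne_zero' hF)]

/-- `h(W b, x) = h(b, S x)` -/
theorem hform_left_Wm (hF : Fintype.card F = q ^ 2) (w : κ → ι → F) (x : ι → F) (b : κ → F) :
    hform ι F q (Wm w *ᵥ b) x = hform κ F q b (Ws q w *ᵥ x) := by
  rw [← hform_conj hF, hform_right_Wm hF, hform_conj hF]

/-- the extension of an isometry along an orthonormal family is an isometry -/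
theorem Ew_iso (hF : Fintype.card F = q ^ 2) (w : κ → ι → F) (hw : IsDual q w w)
    (M' : Matrix κ κ F) (hM' : IsIsoMat q M') : IsIsoMat q (Ew q w w M') := by
  intro x y
  rw [Ew_mulVec, Ew_mulVec]
  set sx := Ws q w *ᵥ x with hsx
  set sy := Ws q w *ᵥ y with hsy
  set a := M' *ᵥ sx - sx with ha
  set a' := M' *ᵥ sy - sy with ha'
  rw [hform_add_left, hform_add_right hF, hform_add_right hF, hform_right_Wm hF, hform_left_Wm hF,
    hform_Wm hF w hw, ← hsx, ← hsy]
  have h1 : hform κ F q (sx + a) (sy + a') = hform κ F q sx sy := by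
    have e1 : sx + a = M' *ᵥ sx := by rw [ha]; abel
    have e2 : sy + a' = M' *ᵥ sy := by rw [ha']; abel
    rw [e1, e2, hM']
  rw [hform_add_left, hform_add_right hF, hform_add_right hF] at h1
  linear_combination h1

theorem Ew_Wm (w : κ → ι → F) (hw : IsDual q w w) (M' : Matrix κ κ F) (c : κ → F) :
    Ew q w w M' *ᵥ (Wm w *ᵥ c) = Wm w *ᵥ (M' *ᵥ c) := by
  rw [Ew_mulVec, Ws_Wm_mulVec w w hw, Matrix.mulVec_sub]
  abel

theorem Ew_fix (w : κ → ι → F) (M' : Matrix κ κ F) (x : ι → F) (hx : Ws q w *ᵥ x = 0) :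
    Ew q w w M' *ᵥ x = x := by
  rw [Ew_mulVec, hx, Matrix.mulVec_zero, sub_zero, Matrix.mulVec_zero, add_zero]

/-- the unitary group is transitive on nonzero vectors of a given norm -/
theorem exists_iso_same_norm (hF : Fintype.card F = q ^ 2) (c c' : ι → F) (hc : c ≠ 0)
    (hc' : c' ≠ 0) (h : hform ι F q c c = hform ι F q c' c') :
    ∃ A : Matrix ι ι F, IsIsoMat q A ∧ A *ᵥ c = c' := by
  by_cases h0 : hform ι F q c c = 0
  · exact exists_iso_map_isotropic hF c c' hc hc' h0 (by rw [← h, h0])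
  · obtain ⟨l, hl⟩ := exists_nm_eq hF (hform ι F q c c) (hform_self_pow hF c)
    have hl0 : l ≠ 0 := by
      rintro rfl
      apply h0
      rw [← hl, zero_mul]
    have hlq0 : l ^ q ≠ 0 := pow_ne_zero _ hl0
    have n1 : hform ι F q (l⁻¹ • c) (l⁻¹ • c) = 1 := by
      rw [hform_smul_left, hform_smul_right, ← hl, inv_pow]
      field_simp
    have n2 : hform ι F q (l⁻¹ • c') (l⁻¹ • c') = 1 := by
      rw [hform_smul_left, hform_smul_right, ← h, ← hl, inv_pow]
      field_simp
    obtain ⟨A, hA, hAc⟩ := exists_iso_map hF _ _ n1 n2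
    refine ⟨A, hA, ?_⟩
    rw [Matrix.mulVec_smul] at hAc
    have := congrArg (fun v => l • v) hAc
    simp only [smul_smul, mul_inv_cancel₀ hl0, one_smul] at this
    exact this

end sumax2a

section sumax2b
variable {F : Type*} [Field F] [Fintype F] {q : ℕ} {n : ℕ}

local notation "GLn" => Matrix.GeneralLinearGroup (Fin n) F
local notation "hh" => hform (Fin n) F q

/-- transitivity with prescribed determinant -/
theorem exists_iso_same_norm_det (hF : Fintype.card F = q ^ 2) (hn : 3 ≤ n) (d d' : Fin n → F)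
    (hd : d ≠ 0) (hd' : d' ≠ 0) (h : hh d d = hh d' d') (δ : F) (hδ : δ * δ ^ q = 1) :
    ∃ D : Matrix (Fin n) (Fin n) F, IsIsoMat q D ∧ D *ᵥ d = d' ∧ D.det = δ := by
  obtain ⟨D0, hD0, hD0d⟩ := exists_iso_same_norm hF d d' hd hd' h
  have hn0 := det_norm_of_iso hF D0 hD0
  have hdet0 : D0.det ≠ 0 := by
    intro h0
    rw [h0, zero_mul] at hn0
    exact zero_ne_one hn0
  have hδ' : (δ / D0.det) * (δ / D0.det) ^ q = 1 := by
    rw [div_pow, div_mul_div_comm, hδ, hn0, div_one]
  obtain ⟨D1, hD1, hD1d, hD1det⟩ := exists_stab_det hF hn d' hd' _ hδ'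
  refine ⟨D1 * D0, hD1.mul hD0, ?_, ?_⟩
  · rw [← Matrix.mulVec_mulVec, hD0d, hD1d]
  · rw [Matrix.det_mul, hD1det, div_mul_cancel₀ _ hdet0]

/-- closure of the set of centres under hyperbolic lines -/
theorem XM_hyp (hF : Fintype.card F = q ^ 2) (M : Subgroup GLn) (x1 x2 : Fin n → F)
    (h1 : x1 ∈ XM q M) (h2 : x2 ∈ XM q M) (a : F) (hne : hh x1 x2 ≠ 0)
    (hiso : hh (x1 + a • x2) (x1 + a • x2) = 0) : x1 + a • x2 ∈ XM q M := by
  set β := hh x1 x2 with hβ
  have hβq : hh x2 x1 = β ^ q := by rw [hβ, hform_conj hF]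
  have hβq0 : β ^ q ≠ 0 := pow_ne_zero _ hne
  have e : a ^ q * β + a * β ^ q = 0 := by
    rw [hform_add_left, hform_add_right hF, hform_add_right hF, hform_smul_left, hform_smul_left,
      hform_smul_right, hform_smul_right, h1.1, h2.1, hβq, ← hβ] at hiso
    linear_combination hiso
  set c : F := a / β with hc
  have hcs : c + c ^ q = 0 := by
    rw [hc, div_pow]
    field_simp
    linear_combination e
  have hti : IsIsoMat q (qrefl q x2 c) := qrefl_iso_skew hF x2 h2.1 c hcs
  set t : GLn := (hti.isUnit hF).unit with ht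
  have htv : t.1 = qrefl q x2 c := rfl
  have htM : t ∈ M := h2.2 c hcs t htv
  have := XM_act hF M t htM hti x1 h1
  rw [htv, qrefl_mulVec, ← hβ, hc, div_mul_cancel₀ _ hne] at this
  exact this

/-- an isotropic vector not orthogonal to either of two given nonzero vectors -/
theorem exists_isotropic_two (hF : Fintype.card F = q ^ 2) (hn : 2 ≤ n) (uA uB : Fin n → F)
    (hA : uA ≠ 0) (hB : uB ≠ 0) :
    ∃ z : Fin n → F, hh z z = 0 ∧ hh z uA ≠ 0 ∧ hh z uB ≠ 0 := by
  have hq0 := q_ne_zero' hF
  -- a nonzero isotropic vector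
  obtain ⟨ε, hε⟩ := exists_nm_neg_one hF
  set i0 : Fin n := ⟨0, by omega⟩ with hi0
  set i1 : Fin n := ⟨1, by omega⟩ with hi1
  have hi01 : i0 ≠ i1 := by
    intro h
    have := congrArg Fin.val h
    simp [hi0, hi1] at this
  set a0 : Fin n → F := Pi.single i0 1 + ε • Pi.single i1 1 with ha0
  have ha0iso : hh a0 a0 = 0 := by
    rw [ha0, hform_add_left, hform_add_right hF, hform_add_right hF, hform_smul_left,
      hform_smul_left, hform_smul_right, hform_smul_right, hform_single_right hF,
      hform_single_right hF, hform_single_right hF, hform_single_right hF]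
    simp only [Pi.single_eq_same, Pi.single_eq_of_ne hi01, Pi.single_eq_of_ne hi01.symm]
    linear_combination hε
  have ha0ne : a0 ≠ 0 := by
    intro h
    have := congrFun h i0
    rw [ha0] at this
    simp only [Pi.add_apply, Pi.smul_apply, Pi.single_eq_same, Pi.single_eq_of_ne hi01,
      smul_eq_mul, mul_zero, add_zero, Pi.zero_apply] at this
    exact one_ne_zero this
  -- one vector
  have one : ∀ u : Fin n → F, u ≠ 0 → ∃ z : Fin n → F, hh z z = 0 ∧ hh z u ≠ 0 := by
    intro u hu
    by_cases h : hh a0 u = 0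
    · obtain ⟨z, hz, _, hzu⟩ := exists_isotropic_nonorth hF a0 u ha0ne hu ha0iso h
      exact ⟨z, hz, hzu⟩
    · exact ⟨a0, ha0iso, h⟩
  obtain ⟨z1, hz1, hz1A⟩ := one uA hA
  obtain ⟨z2, hz2, hz2B⟩ := one uB hB
  by_cases h1 : hh z1 uB = 0
  · by_cases h2 : hh z2 uA = 0
    · -- combine
      obtain ⟨s, hs0, hs⟩ := exists_skew_ne_zero hF
      set β := hh z1 z2 with hβ
      have hβq : hh z2 z1 = β ^ q := by rw [hβ, hform_conj hF]
      have key : ∃ a : F, a ≠ 0 ∧ a ^ q * β + a * β ^ q = 0 := by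
        by_cases hβ0 : β = 0
        · exact ⟨1, one_ne_zero, by rw [hβ0, zero_pow hq0]; ring⟩
        · refine ⟨(s / β) ^ q, pow_ne_zero _ (div_ne_zero hs0 hβ0), ?_⟩
          rw [pow_q_pow_q' hF, div_pow]
          have hβq0 : β ^ q ≠ 0 := pow_ne_zero _ hβ0
          field_simp
          linear_combination hs
      obtain ⟨a, ha0', ha⟩ := key
      refine ⟨z1 + a • z2, ?_, ?_, ?_⟩
      · rw [hform_add_left, hform_add_right hF, hform_add_right hF, hform_smul_left,
          hform_smul_left, hform_smul_right, hform_smul_right, hz1, hz2, hβq, ← hβ]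
        linear_combination ha
      · rw [hform_add_left, hform_smul_left, h2, mul_zero, add_zero]
        exact hz1A
      · rw [hform_add_left, hform_smul_left, h1, zero_add]
        exact mul_ne_zero ha0' hz2B
    · exact ⟨z2, hz2, h2, hz2B⟩
  · exact ⟨z1, hz1, hz1A, h1⟩

end sumax2b

end Cfsg.Agent.Lib.Helper51
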