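/-
K-UTi-B5 (keystone 595305, S5953 pack of helper46): orthonormal bases of nondegenerate hermitian
spaces in every characteristic, transport of an abstract isometry of determinant one to `SU_n`,
and the determinant of an isometry has norm one.
-/
import Cfsg.Agent.Lib.Helper46.UTiDefs
import Cfsg.Agent.Lib.Helper19.UnitaryDet
import Cfsg.Agent.Lib.Helper08.SUCard
import Cfsg.Agent.Lib.Helper46.UnitaryField

set_option autoImplicit false
set_option linter.unusedSectionVars false
set_option linter.unusedVariables false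

namespace Cfsg.Agent.Lib.Helper51.UTi

open Module Polynomial Cfsg.Agent.Lib.Helper98.Elus Cfsg.Agent.Lib.Helper46.UTi
open Cfsg.Agent.Lib.Helper19 (pow_q_pow_q add_pow_q sum_pow_q q_pos one_lt_q)

universe u

section base

variable {F : Type u} [Field F] [Fintype F] {q : ℕ}

/-- the map `a ↦ a ^ q` is not the identity -/
theorem exists_pow_q_ne_self (hF : Fintype.card F = q ^ 2) : ∃ x : F, x ^ q ≠ x := by
  classical
  have hq1 : 1 < q := one_lt_q hF
  by_contra hcon
  push Not at hcon
  have hne : (Polynomial.X ^ q - Polynomial.X : Polynomial F) ≠ 0 :=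
    FiniteField.X_pow_card_sub_X_ne_zero F hq1
  have h1 : (Finset.univ : Finset F) ⊆
      (Polynomial.X ^ q - Polynomial.X : Polynomial F).roots.toFinset := by
    intro x _
    rw [Multiset.mem_toFinset, Polynomial.mem_roots hne]
    simp [hcon x]
  have h2 := Finset.card_le_card h1
  have h3 : (Polynomial.X ^ q - Polynomial.X : Polynomial F).roots.toFinset.card ≤ q := by
    calc (Polynomial.X ^ q - Polynomial.X : Polynomial F).roots.toFinset.card
        ≤ Multiset.card (Polynomial.X ^ q - Polynomial.X : Polynomial F).roots :=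
          Multiset.toFinset_card_le _
      _ ≤ (Polynomial.X ^ q - Polynomial.X : Polynomial F).natDegree := Polynomial.card_roots' _
      _ = q := FiniteField.X_pow_card_sub_X_natDegree_eq F hq1
  rw [Finset.card_univ, hF] at h2
  nlinarith

/-- the trace `a ↦ a + a ^ q` is not zero -/
theorem exists_trace_ne_zero (hF : Fintype.card F = q ^ 2) : ∃ d : F, d + d ^ q ≠ 0 := by
  by_cases h2 : (2 : F) = 0
  · obtain ⟨x, hx⟩ := exists_pow_q_ne_self hF
    refine ⟨x, fun h => hx ?_⟩
    have h3 : x ^ q = -x := by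
      rw [add_comm] at h
      exact eq_neg_of_add_eq_zero_left h
    have h4 : -x = x := by
      have : x + x = 0 := by rw [← two_mul, h2, zero_mul]
      exact neg_eq_of_add_eq_zero_left this
    rw [h3, h4]
  · refine ⟨1, ?_⟩
    rw [one_pow]
    intro h
    apply h2
    rw [← h]
    norm_num

/-- the norm `a ↦ a ^ (q+1)` is onto the non-zero fixed elements -/
theorem exists_norm_eq_of_fixed (hF : Fintype.card F = q ^ 2) (r : F) (hr0 : r ≠ 0)
    (hrq : r ^ q = r) : ∃ x : F, x ^ (q + 1) = r := by
  have hq1 : 1 < q := one_lt_q hF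
  have hrq1 : r ^ (q - 1) = 1 := by
    have h1 : r ^ (q - 1) * r = 1 * r := by
      rw [← pow_succ, Nat.sub_add_cancel (by omega), hrq, one_mul]
    exact mul_right_cancel₀ hr0 h1
  have hy : (Units.mk0 r hr0) ^ (q - 1) = 1 := by
    apply Units.ext
    rw [Units.val_pow_eq_pow_val, Units.val_mk0, Units.val_one, hrq1]
  obtain ⟨x, hx⟩ := Cfsg.Agent.Lib.Helper46.exists_pow_eq_of_pow_eq_one (C := Fˣ) (q + 1) (q - 1)
    (Cfsg.Agent.Lib.Helper46.card_units_eq hF) _ hy
  refine ⟨(x : F), ?_⟩
  have := congrArg Units.val hx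
  rwa [Units.val_pow_eq_pow_val, Units.val_mk0] at this

variable {V : Type u} [AddCommGroup V] [Module F V] {H : V → V → F}

/-- a nondegenerate non-zero subspace contains a non-isotropic vector (every characteristic) -/
theorem exists_nonisotropic (hF : Fintype.card F = q ^ 2) (hH : IsHerm q H)
    (U : Submodule F V) (hU : NonDeg H U) (hne : U ≠ ⊥) : ∃ v ∈ U, H v v ≠ 0 := by
  by_contra hall
  push Not at hall
  obtain ⟨x, hxU, hx0⟩ := (Submodule.ne_bot_iff U).mp hne
  have hy' : ∃ y ∈ U, H x y ≠ 0 := by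
    by_contra hno
    push Not at hno
    exact hx0 (hU x hxU hno)
  obtain ⟨y, hyU, hy⟩ := hy'
  obtain ⟨d, hd⟩ := exists_trace_ne_zero hF
  obtain ⟨r, hr⟩ : ∃ r, r = H x y := ⟨_, rfl⟩
  rw [← hr] at hy
  -- `c` with `c ^ q * r = d`
  obtain ⟨c, hc⟩ : ∃ c : F, c ^ q = d * r⁻¹ := ⟨(d * r⁻¹) ^ q, pow_q_pow_q hF _⟩
  have h1 : H x (c • y) = d := by
    rw [hH.smul_right, hc, ← hr, mul_assoc, inv_mul_cancel₀ hy, mul_one]
  have h1' : H (c • y) x = d ^ q := by rw [hH.conj x (c • y), h1]
  have h3 := hall (x + c • y) (U.add_mem hxU (U.smul_mem c hyU))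
  rw [hH.add_left, hH.add_right hF, hH.add_right hF, hall x hxU,
    hall (c • y) (U.smul_mem c hyU), h1, h1'] at h3
  apply hd
  rw [← h3]
  ring

variable [FiniteDimensional F V]

/-- orthonormal families of full size in nondegenerate subspaces -/
theorem exists_orthonormal_in (hF : Fintype.card F = q ^ 2) (hH : IsHerm q H) :
    ∀ (k : ℕ) (U : Submodule F V), NonDeg H U → finrank F U = k →
      ∃ e : Fin k → V, (∀ i, e i ∈ U) ∧ ∀ i j, H (e i) (e j) = if i = j then 1 else 0 := by
  intro k
  induction k with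
  | zero =>
    intro U _ _
    exact ⟨Fin.elim0, fun i => i.elim0, fun i => i.elim0⟩
  | succ k ih =>
    intro U hU hk
    have hq0 : q ≠ 0 := (q_pos hF).ne'
    have hne : U ≠ ⊥ := by
      intro h
      rw [h, finrank_bot] at hk
      omega
    obtain ⟨v, hvU, hv⟩ := exists_nonisotropic hF hH U hU hne
    obtain ⟨x, hx⟩ := exists_norm_eq_of_fixed hF (H v v)⁻¹ (inv_ne_zero hv)
      (by rw [inv_pow, hH.self_pow])
    obtain ⟨e₀, he₀def⟩ : ∃ e₀ : V, e₀ = x • v := ⟨_, rfl⟩
    have he₀U : e₀ ∈ U := by rw [he₀def]; exact U.smul_mem x hvU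
    have he₀ : H e₀ e₀ = 1 := by
      rw [he₀def, hH.smul_left, hH.smul_right, ← mul_assoc, ← pow_succ', hx,
        inv_mul_cancel₀ hv]
    -- the complement
    set U' : Submodule F V := orth hH (Submodule.span F {e₀}) ⊓ U with hU'def
    have hmemU' : ∀ w, w ∈ U' ↔ H w e₀ = 0 ∧ w ∈ U := by
      intro w
      rw [hU'def, Submodule.mem_inf, mem_orth]
      constructor
      · rintro ⟨h1, h2⟩
        exact ⟨h1 e₀ (Submodule.mem_span_singleton_self e₀), h2⟩
      · rintro ⟨h1, h2⟩
        refine ⟨?_, h2⟩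
        intro z hz
        obtain ⟨a, rfl⟩ := Submodule.mem_span_singleton.mp hz
        rw [hH.smul_right, h1, mul_zero]
    have hproj : ∀ u ∈ U, u - (H u e₀) • e₀ ∈ U' := by
      intro u hu
      rw [hmemU']
      refine ⟨?_, U.sub_mem hu (U.smul_mem _ he₀U)⟩
      rw [hH.sub_left, hH.smul_left, he₀, mul_one, sub_self]
    have hU'nd : NonDeg H U' := by
      intro w hw hw'
      apply hU w ((hmemU' w).mp hw).2
      intro u hu
      have h3 : u = (u - (H u e₀) • e₀) + (H u e₀) • e₀ := by abel
      rw [h3, hH.add_right hF, hw' _ (hproj u hu), hH.smul_right, ((hmemU' w).mp hw).1,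
        mul_zero, add_zero]
    have hsup : U' ⊔ Submodule.span F {e₀} = U := by
      apply le_antisymm
      · apply sup_le
        · exact inf_le_right
        · rw [Submodule.span_singleton_le_iff_mem]
          exact he₀U
      · intro u hu
        have h3 : u = (u - (H u e₀) • e₀) + (H u e₀) • e₀ := by abel
        rw [h3]
        exact Submodule.add_mem _ (Submodule.mem_sup_left (hproj u hu))
          (Submodule.mem_sup_right (Submodule.smul_mem _ _ (Submodule.mem_span_singleton_self e₀)))
    have hinf : U' ⊓ Submodule.span F {e₀} = ⊥ := by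
      rw [eq_bot_iff]
      intro w hw
      obtain ⟨hw1, hw2⟩ := Submodule.mem_inf.mp hw
      obtain ⟨a, rfl⟩ := Submodule.mem_span_singleton.mp hw2
      have h4 := ((hmemU' _).mp hw1).1
      rw [hH.smul_left, he₀, mul_one] at h4
      rw [h4, zero_smul]
      exact Submodule.zero_mem _
    have he₀0 : e₀ ≠ 0 := by
      intro h
      rw [h, hH.zero_left] at he₀
      exact zero_ne_one he₀
    have hfr : finrank F U' = k := by
      have h5 := Submodule.finrank_sup_add_finrank_inf_eq U' (Submodule.span F {e₀})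
      rw [hsup, hinf, finrank_bot, hk, finrank_span_singleton he₀0] at h5
      omega
    obtain ⟨e', he'U, he'⟩ := ih U' hU'nd hfr
    refine ⟨Fin.cons e₀ e', ?_, ?_⟩
    · intro i
      refine Fin.cases ?_ (fun i' => ?_) i
      · simpa using he₀U
      · rw [Fin.cons_succ]
        exact ((hmemU' _).mp (he'U i')).2
    · intro i j
      refine Fin.cases ?_ (fun i' => ?_) i <;> refine Fin.cases ?_ (fun j' => ?_) j
      · simp [he₀]
      · rw [Fin.cons_zero, Fin.cons_succ, hH.conj, ((hmemU' _).mp (he'U j')).1, zero_pow hq0,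
          if_neg (Fin.succ_ne_zero j').symm]
      · rw [Fin.cons_zero, Fin.cons_succ, ((hmemU' _).mp (he'U i')).1,
          if_neg (Fin.succ_ne_zero i')]
      · rw [Fin.cons_succ, Fin.cons_succ, he' i' j']
        simp only [Fin.succ_inj]

/-- **K-UTi-B5 (595305)**, first part: orthonormal bases in every characteristic -/
theorem exists_onb (hF : Fintype.card F = q ^ 2) (hH : IsHerm q H) (hV : NonDeg H ⊤) (n : ℕ)
    (hn : finrank F V = n) :
    ∃ b : Basis (Fin n) F V, ∀ i j, H (b i) (b j) = if i = j then 1 else 0 := by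
  classical
  obtain ⟨e, -, he⟩ := exists_orthonormal_in hF hH n ⊤ hV (by rw [finrank_top, hn])
  rcases Nat.eq_zero_or_pos n with hn0 | hn0
  · subst hn0
    have : Subsingleton V := Module.finrank_zero_iff.mp hn
    exact ⟨Module.Basis.empty V, fun i => i.elim0⟩
  · have : Nonempty (Fin n) := ⟨⟨0, hn0⟩⟩
    have hli : LinearIndependent F e := by
      rw [linearIndependent_iff']
      intro s c hc i hi
      have h1 := hH.sum_left s c e (e i)
      rw [hc, hH.zero_left] at h1
      simp only [he, mul_ite, mul_one, mul_zero] at h1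
      rw [Finset.sum_ite_eq' s i] at h1
      simpa [hi] using h1.symm
    refine ⟨basisOfLinearIndependentOfCardEqFinrank hli (by rw [Fintype.card_fin, hn]), ?_⟩
    intro i j
    rw [coe_basisOfLinearIndependentOfCardEqFinrank]
    exact he i j

omit [Fintype F] [FiniteDimensional F V] in
/-- in an orthonormal basis the form is the standard one -/
theorem form_eq_hermForm (hH : IsHerm q H) {n : ℕ} (b : Basis (Fin n) F V)
    (hb : ∀ i j, H (b i) (b j) = if i = j then 1 else 0) (x y : V) :
    H x y = Cfsg.hermForm n F q (b.repr x) (b.repr y) := by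
  classical
  have hy : ∀ (y : V) (i : Fin n), H y (b i) = b.repr y i := by
    intro y i
    conv_lhs => rw [← b.sum_repr y]
    rw [hH.sum_left]
    simp only [hb, mul_ite, mul_one, mul_zero]
    rw [Finset.sum_ite_eq' Finset.univ i]
    simp
  conv_lhs => rw [← b.sum_repr x]
  rw [hH.sum_left]
  unfold Cfsg.hermForm
  apply Finset.sum_congr rfl
  intro i _
  rw [hH.conj y (b i), hy]

omit [Fintype F] [FiniteDimensional F V] in
/-- the matrix of an isometry in an orthonormal basis preserves the standard form -/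
theorem toMatrix_preserves (hH : IsHerm q H) {n : ℕ} (b : Basis (Fin n) F V)
    (hb : ∀ i j, H (b i) (b j) = if i = j then 1 else 0) (y : V →ₗ[F] V) (hiso : Iso H y)
    (u v : Fin n → F) :
    Cfsg.hermForm n F q ((LinearMap.toMatrix b b y).mulVec u)
      ((LinearMap.toMatrix b b y).mulVec v) = Cfsg.hermForm n F q u v := by
  classical
  have hu : ⇑(b.repr (b.equivFun.symm u)) = u := by
    rw [← Module.Basis.equivFun_apply]; exact b.equivFun.apply_symm_apply u
  have hv : ⇑(b.repr (b.equivFun.symm v)) = v := by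
    rw [← Module.Basis.equivFun_apply]; exact b.equivFun.apply_symm_apply v
  rw [← hu, ← hv, LinearMap.toMatrix_mulVec_repr, LinearMap.toMatrix_mulVec_repr,
    ← form_eq_hermForm hH b hb, ← form_eq_hermForm hH b hb, hiso]

/-- **K-UTi-B5 (595305)**, second part: transport of the model -/
theorem transport_model (hF : Fintype.card F = q ^ 2) (hH : IsHerm q H) (hV : NonDeg H ⊤)
    (n m r : ℕ) (hn : finrank F V = n) (y : V →ₗ[F] V) (hiso : Iso H y)
    (hdet : LinearMap.det y = 1) (z : F) (hyr : y ^ r = z • 1) (hns : ∀ c : F, y ≠ c • 1)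
    (hL : AllFix F n m q r) :
    ∃ W : Submodule F V, Inv y W ∧ Ort H W W ∧ finrank F W = m := by
  classical
  obtain ⟨b, hb⟩ := exists_onb hF hH hV n hn
  obtain ⟨M, hM⟩ : ∃ M, M = LinearMap.toMatrixAlgEquiv b y := ⟨_, rfl⟩
  have hM' : M = LinearMap.toMatrix b b y := hM
  have hMdet : M.det = 1 := by rw [hM', LinearMap.det_toMatrix, hdet]
  have hmem : ∀ u v : Fin n → F, Cfsg.hermForm n F q (M.mulVec u) (M.mulVec v) =
      Cfsg.hermForm n F q u v := by
    intro u v
    rw [hM']
    exact toMatrix_preserves hH b hb y hiso u v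
  have hfix := hL ⟨M, hMdet⟩ ((Cfsg.Agent.Lib.Helper08.mem_SU_iff _).mpr hmem) ?_ ?_
  · obtain ⟨W₀, hW₀m, hW₀ti, hW₀fix⟩ := hfix
    refine ⟨W₀.comap (b.equivFun : V →ₗ[F] (Fin n → F)), ?_, ?_, ?_⟩
    · intro w hw
      rw [Submodule.mem_comap] at hw ⊢
      have h1 : (b.equivFun : V →ₗ[F] (Fin n → F)) (y w) =
          Matrix.toLin' M ((b.equivFun : V →ₗ[F] (Fin n → F)) w) := by
        rw [Matrix.toLin'_apply, hM']
        show ⇑(b.repr (y w)) = (LinearMap.toMatrix b b y).mulVec ⇑(b.repr w)
        rw [LinearMap.toMatrix_mulVec_repr]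
      rw [h1]
      exact hW₀fix (Submodule.mem_map_of_mem hw)
    · intro u hu v hv
      rw [Submodule.mem_comap] at hu hv
      rw [form_eq_hermForm hH b hb]
      exact hW₀ti _ hu _ hv
    · have h2 : W₀.comap (b.equivFun : V →ₗ[F] (Fin n → F)) =
          W₀.map (b.equivFun.symm : (Fin n → F) →ₗ[F] V) :=
        (Submodule.map_equiv_eq_comap_symm b.equivFun.symm W₀).symm
      rw [h2, LinearEquiv.finrank_map_eq, hW₀m]
  · refine ⟨z, ?_⟩
    show M ^ r = z • (1 : Matrix (Fin n) (Fin n) F)
    rw [hM, ← map_pow, hyr, map_smul, map_one]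
  · intro c hc
    apply hns c
    apply (LinearMap.toMatrixAlgEquiv b).injective
    rw [map_smul, map_one, ← hM]
    exact hc

/-- **K-UTi-B5 (595305)**, third part: the determinant of an isometry has norm one -/
theorem det_pow_eq_one (hF : Fintype.card F = q ^ 2) (hH : IsHerm q H) (hV : NonDeg H ⊤)
    (y : V →ₗ[F] V) (hiso : Iso H y) : (LinearMap.det y) ^ (q + 1) = 1 := by
  classical
  obtain ⟨b, hb⟩ := exists_onb hF hH hV (finrank F V) rfl
  have hinj : LinearMap.ker y = ⊥ := by
    rw [eq_bot_iff]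
    intro u hu
    rw [LinearMap.mem_ker] at hu
    rw [Submodule.mem_bot]
    apply hV u Submodule.mem_top
    intro v _
    rw [← hiso u v, hu, hH.zero_left]
  have hdet0 : LinearMap.det y ≠ 0 := by
    intro h0
    have := LinearMap.bot_lt_ker_of_det_eq_zero h0
    rw [hinj] at this
    exact lt_irrefl _ this
  have hMdet : (LinearMap.toMatrix b b y).det ≠ 0 := by
    rw [LinearMap.det_toMatrix]
    exact hdet0
  obtain ⟨g, hg⟩ : ∃ g : Matrix.GeneralLinearGroup (Fin (finrank F V)) F,
      (g : Matrix (Fin (finrank F V)) (Fin (finrank F V)) F) = LinearMap.toMatrix b b y :=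
    ⟨Matrix.GeneralLinearGroup.mkOfDetNeZero _ hMdet, rfl⟩
  have hgU : g ∈ Cfsg.GU (finrank F V) F q := by
    rw [Cfsg.Agent.Lib.Helper19.mem_GU_iff]
    intro u v
    rw [hg]
    exact toMatrix_preserves hH b hb y hiso u v
  have h1 := Cfsg.Agent.Lib.Helper19.det_pow_of_mem_GU hF g hgU
  rw [hg, LinearMap.det_toMatrix] at h1
  exact h1

end base

end Cfsg.Agent.Lib.Helper51.UTi
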