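import Mathlib

set_option autoImplicit false

namespace Cfsg.Agent.Lib.Helper51

open Polynomial

/-- A ring embedding of the field with `q` elements into the field with `q ^ 2` elements. -/
theorem exists_ringHom {F K : Type*} [Field F] [Fintype F] [Field K] [Fintype K] {q : ℕ}
    (hF : Fintype.card F = q) (hK : Fintype.card K = q ^ 2) : Nonempty (F →+* K) := by
  obtain ⟨p, hp⟩ := CharP.exists F
  have : Fact p.Prime := ⟨CharP.char_is_prime F p⟩
  obtain ⟨p', hp'⟩ := CharP.exists K
  have : Fact p'.Prime := ⟨CharP.char_is_prime K p'⟩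
  obtain ⟨k, hpk, hk⟩ := FiniteField.card F p
  obtain ⟨k', hpk', hk'⟩ := FiniteField.card K p'
  have hpp : p' = p := by
    have h1 : p' ∣ q ^ 2 := by
      rw [← hK, hk']
      exact dvd_pow_self _ k'.ne_zero
    have h2 : p' ∣ q := hpk'.dvd_of_dvd_pow h1
    rw [← hF, hk] at h2
    exact (Nat.prime_dvd_prime_iff_eq hpk' hpk).1 (hpk'.dvd_of_dvd_pow h2)
  subst hpp
  let _ := ZMod.algebra F p'
  let _ := ZMod.algebra K p'
  have hcF : Fintype.card F = p' ^ Module.finrank (ZMod p') F := by
    rw [Module.card_eq_pow_finrank (K := ZMod p') (V := F), ZMod.card]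
  have hcK : Fintype.card K = p' ^ Module.finrank (ZMod p') K := by
    rw [Module.card_eq_pow_finrank (K := ZMod p') (V := K), ZMod.card]
  have hdvd : Module.finrank (ZMod p') F ∣ Module.finrank (ZMod p') K := by
    have h3 : p' ^ Module.finrank (ZMod p') K = p' ^ (Module.finrank (ZMod p') F * 2) := by
      rw [← hcK, hK, ← hF, hcF, pow_mul]
    have h4 := Nat.pow_right_injective hpk.two_le h3
    exact ⟨2, h4⟩
  obtain ⟨f⟩ := FiniteField.nonempty_algHom_of_finrank_dvd hdvd
  exact ⟨f.toRingHom⟩

theorem add_pow_q {F K : Type*} [Field F] [Fintype F] [Field K] [Algebra F K] {q : ℕ}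
    (hF : Fintype.card F = q) (x y : K) : (x + y) ^ q = x ^ q + y ^ q := by
  obtain ⟨p, hp⟩ := CharP.exists F
  have : Fact p.Prime := ⟨CharP.char_is_prime F p⟩
  obtain ⟨k, hpk, hk⟩ := FiniteField.card F p
  have : CharP K p := charP_of_injective_algebraMap (algebraMap F K).injective p
  rw [← hF, hk]
  exact add_pow_char_pow x y p k

theorem algebraMap_pow_q {F K : Type*} [Field F] [Fintype F] [Field K] [Algebra F K] {q : ℕ}
    (hF : Fintype.card F = q) (a : F) : (algebraMap F K a) ^ q = algebraMap F K a := by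
  rw [← map_pow, ← hF, FiniteField.pow_card]

theorem mem_range_of_pow_q {F K : Type*} [Field F] [Fintype F] [Field K] [Algebra F K] {q : ℕ}
    (hF : Fintype.card F = q) (x : K) (hx : x ^ q = x) : ∃ a : F, algebraMap F K a = x := by
  classical
  have hq : 1 < q := by rw [← hF]; exact Fintype.one_lt_card
  let P : K[X] := X ^ q - X
  have hP : P ≠ 0 := FiniteField.X_pow_card_sub_X_ne_zero K hq
  have hdeg : P.natDegree = q := FiniteField.X_pow_card_sub_X_natDegree_eq K hq
  have hroot : ∀ y : K, y ∈ P.roots.toFinset ↔ y ^ q = y := by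
    intro y
    rw [Multiset.mem_toFinset, mem_roots hP]
    simp [P, sub_eq_zero]
  let S : Finset K := Finset.univ.image (algebraMap F K)
  have hS : S ⊆ P.roots.toFinset := by
    intro y hy
    obtain ⟨a, -, rfl⟩ := Finset.mem_image.1 hy
    exact (hroot _).2 (algebraMap_pow_q hF a)
  have hcS : S.card = q := by
    rw [Finset.card_image_of_injective _ (algebraMap F K).injective, Finset.card_univ, hF]
  have hcR : P.roots.toFinset.card ≤ q := by
    calc P.roots.toFinset.card ≤ Multiset.card P.roots := Multiset.toFinset_card_le _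
      _ ≤ P.natDegree := card_roots' P
      _ = q := hdeg
  have hEq : S = P.roots.toFinset := Finset.eq_of_subset_of_card_le hS (by rw [hcS]; exact hcR)
  have : x ∈ S := by rw [hEq]; exact (hroot x).2 hx
  obtain ⟨a, -, ha⟩ := Finset.mem_image.1 this
  exact ⟨a, ha⟩

theorem finrank_eq_two {F K : Type*} [Field F] [Fintype F] [Field K] [Fintype K] [Algebra F K]
    {q : ℕ} (hF : Fintype.card F = q) (hK : Fintype.card K = q ^ 2) : Module.finrank F K = 2 := by
  have hq : 1 < q := by rw [← hF]; exact Fintype.one_lt_card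
  have h := Module.card_eq_pow_finrank (K := F) (V := K)
  rw [hK, hF] at h
  exact (Nat.pow_right_injective hq h).symm

theorem pow_q_pow_q {K : Type*} [Field K] [Fintype K] {q : ℕ} (hK : Fintype.card K = q ^ 2)
    (x : K) : (x ^ q) ^ q = x := by
  rw [← pow_mul, ← sq, ← hK, FiniteField.pow_card]

/-- A basis `1, ω` of the quadratic extension together with the trace and the norm of `ω`. -/
theorem exists_basis {F K : Type*} [Field F] [Fintype F] [Field K] [Fintype K] [Algebra F K]
    {q : ℕ} (hF : Fintype.card F = q) (hK : Fintype.card K = q ^ 2) :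
    ∃ (b : Module.Basis (Fin 2) F K) (t n : F), b 0 = 1 ∧
      (b 1) ^ q = algebraMap F K t - b 1 ∧ b 1 * (b 1) ^ q = algebraMap F K n := by
  classical
  have hq : 1 < q := by rw [← hF]; exact Fintype.one_lt_card
  have hfr := finrank_eq_two (F := F) (K := K) hF hK
  have hex : ∃ ω : K, ω ∉ Set.range (algebraMap F K) := by
    by_contra hcon
    have hsurj : Function.Surjective (algebraMap F K) := fun y => by
      by_contra h
      exact hcon ⟨y, h⟩
    have := Fintype.card_le_of_surjective _ hsurj
    rw [hF, hK] at this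
    nlinarith
  obtain ⟨ω, hω⟩ := hex
  have hli : LinearIndependent F ![(1 : K), ω] := by
    rw [LinearIndependent.pair_iff]
    intro s t hst
    by_cases ht : t = 0
    · subst ht
      simp at hst
      exact ⟨hst, rfl⟩
    · exfalso
      apply hω
      refine ⟨-s / t, ?_⟩
      have h1 : t • ω = -(s • (1 : K)) := by
        rw [eq_neg_iff_add_eq_zero, add_comm]; exact hst
      rw [Algebra.smul_def, Algebra.smul_def, mul_one] at h1
      have ht' : algebraMap F K t ≠ 0 := by
        simpa using ht
      rw [map_div₀, map_neg]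
      field_simp
      exact h1.symm
  have hcard : Fintype.card (Fin 2) = Module.finrank F K := by simp [hfr]
  have h1 : (ω + ω ^ q) ^ q = ω + ω ^ q := by
    rw [add_pow_q hF, pow_q_pow_q hK, add_comm]
  have h2 : (ω * ω ^ q) ^ q = ω * ω ^ q := by
    rw [mul_pow, pow_q_pow_q hK, mul_comm]
  obtain ⟨t, ht⟩ := mem_range_of_pow_q hF _ h1
  obtain ⟨n, hn⟩ := mem_range_of_pow_q hF _ h2
  refine ⟨basisOfLinearIndependentOfCardEqFinrank hli hcard, t, n, ?_, ?_, ?_⟩
  · simp
  · simp only [coe_basisOfLinearIndependentOfCardEqFinrank, Matrix.cons_val_one,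
      Matrix.cons_val_fin_one]
    rw [ht]; ring
  · simp only [coe_basisOfLinearIndependentOfCardEqFinrank, Matrix.cons_val_one,
      Matrix.cons_val_fin_one]
    rw [hn]

end Cfsg.Agent.Lib.Helper51
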