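import Mathlib
import Cfsg.Agent.Lib.Helper51.QuadExt

set_option autoImplicit false

namespace Cfsg.Agent.Lib.Helper51

open Polynomial


/-- The norm `x ↦ x * x ^ q` of the quadratic extension of finite fields is onto the nonzero
elements of the small field. -/
theorem norm_surj {F K : Type*} [Field F] [Fintype F] [Field K] [Fintype K] [Algebra F K]
    {q : ℕ} (hF : Fintype.card F = q) (hK : Fintype.card K = q ^ 2) (c : F) (hc : c ≠ 0) :
    ∃ x : K, x * x ^ q = algebraMap F K c := by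
  classical
  have hq : 1 < q := by rw [← hF]; exact Fintype.one_lt_card
  obtain ⟨g, hg⟩ := IsCyclic.exists_monoid_generator (α := Kˣ)
  have hord : orderOf g = q ^ 2 - 1 := by
    rw [orderOf_eq_card_of_forall_mem_powers hg, Nat.card_eq_fintype_card, Fintype.card_units, hK]
  have hcK : algebraMap F K c ≠ 0 := by simpa using hc
  obtain ⟨k, hk⟩ := (Submonoid.mem_powers_iff _ _).1 (hg (Units.mk0 _ hcK))
  have h1 : (g ^ k) ^ (q - 1) = 1 := by
    rw [hk]
    ext
    simp only [Units.val_pow_eq_pow_val, Units.val_mk0, Units.val_one]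
    rw [← map_pow, ← hF, FiniteField.pow_card_sub_one_eq_one c hc, map_one]
  rw [← pow_mul, ← orderOf_dvd_iff_pow_eq_one, hord] at h1
  have h2 : q ^ 2 - 1 = (q - 1) * (q + 1) := by
    obtain ⟨r, rfl⟩ : ∃ r, q = r + 1 := ⟨q - 1, by omega⟩
    simp only [Nat.add_sub_cancel]
    have : (r + 1) ^ 2 = r * (r + 1 + 1) + 1 := by ring
    omega
  rw [h2, mul_comm k] at h1
  have h3 : q + 1 ∣ k := Nat.dvd_of_mul_dvd_mul_left (by omega) h1
  obtain ⟨j, rfl⟩ := h3
  refine ⟨((g ^ j : Kˣ) : K), ?_⟩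
  have h4 : ((g ^ ((q + 1) * j) : Kˣ) : K) = algebraMap F K c := by rw [hk]; rfl
  rw [← h4, ← pow_succ']
  simp only [Units.val_pow_eq_pow_val]
  rw [← pow_mul, mul_comm]

/-- An element of norm one different from one. -/
theorem exists_norm_one {F K : Type*} [Field F] [Fintype F] [Field K] [Fintype K] [Algebra F K]
    {q : ℕ} (hF : Fintype.card F = q) (hK : Fintype.card K = q ^ 2) :
    ∃ ζ : K, ζ * ζ ^ q = 1 ∧ ζ ≠ 1 := by
  obtain ⟨b, t, n, hb0, htr, hnm⟩ := exists_basis (F := F) (K := K) hF hK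
  have hq : 1 < q := by rw [← hF]; exact Fintype.one_lt_card
  set ω := b 1 with hω
  have hω0 : ω ≠ 0 := b.ne_zero 1
  have hωq : ω ^ q ≠ ω := by
    intro h
    obtain ⟨a, ha⟩ := mem_range_of_pow_q hF ω h
    have hli := b.linearIndependent
    have h2 : (a • b 0 + (-1 : F) • b 1 : K) = 0 := by
      rw [hb0, Algebra.smul_def, mul_one, ha]; simp [hω]
    have := Fintype.linearIndependent_iff.1 hli ![a, -1] (by simpa [Fin.sum_univ_two] using h2) 1
    simp at this
  refine ⟨ω ^ q * ω⁻¹, ?_, ?_⟩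
  · rw [mul_pow, pow_q_pow_q hK, inv_pow]
    field_simp
  · intro h
    apply hωq
    field_simp at h
    exact h

/-- The trace `z ↦ z + z ^ q` is not identically zero. -/
theorem exists_trace_ne_zero {F K : Type*} [Field F] [Fintype F] [Field K] [Fintype K] [Algebra F K]
    {q : ℕ} (hF : Fintype.card F = q) (hK : Fintype.card K = q ^ 2) :
    ∃ z : K, z + z ^ q ≠ 0 := by
  classical
  have hq : 1 < q := by rw [← hF]; exact Fintype.one_lt_card
  by_contra hcon
  have hall : ∀ z : K, z + z ^ q = 0 := fun z => by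
    by_contra h
    exact hcon ⟨z, h⟩
  let P : K[X] := X ^ q + X
  have hdeg : P.natDegree = q := by
    simp only [P]
    rw [natDegree_add_eq_left_of_natDegree_lt]
    · simp
    · simpa using hq
  have hP : P ≠ 0 := by
    intro h
    rw [h, natDegree_zero] at hdeg
    omega
  have hsub : (Finset.univ : Finset K) ⊆ P.roots.toFinset := by
    intro z _
    rw [Multiset.mem_toFinset, mem_roots hP]
    simp only [P, IsRoot, eval_add, eval_pow, eval_X]
    rw [add_comm]; exact hall z
  have h1 := Finset.card_le_card hsub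
  have h2 : P.roots.toFinset.card ≤ q :=
    calc P.roots.toFinset.card ≤ Multiset.card P.roots := Multiset.toFinset_card_le _
      _ ≤ P.natDegree := card_roots' P
      _ = q := hdeg
  rw [Finset.card_univ, hK] at h1
  nlinarith


section
variable {F K : Type*} [Field F] [Fintype F] [Field K] [Fintype K] [Algebra F K] {q : ℕ}

structure HypData (F K : Type*) [Field F] [Field K] [Algebra F K] (q : ℕ) where
  b : Fin 2 → K
  w : Fin 2 → K
  ε : K
  ε' : K
  hε : ε * ε ^ q = -1
  hε' : ε' * ε' ^ q = -1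
  hne : ε ≠ ε'
  hli : ∀ x₀ x₁ : F, algebraMap F K x₀ * b 0 + algebraMap F K x₁ * b 1 = 0 → x₀ = 0 ∧ x₁ = 0
  hD : ∀ s t : Fin 2, (1 + ε * ε' ^ q) * b s * (w t) ^ q + (1 + ε ^ q * ε') * (b s) ^ q * w t
        = if s = t then 1 else 0

theorem HypData.value (hF : Fintype.card F = q) (hK : Fintype.card K = q ^ 2)
    (d : HypData F K q) (x₀ x₁ y₀ y₁ : F) :
    let p := algebraMap F K x₀ * d.b 0 + algebraMap F K x₁ * d.b 1
    let p' := algebraMap F K y₀ * d.w 0 + algebraMap F K y₁ * d.w 1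
    (p + p') * (p + p') ^ q + (d.ε * p + d.ε' * p') * (d.ε * p + d.ε' * p') ^ q
      = algebraMap F K (x₀ * y₀ + x₁ * y₁) := by
  intro p p'
  simp only [p, p', add_pow_q hF, mul_pow, algebraMap_pow_q hF, map_add, map_mul]
  have D00 := d.hD 0 0
  have D01 := d.hD 0 1
  have D10 := d.hD 1 0
  have D11 := d.hD 1 1
  simp only [if_pos, Fin.isValue, one_ne_zero, zero_ne_one, if_false, if_true] at D00 D01 D10 D11
  have hε := d.hε
  have hε' := d.hε'
  set X₀ := algebraMap F K x₀
  set X₁ := algebraMap F K x₁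
  set Y₀ := algebraMap F K y₀
  set Y₁ := algebraMap F K y₁
  linear_combination ((X₀ * d.b 0 + X₁ * d.b 1) * (X₀ * d.b 0 ^ q + X₁ * d.b 1 ^ q)) * hε
    + ((Y₀ * d.w 0 + Y₁ * d.w 1) * (Y₀ * d.w 0 ^ q + Y₁ * d.w 1 ^ q)) * hε'
    + X₀ * Y₀ * D00 + X₀ * Y₁ * D01 + X₁ * Y₀ * D10 + X₁ * Y₁ * D11


/-- The Frobenius `z ↦ z ^ q` as a linear map over the small field. -/
def frobLin (hF : Fintype.card F = q) : K →ₗ[F] K where
  toFun z := z ^ q
  map_add' := add_pow_q hF
  map_smul' c z := by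
    simp only [Algebra.smul_def, mul_pow, algebraMap_pow_q hF, RingHom.id_apply]

theorem exists_hypData (hF : Fintype.card F = q) (hK : Fintype.card K = q ^ 2) :
    Nonempty (HypData F K q) := by
  classical
  obtain ⟨b, t, n, hb0, htr, hnm⟩ := exists_basis (F := F) (K := K) hF hK
  obtain ⟨ε, hε⟩ := norm_surj hF hK (-1 : F) (by simp)
  rw [map_neg, map_one] at hε
  obtain ⟨ζ, hζ, hζ1⟩ := exists_norm_one (F := F) hF hK
  have hε0 : ε ≠ 0 := by
    rintro rfl
    simp at hε
  have hζq : ζ ^ q ≠ 1 := by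
    intro h
    apply hζ1
    have := pow_q_pow_q hK ζ
    rw [h, one_pow] at this
    exact this.symm
  set ε' := ζ * ε with hε'def
  have hε' : ε' * ε' ^ q = -1 := by
    rw [hε'def, mul_pow]
    linear_combination (ε * ε ^ q) * hζ + hε
  have hκ : (1 + ε * ε' ^ q) ≠ 0 := by
    rw [hε'def, mul_pow]
    intro h
    apply hζq
    linear_combination -h + ζ ^ q * hε
  have hκ' : (1 + ε * ε' ^ q) ^ q = 1 + ε ^ q * ε' := by
    rw [add_pow_q hF, one_pow, mul_pow, pow_q_pow_q hK]
  -- the trace functional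
  let τ : K →ₗ[F] F := (b.coord 0).comp (LinearMap.id + frobLin hF)
  have hτ : ∀ z : K, algebraMap F K (τ z) = z + z ^ q := by
    intro z
    have h1 : (z + z ^ q) ^ q = z + z ^ q := by
      rw [add_pow_q hF, pow_q_pow_q hK, add_comm]
    obtain ⟨a, ha⟩ := mem_range_of_pow_q hF _ h1
    have h2 : τ z = b.coord 0 (z + z ^ q) := rfl
    have h3 : b.coord 0 (algebraMap F K a) = a := by
      rw [Algebra.algebraMap_eq_smul_one, map_smul, ← hb0]
      simp
    rw [h2, ← ha, h3]
  let T : LinearMap.BilinForm F K := (LinearMap.mul F K).compr₂ τ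
  have hT : ∀ x y, T x y = τ (x * y) := fun x y => rfl
  obtain ⟨z₀, hz₀⟩ := exists_trace_ne_zero (F := F) hF hK
  have hτz₀ : τ z₀ ≠ 0 := by
    intro h
    apply hz₀
    rw [← hτ, h, map_zero]
  have hTsymm : T.IsSymm := ⟨fun x y => by rw [hT, hT, mul_comm]⟩
  have hTnd : T.Nondegenerate := by
    constructor
    · intro x hx
      by_contra hx0
      have := hx (x⁻¹ * z₀)
      rw [hT, ← mul_assoc, mul_inv_cancel₀ hx0, one_mul] at this
      exact hτz₀ this
    · intro y hy
      by_contra hy0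
      have := hy (z₀ * y⁻¹)
      rw [hT, mul_assoc, inv_mul_cancel₀ hy0, mul_one] at this
      exact hτz₀ this
  let b' : Module.Basis (Fin 2) F K := T.dualBasis hTnd b
  have hbb' : ∀ s s', τ (b s * b' s') = if s = s' then 1 else 0 := fun s s' =>
    LinearMap.BilinForm.apply_dualBasis_right hTnd hTsymm b s s'
  refine ⟨{
    b := b
    w := fun t => ((1 + ε * ε' ^ q)⁻¹ * b' t) ^ q
    ε := ε
    ε' := ε'
    hε := hε
    hε' := hε'
    hne := ?_
    hli := ?_
    hD := ?_ }⟩
  · intro h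
    apply hζ1
    have : (ζ - 1) * ε = 0 := by rw [hε'def] at h; linear_combination -h
    rcases mul_eq_zero.1 this with h1 | h1
    · exact sub_eq_zero.1 h1
    · exact absurd h1 hε0
  · intro x₀ x₁ h
    have hli := b.linearIndependent
    have h2 : (∑ i, ![x₀, x₁] i • b i : K) = 0 := by
      simp only [Fin.sum_univ_two, Algebra.smul_def]
      exact h
    have h3 := Fintype.linearIndependent_iff.1 hli ![x₀, x₁] h2
    exact ⟨h3 0, h3 1⟩
  · intro s t
    simp only [pow_q_pow_q hK]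
    have h1 : (1 + ε * ε' ^ q) * b s * ((1 + ε * ε' ^ q)⁻¹ * b' t) = b s * b' t := by
      field_simp
    have h2 : (1 + ε ^ q * ε') * b s ^ q * ((1 + ε * ε' ^ q)⁻¹ * b' t) ^ q = (b s * b' t) ^ q := by
      rw [← hκ', ← mul_pow, ← mul_pow, h1]
    rw [h1, h2, ← hτ, hbb']
    split_ifs <;> simp
end

end Cfsg.Agent.Lib.Helper51
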