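import Cfsg.Agent.Lib.Helper51.OEvenN
import Cfsg.Agent.Lib.Helper50.TensorAct
import Cfsg.Agent.Lib.Helper63.AschB6

set_option autoImplicit false
set_option linter.unusedSectionVars false
set_option linter.unusedVariables false
set_option linter.unusedSimpArgs false
set_option linter.style.haveILetI false

/-! Generic non-containment: `Ω(Q)`, `Q` any non-degenerate quadratic form in at least seven
variables over a finite field (any characteristic), lies in no tensor product subgroup. -/

namespace Cfsg.Agent.Lib.Helper51.OEvenX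

open Cfsg Cfsg.Geo Cfsg.Agent.Lib.Helper43 Cfsg.Agent.Lib.Helper07.OG
open Cfsg.Agent.Lib.Helper50 Cfsg.Agent.Lib.Helper51.OEvenN
open scoped Matrix

variable {F : Type*} [Field F] [Fintype F] {ι : Type} [Fintype ι] [DecidableEq ι]

section bundled

variable {Q : QuadraticForm F (ι → F)}

local notation "Bf" => QuadraticMap.polarBilin Q

/-- the first tensor factor of a Siegel element inside a tensor product subgroup with second
factor of dimension at least three fixes every line -/
theorem left_factor_line (C : OC Q) {n₁ n₂ : ℕ} (h₂ : 3 ≤ n₂)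
    (e : ι ≃ Fin n₁ × Fin n₂) (P : GL ι F) {u v : ι → F} (hu : Q u = 0) (huv : Bf u v = 0)
    (a : GL (Fin n₁) F) (b : GL (Fin n₂) F)
    (hab : ∀ x y, matΩ (sg C u v) *ᵥ pureT e P x y =
      pureT e P ((a : Matrix (Fin n₁) (Fin n₁) F) *ᵥ x) ((b : Matrix (Fin n₂) (Fin n₂) F) *ᵥ y))
    (x : Fin n₁ → F) (hx : x ≠ 0) :
    ∃ c : F, x = c • ((a : Matrix (Fin n₁) (Fin n₁) F) *ᵥ x) := by
  by_contra hcon
  push Not at hcon
  -- the linear map `y ↦ g (x ⊗ y) - x ⊗ y`
  let φ : (Fin n₂ → F) →ₗ[F] (ι → F) :=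
    (Matrix.toLin' (matΩ (sg C u v)) - LinearMap.id) ∘ₗ pureLin e P x
  have hφ : ∀ y, φ y = matΩ (sg C u v) *ᵥ pureT e P x y - pureT e P x y := by
    intro y
    simp [φ, pureLin_apply, Matrix.toLin'_apply]
  have hrange : LinearMap.range φ ≤ Submodule.span F {u, v} := by
    rintro _ ⟨y, rfl⟩
    rw [hφ, matΩ_mulVec, sg_apply C hu huv]
    rw [Submodule.mem_span_pair]
    exact ⟨_, _, by abel⟩
  have hinj : Function.Injective φ := by
    rw [← LinearMap.ker_eq_bot, LinearMap.ker_eq_bot']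
    intro y hy
    rw [hφ, hab, sub_eq_zero, pureT_eq_iff] at hy
    by_contra hy0
    obtain ⟨j, hj⟩ : ∃ j, y j ≠ 0 := by
      by_contra h
      push Not at h
      exact hy0 (funext h)
    apply hcon (((b : Matrix (Fin n₂) (Fin n₂) F) *ᵥ y) j * (y j)⁻¹)
    ext i
    have := hy i j
    rw [Pi.smul_apply, smul_eq_mul]
    field_simp
    rw [← this]
    ring
  have h1 : Module.finrank F (Fin n₂ → F) ≤ Module.finrank F (LinearMap.range φ) := by
    rw [LinearMap.finrank_range_of_inj hinj]
  have h3 : Module.finrank F (LinearMap.range φ) ≤ Module.finrank F (Submodule.span F {u, v}) :=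
    Submodule.finrank_mono hrange
  have h4 : Module.finrank F (Submodule.span F {u, v}) ≤ 2 := by
    classical
    have := finrank_span_finset_le_card (R := F) ({u, v} : Finset (ι → F))
    have h5 : (({u, v} : Finset (ι → F)) : Set (ι → F)) = {u, v} := by simp
    rw [h5] at this
    exact this.trans Finset.card_le_two
  rw [Module.finrank_pi, Fintype.card_fin] at h1
  omega

/-- `Ω(Q)` lies in no tensor product subgroup with second factor of dimension at least three -/
theorem not_le_tensor_aux (C : OC Q) {n₁ n₂ : ℕ} (h₁ : 2 ≤ n₁) (h₂ : 3 ≤ n₂)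
    (e : ι ≃ Fin n₁ × Fin n₂) (P : GL ι F) :
    ¬ omegaGL (⇑Q) ≤ tensorProductSubgroup n₁ n₂ e P := by
  intro h
  have hcard : Fintype.card ι = n₁ * n₂ := by
    rw [Fintype.card_congr e, Fintype.card_prod, Fintype.card_fin, Fintype.card_fin]
  set x₀ : Fin n₁ → F := Pi.single ⟨0, by omega⟩ 1 with hx₀
  have hx₀0 : x₀ ≠ 0 := by
    intro h0
    have := congrFun h0 ⟨0, by omega⟩
    simp [hx₀] at this
  set W : Submodule F (ι → F) := LinearMap.range (pureLin e P x₀) with hW
  have hWtop : W = ⊤ := by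
    have hd : Disjoint (⊤ : Submodule F (ι → F)) (orthC Q ⊤) := by
      rw [disjoint_iff, top_inf_eq, eq_bot_iff]
      intro v hv
      rw [Submodule.mem_bot]
      rw [mem_orthC] at hv
      apply C.hQ.2
      intro w
      exact hv w Submodule.mem_top
    refine Cfsg.Agent.Lib.Helper46.AO.irr Q C.hQ ⊤ hd ?_ W le_top ?_ ?_
    · rw [finrank_top, Module.finrank_pi]
      have := C.hn
      omega
    · intro hbot
      have h1 : pureT e P x₀ (Pi.single ⟨0, by omega⟩ 1) ∈ W := ⟨_, rfl⟩
      rw [hbot, Submodule.mem_bot, ← pureT_zero_right e P x₀, pureT_eq_iff] at h1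
      have := h1 ⟨0, by omega⟩ ⟨0, by omega⟩
      simp [hx₀] at this
    · intro u w _ _ hu huw z hz
      obtain ⟨y, rfl⟩ := hz
      rw [← lo_sg C hu huw, ← matΩ_mulVec, pureLin_apply]
      obtain ⟨a, b, hab⟩ := tensor_mulVec_pureT e P _ (h (mem_omegaGL_of (sg C u w)))
      obtain ⟨c, hc⟩ := left_factor_line C h₂ e P hu huw a b hab x₀ hx₀0
      have hc0 : c ≠ 0 := by
        rintro rfl
        rw [zero_smul] at hc
        exact hx₀0 hc
      have hax : (a : Matrix (Fin n₁) (Fin n₁) F) *ᵥ x₀ = c⁻¹ • x₀ := by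
        rw [hc, smul_smul, inv_mul_cancel₀ hc0, one_smul]
        rw [← hc]
      have h5 : matΩ (sg C u w) *ᵥ pureT e P x₀ y =
          pureT e P x₀ (c⁻¹ • ((b : Matrix (Fin n₂) (Fin n₂) F) *ᵥ y)) := by
        show ((sg C u w : ↥(Cfsg.isometryGroup F ⇑Q)) : GL ι F).val *ᵥ pureT e P x₀ y = _
        rw [hab, hax, pureT_smul_left, pureT_smul_right]
      rw [h5]
      exact ⟨_, rfl⟩
  have h6 : Module.finrank F W ≤ n₂ := by
    have := LinearMap.finrank_range_le (pureLin e P x₀)
    rwa [Module.finrank_pi, Fintype.card_fin] at this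
  rw [hWtop, finrank_top, Module.finrank_pi, hcard] at h6
  nlinarith

end bundled

/-- **K-OEvenX-N4**: `Ω(Q)` lies in no tensor product subgroup. -/
theorem omegaGL_not_le_tensorProductSubgroup {n : ℕ} (hn : 7 ≤ n) (Q : (Fin n → F) → F)
    (hQ : IsNondegenerateQuadraticForm Q) {n₁ n₂ : ℕ} (h₁ : 2 ≤ n₁) (h₂ : 2 ≤ n₂)
    (e : Fin n ≃ Fin n₁ × Fin n₂) (P : GL (Fin n) F) :
    ¬ omegaGL Q ≤ tensorProductSubgroup n₁ n₂ e P := by
  have C := oc_geoQF (by rw [Fintype.card_fin]; exact hn) Q hQ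
  have hcard : n = n₁ * n₂ := by
    have := Fintype.card_congr e
    rwa [Fintype.card_prod, Fintype.card_fin, Fintype.card_fin, Fintype.card_fin] at this
  by_cases h3 : 3 ≤ n₂
  · exact not_le_tensor_aux C h₁ h3 e P
  · have hn₂ : n₂ = 2 := by omega
    have hn₁ : 3 ≤ n₁ := by
      subst hn₂
      omega
    intro h
    exact not_le_tensor_aux C h₂ hn₁ (e.trans (Equiv.prodComm _ _)) P
      (h.trans (Cfsg.Agent.Lib.Helper63.Asch.tensorProductSubgroup_le_swap e P))

end Cfsg.Agent.Lib.Helper51.OEvenX
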