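import Mathlib
import Cfsg.Prelude.Def_GeometricClasses
import Cfsg.Agent.Lib.Helper20.Lagrangian
import Cfsg.Agent.Lib.Helper43.AltForm

/-!
# K-OEvenX-X6: a tensor decomposition (symplectic) ⊗ (anything) with singular pure tensors forces plus type

`L` a Lagrangian of the symplectic form `f₁`; `U = P (L ⊗ F^n₂)` (realised as "columns in `L`") has dimension `n/2` and
`Q` vanishes on it: `Q` vanishes on the pure tensors and the polar form vanishes on pairs of pure tensors `l ⊗ u`, `l' ⊗ u'`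
with `l, l' ∈ L`.
-/

set_option autoImplicit false
set_option linter.unusedSectionVars false

namespace Cfsg.Agent.Lib.Helper51.OEvenX

open Cfsg Cfsg.Geo
open scoped Matrix Kronecker MatrixGroups

variable {F : Type*} [Field F] [Fintype F] {n : ℕ}

/-- the Mathlib bilinear form of a bilinear two-argument function -/
noncomputable def x6Bilin {k : ℕ} (f : (Fin k → F) → (Fin k → F) → F) (hf : IsBilinearForm f) :
    LinearMap.BilinForm F (Fin k → F) :=
  LinearMap.mk₂ F f hf.add_left (fun c m k => by rw [hf.smul_left, smul_eq_mul]) hf.add_right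
    (fun c m k => by rw [hf.smul_right, smul_eq_mul])

/-- a non-degenerate symplectic form on `F^k` has a totally isotropic subspace of dimension `k/2` -/
theorem exists_lagrangian_of_symplectic {k : ℕ} (f : (Fin k → F) → (Fin k → F) → F)
    (hf : IsSymplecticForm f) :
    ∃ L : Submodule F (Fin k → F), 2 * Module.finrank F L = k ∧ ∀ x ∈ L, ∀ y ∈ L, f x y = 0 := by
  have hnd : (x6Bilin f hf.bilinear).Nondegenerate := by
    constructor
    · intro x hx
      by_contra hx0
      obtain ⟨y, hy⟩ := (hf.nondegenerate x hx0).2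
      exact hy (hx y)
    · intro y hy
      by_contra hy0
      obtain ⟨x, hx⟩ := (hf.nondegenerate y hy0).1
      exact hx (hy x)
  have halt : (x6Bilin f hf.bilinear).IsAlt := fun v => hf.alternating v
  have hev := Cfsg.Agent.Lib.Helper43.even_finrank_of_isAlt_nondegenerate _ halt hnd
  rw [Module.finrank_fin_fun] at hev
  obtain ⟨r, hr⟩ := hev
  have hV : Module.finrank F (Fin k → F) = 2 * r := by
    rw [Module.finrank_fin_fun]; omega
  obtain ⟨L, hL, hiso⟩ := Cfsg.Agent.Lib.Helper20.exists_lagrangian _ hnd halt r hV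
  exact ⟨L, by omega, hiso⟩

/-- if `Q` vanishes on a set `S` and its (bilinear) polar form vanishes on `S × S`, then `Q` vanishes on the span of `S` -/
theorem quad_eq_zero_of_mem_span {ι : Type} [Fintype ι] [DecidableEq ι] (Q : (ι → F) → F)
    (hQ : IsNondegenerateQuadraticForm Q) (S : Set (ι → F)) (hS : ∀ s ∈ S, Q s = 0)
    (hSS : ∀ s ∈ S, ∀ s' ∈ S, QuadraticMap.polar Q s s' = 0) :
    ∀ w ∈ Submodule.span F S, Q w = 0 := by
  have hb := hQ.polar_bilinear
  have h1 : ∀ x ∈ Submodule.span F S, ∀ s ∈ S, QuadraticMap.polar Q x s = 0 := by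
    intro x hx s hs
    induction hx using Submodule.span_induction with
    | mem y hy => exact hSS y hy s hs
    | zero =>
      have := hb.smul_left 0 (0 : ι → F) s
      rw [zero_smul, zero_mul] at this
      exact this
    | add y z _ _ hy hz => rw [hb.add_left, hy, hz, add_zero]
    | smul a y _ hy => rw [hb.smul_left, hy, mul_zero]
  have h2 : ∀ x ∈ Submodule.span F S, ∀ y ∈ Submodule.span F S, QuadraticMap.polar Q x y = 0 := by
    intro x hx y hy
    induction hy using Submodule.span_induction with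
    | mem s hs => exact h1 x hx s hs
    | zero =>
      have := hb.smul_right 0 x (0 : ι → F)
      rw [zero_smul, zero_mul] at this
      exact this
    | add y z _ _ hy hz => rw [hb.add_right, hy, hz, add_zero]
    | smul a y _ hy => rw [hb.smul_right, hy, mul_zero]
  intro w hw
  induction hw using Submodule.span_induction with
  | mem s hs => exact hS s hs
  | zero =>
    have := hQ.smul 0 (0 : ι → F)
    rw [zero_smul] at this
    rw [this]; ring
  | add y z hy hz hy0 hz0 =>
    have h3 := h2 y hy z hz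
    unfold QuadraticMap.polar at h3
    rw [hy0, hz0] at h3
    linear_combination h3
  | smul a y _ hy => rw [hQ.smul, hy, mul_zero]

/-- columns in `L` : the embedding `(Fin n₂ → L) → F^(n₁ × n₂)` -/
def colsMap {n₁ n₂ : ℕ} (L : Submodule F (Fin n₁ → F)) :
    (Fin n₂ → ↥L) →ₗ[F] (Fin n₁ × Fin n₂ → F) where
  toFun g := fun ab => (g ab.2 : Fin n₁ → F) ab.1
  map_add' g g' := by
    funext ab
    rfl
  map_smul' c g := by
    funext ab
    rfl

theorem colsMap_injective {n₁ n₂ : ℕ} (L : Submodule F (Fin n₁ → F)) :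
    Function.Injective (colsMap (n₂ := n₂) L) := by
  intro g g' h
  funext b
  apply Subtype.ext
  funext a
  exact congrFun h (a, b)

/-- the pure tensor `x₁ ⊗ x₂` in coordinates -/
def pureT {n₁ n₂ : ℕ} (x₁ : Fin n₁ → F) (x₂ : Fin n₂ → F) : Fin n₁ × Fin n₂ → F :=
  fun a => x₁ a.1 * x₂ a.2

theorem colsMap_eq_sum {n₁ n₂ : ℕ} (L : Submodule F (Fin n₁ → F)) (g : Fin n₂ → ↥L) :
    colsMap L g = ∑ b : Fin n₂, pureT (g b : Fin n₁ → F) (Pi.single b 1) := by
  funext ab
  rw [Finset.sum_apply]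
  show (g ab.2 : Fin n₁ → F) ab.1 = ∑ b : Fin n₂, (g b : Fin n₁ → F) ab.1 * (Pi.single b (1 : F) : Fin n₂ → F) ab.2
  rw [Finset.sum_eq_single ab.2]
  · rw [Pi.single_eq_same, mul_one]
  · intro b _ hb
    rw [Pi.single_eq_of_ne (Ne.symm hb), mul_zero]
  · intro h
    exact absurd (Finset.mem_univ _) h

/-- the tensor form on pure tensors factorises -/
theorem formOfGram_pureT {n₁ n₂ : ℕ} (f₁ : (Fin n₁ → F) → (Fin n₁ → F) → F)
    (f₂ : (Fin n₂ → F) → (Fin n₂ → F) → F) (hf₁ : IsBilinearForm f₁)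
    (l l' : Fin n₁ → F) (u u' : Fin n₂ → F) :
    formOfGram id (gramMatrix f₁ ⊗ₖ gramMatrix f₂) (pureT l u) (pureT l' u') =
      f₁ l l' * ∑ b, ∑ b', u b * gramMatrix f₂ b b' * u' b' := by
  have h1 : f₁ l l' = ∑ a, ∑ a', l a * gramMatrix f₁ a a' * l' a' := by
    let g : LinearMap.BilinForm F (Fin n₁ → F) := x6Bilin f₁ hf₁
    have hg : f₁ l l' = g l l' := rfl
    have h2 : gramMatrix f₁ = LinearMap.BilinForm.toMatrix' g := by
      ext i j
      rw [LinearMap.BilinForm.toMatrix'_apply]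
      rfl
    have h3 : g l l' = Matrix.toBilin' (LinearMap.BilinForm.toMatrix' g) l l' := by
      rw [Matrix.toBilin'_toMatrix']
    rw [hg, h3, Matrix.toBilin'_apply, h2]
  rw [h1]
  unfold formOfGram pureT
  rw [Fintype.sum_prod_type]
  simp_rw [Fintype.sum_prod_type]
  simp only [Matrix.kroneckerMap_apply, id]
  rw [Finset.sum_mul]
  refine Finset.sum_congr rfl fun a _ => ?_
  rw [Finset.sum_comm, Finset.sum_mul]
  refine Finset.sum_congr rfl fun a' _ => ?_
  rw [Finset.mul_sum]
  refine Finset.sum_congr rfl fun b _ => ?_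
  rw [Finset.mul_sum]
  refine Finset.sum_congr rfl fun b' _ => ?_
  ring

/-- K-OEvenX-X6. -/
theorem plus_of_tensor_sympl (Q : (Fin n → F) → F) (hQ : IsNondegenerateQuadraticForm Q)
    {n₁ n₂ : ℕ} (e : Fin n ≃ Fin n₁ × Fin n₂) (P : GL (Fin n) F)
    (f₁ : (Fin n₁ → F) → (Fin n₁ → F) → F) (f₂ : (Fin n₂ → F) → (Fin n₂ → F) → F)
    (hf₁ : IsSymplecticForm f₁) (hT : IsTensorFormStructure id (QuadraticMap.polar Q) f₁ f₂ e P)
    (hpure : ∀ (x₁ : Fin n₁ → F) (x₂ : Fin n₂ → F),
      Q ((P : Matrix (Fin n) (Fin n) F) *ᵥ ((fun a : Fin n₁ × Fin n₂ => x₁ a.1 * x₂ a.2) ∘ e)) = 0) :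
    IsPlusTypeOn Q ⊤ := by
  classical
  obtain ⟨L, hLd, hLiso⟩ := exists_lagrangian_of_symplectic f₁ hf₁
  obtain ⟨c, -, hc⟩ := hT
  have hn : n = n₁ * n₂ := by
    have := Fintype.card_congr e
    rwa [Fintype.card_fin, Fintype.card_prod, Fintype.card_fin, Fintype.card_fin] at this
  let Φ : (Fin n₁ × Fin n₂ → F) →ₗ[F] (Fin n → F) :=
    (Matrix.toLin' (P : Matrix (Fin n) (Fin n) F)).comp (LinearMap.funLeft F F e)
  have hΦ : ∀ x, Φ x = (P : Matrix (Fin n) (Fin n) F) *ᵥ (x ∘ e) := by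
    intro x
    show Matrix.toLin' (P : Matrix (Fin n) (Fin n) F) _ = _
    rw [Matrix.toLin'_apply]
    rfl
  have hΦinj : Function.Injective Φ := by
    have h1 : Function.Injective (Matrix.toLin' (P : Matrix (Fin n) (Fin n) F)) := by
      intro a b hab
      rw [Matrix.toLin'_apply, Matrix.toLin'_apply] at hab
      exact Matrix.mulVec_injective_iff_isUnit.mpr ⟨P, rfl⟩ hab
    have h3 : Function.Injective (LinearMap.funLeft F F e) :=
      LinearMap.funLeft_injective_of_surjective F F e e.surjective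
    exact h1.comp h3
  let Ψ : (Fin n₂ → ↥L) →ₗ[F] (Fin n → F) := Φ.comp (colsMap (n₂ := n₂) L)
  have hΨinj : Function.Injective Ψ := hΦinj.comp (colsMap_injective L)
  let S : Set (Fin n → F) := {w | ∃ l ∈ L, ∃ u : Fin n₂ → F, w = Φ (pureT l u)}
  have hS0 : ∀ s ∈ S, Q s = 0 := by
    rintro _ ⟨l, _, u, rfl⟩
    rw [hΦ]
    exact hpure l u
  have hSS : ∀ s ∈ S, ∀ s' ∈ S, QuadraticMap.polar Q s s' = 0 := by
    rintro _ ⟨l, hl, u, rfl⟩ _ ⟨l', hl', u', rfl⟩
    rw [hΦ, hΦ, hc, formOfGram_pureT f₁ f₂ hf₁.bilinear, hLiso l hl l' hl', zero_mul, mul_zero]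
  have hrange : LinearMap.range Ψ ≤ Submodule.span F S := by
    rintro _ ⟨g, rfl⟩
    show Φ (colsMap L g) ∈ _
    rw [colsMap_eq_sum, map_sum]
    exact Submodule.sum_mem _ (fun b _ => Submodule.subset_span ⟨g b, (g b).2, _, rfl⟩)
  refine ⟨LinearMap.range Ψ, le_top,
    fun w hw => quad_eq_zero_of_mem_span Q hQ S hS0 hSS w (hrange hw), ?_⟩
  rw [LinearMap.finrank_range_of_inj hΨinj, finrank_top, Module.finrank_fin_fun,
    Module.finrank_pi_fintype]
  simp only [Finset.sum_const, Finset.card_univ, Fintype.card_fin, smul_eq_mul]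
  rw [hn, mul_left_comm, hLd, mul_comm]

end Cfsg.Agent.Lib.Helper51.OEvenX
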