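import Cfsg.Agent.Lib.Helper51.OEvenN
import Cfsg.Agent.Lib.Helper07.OrthD
import Cfsg.Agent.Lib.Helper48.Subfield.RatGL

set_option autoImplicit false
set_option linter.unusedSectionVars false
set_option linter.unusedVariables false
set_option linter.unusedSimpArgs false
set_option linter.style.haveILetI false

/-! Generic non-containment: `Ω(Q)`, `Q` any non-degenerate quadratic form in at least seven
variables over a finite field (any characteristic), lies in no subfield subgroup of a proper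
subfield. -/

namespace Cfsg.Agent.Lib.Helper51.OEvenN

open Cfsg Cfsg.Geo Cfsg.Agent.Lib.Helper43 Cfsg.Agent.Lib.Helper07.OG
open Cfsg.Agent.Lib.Helper48.Subfield
open scoped Matrix

variable {F : Type*} [Field F] [Fintype F] {ι : Type} [Fintype ι] [DecidableEq ι]

theorem ratMat_pow {F₀ : Subfield F} {M : Matrix ι ι F} (hM : RatMat F₀ M) (k : ℕ) :
    RatMat F₀ (M ^ k) := by
  induction k with
  | zero => rw [pow_zero]; exact RatMat.one F₀
  | succ k ih => rw [pow_succ]; exact ih.mul hM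

theorem ratMat_smul {F₀ : Subfield F} {M : Matrix ι ι F} (hM : RatMat F₀ M) {c : F}
    (hc : c ∈ F₀) : RatMat F₀ (c • M) := by
  intro i j
  rw [Matrix.smul_apply, smul_eq_mul]
  exact F₀.mul_mem hc (hM i j)

theorem ratMat_sub {F₀ : Subfield F} {M N : Matrix ι ι F} (hM : RatMat F₀ M)
    (hN : RatMat F₀ N) : RatMat F₀ (M - N) := by
  intro i j
  rw [Matrix.sub_apply]
  exact F₀.sub_mem (hM i j) (hN i j)

/-- in a finite field of characteristic `p`, an element whose `p`-th power lies in a subfield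
lies in the subfield -/
theorem mem_of_pow_char_mem (F₀ : Subfield F) (p : ℕ) [Fact p.Prime] [CharP F p] {c : F}
    (h : c ^ p ∈ F₀) : c ∈ F₀ := by
  obtain ⟨n, -, hcard⟩ := FiniteField.card F p
  have h1 : c ^ Fintype.card F = c := FiniteField.pow_card c
  rw [hcard] at h1
  have hn : (n : ℕ) = ((n : ℕ) - 1) + 1 := by
    have := n.pos
    omega
  rw [hn, pow_succ', pow_mul] at h1
  rw [← h1]
  exact F₀.pow_mem h _

section bundled

variable {Q : QuadraticForm F (ι → F)}

local notation "Bf" => QuadraticMap.polarBilin Q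

theorem matΩ_pow (g : ↥(Cfsg.Omega F ⇑Q)) (k : ℕ) : matΩ (g ^ k) = (matΩ g) ^ k := by
  unfold matΩ
  rw [Subgroup.coe_pow, Subgroup.coe_pow, Units.val_pow_eq_pow_val]

theorem matΩ_one : matΩ (1 : ↥(Cfsg.Omega F ⇑Q)) = 1 := by
  unfold matΩ
  rw [Subgroup.coe_one, Subgroup.coe_one, Units.val_one]

/-- an element of `Ω` of order dividing the characteristic, inside a subfield subgroup, is
rational in the basis `P` -/
theorem ratMat_conj_of_pow (C : OC Q) (F₀ : Subfield F) (P : GL ι F)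
    (h : omegaGL (⇑Q) ≤ subfieldSubgroup F₀ P) (p : ℕ) [Fact p.Prime] [CharP F p]
    (g : ↥(Cfsg.Omega F ⇑Q)) (hgp : g ^ p = 1) :
    RatMat F₀ (((P⁻¹ : GL ι F) : Matrix ι ι F) * matΩ g * (P : Matrix ι ι F)) := by
  haveI : Nonempty ι := by
    rw [← Fintype.card_pos_iff]
    have := C.hn
    omega
  have h1 := h (mem_omegaGL_of g)
  unfold subfieldSubgroup at h1
  rw [Subgroup.mem_map] at h1
  obtain ⟨y, hy, hye⟩ := h1
  have hye' : P * y * P⁻¹ = ((g : ↥(Cfsg.isometryGroup F ⇑Q)) : GL ι F) := hye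
  have hyG : y = P⁻¹ * ((g : ↥(Cfsg.isometryGroup F ⇑Q)) : GL ι F) * P := by
    rw [← hye']; group
  have hy' : y ∈ ratUpTo (ι := ι) F₀ := by
    rw [← sup_eq_ratUpTo]
    exact hy
  obtain ⟨c, hc, hrat⟩ := hy'
  have hyp : y ^ p = 1 := by
    have h2 : (((g : ↥(Cfsg.isometryGroup F ⇑Q)) : GL ι F)) ^ p = 1 := by
      rw [← Subgroup.coe_pow, ← Subgroup.coe_pow, hgp, Subgroup.coe_one, Subgroup.coe_one]
    have h3 : ∀ k : ℕ, (P⁻¹ * ((g : ↥(Cfsg.isometryGroup F ⇑Q)) : GL ι F) * P) ^ k =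
        P⁻¹ * (((g : ↥(Cfsg.isometryGroup F ⇑Q)) : GL ι F)) ^ k * P := by
      intro k
      induction k with
      | zero => simp
      | succ k ih => rw [pow_succ, ih, pow_succ]; group
    rw [hyG, h3, h2]
    group
  have h2 : RatMat F₀ ((c • (y : Matrix ι ι F)) ^ p) := ratMat_pow hrat p
  rw [smul_pow, ← Units.val_pow_eq_pow_val, hyp, Units.val_one] at h2
  obtain ⟨i⟩ := ‹Nonempty ι›
  have h3 := h2 i i
  rw [Matrix.smul_apply, Matrix.one_apply_eq, smul_eq_mul, mul_one] at h3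
  have hc₀ : c ∈ F₀ := mem_of_pow_char_mem F₀ p h3
  have h4 : RatMat F₀ (y : Matrix ι ι F) := by
    have := ratMat_smul hrat (F₀.inv_mem hc₀)
    rwa [smul_smul, inv_mul_cancel₀ hc, one_smul] at this
  rw [hyG] at h4
  simpa [Units.val_mul] using h4

/-- `Ω(Q)` lies in no subfield subgroup of a proper subfield (bundled form) -/
theorem not_le_subfieldSubgroup_aux (C : OC Q) (F₀ : Subfield F) (hF₀ : ∃ a : F, a ∉ F₀)
    (P : GL ι F) : ¬ omegaGL (⇑Q) ≤ subfieldSubgroup F₀ P := by
  intro h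
  obtain ⟨p, hp⟩ := CharP.exists F
  haveI := hp
  haveI : Fact p.Prime := ⟨CharP.char_is_prime F p⟩
  have hn' : 7 ≤ Module.finrank F (ι → F) := by
    rw [Module.finrank_fintype_fun_eq_card]; exact C.hn
  obtain ⟨e, x, -, -, -, -, he, hex⟩ := exists_singular_pair_orth2 Q C.hQ hn' 0 0
  have he0 : e ≠ 0 := by
    rintro rfl
    apply hex
    simp
  obtain ⟨s, y, hes, -, -, -, hs, -, hsne⟩ := exists_singular_perp C e e
  have hort : ∀ a : F, Bf e (a • s) = 0 := by
    intro a
    rw [map_smul, hes, smul_zero]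
  have hQas : ∀ a : F, Q (a • s) = 0 := by
    intro a
    rw [QuadraticMap.map_smul, hs, smul_zero]
  have hmat : ∀ a : F, matΩ (sg C e (a • s)) - 1 = a • (matΩ (sg C e s) - 1) := by
    intro a
    apply Matrix.toLin'.injective
    apply LinearMap.ext
    intro v
    simp only [Matrix.toLin'_apply, Matrix.sub_mulVec, Matrix.smul_mulVec, Matrix.one_mulVec,
      matΩ_mulVec]
    rw [sg_apply C he (hort a), sg_apply C he hes, hQas a, hs]
    simp only [map_smul, smul_eq_mul, zero_mul, sub_zero, smul_add, smul_smul, smul_sub, neg_smul,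
      smul_neg]
    module
  -- rationality
  have hrat : ∀ a : F, RatMat F₀ (((P⁻¹ : GL ι F) : Matrix ι ι F) *
      (matΩ (sg C e (a • s)) - 1) * (P : Matrix ι ι F)) := by
    intro a
    have h1 := ratMat_conj_of_pow C F₀ P h p (sg C e (a • s)) (sg_pow_p C p he (hort a))
    have h2 : ((P⁻¹ : GL ι F) : Matrix ι ι F) * (matΩ (sg C e (a • s)) - 1) * (P : Matrix ι ι F)
        = ((P⁻¹ : GL ι F) : Matrix ι ι F) * matΩ (sg C e (a • s)) * (P : Matrix ι ι F) - 1 := by
      have hPP : ((P⁻¹ : GL ι F) : Matrix ι ι F) * (P : Matrix ι ι F) = 1 := by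
        rw [← Units.val_mul, inv_mul_cancel, Units.val_one]
      rw [Matrix.mul_sub, Matrix.sub_mul, Matrix.mul_one, hPP]
    rw [h2]
    exact ratMat_sub h1 (RatMat.one F₀)
  set M : Matrix ι ι F := ((P⁻¹ : GL ι F) : Matrix ι ι F) * (matΩ (sg C e s) - 1) *
    (P : Matrix ι ι F) with hM
  have hM1 : RatMat F₀ M := by
    have := hrat 1
    rwa [one_smul] at this
  have hMa : ∀ a : F, RatMat F₀ (a • M) := by
    intro a
    have := hrat a
    rwa [hmat a, Matrix.mul_smul, Matrix.smul_mul] at this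
  have hM0 : M ≠ 0 := by
    intro h0
    have h1 : matΩ (sg C e s) - 1 = 0 := by
      have h2 : matΩ (sg C e s) - 1 = (P : Matrix ι ι F) * M * ((P⁻¹ : GL ι F) : Matrix ι ι F) := by
        rw [hM]
        simp only [← Matrix.mul_assoc]
        rw [← Units.val_mul, mul_inv_cancel, Units.val_one, Matrix.one_mul, Matrix.mul_assoc,
          ← Units.val_mul, mul_inv_cancel, Units.val_one, Matrix.mul_one]
      rw [h2, h0, Matrix.mul_zero, Matrix.zero_mul]
    have h3 : sg C e s = 1 := by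
      apply lo_ext
      intro v
      rw [← matΩ_mulVec, ← matΩ_mulVec, sub_eq_zero.mp h1, matΩ_one]
    exact hsne ((sg_eq_one_iff C he0 he hes).mp h3)
  obtain ⟨i, j, hij⟩ : ∃ i j, M i j ≠ 0 := by
    by_contra hcon
    push Not at hcon
    apply hM0
    ext i j
    exact hcon i j
  obtain ⟨a, ha⟩ := hF₀
  apply ha
  have h1 := hMa a i j
  rw [Matrix.smul_apply, smul_eq_mul] at h1
  have h2 : a = a * M i j * (M i j)⁻¹ := by
    rw [mul_assoc, mul_inv_cancel₀ hij, mul_one]
  rw [h2]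
  exact F₀.mul_mem h1 (F₀.inv_mem (hM1 i j))

end bundled

/-- **N5 (generic)**: `Ω(Q)` lies in no subfield subgroup of a proper subfield. -/
theorem omegaGL_not_le_subfieldSubgroup_of_exists {n : ℕ} (hn : 7 ≤ n) (Q : (Fin n → F) → F)
    (hQ : IsNondegenerateQuadraticForm Q) (F₀ : Subfield F) (hF₀ : ∃ a : F, a ∉ F₀)
    (P : GL (Fin n) F) : ¬ omegaGL Q ≤ subfieldSubgroup F₀ P := by
  have C := oc_geoQF (by rw [Fintype.card_fin]; exact hn) Q hQ
  exact not_le_subfieldSubgroup_aux C F₀ hF₀ P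

/-- **N5 (generic)**, in the shape of the rows: `|F| = |F₀|^r`, `r` prime. -/
theorem omegaGL_not_le_subfieldSubgroup {n : ℕ} (hn : 7 ≤ n) (Q : (Fin n → F) → F)
    (hQ : IsNondegenerateQuadraticForm Q) (F₀ : Subfield F) (r : ℕ) (hr : r.Prime)
    (hF : Fintype.card F = Nat.card F₀ ^ r) (P : GL (Fin n) F) :
    ¬ omegaGL Q ≤ subfieldSubgroup F₀ P := by
  apply omegaGL_not_le_subfieldSubgroup_of_exists hn Q hQ F₀ _ P
  by_contra hcon
  push Not at hcon
  have hc : Nat.card F₀ = Fintype.card F := by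
    rw [← Nat.card_eq_fintype_card]
    exact Nat.card_congr (Equiv.subtypeUnivEquiv hcon)
  rw [hc] at hF
  have h2 : 2 ≤ Fintype.card F := Fintype.one_lt_card
  have hr2 := hr.two_le
  have h3 : Fintype.card F ^ 1 < Fintype.card F ^ r := Nat.pow_lt_pow_right h2 (by omega)
  rw [pow_one] at h3
  omega

end Cfsg.Agent.Lib.Helper51.OEvenN
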