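import Mathlib
import Cfsg.Agent.Lib.Helper51.SUGen10
set_option autoImplicit false
set_option linter.unusedSectionVars false
set_option linter.unusedVariables false

/-! Involutions of `SU_3(q)`, `q` odd, at the level of matrices. -/

namespace Cfsg.Agent.Lib.Helper51.SU3

open Matrix Cfsg.Agent.Lib.Helper08 Cfsg.Agent.Lib.Helper51

section
variable {F : Type*} [Field F] [Fintype F] {q : ℕ}

local notation "hh" => hform (Fin 3) F q

theorem two_ne_zero_of_odd (hF : Fintype.card F = q ^ 2) (hq : Odd q) : (2 : F) ≠ 0 := by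
  intro h
  obtain ⟨k, hk⟩ := hq.pow (n := 2)
  have h1 := Nat.cast_card_eq_zero F
  rw [hF, hk] at h1
  push_cast at h1
  rw [h, zero_mul, zero_add] at h1
  exact one_ne_zero h1

theorem two_pow_q (hF : Fintype.card F = q ^ 2) : (2 : F) ^ q = 2 := by
  have h := add_pow_q' hF (1 : F) 1
  rw [one_pow, one_add_one_eq_two] at h
  exact h

/-- the involution with fixed vector `v` -/
def tau (q : ℕ) (v : Fin 3 → F) : Matrix (Fin 3) (Fin 3) F := -(qrefl q v (-2))

theorem tau_mulVec (v z : Fin 3 → F) : tau q v *ᵥ z = -z + (2 * hh z v) • v := by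
  unfold tau
  rw [Matrix.neg_mulVec, qrefl_mulVec, neg_add, ← neg_smul]
  congr 2
  ring

theorem tau_fix (v : Fin 3 → F) (hv : hh v v = 1) : tau q v *ᵥ v = v := by
  rw [tau_mulVec, hv, mul_one, two_smul]
  abel

theorem tau_neg (v x : Fin 3 → F) (hx : hh x v = 0) : tau q v *ᵥ x = -x := by
  rw [tau_mulVec, hx, mul_zero, zero_smul, add_zero]

theorem tau_iso (hF : Fintype.card F = q ^ 2) (v : Fin 3 → F) (hv : hh v v = 1) :
    IsIsoMat q (tau q v) := by
  intro x y
  simp only [tau_mulVec, hform_add_left, hform_add_right hF, hform_neg_left, hform_neg_right hF,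
    hform_smul_left, hform_smul_right, mul_pow, hform_conj hF, two_pow_q hF, hv]
  ring

theorem tau_det (v : Fin 3 → F) (hv : hh v v = 1) : (tau q v).det = 1 := by
  unfold tau
  rw [Matrix.det_neg, det_qrefl', hv, Fintype.card_fin]
  ring

theorem tau_sq (hF : Fintype.card F = q ^ 2) (v : Fin 3 → F) (hv : hh v v = 1) :
    tau q v * tau q v = 1 := by
  apply mat_ext_mulVec
  intro z
  rw [← Matrix.mulVec_mulVec, tau_mulVec, tau_mulVec, Matrix.one_mulVec]
  simp only [hform_add_left, hform_neg_left, hform_smul_left, hv]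
  ext i
  simp only [Pi.add_apply, Pi.neg_apply, Pi.smul_apply, smul_eq_mul]
  ring

theorem tau_fixed (hF : Fintype.card F = q ^ 2) (hq : Odd q) (v z : Fin 3 → F)
    (hz : tau q v *ᵥ z = z) : z = hh z v • v := by
  have h2 := two_ne_zero_of_odd hF hq
  rw [tau_mulVec] at hz
  have h3 : (2 : F) • z = (2 : F) • (hh z v • v) := by
    rw [smul_smul, two_smul]
    nth_rewrite 2 [← hz]
    abel
  exact smul_right_injective _ h2 h3

theorem tau_smul (v : Fin 3 → F) (l : F) (hl : l * l ^ q = 1) : tau q (l • v) = tau q v := by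
  apply mat_ext_mulVec
  intro z
  rw [tau_mulVec, tau_mulVec, hform_smul_right, smul_smul]
  congr 2
  linear_combination (2 * hh z v) * hl

theorem tau_conj (M : Matrix (Fin 3) (Fin 3) F) (hM : IsIsoMat q M) (v : Fin 3 → F) :
    M * tau q v = tau q (M *ᵥ v) * M := by
  apply mat_ext_mulVec
  intro z
  rw [← Matrix.mulVec_mulVec, ← Matrix.mulVec_mulVec, tau_mulVec, tau_mulVec, hM z v,
    Matrix.mulVec_add, Matrix.mulVec_neg, Matrix.mulVec_smul]

theorem tau_ne_one (hF : Fintype.card F = q ^ 2) (hq : Odd q) (v : Fin 3 → F) (hv : hh v v = 1) :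
    tau q v ≠ 1 := by
  intro h
  have h2 := two_ne_zero_of_odd hF hq
  have hv0 : v ≠ 0 := by
    rintro rfl
    rw [hform_zero_left] at hv
    exact zero_ne_one hv
  obtain ⟨w, hwv, hww⟩ := exists_nonisotropic_orth hF (le_refl 3) v hv0
  have h1 := tau_neg (q := q) v w hwv
  rw [h, Matrix.one_mulVec] at h1
  have hw0 : w ≠ 0 := by
    rintro rfl
    exact hww (hform_zero_left _)
  have h3 : (2 : F) • w = 0 := by
    rw [two_smul]
    nth_rewrite 1 [h1]
    exact neg_add_cancel w
  rcases smul_eq_zero.mp h3 with h4 | h4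
  · exact h2 h4
  · exact hw0 h4

/-- equality of the involutions determines the vector up to a scalar of norm one -/
theorem tau_eq_iff (hF : Fintype.card F = q ^ 2) (hq : Odd q) (v w : Fin 3 → F)
    (hv : hh v v = 1) (hw : hh w w = 1) :
    tau q v = tau q w ↔ ∃ l : F, l * l ^ q = 1 ∧ w = l • v := by
  constructor
  · intro h
    have h1 := tau_fix (q := q) w hw
    rw [← h] at h1
    have h2 := tau_fixed hF hq v w h1
    refine ⟨hh w v, ?_, h2⟩
    have h3 := hw
    nth_rewrite 1 [h2] at h3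
    nth_rewrite 2 [h2] at h3
    rw [hform_smul_left, hform_smul_right, hv, mul_one] at h3
    exact h3
  · rintro ⟨l, hl, rfl⟩
    exact (tau_smul v l hl).symm

/-- commuting distinct involutions have orthogonal fixed vectors -/
theorem orth_of_commute (hF : Fintype.card F = q ^ 2) (hq : Odd q) (v w : Fin 3 → F)
    (hv : hh v v = 1) (hw : hh w w = 1) (hc : tau q v * tau q w = tau q w * tau q v)
    (hne : tau q v ≠ tau q w) : hh v w = 0 := by
  by_contra h0
  have h2 := two_ne_zero_of_odd hF hq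
  apply hne
  have h1 : tau q v *ᵥ (tau q w *ᵥ v) = tau q w *ᵥ v := by
    rw [Matrix.mulVec_mulVec, hc, ← Matrix.mulVec_mulVec, tau_fix v hv]
  have h3 := tau_fixed hF hq v _ h1
  obtain ⟨c, hc'⟩ : ∃ c : F, c = hh (tau q w *ᵥ v) v := ⟨_, rfl⟩
  rw [← hc', tau_mulVec] at h3
  have h4 : w = ((c + 1) / (2 * hh v w)) • v := by
    have h5 : (2 * hh v w) • w = (c + 1) • v := by
      rw [add_smul, one_smul, ← h3]
      abel
    rw [div_eq_inv_mul, ← smul_smul, ← h5, smul_smul, inv_mul_cancel₀ (mul_ne_zero h2 h0),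
      one_smul]
  rw [tau_eq_iff hF hq v w hv hw]
  refine ⟨(c + 1) / (2 * hh v w), ?_, h4⟩
  have h6 := hw
  nth_rewrite 1 [h4] at h6
  nth_rewrite 2 [h4] at h6
  rw [hform_smul_left, hform_smul_right, hv, mul_one] at h6
  exact h6

end

end Cfsg.Agent.Lib.Helper51.SU3
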