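import Mathlib
import Cfsg.Agent.Lib.Helper51.SU3Inv1
set_option autoImplicit false
set_option linter.unusedSectionVars false
set_option linter.unusedVariables false

/-! Every involution of `SU_3(q)`, `q` odd, is a `tau`. -/

namespace Cfsg.Agent.Lib.Helper51.SU3

open Matrix Cfsg.Agent.Lib.Helper08 Cfsg.Agent.Lib.Helper51

section
variable {F : Type*} [Field F] [Fintype F] {q : ℕ}

local notation "hh" => hform (Fin 3) F q

/-- eigenspaces -/
def ES (T : Matrix (Fin 3) (Fin 3) F) (e : F) : Submodule F (Fin 3 → F) :=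
  LinearMap.ker (Matrix.toLin' T - e • LinearMap.id)

theorem mem_ES (T : Matrix (Fin 3) (Fin 3) F) (e : F) (x : Fin 3 → F) :
    x ∈ ES T e ↔ T *ᵥ x = e • x := by
  unfold ES
  rw [LinearMap.mem_ker, LinearMap.sub_apply, LinearMap.smul_apply, LinearMap.id_apply,
    Matrix.toLin'_apply, sub_eq_zero]

theorem ES_isCompl (h2 : (2 : F) ≠ 0) (T : Matrix (Fin 3) (Fin 3) F) (hT2 : T * T = 1) :
    IsCompl (ES T 1) (ES T (-1)) := by
  have hTT : ∀ z, T *ᵥ (T *ᵥ z) = z := by
    intro z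
    rw [Matrix.mulVec_mulVec, hT2, Matrix.one_mulVec]
  constructor
  · rw [Submodule.disjoint_def]
    intro x h1 h3
    rw [mem_ES] at h1 h3
    rw [h1, one_smul, neg_smul, one_smul] at h3
    have h4 : (2 : F) • x = 0 := by
      rw [two_smul]
      nth_rewrite 1 [h3]
      exact neg_add_cancel x
    rcases smul_eq_zero.mp h4 with h5 | h5
    · exact absurd h5 h2
    · exact h5
  · rw [Submodule.codisjoint_iff_exists_add_eq]
    intro z
    refine ⟨(2 : F)⁻¹ • (z + T *ᵥ z), (2 : F)⁻¹ • (z - T *ᵥ z), ?_, ?_, ?_⟩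
    · rw [mem_ES, Matrix.mulVec_smul, Matrix.mulVec_add, hTT, one_smul, add_comm]
    · rw [mem_ES, Matrix.mulVec_smul, Matrix.mulVec_sub, hTT, neg_smul, one_smul, ← smul_neg,
        neg_sub]
    · rw [← smul_add]
      have : z + T *ᵥ z + (z - T *ᵥ z) = (2 : F) • z := by
        rw [two_smul]; abel
      rw [this, smul_smul, inv_mul_cancel₀ h2, one_smul]

theorem eig_struct (hF : Fintype.card F = q ^ 2) (hq : Odd q) (T : Matrix (Fin 3) (Fin 3) F)
    (hT : IsIsoMat q T) (hT2 : T * T = 1) (e : F) (he : e = 1 ∨ e = -1) (v : Fin 3 → F)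
    (hv0 : v ≠ 0) (hv : T *ᵥ v = e • v) (huniq : ∀ z, T *ᵥ z = e • z → ∃ c : F, z = c • v) :
    hh v v ≠ 0 ∧ ∀ x, hh x v = 0 → T *ᵥ x = (-e) • x := by
  have h2 := two_ne_zero_of_odd hF hq
  have hee : e * e = 1 := by
    rcases he with rfl | rfl <;> ring
  have heq : e ^ q = e := by
    rcases he with rfl | rfl
    · exact one_pow q
    · rw [neg_pow_q hF, one_pow]
  have hTT : ∀ z, T *ᵥ (T *ᵥ z) = z := by
    intro z
    rw [Matrix.mulVec_mulVec, hT2, Matrix.one_mulVec]
  have hdec : ∀ z, ∃ (c : F) (z2 : Fin 3 → F), z = c • v + z2 ∧ T *ᵥ z2 = (-e) • z2 ∧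
      hh z2 v = 0 := by
    intro z
    have h1 : T *ᵥ ((2 : F)⁻¹ • (z + e • T *ᵥ z)) = e • ((2 : F)⁻¹ • (z + e • T *ᵥ z)) := by
      rw [Matrix.mulVec_smul, Matrix.mulVec_add, Matrix.mulVec_smul, hTT]
      ext i
      simp only [Pi.smul_apply, Pi.add_apply, smul_eq_mul]
      linear_combination (-(2 : F)⁻¹ * (T *ᵥ z) i) * hee
    obtain ⟨c, hc⟩ := huniq _ h1
    have h3 : T *ᵥ ((2 : F)⁻¹ • (z - e • T *ᵥ z)) = (-e) • ((2 : F)⁻¹ • (z - e • T *ᵥ z)) := by
      rw [Matrix.mulVec_smul, Matrix.mulVec_sub, Matrix.mulVec_smul, hTT]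
      ext i
      simp only [Pi.smul_apply, Pi.sub_apply, smul_eq_mul]
      linear_combination (-(2 : F)⁻¹ * (T *ᵥ z) i) * hee
    refine ⟨c, (2 : F)⁻¹ • (z - e • T *ᵥ z), ?_, h3, ?_⟩
    · rw [← hc, ← smul_add]
      have : z + e • T *ᵥ z + (z - e • T *ᵥ z) = (2 : F) • z := by
        rw [two_smul]; abel
      rw [this, smul_smul, inv_mul_cancel₀ h2, one_smul]
    · obtain ⟨z2, hz2⟩ : ∃ z2, z2 = (2 : F)⁻¹ • (z - e • T *ᵥ z) := ⟨_, rfl⟩
      rw [← hz2] at h3 ⊢
      have h4 := hT z2 v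
      rw [h3, hv, hform_smul_left, hform_smul_right, heq] at h4
      have h5 : (2 : F) * hh z2 v = 0 := by linear_combination (-1 : F) * h4 - (hh z2 v) * hee
      rcases mul_eq_zero.mp h5 with h6 | h6
      · exact absurd h6 h2
      · exact h6
  constructor
  · intro h0
    apply hv0
    apply hform_nondeg hF
    intro y
    obtain ⟨c, y2, hy, -, hy2⟩ := hdec y
    rw [← hform_conj hF y v, hy, hform_add_left, hform_smul_left, h0, hy2, mul_zero, add_zero,
      zero_pow (q_ne_zero' hF)]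
  · intro x hx
    obtain ⟨c, x2, hxd, hx2, hx2v⟩ := hdec x
    by_cases h0 : hh v v = 0
    · exfalso
      apply hv0
      apply hform_nondeg hF
      intro y
      obtain ⟨c', y2, hy, -, hy2⟩ := hdec y
      rw [← hform_conj hF y v, hy, hform_add_left, hform_smul_left, h0, hy2, mul_zero, add_zero,
        zero_pow (q_ne_zero' hF)]
    · have hc : c = 0 := by
        rw [hxd, hform_add_left, hform_smul_left, hx2v, add_zero] at hx
        rcases mul_eq_zero.mp hx with h | h
        · exact h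
        · exact absurd h h0
      rw [hc, zero_smul, zero_add] at hxd
      rw [hxd]
      exact hx2

/-- every involution of `SU_3(q)` is a `tau` -/
theorem exists_tau_of_inv (hF : Fintype.card F = q ^ 2) (hq : Odd q)
    (T : Matrix (Fin 3) (Fin 3) F) (hT : IsIsoMat q T) (hdet : T.det = 1) (hT2 : T * T = 1)
    (hne : T ≠ 1) : ∃ v, hh v v = 1 ∧ T = tau q v := by
  have h2 := two_ne_zero_of_odd hF hq
  have hTT : ∀ z, T *ᵥ (T *ᵥ z) = z := by
    intro z
    rw [Matrix.mulVec_mulVec, hT2, Matrix.one_mulVec]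
  have hcompl := ES_isCompl h2 T hT2
  have hsum := Submodule.finrank_add_eq_of_isCompl hcompl
  rw [Module.finrank_fin_fun] at hsum
  have hm : ES T (-1) ≠ ⊥ := by
    intro hbot
    apply hne
    apply mat_ext_mulVec
    intro x
    rw [Matrix.one_mulVec]
    have : x - T *ᵥ x ∈ ES T (-1) := by
      rw [mem_ES, Matrix.mulVec_sub, hTT, neg_smul, one_smul, neg_sub]
    rw [hbot, Submodule.mem_bot, sub_eq_zero] at this
    exact this.symm
  have hp : ES T 1 ≠ ⊥ := by
    intro hbot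
    have hall : ∀ x, T *ᵥ x = -x := by
      intro x
      have : x + T *ᵥ x ∈ ES T 1 := by
        rw [mem_ES, Matrix.mulVec_add, hTT, one_smul, add_comm]
      rw [hbot, Submodule.mem_bot] at this
      exact (neg_eq_of_add_eq_zero_right this).symm
    have hT1 : T = -1 := by
      apply mat_ext_mulVec
      intro x
      rw [hall, Matrix.neg_mulVec, Matrix.one_mulVec]
    rw [hT1, Matrix.det_neg, Matrix.det_one, Fintype.card_fin] at hdet
    apply h2
    linear_combination (-1 : F) * hdet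
  have hm' : Module.finrank F (ES T (-1)) ≠ 0 := fun h => hm (Submodule.finrank_eq_zero.mp h)
  have hp' : Module.finrank F (ES T 1) ≠ 0 := fun h => hp (Submodule.finrank_eq_zero.mp h)
  by_cases hcase : Module.finrank F (ES T (-1)) = 1
  · exfalso
    obtain ⟨⟨u, hu⟩, hu0, hall⟩ := finrank_eq_one_iff'.mp hcase
    have hu0' : u ≠ 0 := fun h => hu0 (Subtype.ext h)
    have huniq : ∀ z, T *ᵥ z = (-1 : F) • z → ∃ c : F, z = c • u := by
      intro z hz
      obtain ⟨c, hc⟩ := hall ⟨z, (mem_ES T (-1) z).mpr hz⟩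
      exact ⟨c, (congrArg Subtype.val hc).symm⟩
    have hTu : T *ᵥ u = (-1 : F) • u := (mem_ES _ _ _).mp hu
    obtain ⟨hη, hperp⟩ := eig_struct hF hq T hT hT2 (-1) (Or.inr rfl) u hu0' hTu huniq
    obtain ⟨η, hηdef⟩ : ∃ η : F, η = hh u u := ⟨_, rfl⟩
    rw [← hηdef] at hη
    have hTq : T = qrefl q u (-2 / η) := by
      apply mat_ext_mulVec
      intro z
      have hz' : hh (z - (hh z u / η) • u) u = 0 := by
        rw [hform_sub_left, hform_smul_left, ← hηdef, div_mul_cancel₀ _ hη, sub_self]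
      have h5 := hperp _ hz'
      rw [neg_neg, one_smul, Matrix.mulVec_sub, Matrix.mulVec_smul, hTu] at h5
      rw [qrefl_mulVec]
      have h6 : T *ᵥ z = z - (hh z u / η) • u + (hh z u / η) • ((-1 : F) • u) := by
        rw [← h5]; abel
      rw [h6]
      ext i
      simp only [Pi.add_apply, Pi.sub_apply, Pi.smul_apply, smul_eq_mul]
      field_simp
      ring
    rw [hTq, det_qrefl', ← hηdef, div_mul_cancel₀ _ hη] at hdet
    apply h2
    linear_combination (-1 : F) * hdet
  · have h1 : Module.finrank F (ES T 1) = 1 := by omega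
    obtain ⟨⟨v, hv⟩, hv0, hall⟩ := finrank_eq_one_iff'.mp h1
    have hv0' : v ≠ 0 := fun h => hv0 (Subtype.ext h)
    have huniq : ∀ z, T *ᵥ z = (1 : F) • z → ∃ c : F, z = c • v := by
      intro z hz
      obtain ⟨c, hc⟩ := hall ⟨z, (mem_ES T 1 z).mpr hz⟩
      exact ⟨c, (congrArg Subtype.val hc).symm⟩
    have hTv : T *ᵥ v = (1 : F) • v := (mem_ES _ _ _).mp hv
    obtain ⟨hη, hperp⟩ := eig_struct hF hq T hT hT2 1 (Or.inl rfl) v hv0' hTv huniq
    obtain ⟨η, hηdef⟩ : ∃ η : F, η = hh v v := ⟨_, rfl⟩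
    rw [← hηdef] at hη
    have hηq : η ^ q = η := by rw [hηdef]; exact hform_self_pow hF v
    obtain ⟨l, hl⟩ := exists_nm_eq hF η⁻¹ (by rw [inv_pow, hηq])
    have hl0 : l ≠ 0 := by
      rintro rfl
      rw [zero_mul] at hl
      exact inv_ne_zero hη hl.symm
    have hnorm : hh (l • v) (l • v) = 1 := by
      rw [hform_smul_left, hform_smul_right, ← hηdef, ← mul_assoc, hl, inv_mul_cancel₀ hη]
    refine ⟨l • v, hnorm, ?_⟩
    apply mat_ext_mulVec
    intro z
    have hz' : hh (z - hh z (l • v) • (l • v)) v = 0 := by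
      have h7 : hh (z - hh z (l • v) • (l • v)) (l • v) = 0 := by
        rw [hform_sub_left, hform_smul_left, hnorm, mul_one, sub_self]
      rw [hform_smul_right] at h7
      rcases mul_eq_zero.mp h7 with h8 | h8
      · exact absurd h8 (pow_ne_zero _ hl0)
      · exact h8
    have h5 := hperp _ hz'
    rw [neg_smul, one_smul, Matrix.mulVec_sub, Matrix.mulVec_smul, Matrix.mulVec_smul, hTv,
      one_smul] at h5
    rw [tau_mulVec]
    have h6 : T *ᵥ z = -(z - hh z (l • v) • (l • v)) + hh z (l • v) • (l • v) := by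
      rw [← h5]; abel
    rw [h6, two_mul, add_smul]
    abel

end

end Cfsg.Agent.Lib.Helper51.SU3
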