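import Mathlib
import Cfsg.Agent.Lib.Helper51.SU3Inv2
import Cfsg.Agent.S0284
import Cfsg.Agent.S0278
set_option autoImplicit false
set_option linter.unusedSectionVars false
set_option linter.unusedVariables false

/-! Involutions of `SU_3(q)`, `q` odd: conjugacy, number, centraliser. -/

namespace Cfsg.Agent.Lib.Helper51.SU3

open Matrix Cfsg.Agent.Lib.Helper08 Cfsg.Agent.Lib.Helper51

theorem card_fibers {α β : Type*} [Finite α] [Finite β] (φ : α → β) (k : ℕ)
    (h : ∀ b, Nat.card {a // φ a = b} = k) : Nat.card α = Nat.card β * k := by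
  classical
  have := Fintype.ofFinite β
  rw [← Nat.card_congr (Equiv.sigmaFiberEquiv φ), Nat.card_sigma]
  simp only [h, Finset.sum_const, Finset.card_univ, smul_eq_mul, Nat.card_eq_fintype_card]

section
variable {F : Type*} [Field F] [Fintype F] {q : ℕ}

local notation "hh" => hform (Fin 3) F q

/-- involution from a norm-one vector -/
def tauG (hF : Fintype.card F = q ^ 2) (v : Fin 3 → F) (hv : hh v v = 1) : ↥(Cfsg.SU 3 F q) :=
  toSU (tau q v) (tau_iso hF v hv) (tau_det v hv)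

theorem smat_tauG (hF : Fintype.card F = q ^ 2) (v : Fin 3 → F) (hv : hh v v = 1) :
    smat (tauG hF v hv) = tau q v := rfl

theorem tauG_ne_one (hF : Fintype.card F = q ^ 2) (hq : Odd q) (v : Fin 3 → F) (hv : hh v v = 1) :
    tauG hF v hv ≠ 1 := by
  intro h
  apply tau_ne_one hF hq v hv
  rw [← smat_tauG hF v hv, h, smat_one]

theorem tauG_sq (hF : Fintype.card F = q ^ 2) (v : Fin 3 → F) (hv : hh v v = 1) :
    tauG hF v hv * tauG hF v hv = 1 := by
  apply smat_injective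
  rw [smat_mul, smat_tauG, tau_sq hF v hv, smat_one]

theorem exists_vec (hF : Fintype.card F = q ^ 2) (hq : Odd q) (x : ↥(Cfsg.SU 3 F q)) (hx1 : x ≠ 1)
    (hx2 : x * x = 1) : ∃ v, hh v v = 1 ∧ smat x = tau q v :=
  exists_tau_of_inv hF hq (smat x) (smat_iso x) (smat_det x)
    (by rw [← smat_mul, hx2, smat_one])
    (fun h => hx1 (smat_injective (by rw [h, smat_one])))

theorem norm_one_ne_zero (v : Fin 3 → F) (hv : hh v v = 1) : v ≠ 0 := by
  rintro rfl
  rw [hform_zero_left] at hv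
  exact zero_ne_one hv

theorem exists_SU3_map (hF : Fintype.card F = q ^ 2) (v w : Fin 3 → F) (hv : hh v v = 1)
    (hw : hh w w = 1) : ∃ M : Matrix (Fin 3) (Fin 3) F, IsIsoMat q M ∧ M.det = 1 ∧ M *ᵥ v = w := by
  obtain ⟨M, hM, hMv⟩ := exists_iso_map hF v w hv hw
  have hdet := det_norm_of_iso hF M hM
  have hd0 : M.det ≠ 0 := by
    intro h0
    rw [h0, zero_mul] at hdet
    exact zero_ne_one hdet
  obtain ⟨D, hD, hDw, hDdet⟩ := exists_stab_det hF (le_refl 3) w (norm_one_ne_zero w hw)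
    (M.det)⁻¹ (by rw [inv_pow, ← mul_inv, hdet, inv_one])
  exact ⟨D * M, hD.mul hM, by rw [Matrix.det_mul, hDdet, inv_mul_cancel₀ hd0],
    by rw [← Matrix.mulVec_mulVec, hMv, hDw]⟩

/-- all involutions are conjugate -/
theorem conj_inv (hF : Fintype.card F = q ^ 2) (hq : Odd q) (t x : ↥(Cfsg.SU 3 F q)) (ht1 : t ≠ 1)
    (ht2 : t * t = 1) (hx1 : x ≠ 1) (hx2 : x * x = 1) : ∃ g : ↥(Cfsg.SU 3 F q), g * t * g⁻¹ = x := by
  obtain ⟨v, hv, htv⟩ := exists_vec hF hq t ht1 ht2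
  obtain ⟨w, hw, hxw⟩ := exists_vec hF hq x hx1 hx2
  obtain ⟨M, hM, hMdet, hMv⟩ := exists_SU3_map hF v w hv hw
  refine ⟨toSU M hM hMdet, ?_⟩
  rw [mul_inv_eq_iff_eq_mul]
  apply smat_injective
  rw [smat_mul, smat_mul, smat_toSU, htv, hxw, tau_conj M hM v, hMv]

theorem card_norm_one_scalars (hF : Fintype.card F = q ^ 2) :
    Nat.card {l : F // l ^ (q + 1) = 1} = q + 1 :=
  Cfsg.Agent.S0754.result hF 1 one_ne_zero (one_pow q)

theorem card_norm_one_vec (hF : Fintype.card F = q ^ 2) :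
    Nat.card {v : Fin 3 → F // hh v v = 1} = q ^ 2 * (q ^ 3 + 1) := by
  have h := Cfsg.Agent.S0284.result hF 3
  rw [if_neg (by decide)] at h
  exact h

/-- the number of involutions -/
theorem card_inv_mul (hF : Fintype.card F = q ^ 2) (hq : Odd q) :
    q ^ 2 * (q ^ 3 + 1) = Nat.card {x : ↥(Cfsg.SU 3 F q) // x ≠ 1 ∧ x * x = 1} * (q + 1) := by
  rw [← card_norm_one_vec hF]
  let φ : {v : Fin 3 → F // hh v v = 1} → {x : ↥(Cfsg.SU 3 F q) // x ≠ 1 ∧ x * x = 1} := fun v =>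
    ⟨tauG hF v.1 v.2, tauG_ne_one hF hq v.1 v.2, tauG_sq hF v.1 v.2⟩
  apply card_fibers φ
  intro b
  obtain ⟨v0, hv0, hb⟩ := exists_vec hF hq b.1 b.2.1 b.2.2
  rw [← card_norm_one_scalars hF]
  symm
  have hnorm : ∀ l : {l : F // l ^ (q + 1) = 1}, hh (l.1 • v0) (l.1 • v0) = 1 := by
    intro l
    rw [hform_smul_left, hform_smul_right, hv0, mul_one, ← pow_succ']
    exact l.2
  have hll : ∀ l : {l : F // l ^ (q + 1) = 1}, l.1 * l.1 ^ q = 1 := by
    intro l
    rw [← pow_succ']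
    exact l.2
  let ψ : {l : F // l ^ (q + 1) = 1} → {a : {v : Fin 3 → F // hh v v = 1} // φ a = b} :=
    fun l => ⟨⟨l.1 • v0, hnorm l⟩, by
      apply Subtype.ext
      apply smat_injective
      show tau q (l.1 • v0) = smat b.1
      rw [hb, tau_smul v0 l.1 (hll l)]⟩
  apply Nat.card_eq_of_bijective ψ
  constructor
  · intro l l' h
    have h1 : l.1 • v0 = l'.1 • v0 := congrArg (fun a => a.1.1) h
    exact Subtype.ext (smul_left_injective F (norm_one_ne_zero v0 hv0) h1)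
  · rintro ⟨⟨a, ha⟩, hab⟩
    have h1 : tau q a = tau q v0 := by
      rw [← hb, ← hab]
      rfl
    obtain ⟨l, hl, hal⟩ := (tau_eq_iff hF hq v0 a hv0 ha).mp h1.symm
    refine ⟨⟨l, by rw [pow_succ']; exact hl⟩, ?_⟩
    apply Subtype.ext
    apply Subtype.ext
    exact hal.symm

theorem cube_add_one (q : ℕ) : q ^ 3 + 1 = (q + 1) * (q ^ 2 - q + 1) := by
  have hle : q ≤ q ^ 2 := by nlinarith
  obtain ⟨s, hs⟩ : ∃ s, s = q ^ 2 - q := ⟨_, rfl⟩
  have hs' : s + q = q ^ 2 := by rw [hs]; exact Nat.sub_add_cancel hle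
  rw [← hs]
  nlinarith [hs']

theorem card_inv (hF : Fintype.card F = q ^ 2) (hq : Odd q) :
    Nat.card {x : ↥(Cfsg.SU 3 F q) // x ≠ 1 ∧ x * x = 1} = q ^ 2 * (q ^ 2 - q + 1) := by
  have h := card_inv_mul hF hq
  rw [cube_add_one] at h
  have hpos : 0 < q + 1 := Nat.succ_pos q
  apply Nat.eq_of_mul_eq_mul_right hpos
  rw [← h]
  ring

theorem card_SU3 (hF : Fintype.card F = q ^ 2) :
    Nat.card ↥(Cfsg.SU 3 F q) = q ^ 3 * ((q ^ 2 - 1) * (q ^ 3 + 1)) := by
  have h := Cfsg.Agent.S0278.result hF 3 (by norm_num)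
  rw [Finset.prod_range_succ, Finset.prod_range_succ, Finset.prod_range_one] at h
  norm_num [Nat.even_add_one] at h
  have hpos : 0 < q + 1 := Nat.succ_pos q
  apply Nat.eq_of_mul_eq_mul_left hpos
  rw [h]
  ring

/-- the centraliser of an involution -/
theorem card_centralizer (hF : Fintype.card F = q ^ 2) (hq : Odd q) (t : ↥(Cfsg.SU 3 F q)) (ht1 : t ≠ 1)
    (ht2 : t * t = 1) :
    Nat.card ↥(Subgroup.centralizer ({t} : Set ↥(Cfsg.SU 3 F q))) = q * (q + 1) * (q ^ 2 - 1) := by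
  have hinv : t⁻¹ = t := inv_eq_of_mul_eq_one_right ht2
  let γ : ↥(Cfsg.SU 3 F q) → {x : ↥(Cfsg.SU 3 F q) // x ≠ 1 ∧ x * x = 1} := fun g =>
    ⟨g * t * g⁻¹, by
      intro h
      apply ht1
      have := congrArg (fun z => g⁻¹ * z * g) h
      simp only [mul_assoc, inv_mul_cancel_left, inv_mul_cancel, mul_one] at this
      exact this, by
      calc g * t * g⁻¹ * (g * t * g⁻¹) = g * (t * t) * g⁻¹ := by group
        _ = 1 := by rw [ht2]; group⟩
  have hfib : ∀ b, Nat.card {g : ↥(Cfsg.SU 3 F q) // γ g = b} = Nat.card ↥(Subgroup.centralizer ({t} : Set ↥(Cfsg.SU 3 F q))) := by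
    intro b
    obtain ⟨g0, hg0⟩ := conj_inv hF hq t b.1 ht1 ht2 b.2.1 b.2.2
    symm
    let ψ : ↥(Subgroup.centralizer ({t} : Set ↥(Cfsg.SU 3 F q))) → {g : ↥(Cfsg.SU 3 F q) // γ g = b} := fun c =>
      ⟨g0 * c.1, by
        apply Subtype.ext
        show g0 * c.1 * t * (g0 * c.1)⁻¹ = b.1
        have hc : t * c.1 = c.1 * t := (Subgroup.mem_centralizer_iff.mp c.2) t rfl
        calc g0 * c.1 * t * (g0 * c.1)⁻¹ = g0 * (c.1 * t) * c.1⁻¹ * g0⁻¹ := by group
          _ = g0 * (t * c.1) * c.1⁻¹ * g0⁻¹ := by rw [hc]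
          _ = g0 * t * g0⁻¹ := by group
          _ = b.1 := hg0⟩
    apply Nat.card_eq_of_bijective ψ
    constructor
    · intro c c' h
      have h1 : g0 * c.1 = g0 * c'.1 := congrArg Subtype.val h
      exact Subtype.ext (mul_left_cancel h1)
    · rintro ⟨g, hg⟩
      have hg' : g * t * g⁻¹ = b.1 := congrArg Subtype.val hg
      refine ⟨⟨g0⁻¹ * g, ?_⟩, ?_⟩
      · rw [Subgroup.mem_centralizer_iff]
        intro h hh'
        rw [Set.mem_singleton_iff] at hh'
        subst hh'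
        have h2 : g0 * h * g0⁻¹ = g * h * g⁻¹ := by rw [hg0, hg']
        have h3 : h = g0⁻¹ * (g * h * g⁻¹) * g0 := by
          rw [← h2]; group
        calc h * (g0⁻¹ * g) = g0⁻¹ * (g * h * g⁻¹) * g0 * (g0⁻¹ * g) := by rw [← h3]
          _ = g0⁻¹ * g * h := by group
      · apply Subtype.ext
        show g0 * (g0⁻¹ * g) = g
        group
  have h1 := card_fibers γ _ hfib
  rw [card_SU3 hF, card_inv hF hq, cube_add_one] at h1
  have hpos : 0 < q ^ 2 * (q ^ 2 - q + 1) := by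
    have hq0 : 0 < q := Nat.pos_of_ne_zero (q_ne_zero' hF)
    positivity
  apply Nat.eq_of_mul_eq_mul_left hpos
  rw [← h1]
  ring

end

end Cfsg.Agent.Lib.Helper51.SU3
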