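import Mathlib
import Cfsg.Agent.S0751
import Cfsg.Agent.Lib.Helper51.UStab3
set_option autoImplicit false
set_option linter.unusedSectionVars false
set_option linter.unusedVariables false

/-! Witt's lemma for tuples of vectors of the standard unitary space, in matrix form. -/

namespace Cfsg.Agent.Lib.Helper51.UPar

open Matrix Cfsg.Agent.Lib.Helper08 Cfsg.Agent.Lib.Helper51
open Cfsg.Agent.Lib.Helper19 (pow_q_pow_q add_pow_q sum_pow_q q_pos one_lt_q frobQ frobQ_apply)

section
variable {F : Type*} [Field F] [Fintype F] {q : ℕ} {ι : Type} [Fintype ι] [DecidableEq ι]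

/-- the standard hermitian form as a sesquilinear map -/
noncomputable def hV (hF : Fintype.card F = q ^ 2) (ι : Type) [Fintype ι] [DecidableEq ι] :
    (ι → F) →ₛₗ[frobQ hF] (ι → F) →ₗ[F] F :=
  LinearMap.mk₂'ₛₗ (frobQ hF) (RingHom.id F)
    (fun u v => hform ι F q v u)
    (fun u u' v => hform_add_right hF _ _ _)
    (fun c u v => by
      simp only [smul_eq_mul, frobQ_apply]
      exact hform_smul_right _ _ _)
    (fun u v v' => hform_add_left _ _ _)
    (fun c u v => by
      simp only [smul_eq_mul, RingHom.id_apply]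
      exact hform_smul_left _ _ _)

theorem hV_apply (hF : Fintype.card F = q ^ 2) (u v : ι → F) :
    hV hF ι u v = hform ι F q v u := rfl

theorem hV_isSymm (hF : Fintype.card F = q ^ 2) : (hV hF ι).IsSymm := ⟨fun u v => by
  rw [hV_apply, hV_apply, frobQ_apply]
  exact hform_conj hF _ _⟩

theorem hform_zero_right'' (hF : Fintype.card F = q ^ 2) (x : ι → F) : hform ι F q x 0 = 0 := by
  have := hform_smul_right (q := q) (0 : F) x (0 : ι → F)
  rw [zero_smul, zero_pow (q_pos hF).ne', zero_mul] at this
  exact this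

theorem hform_symm_zero (hF : Fintype.card F = q ^ 2) (x y : ι → F) (h : hform ι F q x y = 0) :
    hform ι F q y x = 0 := by
  rw [← hform_conj hF, h, zero_pow (q_pos hF).ne']

theorem hV_nondeg (hF : Fintype.card F = q ^ 2) : (hV hF ι).Nondegenerate := by
  constructor
  · intro u hu
    apply hform_nondeg hF
    intro y
    have := hu y
    rw [hV_apply] at this
    exact hform_symm_zero hF _ _ this
  · intro v hv
    apply hform_nondeg hF
    intro y
    exact hv y

/-- the matrix of a linear isometry -/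
theorem exists_mat_of_linear (hF : Fintype.card F = q ^ 2) (g : (ι → F) ≃ₗ[F] (ι → F))
    (hg : ∀ u v, hform ι F q (g u) (g v) = hform ι F q u v) :
    ∃ M : Matrix ι ι F, IsIsoMat q M ∧ ∀ x, M *ᵥ x = g x := by
  refine ⟨LinearMap.toMatrix' (g : (ι → F) →ₗ[F] (ι → F)), ?_, ?_⟩
  · intro x y
    rw [LinearMap.toMatrix'_mulVec, LinearMap.toMatrix'_mulVec]
    exact hg x y
  · intro x
    rw [LinearMap.toMatrix'_mulVec]
    rfl

/-- Witt's lemma for tuples: the unitary group is transitive on linearly independent tuples with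
a given Gram matrix -/
theorem exists_iso_map_tuple (hF : Fintype.card F = q ^ 2) {k : ℕ} (s s' : Fin k → ι → F)
    (hs : LinearIndependent F s) (hs' : LinearIndependent F s')
    (h : ∀ i j, hform ι F q (s i) (s j) = hform ι F q (s' i) (s' j)) :
    ∃ M : Matrix ι ι F, IsIsoMat q M ∧ ∀ i, M *ᵥ s i = s' i := by
  let b := Module.Basis.span hs
  let b' := Module.Basis.span hs'
  let φ : ↥(Submodule.span F (Set.range s)) ≃ₗ[F] ↥(Submodule.span F (Set.range s')) :=
    b.equiv b' (Equiv.refl _)
  have hφb : ∀ i, ((φ (b i) : ↥(Submodule.span F (Set.range s'))) : ι → F) = s' i := by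
    intro i
    show ((b.equiv b' (Equiv.refl _) (b i) : ↥(Submodule.span F (Set.range s'))) : ι → F) = s' i
    rw [Module.Basis.equiv_apply, Equiv.refl_apply, Module.Basis.span_apply]
  have hb : ∀ i, ((b i : ↥(Submodule.span F (Set.range s))) : ι → F) = s i := by
    intro i
    show ((Module.Basis.span hs i : ↥(Submodule.span F (Set.range s))) : ι → F) = s i
    rw [Module.Basis.span_apply]
  -- the two restricted forms agree
  let B1 : ↥(Submodule.span F (Set.range s)) →ₛₗ[frobQ hF] ↥(Submodule.span F (Set.range s)) →ₗ[F] F :=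
    (hV hF ι).domRestrict₁₂ (Submodule.span F (Set.range s)) (Submodule.span F (Set.range s))
  let BY : ↥(Submodule.span F (Set.range s')) →ₛₗ[frobQ hF]
      ↥(Submodule.span F (Set.range s')) →ₗ[F] F :=
    (hV hF ι).domRestrict₁₂ (Submodule.span F (Set.range s')) (Submodule.span F (Set.range s'))
  let B2 : ↥(Submodule.span F (Set.range s)) →ₛₗ[frobQ hF] ↥(Submodule.span F (Set.range s)) →ₗ[F] F :=
    (BY.comp φ.toLinearMap).compl₂ φ.toLinearMap
  have hB : B2 = B1 := by
    apply LinearMap.ext_basis b b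
    intro i j
    show hV hF ι ((φ (b i) : ↥(Submodule.span F (Set.range s'))) : ι → F)
        ((φ (b j) : ↥(Submodule.span F (Set.range s'))) : ι → F) =
      hV hF ι ((b i : ↥(Submodule.span F (Set.range s))) : ι → F)
        ((b j : ↥(Submodule.span F (Set.range s))) : ι → F)
    rw [hφb, hφb, hb, hb, hV_apply, hV_apply]
    exact (h j i).symm
  have hφ : ∀ x x' : ↥(Submodule.span F (Set.range s)),
      hV hF ι ((φ x : ↥(Submodule.span F (Set.range s'))) : ι → F)
        ((φ x' : ↥(Submodule.span F (Set.range s'))) : ι → F) =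
      hV hF ι (x : ι → F) (x' : ι → F) := by
    intro x x'
    have := congrArg (fun B => B x x') hB
    exact this
  obtain ⟨g, hg1, hg2⟩ := Cfsg.Agent.S0751.result (frobQ hF) (frobQ_ne_id hF)
    (fun a => by rw [frobQ_apply, frobQ_apply, pow_q_pow_q hF]) (hV hF ι) (hV_isSymm hF)
    (hV_nondeg hF) _ _ φ hφ
  obtain ⟨M, hM, hMg⟩ := exists_mat_of_linear hF g (fun u v => by
    have := hg1 v u
    rw [hV_apply, hV_apply] at this
    exact this)
  refine ⟨M, hM, ?_⟩
  intro i
  rw [hMg]
  have := hg2 (b i)
  rw [hb] at this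
  rw [this, hφb]

end

end Cfsg.Agent.Lib.Helper51.UPar
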