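import Mathlib
import Cfsg.Agent.Lib.Helper51.UPar1
import Cfsg.Agent.Lib.Helper51.SUGen3
set_option autoImplicit false
set_option linter.unusedSectionVars false
set_option linter.unusedVariables false

/-! Extensions of totally isotropic tuples: invariance and the count in a model. -/

namespace Cfsg.Agent.Lib.Helper51.UPar

open Matrix Cfsg.Agent.Lib.Helper08 Cfsg.Agent.Lib.Helper51
open Cfsg.Agent.Lib.Helper19 (pow_q_pow_q q_pos)

section
variable {F : Type*} [Field F] [Fintype F] {q : ℕ} {ι κ : Type} [Fintype ι] [DecidableEq ι]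
  [Fintype κ] [DecidableEq κ]

/-- the vectors extending a totally isotropic tuple -/
def ExtP (q : ℕ) {k : ℕ} (s : Fin k → ι → F) (v : ι → F) : Prop :=
  v ∉ Submodule.span F (Set.range s) ∧ hform ι F q v v = 0 ∧ ∀ i, hform ι F q v (s i) = 0

theorem mem_span_map {k : ℕ} (T : (ι → F) ≃ₗ[F] (κ → F)) (s : Fin k → ι → F) (v : ι → F) :
    T v ∈ Submodule.span F (Set.range (fun i => T (s i))) ↔ v ∈ Submodule.span F (Set.range s) := by
  have h1 : Set.range (fun i => T (s i)) = (T : (ι → F) →ₗ[F] (κ → F)) '' Set.range s := by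
    ext x
    constructor
    · rintro ⟨i, rfl⟩
      exact ⟨s i, ⟨i, rfl⟩, rfl⟩
    · rintro ⟨y, ⟨i, rfl⟩, rfl⟩
      exact ⟨i, rfl⟩
  rw [h1, ← Submodule.map_span]
  constructor
  · rintro ⟨y, hy, hTy⟩
    have : y = v := T.injective hTy
    rw [← this]
    exact hy
  · intro hv
    exact ⟨v, hv, rfl⟩

theorem ExtP_map {k : ℕ} (T : (ι → F) ≃ₗ[F] (κ → F))
    (hT : ∀ x y, hform κ F q (T x) (T y) = hform ι F q x y) (s : Fin k → ι → F) (v : ι → F) :
    ExtP q (fun i => T (s i)) (T v) ↔ ExtP q s v := by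
  unfold ExtP
  rw [mem_span_map, hT]
  simp only [hT]

theorem card_ExtP_map {k : ℕ} (T : (ι → F) ≃ₗ[F] (κ → F))
    (hT : ∀ x y, hform κ F q (T x) (T y) = hform ι F q x y) (s : Fin k → ι → F) :
    Nat.card {v // ExtP q (fun i => T (s i)) v} = Nat.card {v // ExtP q s v} := by
  symm
  exact Nat.card_congr (Equiv.subtypeEquiv T.toEquiv (fun v => (ExtP_map T hT s v).symm))

/-- the linear equivalence of an isometry matrix -/
noncomputable def isoLin (hF : Fintype.card F = q ^ 2) (M : Matrix ι ι F) (hM : IsIsoMat q M) :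
    (ι → F) ≃ₗ[F] (ι → F) :=
  LinearEquiv.ofBijective (Matrix.toLin' M) ⟨fun x y h =>
      Matrix.mulVec_injective_iff_isUnit.mpr (hM.isUnit hF) (by
        rw [Matrix.toLin'_apply, Matrix.toLin'_apply] at h
        exact h),
    fun y => by
      obtain ⟨x, hx⟩ := Matrix.mulVec_surjective_iff_isUnit.mpr (hM.isUnit hF) y
      exact ⟨x, by rw [Matrix.toLin'_apply]; exact hx⟩⟩

theorem isoLin_apply (hF : Fintype.card F = q ^ 2) (M : Matrix ι ι F) (hM : IsIsoMat q M)
    (x : ι → F) : isoLin hF M hM x = M *ᵥ x := by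
  show Matrix.toLin' M x = M *ᵥ x
  rw [Matrix.toLin'_apply]

/-- the number of extension vectors does not depend on the tuple -/
theorem card_ExtP_eq (hF : Fintype.card F = q ^ 2) {k : ℕ} (s s' : Fin k → ι → F)
    (hs : LinearIndependent F s) (hs' : LinearIndependent F s')
    (h : ∀ i j, hform ι F q (s i) (s j) = hform ι F q (s' i) (s' j)) :
    Nat.card {v // ExtP q s' v} = Nat.card {v // ExtP q s v} := by
  obtain ⟨M, hM, hMs⟩ := exists_iso_map_tuple hF s s' hs hs' h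
  have := card_ExtP_map (isoLin hF M hM) (fun x y => by
    rw [isoLin_apply, isoLin_apply]; exact hM x y) s
  rw [← this]
  have h2 : (fun i => isoLin hF M hM (s i)) = s' := by
    funext i
    rw [isoLin_apply, hMs]
  rw [h2]

theorem card_ExtP_reindex {k : ℕ} (e : ι ≃ κ) (s : Fin k → ι → F) :
    Nat.card {v // ExtP q (fun i => s i ∘ e.symm) v} = Nat.card {v // ExtP q s v} := by
  have := card_ExtP_map (q := q) (LinearEquiv.funCongrLeft F F e.symm) (fun x y => by
    show hform κ F q (x ∘ e.symm) (y ∘ e.symm) = hform ι F q x y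
    exact hform_comp_equiv e.symm x y) s
  exact this

end

/-! ### the model -/

section model
variable {F : Type*} [Field F] [Fintype F] {q : ℕ} {k m : ℕ}

/-- the standard totally isotropic tuple of the model -/
def s0 (k m : ℕ) (ε : F) (i : Fin k) : Fin k ⊕ (Fin k ⊕ Fin m) → F :=
  Sum.elim (Pi.single i 1) (Sum.elim (Pi.single i ε) 0)

theorem hform3 (x y : Fin k ⊕ (Fin k ⊕ Fin m) → F) :
    hform (Fin k ⊕ (Fin k ⊕ Fin m)) F q x y =
      hform (Fin k) F q (x ∘ Sum.inl) (y ∘ Sum.inl) +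
        (hform (Fin k) F q (x ∘ Sum.inr ∘ Sum.inl) (y ∘ Sum.inr ∘ Sum.inl) +
          hform (Fin m) F q (x ∘ Sum.inr ∘ Sum.inr) (y ∘ Sum.inr ∘ Sum.inr)) := by
  rw [hform_sum_type, hform_sum_type]
  rfl

theorem hform_single_r (hF : Fintype.card F = q ^ 2) (a : Fin k → F) (i : Fin k) (c : F) :
    hform (Fin k) F q a (Pi.single i c) = a i * c ^ q := by
  unfold hform
  rw [Finset.sum_eq_single i]
  · rw [Pi.single_eq_same]
  · intro j _ hj
    rw [Pi.single_eq_of_ne hj, zero_pow (q_pos hF).ne', mul_zero]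
  · intro h
    exact absurd (Finset.mem_univ i) h

theorem hform_s0_right (hF : Fintype.card F = q ^ 2) (ε : F) (v : Fin k ⊕ (Fin k ⊕ Fin m) → F)
    (i : Fin k) :
    hform (Fin k ⊕ (Fin k ⊕ Fin m)) F q v (s0 k m ε i) =
      v (Sum.inl i) + v (Sum.inr (Sum.inl i)) * ε ^ q := by
  rw [hform3]
  have e1 : s0 k m ε i ∘ Sum.inl = Pi.single i 1 := rfl
  have e2 : s0 k m ε i ∘ Sum.inr ∘ Sum.inl = Pi.single i ε := rfl
  have e3 : s0 k m ε i ∘ Sum.inr ∘ Sum.inr = (0 : Fin m → F) := rfl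
  rw [e1, e2, e3, hform_single_r hF, hform_single_r hF, hform_zero_right'' hF, one_pow, mul_one,
    add_zero]
  rfl

theorem sum_single_apply (c : Fin k → F) (a : F) (j : Fin k) :
    ∑ i, c i * (Pi.single i a : Fin k → F) j = c j * a := by
  rw [Finset.sum_eq_single j]
  · rw [Pi.single_eq_same]
  · intro i _ hi
    rw [Pi.single_eq_of_ne (Ne.symm hi), mul_zero]
  · intro h
    exact absurd (Finset.mem_univ j) h

theorem comb_s0_inl (ε : F) (c : Fin k → F) (j : Fin k) :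
    (∑ i, c i • s0 k m ε i) (Sum.inl j) = c j := by
  rw [Finset.sum_apply]
  simp only [Pi.smul_apply, smul_eq_mul]
  have : ∀ i, s0 k m ε i (Sum.inl j) = (Pi.single i 1 : Fin k → F) j := fun i => rfl
  simp only [this]
  rw [sum_single_apply, mul_one]

theorem comb_s0_inr_inl (ε : F) (c : Fin k → F) (j : Fin k) :
    (∑ i, c i • s0 k m ε i) (Sum.inr (Sum.inl j)) = c j * ε := by
  rw [Finset.sum_apply]
  simp only [Pi.smul_apply, smul_eq_mul]
  have : ∀ i, s0 k m ε i (Sum.inr (Sum.inl j)) = (Pi.single i ε : Fin k → F) j := fun i => rfl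
  simp only [this]
  rw [sum_single_apply]

theorem comb_s0_inr_inr (ε : F) (c : Fin k → F) (j : Fin m) :
    (∑ i, c i • s0 k m ε i) (Sum.inr (Sum.inr j)) = 0 := by
  rw [Finset.sum_apply]
  simp only [Pi.smul_apply, smul_eq_mul]
  have : ∀ i, s0 k m ε i (Sum.inr (Sum.inr j)) = 0 := fun i => rfl
  simp only [this, mul_zero, Finset.sum_const_zero]

theorem s0_li (ε : F) : LinearIndependent F (s0 (F := F) k m ε) := by
  rw [Fintype.linearIndependent_iff]
  intro c hc j
  have := congrFun hc (Sum.inl j)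
  rw [comb_s0_inl] at this
  exact this

theorem s0_ti (hF : Fintype.card F = q ^ 2) (ε : F) (hε : ε * ε ^ q = -1) (i j : Fin k) :
    hform (Fin k ⊕ (Fin k ⊕ Fin m)) F q (s0 k m ε i) (s0 k m ε j) = 0 := by
  rw [hform_s0_right hF]
  show (Pi.single i 1 : Fin k → F) j + (Pi.single i ε : Fin k → F) j * ε ^ q = 0
  by_cases hij : j = i
  · rw [hij, Pi.single_eq_same, Pi.single_eq_same, hε]
    ring
  · rw [Pi.single_eq_of_ne hij, Pi.single_eq_of_ne hij]
    ring

theorem nm_neg_eps (hF : Fintype.card F = q ^ 2) (ε : F) (hε : ε * ε ^ q = -1) :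
    (-(ε ^ q)) * (-(ε ^ q)) ^ q = -1 := by
  rw [neg_pow_q hF, pow_q_pow_q hF]
  linear_combination hε

/-- the extension vectors of the standard tuple -/
theorem ExtP_s0_iff (hF : Fintype.card F = q ^ 2) (ε : F) (hε : ε * ε ^ q = -1)
    (v : Fin k ⊕ (Fin k ⊕ Fin m) → F) :
    ExtP q (s0 k m ε) v ↔ (v ∘ Sum.inl = (-(ε ^ q)) • (v ∘ Sum.inr ∘ Sum.inl)) ∧
      hform (Fin m) F q (v ∘ Sum.inr ∘ Sum.inr) (v ∘ Sum.inr ∘ Sum.inr) = 0 ∧
      v ∘ Sum.inr ∘ Sum.inr ≠ 0 := by
  have horth : (∀ i, hform (Fin k ⊕ (Fin k ⊕ Fin m)) F q v (s0 k m ε i) = 0) ↔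
      (v ∘ Sum.inl = (-(ε ^ q)) • (v ∘ Sum.inr ∘ Sum.inl)) := by
    constructor
    · intro h
      funext i
      have := h i
      rw [hform_s0_right hF] at this
      show v (Sum.inl i) = -(ε ^ q) * v (Sum.inr (Sum.inl i))
      linear_combination this
    · intro h i
      rw [hform_s0_right hF]
      have := congrFun h i
      have h' : v (Sum.inl i) = -(ε ^ q) * v (Sum.inr (Sum.inl i)) := this
      rw [h']
      ring
  have hnorm : (v ∘ Sum.inl = (-(ε ^ q)) • (v ∘ Sum.inr ∘ Sum.inl)) →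
      hform (Fin k ⊕ (Fin k ⊕ Fin m)) F q v v =
        hform (Fin m) F q (v ∘ Sum.inr ∘ Sum.inr) (v ∘ Sum.inr ∘ Sum.inr) := by
    intro h
    rw [hform3, h, hform_smul_left, hform_smul_right, ← mul_assoc, nm_neg_eps hF ε hε]
    ring
  have hspan : (v ∘ Sum.inl = (-(ε ^ q)) • (v ∘ Sum.inr ∘ Sum.inl)) →
      (v ∈ Submodule.span F (Set.range (s0 (F := F) k m ε)) ↔ v ∘ Sum.inr ∘ Sum.inr = 0) := by
    intro h
    rw [Submodule.mem_span_range_iff_exists_fun]
    constructor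
    · rintro ⟨c, hc⟩
      funext j
      show v (Sum.inr (Sum.inr j)) = 0
      rw [← hc, comb_s0_inr_inr]
    · intro hu
      refine ⟨v ∘ Sum.inl, ?_⟩
      funext x
      rcases x with j | j | j
      · rw [comb_s0_inl]
        rfl
      · rw [comb_s0_inr_inl]
        have := congrFun h j
        have h' : v (Sum.inl j) = -(ε ^ q) * v (Sum.inr (Sum.inl j)) := this
        show v (Sum.inl j) * ε = v (Sum.inr (Sum.inl j))
        rw [h']
        linear_combination (-v (Sum.inr (Sum.inl j))) * hε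
      · rw [comb_s0_inr_inr]
        exact (congrFun hu j).symm
  unfold ExtP
  constructor
  · rintro ⟨h1, h2, h3⟩
    have ha := horth.mp h3
    refine ⟨ha, ?_, ?_⟩
    · rw [← hnorm ha]
      exact h2
    · intro hu
      exact h1 ((hspan ha).mpr hu)
  · rintro ⟨ha, h2, h3⟩
    refine ⟨?_, ?_, horth.mpr ha⟩
    · intro hmem
      exact h3 ((hspan ha).mp hmem)
    · rw [hnorm ha]
      exact h2

/-- the number of extension vectors in the model -/
theorem card_ExtP_s0 (hF : Fintype.card F = q ^ 2) (ε : F) (hε : ε * ε ^ q = -1) :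
    Nat.card {v // ExtP q (s0 (F := F) k m ε) v} =
      (q ^ 2) ^ k * Nat.card {u : Fin m → F // hform (Fin m) F q u u = 0 ∧ u ≠ 0} := by
  have hcF : Nat.card (Fin k → F) = (q ^ 2) ^ k := by
    rw [Nat.card_fun, Nat.card_eq_fintype_card, Nat.card_eq_fintype_card, hF, Fintype.card_fin]
  rw [← hcF, ← Nat.card_prod]
  symm
  let f : (Fin k → F) × {u : Fin m → F // hform (Fin m) F q u u = 0 ∧ u ≠ 0} →
      {v // ExtP q (s0 (F := F) k m ε) v} := fun p =>
    ⟨Sum.elim ((-(ε ^ q)) • p.1) (Sum.elim p.1 p.2.1), by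
      rw [ExtP_s0_iff hF ε hε]
      exact ⟨rfl, p.2.2.1, p.2.2.2⟩⟩
  apply Nat.card_eq_of_bijective f
  constructor
  · rintro ⟨b, u⟩ ⟨b', u'⟩ h
    have h1 : (Sum.elim ((-(ε ^ q)) • b) (Sum.elim b u.1) : Fin k ⊕ (Fin k ⊕ Fin m) → F) =
        Sum.elim ((-(ε ^ q)) • b') (Sum.elim b' u'.1) := congrArg Subtype.val h
    have hb : b = b' := by
      funext j
      exact congrFun h1 (Sum.inr (Sum.inl j))
    have hu : u.1 = u'.1 := by
      funext j
      exact congrFun h1 (Sum.inr (Sum.inr j))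
    exact Prod.ext hb (Subtype.ext hu)
  · rintro ⟨v, hv⟩
    rw [ExtP_s0_iff hF ε hε] at hv
    refine ⟨⟨v ∘ Sum.inr ∘ Sum.inl, ⟨v ∘ Sum.inr ∘ Sum.inr, hv.2.1, hv.2.2⟩⟩, ?_⟩
    apply Subtype.ext
    show (Sum.elim ((-(ε ^ q)) • (v ∘ Sum.inr ∘ Sum.inl))
      (Sum.elim (v ∘ Sum.inr ∘ Sum.inl) (v ∘ Sum.inr ∘ Sum.inr)) :
        Fin k ⊕ (Fin k ⊕ Fin m) → F) = v
    rw [← hv.1]
    funext x
    rcases x with j | j | j <;> rfl

end model

end Cfsg.Agent.Lib.Helper51.UPar
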