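import Mathlib
import Cfsg.Agent.Lib.Helper51.UPar2
import Cfsg.Agent.Lib.Helper51.SU3Inv3
set_option autoImplicit false
set_option linter.unusedSectionVars false
set_option linter.unusedVariables false

/-! Counting totally isotropic tuples and the orbit counting for the unitary group. -/

namespace Cfsg.Agent.Lib.Helper51.UPar

open Matrix Cfsg.Agent.Lib.Helper08 Cfsg.Agent.Lib.Helper51
open Cfsg.Agent.Lib.Helper19 (pow_q_pow_q q_pos)

section
variable {F : Type*} [Field F] [Fintype F] {q : ℕ} {ι : Type} [Fintype ι] [DecidableEq ι]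

/-- the number of nonzero isotropic vectors -/
noncomputable def isoNZ (q : ℕ) (F : Type*) [Field F] (m : ℕ) : ℕ :=
  Nat.card {u : Fin m → F // hform (Fin m) F q u u = 0 ∧ u ≠ 0}

/-- totally isotropic linearly independent tuples -/
def TIk (q : ℕ) {k : ℕ} (s : Fin k → ι → F) : Prop :=
  LinearIndependent F s ∧ ∀ i j, hform ι F q (s i) (s j) = 0

theorem li_reindex {κ : Type} [Fintype κ] [DecidableEq κ] {k : ℕ} (e : ι ≃ κ)
    (s : Fin k → ι → F) (hs : LinearIndependent F s) :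
    LinearIndependent F (fun i => s i ∘ e.symm) := by
  have := hs.map' (LinearEquiv.funCongrLeft F F e.symm : (ι → F) ≃ₗ[F] (κ → F)).toLinearMap
    (LinearEquiv.ker _)
  exact this

/-- the number of extension vectors of a totally isotropic tuple -/
theorem card_ExtP (hF : Fintype.card F = q ^ 2) (k m : ℕ) (hcard : Fintype.card ι = k + (k + m))
    (s : Fin k → ι → F) (hs : TIk q s) :
    Nat.card {v // ExtP q s v} = (q ^ 2) ^ k * isoNZ q F m := by
  obtain ⟨ε, hε⟩ := exists_nm_neg_one hF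
  have hc : Fintype.card ι = Fintype.card (Fin k ⊕ (Fin k ⊕ Fin m)) := by
    rw [hcard, Fintype.card_sum, Fintype.card_sum, Fintype.card_fin, Fintype.card_fin]
  let e : ι ≃ Fin k ⊕ (Fin k ⊕ Fin m) := Fintype.equivOfCardEq hc
  rw [← card_ExtP_reindex (q := q) e s]
  rw [card_ExtP_eq hF (s0 k m ε) (fun i => s i ∘ e.symm) (s0_li ε) (li_reindex e s hs.1)
    (fun i j => by
      rw [s0_ti hF ε hε]
      have := hform_comp_equiv (q := q) e.symm (s i) (s j)
      rw [this, hs.2 i j])]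
  exact card_ExtP_s0 hF ε hε

theorem TIk_cons (hF : Fintype.card F = q ^ 2) {k : ℕ} (s : Fin k → ι → F) (v : ι → F) :
    TIk q (Fin.cons v s : Fin (k + 1) → ι → F) ↔ TIk q s ∧ ExtP q s v := by
  unfold TIk ExtP
  rw [linearIndependent_finCons]
  constructor
  · rintro ⟨⟨h1, h2⟩, h3⟩
    refine ⟨⟨h1, fun i j => ?_⟩, h2, ?_, fun i => ?_⟩
    · have := h3 i.succ j.succ
      rw [Fin.cons_succ, Fin.cons_succ] at this
      exact this
    · have := h3 0 0
      rw [Fin.cons_zero] at this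
      exact this
    · have := h3 0 i.succ
      rw [Fin.cons_zero, Fin.cons_succ] at this
      exact this
  · rintro ⟨⟨h1, h3⟩, h2, h4, h5⟩
    refine ⟨⟨h1, h2⟩, fun i j => ?_⟩
    refine Fin.cases ?_ (fun i' => ?_) i
    · refine Fin.cases ?_ (fun j' => ?_) j
      · rw [Fin.cons_zero]
        exact h4
      · rw [Fin.cons_zero, Fin.cons_succ]
        exact h5 j'
    · refine Fin.cases ?_ (fun j' => ?_) j
      · rw [Fin.cons_zero, Fin.cons_succ]
        exact hform_symm_zero hF _ _ (h5 i')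
      · rw [Fin.cons_succ, Fin.cons_succ]
        exact h3 i' j'

theorem TIk_tail (hF : Fintype.card F = q ^ 2) {k : ℕ} (s : Fin (k + 1) → ι → F)
    (hs : TIk q s) : TIk q (Fin.tail s) ∧ ExtP q (Fin.tail s) (s 0) := by
  rw [← TIk_cons hF, Fin.cons_self_tail]
  exact hs

/-- one step of the count of totally isotropic tuples -/
theorem card_TIk_succ (hF : Fintype.card F = q ^ 2) (k c : ℕ)
    (hc : ∀ s : Fin k → ι → F, TIk q s → Nat.card {v // ExtP q s v} = c) :
    Nat.card {s : Fin (k + 1) → ι → F // TIk q s} =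
      Nat.card {s : Fin k → ι → F // TIk q s} * c := by
  let φ : {s : Fin (k + 1) → ι → F // TIk q s} → {s : Fin k → ι → F // TIk q s} := fun s =>
    ⟨Fin.tail s.1, (TIk_tail hF s.1 s.2).1⟩
  apply SU3.card_fibers φ
  intro b
  rw [← hc b.1 b.2]
  let f : {a : {s : Fin (k + 1) → ι → F // TIk q s} // φ a = b} → {v // ExtP q b.1 v} := fun a =>
    ⟨a.1.1 0, by
      have h1 := (TIk_tail hF a.1.1 a.1.2).2
      have h2 : Fin.tail a.1.1 = b.1 := congrArg Subtype.val a.2
      rw [h2] at h1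
      exact h1⟩
  apply Nat.card_eq_of_bijective f
  constructor
  · rintro ⟨⟨a, ha⟩, hab⟩ ⟨⟨a', ha'⟩, hab'⟩ h
    have h0 : a 0 = a' 0 := congrArg Subtype.val h
    have h1 : Fin.tail a = b.1 := congrArg Subtype.val hab
    have h2 : Fin.tail a' = b.1 := congrArg Subtype.val hab'
    apply Subtype.ext
    apply Subtype.ext
    show a = a'
    rw [← Fin.cons_self_tail a, ← Fin.cons_self_tail a', h0, h1, h2]
  · rintro ⟨v, hv⟩
    have hT : TIk q (Fin.cons v b.1 : Fin (k + 1) → ι → F) := (TIk_cons hF b.1 v).mpr ⟨b.2, hv⟩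
    refine ⟨⟨⟨Fin.cons v b.1, hT⟩, ?_⟩, ?_⟩
    · apply Subtype.ext
      show Fin.tail (Fin.cons v b.1 : Fin (k + 1) → ι → F) = b.1
      rw [Fin.tail_cons]
    · apply Subtype.ext
      show (Fin.cons v b.1 : Fin (k + 1) → ι → F) 0 = v
      rw [Fin.cons_zero]

/-- the number of totally isotropic tuples -/
theorem card_TIk (hF : Fintype.card F = q ^ 2) (n : ℕ) (hcard : Fintype.card ι = n) :
    ∀ k, 2 * k ≤ n → Nat.card {s : Fin k → ι → F // TIk q s} =
      ∏ i ∈ Finset.range k, ((q ^ 2) ^ i * isoNZ q F (n - 2 * i)) := by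
  intro k
  induction k with
  | zero =>
    intro _
    rw [Finset.range_zero, Finset.prod_empty, Nat.card_eq_one_iff_unique]
    constructor
    · constructor
      rintro ⟨a, ha⟩ ⟨b, hb⟩
      apply Subtype.ext
      funext i
      exact Fin.elim0 i
    · exact ⟨⟨fun i => Fin.elim0 i, linearIndependent_empty_type, fun i => Fin.elim0 i⟩⟩
  | succ k ih =>
    intro hk
    rw [Finset.prod_range_succ, ← ih (by omega)]
    apply card_TIk_succ hF
    intro s hs
    apply card_ExtP hF k (n - 2 * k) _ s hs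
    rw [hcard]
    omega

/-! ### orbit counting -/

theorem isIsoMat_inv (hF : Fintype.card F = q ^ 2) (M : Matrix ι ι F) (hM : IsIsoMat q M) :
    IsIsoMat q M⁻¹ ∧ M * M⁻¹ = 1 ∧ M⁻¹ * M = 1 := by
  have hdet : IsUnit M.det := (Matrix.isUnit_iff_isUnit_det M).mp (hM.isUnit hF)
  have h1 := Matrix.mul_nonsing_inv M hdet
  have h2 := Matrix.nonsing_inv_mul M hdet
  refine ⟨?_, h1, h2⟩
  intro x y
  rw [← hM (M⁻¹ *ᵥ x) (M⁻¹ *ᵥ y), Matrix.mulVec_mulVec, Matrix.mulVec_mulVec, h1,
    Matrix.one_mulVec, Matrix.one_mulVec]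

theorem TIk_map (hF : Fintype.card F = q ^ 2) {k : ℕ} (M : Matrix ι ι F) (hM : IsIsoMat q M)
    (s : Fin k → ι → F) (hs : TIk q s) : TIk q (fun i => M *ᵥ s i) := by
  constructor
  · have := hs.1.map' (isoLin hF M hM).toLinearMap (LinearEquiv.ker _)
    have h2 : (fun i => M *ᵥ s i) = (isoLin hF M hM).toLinearMap ∘ s := by
      funext i
      show M *ᵥ s i = isoLin hF M hM (s i)
      rw [isoLin_apply]
    rw [h2]
    exact this
  · intro i j
    rw [hM]
    exact hs.2 i j

/-- the fibres of the orbit map all have the size of the stabiliser -/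
theorem card_fibre (hF : Fintype.card F = q ^ 2) {k : ℕ} (e x : Fin k → ι → F)
    (he : TIk q e) (hx : TIk q x) :
    Nat.card {M : Matrix ι ι F // IsIsoMat q M ∧ ∀ i, M *ᵥ e i = x i} =
      Nat.card {M : Matrix ι ι F // IsIsoMat q M ∧ ∀ i, M *ᵥ e i = e i} := by
  obtain ⟨M0, hM0, hM0e⟩ := exists_iso_map_tuple hF e x he.1 hx.1
    (fun i j => by rw [he.2, hx.2])
  obtain ⟨hinv, hmi, him⟩ := isIsoMat_inv hF M0 hM0
  symm
  let f : {M : Matrix ι ι F // IsIsoMat q M ∧ ∀ i, M *ᵥ e i = e i} →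
      {M : Matrix ι ι F // IsIsoMat q M ∧ ∀ i, M *ᵥ e i = x i} := fun N =>
    ⟨M0 * N.1, hM0.mul N.2.1, fun i => by
      rw [← Matrix.mulVec_mulVec, N.2.2 i, hM0e i]⟩
  apply Nat.card_eq_of_bijective f
  constructor
  · rintro ⟨N, hN⟩ ⟨N', hN'⟩ h
    have h1 : M0 * N = M0 * N' := congrArg Subtype.val h
    apply Subtype.ext
    show N = N'
    exact (hM0.isUnit hF).mul_left_cancel h1
  · rintro ⟨M, hM, hMe⟩
    refine ⟨⟨M0⁻¹ * M, hinv.mul hM, fun i => ?_⟩, ?_⟩
    · rw [← Matrix.mulVec_mulVec, hMe i, ← hM0e i, Matrix.mulVec_mulVec, him, Matrix.one_mulVec]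
    · apply Subtype.ext
      show M0 * (M0⁻¹ * M) = M
      rw [← Matrix.mul_assoc, hmi, Matrix.one_mul]

/-- orbit counting for the whole isometry group -/
theorem card_iso_eq (hF : Fintype.card F = q ^ 2) {k : ℕ} (e : Fin k → ι → F) (he : TIk q e) :
    Nat.card {M : Matrix ι ι F // IsIsoMat q M} =
      Nat.card {s : Fin k → ι → F // TIk q s} *
        Nat.card {M : Matrix ι ι F // IsIsoMat q M ∧ ∀ i, M *ᵥ e i = e i} := by
  let φ : {M : Matrix ι ι F // IsIsoMat q M} → {s : Fin k → ι → F // TIk q s} := fun M =>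
    ⟨fun i => M.1 *ᵥ e i, TIk_map hF M.1 M.2 e he⟩
  apply SU3.card_fibers φ
  intro x
  rw [← card_fibre hF e x.1 he x.2]
  apply Nat.card_congr
  exact {
    toFun := fun a => ⟨a.1.1, a.1.2, fun i => congrFun (congrArg Subtype.val a.2) i⟩
    invFun := fun M => ⟨⟨M.1, M.2.1⟩, Subtype.ext (funext M.2.2)⟩
    left_inv := fun a => rfl
    right_inv := fun M => rfl }

/-- a linearly independent tuple of the right length in a subspace spans it -/
theorem span_eq_of_li {k : ℕ} (W : Submodule F (ι → F)) (hWk : Module.finrank F W = k)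
    (s : Fin k → ι → F) (hs : LinearIndependent F s) (hsW : ∀ i, s i ∈ W) :
    Submodule.span F (Set.range s) = W := by
  apply Submodule.eq_of_le_of_finrank_eq
  · rw [Submodule.span_le]
    rintro _ ⟨i, rfl⟩
    exact hsW i
  · rw [finrank_span_eq_card hs, Fintype.card_fin, hWk]

/-- orbit counting for the stabiliser of a totally isotropic subspace -/
theorem card_stab_eq (hF : Fintype.card F = q ^ 2) {k : ℕ} (W : Submodule F (ι → F))
    (hWk : Module.finrank F W = k) (hW : ∀ u ∈ W, ∀ v ∈ W, hform ι F q u v = 0)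
    (e : Fin k → ι → F) (he : LinearIndependent F e) (heW : ∀ i, e i ∈ W) :
    Nat.card {M : Matrix ι ι F // IsIsoMat q M ∧ ∀ v, v ∈ W ↔ M *ᵥ v ∈ W} =
      Nat.card {s : Fin k → ι → F // LinearIndependent F s ∧ ∀ i, s i ∈ W} *
        Nat.card {M : Matrix ι ι F // IsIsoMat q M ∧ ∀ i, M *ᵥ e i = e i} := by
  have heT : TIk q e := ⟨he, fun i j => hW _ (heW i) _ (heW j)⟩
  have hspan_e := span_eq_of_li W hWk e he heW
  let φ : {M : Matrix ι ι F // IsIsoMat q M ∧ ∀ v, v ∈ W ↔ M *ᵥ v ∈ W} →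
      {s : Fin k → ι → F // LinearIndependent F s ∧ ∀ i, s i ∈ W} := fun M =>
    ⟨fun i => M.1 *ᵥ e i, (TIk_map hF M.1 M.2.1 e heT).1, fun i => (M.2.2 (e i)).mp (heW i)⟩
  apply SU3.card_fibers φ
  intro x
  have hxT : TIk q x.1 := ⟨x.2.1, fun i j => hW _ (x.2.2 i) _ (x.2.2 j)⟩
  have hspan_x := span_eq_of_li W hWk x.1 x.2.1 x.2.2
  rw [← card_fibre hF e x.1 heT hxT]
  apply Nat.card_congr
  exact {
    toFun := fun a => ⟨a.1.1, a.1.2.1, fun i => congrFun (congrArg Subtype.val a.2) i⟩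
    invFun := fun M => ⟨⟨M.1, M.2.1, fun v => by
      have h1 := mem_span_map (isoLin hF M.1 M.2.1) e v
      have h2 : (fun i => isoLin hF M.1 M.2.1 (e i)) = x.1 := by
        funext i
        rw [isoLin_apply, M.2.2 i]
      rw [h2, isoLin_apply, hspan_e, hspan_x] at h1
      exact h1.symm⟩, Subtype.ext (funext M.2.2)⟩
    left_inv := fun a => rfl
    right_inv := fun M => rfl }

end

end Cfsg.Agent.Lib.Helper51.UPar
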