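import Mathlib
import Cfsg.Agent.Lib.Helper51.UPar3
import Cfsg.Agent.Lib.Helper51.SUGen10
import Cfsg.Agent.Lib.Helper51.UnitaryT3
set_option autoImplicit false
set_option linter.unusedSectionVars false
set_option linter.unusedVariables false

/-! Elements of prescribed determinant in the stabiliser of a totally isotropic subspace. -/

namespace Cfsg.Agent.Lib.Helper51.UPar

open Matrix Cfsg.Agent.Lib.Helper08 Cfsg.Agent.Lib.Helper51
open Cfsg.Agent.Lib.Helper19 (pow_q_pow_q q_pos)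

section
variable {F : Type*} [Field F] [Fintype F] {q : ℕ} {ι : Type} [Fintype ι] [DecidableEq ι]

/-- matrix of `x ↦ x + c h(x,b) a` -/
def rk1 (q : ℕ) (a b : ι → F) (c : F) : Matrix ι ι F :=
  1 + c • Matrix.vecMulVec a (fun j => b j ^ q)

theorem rk1_mulVec (a b : ι → F) (c : F) (x : ι → F) :
    rk1 q a b c *ᵥ x = x + (c * hform ι F q x b) • a := by
  unfold rk1
  rw [Matrix.add_mulVec, Matrix.one_mulVec, Matrix.smul_mulVec, Matrix.vecMulVec_mulVec]
  congr 1
  ext i
  simp only [Pi.smul_apply, smul_eq_mul, MulOpposite.smul_eq_mul_unop, MulOpposite.unop_op,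
    hform, dotProduct]
  have : ∑ j, b j ^ q * x j = ∑ j, x j * b j ^ q := by
    apply Finset.sum_congr rfl; intro j _; ring
  rw [this]; ring

theorem det_rk1 (a b : ι → F) (c : F) :
    (rk1 q a b c).det = 1 + c * hform ι F q a b := by
  unfold rk1
  have h1 : c • Matrix.vecMulVec a (fun j => b j ^ q) =
      Matrix.replicateCol Unit (c • a) * Matrix.replicateRow Unit (fun j => b j ^ q) := by
    rw [← Matrix.vecMulVec_eq, Matrix.smul_vecMulVec]
  rw [h1, Matrix.det_one_add_replicateCol_mul_replicateRow]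
  congr 1
  unfold hform dotProduct
  rw [Finset.mul_sum]
  apply Finset.sum_congr rfl
  intro i _
  simp only [Pi.smul_apply, smul_eq_mul]
  ring

/-- the hyperbolic scaling -/
def hsc (q : ℕ) (e f : ι → F) (μ ν : F) : Matrix ι ι F :=
  rk1 q e f (μ - 1) * rk1 q f e (ν - 1)

theorem hsc_mulVec (e f : ι → F) (hff : hform ι F q f f = 0) (μ ν : F) (x : ι → F) :
    hsc q e f μ ν *ᵥ x =
      x + ((ν - 1) * hform ι F q x e) • f + ((μ - 1) * hform ι F q x f) • e := by
  unfold hsc
  rw [← Matrix.mulVec_mulVec, rk1_mulVec, rk1_mulVec, hform_add_left, hform_smul_left, hff,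
    mul_zero, add_zero]

theorem hsc_det (hF : Fintype.card F = q ^ 2) (e f : ι → F) (hef : hform ι F q e f = 1)
    (μ ν : F) : (hsc q e f μ ν).det = μ * ν := by
  have hfe : hform ι F q f e = 1 := by rw [← hform_conj hF, hef, one_pow]
  unfold hsc
  rw [Matrix.det_mul, det_rk1, det_rk1, hef, hfe]
  ring

theorem hsc_iso (hF : Fintype.card F = q ^ 2) (e f : ι → F) (hee : hform ι F q e e = 0)
    (hff : hform ι F q f f = 0) (hef : hform ι F q e f = 1) (μ ν : F) (h : μ ^ q * ν = 1) :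
    IsIsoMat q (hsc q e f μ ν) := by
  have hfe : hform ι F q f e = 1 := by rw [← hform_conj hF, hef, one_pow]
  have h' : μ * ν ^ q = 1 := by
    have := congrArg (fun z => z ^ q) h
    simp only [mul_pow, pow_q_pow_q hF, one_pow] at this
    exact this
  have hA : (μ - 1) ^ q = μ ^ q - 1 := by rw [sub_pow_q hF, one_pow]
  have hB : (ν - 1) ^ q = ν ^ q - 1 := by rw [sub_pow_q hF, one_pow]
  intro x y
  rw [hsc_mulVec e f hff, hsc_mulVec e f hff]
  simp only [hform_add_left, hform_add_right hF, hform_smul_left, hform_smul_right, mul_pow,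
    hform_conj hF, hee, hff, hef, hfe, hA, hB]
  linear_combination (hform ι F q x e * hform ι F q f y) * h +
    (hform ι F q x f * hform ι F q e y) * h'

/-- Hilbert 90 for the norm one elements -/
theorem exists_hilbert90 (hF : Fintype.card F = q ^ 2) (l : F) (hl : l * l ^ q = 1) :
    ∃ μ : F, μ ≠ 0 ∧ μ = l * μ ^ q := by
  by_cases h1 : 1 + l = 0
  · obtain ⟨s, hs0, hs⟩ := exists_skew_ne_zero hF
    refine ⟨s, hs0, ?_⟩
    have hl' : l = -1 := by linear_combination h1
    rw [hl']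
    linear_combination hs
  · refine ⟨1 + l, h1, ?_⟩
    rw [add_pow_q' hF, one_pow]
    linear_combination -hl

/-- a hyperbolic partner of a nonzero isotropic vector -/
theorem exists_partner (hF : Fintype.card F = q ^ 2) (e : ι → F) (he0 : e ≠ 0)
    (hee : hform ι F q e e = 0) :
    ∃ f : ι → F, hform ι F q f f = 0 ∧ hform ι F q e f = 1 := by
  obtain ⟨z, hzz, hez, -⟩ := exists_isotropic_nonorth hF e e he0 he0 hee hee
  refine ⟨((hform ι F q e z)⁻¹ ^ q) • z, ?_, ?_⟩
  · rw [hform_smul_left, hform_smul_right, hzz, mul_zero, mul_zero]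
  · rw [hform_smul_right, pow_q_pow_q hF, inv_mul_cancel₀ hez]

/-- a map sending a finite dimensional subspace into itself injectively maps it onto itself -/
theorem stab_iff_of_forward (hF : Fintype.card F = q ^ 2) (W : Submodule F (ι → F))
    (M : Matrix ι ι F) (hM : IsIsoMat q M) (hfw : ∀ v ∈ W, M *ᵥ v ∈ W) :
    ∀ v, v ∈ W ↔ M *ᵥ v ∈ W := by
  intro v
  refine ⟨hfw v, ?_⟩
  intro hv
  let g : W →ₗ[F] W := (Matrix.toLin' M).restrict (fun w hw => by
    rw [Matrix.toLin'_apply]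
    exact hfw w hw)
  have hinj : Function.Injective g := by
    intro a b hab
    have h1 : M *ᵥ (a : ι → F) = M *ᵥ (b : ι → F) := by
      have := congrArg Subtype.val hab
      simp only [g, LinearMap.coe_restrict_apply, Matrix.toLin'_apply] at this
      exact this
    exact Subtype.ext (Matrix.mulVec_injective_iff_isUnit.mpr (hM.isUnit hF) h1)
  have hsurj : Function.Surjective g := LinearMap.injective_iff_surjective.mp hinj
  obtain ⟨w, hw⟩ := hsurj ⟨M *ᵥ v, hv⟩
  have h2 : M *ᵥ (w : ι → F) = M *ᵥ v := by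
    have := congrArg Subtype.val hw
    simp only [g, LinearMap.coe_restrict_apply, Matrix.toLin'_apply] at this
    exact this
  have h3 : (w : ι → F) = v := Matrix.mulVec_injective_iff_isUnit.mpr (hM.isUnit hF) h2
  rw [← h3]
  exact w.2

/-- elements of any norm one determinant in the stabiliser of a totally isotropic subspace -/
theorem exists_stab_det' (hF : Fintype.card F = q ^ 2) [Nonempty ι] (W : Submodule F (ι → F))
    (hW : ∀ u ∈ W, ∀ v ∈ W, hform ι F q u v = 0) (l : F) (hl : l * l ^ q = 1) :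
    ∃ M : Matrix ι ι F, IsIsoMat q M ∧ (∀ v, v ∈ W ↔ M *ᵥ v ∈ W) ∧ M.det = l := by
  by_cases hW0 : W = ⊥
  · obtain ⟨i0⟩ := (inferInstance : Nonempty ι)
    have hnorm : hform ι F q (Pi.single i0 (1 : F)) (Pi.single i0 1) = 1 := by
      rw [hform_single_right hF, Pi.single_eq_same]
    have hiso : IsIsoMat q (qrefl q (Pi.single i0 (1 : F)) (l - 1)) := by
      apply qrefl_iso hF
      rw [hnorm, sub_pow_q hF, one_pow]
      linear_combination hl
    refine ⟨qrefl q (Pi.single i0 (1 : F)) (l - 1), hiso, ?_, ?_⟩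
    · apply stab_iff_of_forward hF W _ hiso
      intro v hv
      rw [hW0, Submodule.mem_bot] at hv
      rw [hv, Matrix.mulVec_zero]
      exact W.zero_mem
    · rw [det_qrefl', hnorm]
      ring
  · obtain ⟨e, heW, he0⟩ := Submodule.exists_mem_ne_zero_of_ne_bot hW0
    have hee := hW e heW e heW
    obtain ⟨f, hff, hef⟩ := exists_partner hF e he0 hee
    obtain ⟨μ, hμ0, hμ⟩ := exists_hilbert90 hF l hl
    have hμq : μ ^ q ≠ 0 := pow_ne_zero q hμ0
    have hiso : IsIsoMat q (hsc q e f μ (μ ^ q)⁻¹) :=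
      hsc_iso hF e f hee hff hef μ _ (mul_inv_cancel₀ hμq)
    refine ⟨hsc q e f μ (μ ^ q)⁻¹, hiso, ?_, ?_⟩
    · apply stab_iff_of_forward hF W _ hiso
      intro v hv
      rw [hsc_mulVec e f hff, hW v hv e heW, mul_zero, zero_smul, add_zero]
      exact W.add_mem hv (W.smul_mem _ heW)
    · rw [hsc_det hF e f hef]
      field_simp
      rw [mul_comm]
      exact hμ

end

section su
variable {F : Type*} [Field F] [Fintype F] {q : ℕ} {n : ℕ}

/-- the stabiliser in the isometry group is `q + 1` times the stabiliser in the special group -/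
theorem card_stab_det (hF : Fintype.card F = q ^ 2) (hn : 1 ≤ n) (W : Submodule F (Fin n → F))
    (hW : ∀ u ∈ W, ∀ v ∈ W, hform (Fin n) F q u v = 0) :
    Nat.card {M : Matrix (Fin n) (Fin n) F // IsIsoMat q M ∧ ∀ v, v ∈ W ↔ M *ᵥ v ∈ W} =
      Nat.card {M : Matrix (Fin n) (Fin n) F //
        (IsIsoMat q M ∧ ∀ v, v ∈ W ↔ M *ᵥ v ∈ W) ∧ M.det = 1} * (q + 1) := by
  have : Nonempty (Fin n) := ⟨⟨0, hn⟩⟩
  rw [← SU3.card_norm_one_scalars hF]
  rw [mul_comm]
  let φ : {M : Matrix (Fin n) (Fin n) F // IsIsoMat q M ∧ ∀ v, v ∈ W ↔ M *ᵥ v ∈ W} →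
      {l : F // l ^ (q + 1) = 1} := fun M =>
    ⟨M.1.det, by rw [pow_succ']; exact det_norm_of_iso hF M.1 M.2.1⟩
  apply SU3.card_fibers φ
  intro l
  have hl : l.1 * l.1 ^ q = 1 := by rw [← pow_succ']; exact l.2
  obtain ⟨M0, hM0, hM0W, hM0d⟩ := exists_stab_det' hF W hW l.1 hl
  obtain ⟨hinv, hmi, him⟩ := isIsoMat_inv hF M0 hM0
  have hinvW : ∀ v, v ∈ W ↔ M0⁻¹ *ᵥ v ∈ W := by
    intro v
    have := hM0W (M0⁻¹ *ᵥ v)
    rw [Matrix.mulVec_mulVec, hmi, Matrix.one_mulVec] at this
    exact this.symm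
  symm
  let f : {M : Matrix (Fin n) (Fin n) F //
        (IsIsoMat q M ∧ ∀ v, v ∈ W ↔ M *ᵥ v ∈ W) ∧ M.det = 1} →
      {a : {M : Matrix (Fin n) (Fin n) F // IsIsoMat q M ∧ ∀ v, v ∈ W ↔ M *ᵥ v ∈ W} //
        φ a = l} := fun N =>
    ⟨⟨M0 * N.1, hM0.mul N.2.1.1, fun v => by
      rw [← Matrix.mulVec_mulVec]
      exact (N.2.1.2 v).trans (hM0W _)⟩, by
      apply Subtype.ext
      show (M0 * N.1).det = l.1
      rw [Matrix.det_mul, N.2.2, mul_one, hM0d]⟩
  apply Nat.card_eq_of_bijective f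
  constructor
  · rintro ⟨N, hN⟩ ⟨N', hN'⟩ h
    have h1 : M0 * N = M0 * N' := congrArg (fun a => a.1.1) h
    apply Subtype.ext
    show N = N'
    exact (hM0.isUnit hF).mul_left_cancel h1
  · rintro ⟨⟨M, hM, hMW⟩, hMl⟩
    have hMd : M.det = l.1 := congrArg Subtype.val hMl
    have hM0d0 : M0.det ≠ 0 := by
      rw [hM0d]
      intro h0
      rw [h0, zero_mul] at hl
      exact zero_ne_one hl
    refine ⟨⟨M0⁻¹ * M, ⟨hinv.mul hM, fun v => ?_⟩, ?_⟩, ?_⟩
    · rw [← Matrix.mulVec_mulVec]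
      exact (hMW v).trans (hinvW _)
    · have hd : M0.det * (M0⁻¹ * M).det = M0.det * 1 := by
        rw [← Matrix.det_mul, ← Matrix.mul_assoc, hmi, Matrix.one_mul, hMd, hM0d, mul_one]
      exact mul_left_cancel₀ hM0d0 hd
    · apply Subtype.ext
      apply Subtype.ext
      show M0 * (M0⁻¹ * M) = M
      rw [← Matrix.mul_assoc, hmi, Matrix.one_mul]

/-- the stabiliser in `SU` as a set of matrices -/
theorem card_SU_stab (W : Submodule F (Fin n → F)) :
    Nat.card ↥((Cfsg.stabilizing (Cfsg.slToMat n F) (W : Set (Fin n → F))).subgroupOf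
        (Cfsg.SU n F q)) =
      Nat.card {M : Matrix (Fin n) (Fin n) F //
        (IsIsoMat q M ∧ ∀ v, v ∈ W ↔ M *ᵥ v ∈ W) ∧ M.det = 1} := by
  let f : ↥((Cfsg.stabilizing (Cfsg.slToMat n F) (W : Set (Fin n → F))).subgroupOf
        (Cfsg.SU n F q)) →
      {M : Matrix (Fin n) (Fin n) F //
        (IsIsoMat q M ∧ ∀ v, v ∈ W ↔ M *ᵥ v ∈ W) ∧ M.det = 1} := fun A =>
    ⟨smat A.1, ⟨smat_iso A.1, fun v => by
      have h := A.2
      rw [Subgroup.mem_subgroupOf] at h
      exact h v⟩, smat_det A.1⟩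
  apply Nat.card_eq_of_bijective f
  constructor
  · intro A B h
    have h1 : smat A.1 = smat B.1 := congrArg (fun a => a.1) h
    exact Subtype.ext (smat_injective h1)
  · rintro ⟨M, ⟨hM, hMW⟩, hMd⟩
    refine ⟨⟨toSU M hM hMd, ?_⟩, ?_⟩
    · rw [Subgroup.mem_subgroupOf]
      intro v
      have h1 : Cfsg.slToMat n F ((toSU M hM hMd : ↥(Cfsg.SU n F q)) :
          Matrix.SpecialLinearGroup (Fin n) F) = M := smat_toSU M hM hMd
      rw [h1]
      exact hMW v
    · apply Subtype.ext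
      exact smat_toSU M hM hMd

end su

end Cfsg.Agent.Lib.Helper51.UPar
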