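import Mathlib
import Cfsg.Agent.Lib.Helper51.UPar4
import Cfsg.Agent.S0285
import Cfsg.Agent.S0277
set_option autoImplicit false
set_option linter.unusedSectionVars false
set_option linter.unusedVariables false

/-! The order of the stabiliser of a totally isotropic subspace in `SU_n(q)`. -/

namespace Cfsg.Agent.Lib.Helper51.UPar

open Matrix Cfsg.Agent.Lib.Helper08 Cfsg.Agent.Lib.Helper51
open Cfsg.Agent.Lib.Helper19 (pow_q_pow_q q_pos)

/-- the order formula of the unitary group -/
def GUf (q n : ℕ) : ℕ :=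
  q ^ (n * (n - 1) / 2) *
    ∏ i ∈ Finset.range n, (if Even i then q ^ (i + 1) + 1 else q ^ (i + 1) - 1)

/-- the number of nonzero isotropic vectors, as a formula -/
def iz (q m : ℕ) : ℕ :=
  if Even m then (q ^ m - 1) * (q ^ (m - 1) + 1) else (q ^ m + 1) * (q ^ (m - 1) - 1)

theorem GUf_succ2 (q m : ℕ) : GUf q (m + 2) = q ^ (2 * m + 1) * iz q (m + 2) * GUf q m := by
  unfold GUf iz
  rw [Finset.prod_range_succ, Finset.prod_range_succ]
  have hexp : (m + 2) * (m + 2 - 1) / 2 = m * (m - 1) / 2 + (2 * m + 1) := by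
    have h1 : (m + 2) * (m + 2 - 1) = m * (m - 1) + 2 * (2 * m + 1) := by
      cases m with
      | zero => rfl
      | succ j =>
        have a1 : j + 1 + 2 - 1 = j + 2 := by omega
        have a2 : j + 1 - 1 = j := by omega
        rw [a1, a2]
        ring
    rw [h1, Nat.add_mul_div_left _ _ (by norm_num : 0 < 2)]
  rw [hexp, pow_add]
  have h21 : m + 2 - 1 = m + 1 := by omega
  rw [h21]
  by_cases hm : Even m
  · have h1 : ¬ Even (m + 1) := by
      rw [Nat.even_add_one]
      exact not_not.mpr hm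
    have h2 : Even (m + 2) := by
      rw [Nat.even_add]
      simp [hm]
    rw [if_pos hm, if_neg h1, if_pos h2]
    ring
  · have h1 : Even (m + 1) := by
      rw [Nat.even_add_one]
      exact hm
    have h2 : ¬ Even (m + 2) := by
      rw [Nat.even_add]
      simp [hm]
    rw [if_neg hm, if_pos h1, if_neg h2]
    ring

/-- the arithmetic identity behind the order of the parabolic subgroup -/
theorem GUf_prod (q : ℕ) : ∀ k n : ℕ, 2 * k ≤ n →
    q ^ (k * (2 * n - 3 * k)) * GUf q (n - 2 * k) *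
      ∏ i ∈ Finset.range k, ((q ^ 2) ^ i * iz q (n - 2 * i)) = GUf q n := by
  intro k
  induction k with
  | zero =>
    intro n _
    simp
  | succ k ih =>
    intro n hk
    obtain ⟨m, rfl⟩ : ∃ m, n = m + 2 * (k + 1) := ⟨n - 2 * (k + 1), by omega⟩
    have IH := ih (m + 2 * (k + 1)) (by omega)
    have e1 : m + 2 * (k + 1) - 2 * k = m + 2 := by omega
    have e2 : m + 2 * (k + 1) - 2 * (k + 1) = m := by omega
    have e3 : 2 * (m + 2 * (k + 1)) - 3 * k = 2 * m + k + 4 := by omega
    have e4 : 2 * (m + 2 * (k + 1)) - 3 * (k + 1) = 2 * m + k + 1 := by omega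
    rw [e1, e3, GUf_succ2] at IH
    rw [Finset.prod_range_succ, e1, e2, e4, ← IH]
    have hexp : q ^ ((k + 1) * (2 * m + k + 1)) * (q ^ 2) ^ k =
        q ^ (k * (2 * m + k + 4)) * q ^ (2 * m + 1) := by
      rw [← pow_mul, ← pow_add, ← pow_add]
      congr 1
      ring
    calc q ^ ((k + 1) * (2 * m + k + 1)) * GUf q m *
          ((∏ i ∈ Finset.range k, ((q ^ 2) ^ i * iz q (m + 2 * (k + 1) - 2 * i))) *
            ((q ^ 2) ^ k * iz q (m + 2)))
        = (q ^ ((k + 1) * (2 * m + k + 1)) * (q ^ 2) ^ k) * GUf q m * iz q (m + 2) *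
          (∏ i ∈ Finset.range k, ((q ^ 2) ^ i * iz q (m + 2 * (k + 1) - 2 * i))) := by ring
      _ = (q ^ (k * (2 * m + k + 4)) * q ^ (2 * m + 1)) * GUf q m * iz q (m + 2) *
          (∏ i ∈ Finset.range k, ((q ^ 2) ^ i * iz q (m + 2 * (k + 1) - 2 * i))) := by
        rw [hexp]
      _ = _ := by ring

section
variable {F : Type*} [Field F] [Fintype F] {q : ℕ}

theorem card_split' {α : Type*} [Finite α] (A B : α → Prop) :
    Nat.card {x // A x} = Nat.card {x // A x ∧ B x} + Nat.card {x // A x ∧ ¬ B x} := by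
  classical
  rw [← Nat.card_sum]
  apply Nat.card_congr
  exact (Equiv.sumCompl (fun x : {x // A x} => B x.1)).symm.trans
    (Equiv.sumCongr (Equiv.subtypeSubtypeEquivSubtypeInter A B)
      (Equiv.subtypeSubtypeEquivSubtypeInter A (fun x => ¬ B x)))

theorem isoNZ_eq (hF : Fintype.card F = q ^ 2) (m : ℕ) : isoNZ q F m = iz q m := by
  have h := Cfsg.Agent.S0285.result hF m
  have h' : Nat.card {x : Fin m → F // hform (Fin m) F q x x = 0} = iz q m + 1 := h
  rw [card_split' (fun x : Fin m → F => hform (Fin m) F q x x = 0) (fun x => x ≠ 0)] at h'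
  have h1 : Nat.card {x : Fin m → F // hform (Fin m) F q x x = 0 ∧ ¬ x ≠ 0} = 1 := by
    rw [Nat.card_eq_one_iff_unique]
    constructor
    · constructor
      rintro ⟨a, ha1, ha2⟩ ⟨b, hb1, hb2⟩
      push Not at ha2 hb2
      apply Subtype.ext
      show a = b
      rw [ha2, hb2]
    · exact ⟨⟨0, hform_zero_left 0, fun h => h rfl⟩⟩
  rw [h1] at h'
  exact Nat.add_right_cancel h'

theorem card_isoMat (hF : Fintype.card F = q ^ 2) (n : ℕ) :
    Nat.card {M : Matrix (Fin n) (Fin n) F // IsIsoMat q M} = GUf q n := by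
  rw [← Nat.card_congr (guEquiv (ι := Fin n) hF), ← GU_eq_GUi n]
  exact Cfsg.Agent.S0277.result hF n

/-- the number of bases of a subspace -/
theorem card_bases (hF : Fintype.card F = q ^ 2) {n k : ℕ} (W : Submodule F (Fin n → F))
    (hWk : Module.finrank F W = k) :
    Nat.card {s : Fin k → (Fin n → F) // LinearIndependent F s ∧ ∀ i, s i ∈ W} =
      ∏ i : Fin k, ((q ^ 2) ^ k - (q ^ 2) ^ (i : ℕ)) := by
  have h := card_linearIndependent (K := F) (V := ↥W) (k := k) (by rw [hWk])
  rw [hF, hWk] at h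
  rw [← h]
  apply Nat.card_congr
  exact {
    toFun := fun s => ⟨fun i => ⟨s.1 i, s.2.2 i⟩, by
      apply LinearIndependent.of_comp W.subtype
      exact s.2.1⟩
    invFun := fun t => ⟨fun i => (t.1 i : Fin n → F), by
      have := t.2.map' W.subtype (Submodule.ker_subtype W)
      exact this, fun i => (t.1 i).2⟩
    left_inv := fun s => rfl
    right_inv := fun t => rfl }

/-- the order of the stabiliser of a totally isotropic subspace -/
theorem card_parabolic (hF : Fintype.card F = q ^ 2) (n k : ℕ) (hn : 1 ≤ n) (hk : 2 * k ≤ n)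
    (W : Submodule F (Fin n → F)) (hWk : Module.finrank F W = k)
    (hW : ∀ u ∈ W, ∀ v ∈ W, hform (Fin n) F q u v = 0) :
    (q + 1) * Nat.card ↥((Cfsg.stabilizing (Cfsg.slToMat n F) (W : Set (Fin n → F))).subgroupOf
        (Cfsg.SU n F q)) =
      q ^ (k * (2 * n - 3 * k)) * (∏ i : Fin k, ((q ^ 2) ^ k - (q ^ 2) ^ (i : ℕ))) *
        GUf q (n - 2 * k) := by
  -- a basis of W
  let b := Module.finBasisOfFinrankEq F W hWk
  let e : Fin k → (Fin n → F) := fun i => ((b i : W) : Fin n → F)
  have he : LinearIndependent F e := by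
    have := b.linearIndependent.map' W.subtype (Submodule.ker_subtype W)
    exact this
  have heW : ∀ i, e i ∈ W := fun i => (b i).2
  have heT : TIk q e := ⟨he, fun i j => hW _ (heW i) _ (heW j)⟩
  have h1 := card_iso_eq hF e heT
  have h2 := card_stab_eq hF W hWk hW e he heW
  have h3 := card_stab_det hF hn W hW
  have h4 := card_SU_stab (q := q) W
  have h5 := card_TIk (ι := Fin n) hF n (Fintype.card_fin n) k hk
  have h6 := card_bases hF W hWk
  have h7 := card_isoMat hF n
  have h8 := GUf_prod q k n hk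
  have hX : 0 < Nat.card {s : Fin k → (Fin n → F) // TIk q s} := by
    have : Nonempty {s : Fin k → (Fin n → F) // TIk q s} := ⟨⟨e, heT⟩⟩
    exact Nat.card_pos
  simp only [isoNZ_eq hF] at h5
  rw [h4]
  apply Nat.eq_of_mul_eq_mul_right hX
  rw [h6] at h2
  rw [h7] at h1
  rw [h5] at h1 ⊢
  calc (q + 1) * Nat.card {M : Matrix (Fin n) (Fin n) F //
          (IsIsoMat q M ∧ ∀ v, v ∈ W ↔ M *ᵥ v ∈ W) ∧ M.det = 1} *
        ∏ i ∈ Finset.range k, ((q ^ 2) ^ i * iz q (n - 2 * i))
      = Nat.card {M : Matrix (Fin n) (Fin n) F // IsIsoMat q M ∧ ∀ v, v ∈ W ↔ M *ᵥ v ∈ W} *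
        ∏ i ∈ Finset.range k, ((q ^ 2) ^ i * iz q (n - 2 * i)) := by
        rw [h3]; ring
    _ = (∏ i : Fin k, ((q ^ 2) ^ k - (q ^ 2) ^ (i : ℕ))) * GUf q n := by
        rw [h2, h1]; ring
    _ = _ := by
        rw [← h8]; ring

end

end Cfsg.Agent.Lib.Helper51.UPar
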