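import Cfsg.Agent.Lib.Helper11.Syl22Defs

/-!
# K-S4346-A0 (keystone 434601): basic properties of the adjacency relation on Sylow 3-subgroups
-/

set_option autoImplicit false

namespace Cfsg.Agent.Lib.Helper51.Syl22

open Cfsg.Agent.Lib.Helper11.Syl22
open scoped Pointwise

theorem card_sylow_eq {G : Type*} [Group G] [Finite G] (P R : Sylow 3 G) :
    Nat.card ↥(P : Subgroup G) = Nat.card ↥(R : Subgroup G) := by
  have : Fact (Nat.Prime 3) := ⟨Nat.prime_three⟩
  rw [Sylow.card_eq_multiplicity, Sylow.card_eq_multiplicity]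

theorem adj_smul_iff {G : Type*} [Group G] [Finite G] (g : G) (P S : Sylow 3 G) :
    Adj (g • P) (g • S) ↔ Adj P S := by
  unfold Adj
  have h1 : ((g • P : Sylow 3 G) : Subgroup G) ⊓ ((g • S : Sylow 3 G) : Subgroup G) =
      MulAut.conj g • ((P : Subgroup G) ⊓ (S : Subgroup G)) := by
    rw [Sylow.smul_def, Sylow.smul_def, Sylow.pointwise_smul_def, Sylow.pointwise_smul_def,
      Subgroup.smul_inf]
  have h2 : Nat.card ↥(((g • P : Sylow 3 G) : Subgroup G) ⊓ ((g • S : Sylow 3 G) : Subgroup G)) =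
      Nat.card ↥((P : Subgroup G) ⊓ (S : Subgroup G)) := by
    rw [h1]
    exact (Nat.card_congr (Subgroup.equivSMul (MulAut.conj g) _).toEquiv).symm
  rw [h2, card_sylow_eq (g • P) P]

/-- K-A0 (434601). -/
theorem adj_basic {G : Type*} [Group G] [Finite G] :
    (∀ P R : Sylow 3 G, Adj P R → Adj R P) ∧ (∀ P R : Sylow 3 G, Adj P R → P ≠ R) ∧
    (∀ P T : Sylow 3 G, Nat.card {S : Sylow 3 G // Adj T S} = Nat.card {S : Sylow 3 G // Adj P S}) := by
  have : Fact (Nat.Prime 3) := ⟨Nat.prime_three⟩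
  refine ⟨?_, ?_, ?_⟩
  · intro P R h
    unfold Adj at h ⊢
    rw [inf_comm, h, card_sylow_eq P R]
  · rintro P R h rfl
    unfold Adj at h
    rw [inf_idem] at h
    have hpos : 0 < Nat.card ↥(P : Subgroup G) := Nat.card_pos
    omega
  · intro P T
    obtain ⟨g, rfl⟩ := MulAction.exists_smul_eq G P T
    symm
    refine Nat.card_congr
      { toFun := fun S => ⟨g • S.1, (adj_smul_iff g P S.1).mpr S.2⟩
        invFun := fun S => ⟨g⁻¹ • S.1, by
          have h := S.2
          have h3 : g • g⁻¹ • S.1 = S.1 := smul_inv_smul g S.1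
          rw [← h3] at h
          exact (adj_smul_iff g P _).mp h⟩
        left_inv := fun S => Subtype.ext (inv_smul_smul g S.1)
        right_inv := fun S => Subtype.ext (smul_inv_smul g S.1) }

end Cfsg.Agent.Lib.Helper51.Syl22
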