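/-
Keystone K-UF-T1c (570011) for S5700, architect helper43: `typeI_full`, here with the two steps
`eich_step` (570009) and `tv_step` (570010) as hypotheses (`typeI_full_of`).
-/
import Cfsg.Agent.Lib.Helper43.UFBasic

set_option autoImplicit false
set_option linter.unusedSimpArgs false
set_option linter.unusedVariables false
set_option linter.unusedSectionVars false

namespace Cfsg.Agent.Lib.Helper51.UF

open Module Matrix Cfsg.Agent.Lib.Helper19 Cfsg.Agent.Lib.Helper43 Cfsg.Agent.Lib.Helper43.UF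

variable {F : Type*} [Field F] [Fintype F] {ι : Type} [Fintype ι] [DecidableEq ι]
variable {Q : QuadraticForm F (ι → F)}
variable (hQ : (QuadraticMap.polarBilin Q).Nondegenerate) (hn : 7 ≤ Fintype.card ι)

local notation "ℬ" => QuadraticMap.polarBilin Q

/-- `J b ∈ RS b` -/
theorem J_mem_RS_self (U : UData Q) (M : Subgroup ↥(Cfsg.Omega F ⇑Q))
    (hH : ∀ k : ↥(Cfsg.Omega F ⇑Q), (∀ x, lo Q k (U.J x) = U.J (lo Q k x)) → k ∈ M)
    (b : ι → F) (hb : Q b = 0) : U.J b ∈ RS Q hQ hn M b := by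
  refine ⟨U.B_self_J b hb, fun t => ?_⟩
  have h1 : sOf Q hQ hn b (t • U.J b) = tv U hQ hn b t := rfl
  rw [h1]
  exact hH _ (fun x => tv_comm hQ hn U b hb t x)

/-- `KL b ⊆ RS b` -/
theorem KL_subset_RS_self (U : UData Q) (M : Subgroup ↥(Cfsg.Omega F ⇑Q))
    (hH : ∀ k : ↥(Cfsg.Omega F ⇑Q), (∀ x, lo Q k (U.J x) = U.J (lo Q k x)) → k ∈ M)
    (b : ι → F) (hb : Q b = 0) (z : ι → F) (hz : z ∈ KL U b) : z ∈ RS Q hQ hn M b := by
  obtain ⟨α, β, rfl⟩ := (mem_KL_iff U b z).1 hz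
  exact RS_add hQ hn M b hb (RS_smul hQ hn M b (RS_self hQ hn M b hb) α)
    (RS_smul hQ hn M b (J_mem_RS_self hQ hn U M hH b hb) β)

/-- K-UF-T1c with the two steps as hypotheses. -/
theorem typeI_full_of (U : UData Q) (M : Subgroup ↥(Cfsg.Omega F ⇑Q))
    (hH : ∀ k : ↥(Cfsg.Omega F ⇑Q), (∀ x, lo Q k (U.J x) = U.J (lo Q k x)) → k ∈ M)
    (h14 : 14 ≤ Fintype.card ι)
    (hE : ∀ (a b : ι → F), a ≠ 0 → Q a = 0 → Q b = 0 → U.HOrth a b → b ∉ KL U a →
      a ∈ RS Q hQ hn M b → ∀ (y : ι → F), Q y = 0 → U.HOrth a y → U.HOrth b y →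
      y ∉ KL U a ⊔ KL U b → y ∈ RS Q hQ hn M b ∧ U.J y ∈ RS Q hQ hn M b)
    (hT : ∀ (b : ι → F), Q b = 0 → ∀ (y : ι → F), y ∈ RS Q hQ hn M b →
      U.J y ∈ RS Q hQ hn M b → ∀ (u : ι → F), Q u = 0 → U.HOrth b u → ¬ U.HOrth y u →
      u ∈ RS Q hQ hn M b ∧ U.J u ∈ RS Q hQ hn M b)
    (a b : ι → F) (ha0 : a ≠ 0) (ha : Q a = 0) (hb : Q b = 0)
    (hab : U.HOrth a b) (hbKa : b ∉ KL U a) (hbRS : b ∈ RS Q hQ hn M a)
    (u : ι → F) (hu : Q u = 0) (hbu : U.HOrth b u) : u ∈ RS Q hQ hn M b := by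
  classical
  have haRS : a ∈ RS Q hQ hn M b := RS_swap hQ hn M a b ha hb hbRS
  have hJa : Q (U.J a) = 0 := U.Q_J a ha
  -- the rank of `R`
  have hR4 : finrank F ↥(KL U a ⊔ KL U b) ≤ 4 := by
    have h1 := Submodule.finrank_add_le_finrank_add_finrank (KL U a) (KL U b)
    have h2 := finrank_KL_le U a
    have h3 := finrank_KL_le U b
    omega
  -- case (ii), for every singular `u` with `HOrth b u`, `¬ HOrth a u`
  have caseII : ∀ u : ι → F, Q u = 0 → U.HOrth b u → ¬ U.HOrth a u →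
      u ∈ RS Q hQ hn M b ∧ U.J u ∈ RS Q hQ hn M b := by
    intro u hu hbu hau
    obtain ⟨y₀, hy₀R, hy₀, hy₀S⟩ := AutOm.exists_singular_orth_finset Q hQ hn
      {a, U.J a, b, U.J b} (KL U a ⊔ KL U b) (by
        have h4 : ({a, U.J a, b, U.J b} : Finset (ι → F)).card ≤ 4 := Finset.card_le_four
        omega)
    have h1 : ℬ a y₀ = 0 := hy₀S a (by simp)
    have h2 : ℬ (U.J a) y₀ = 0 := hy₀S (U.J a) (by simp)
    have h3 : ℬ b y₀ = 0 := hy₀S b (by simp)
    have h4 : ℬ (U.J b) y₀ = 0 := hy₀S (U.J b) (by simp)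
    have hay₀ : U.HOrth a y₀ := ⟨h1, h2⟩
    have hby₀ : U.HOrth b y₀ := ⟨h3, h4⟩
    -- the auxiliary vector `y`
    have hy : ∃ y : ι → F, Q y = 0 ∧ U.HOrth a y ∧ U.HOrth b y ∧ y ∉ KL U a ⊔ KL U b ∧
        ¬ U.HOrth y u := by
      by_cases hy₀u : U.HOrth y₀ u
      · -- some `r ∈ {a, J a}` has `ℬ r u ≠ 0`
        have hr : ∃ r : ι → F, r ∈ KL U a ∧ Q r = 0 ∧ ℬ r u ≠ 0 := by
          by_cases h : ℬ a u = 0
          · refine ⟨U.J a, (mem_KL_iff U a _).2 ⟨0, 1, by rw [zero_smul, zero_add, one_smul]⟩, hJa, ?_⟩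
            intro h'
            exact hau ⟨h, h'⟩
          · exact ⟨a, (mem_KL_iff U a _).2 ⟨1, 0, by rw [one_smul, zero_smul, add_zero]⟩, ha, h⟩
        obtain ⟨r, hrK, hrQ, hru⟩ := hr
        have har : U.HOrth a r :=
          HOrth_of_mem_KL U a a a r (U.hOrth_self a ha)
            ((mem_KL_iff U a _).2 ⟨1, 0, by rw [one_smul, zero_smul, add_zero]⟩) hrK
        have hbr : U.HOrth b r :=
          HOrth_of_mem_KL U b a b r hab.symm
            ((mem_KL_iff U b _).2 ⟨1, 0, by rw [one_smul, zero_smul, add_zero]⟩) hrK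
        refine ⟨y₀ + r, ?_, hay₀.add_right U har, hby₀.add_right U hbr, ?_, ?_⟩
        · rw [Q_add, hy₀, hrQ, zero_add, zero_add]
          have := har.symm
          -- `ℬ y₀ r = 0` as `r ∈ KL a` and `HOrth a y₀`
          have h5 : U.HOrth r y₀ :=
            HOrth_of_mem_KL U a y₀ r y₀ hay₀ hrK
              ((mem_KL_iff U y₀ _).2 ⟨1, 0, by rw [one_smul, zero_smul, add_zero]⟩)
          rw [polar_symm]
          exact h5.1
        · intro hmem
          apply hy₀R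
          have h6 : y₀ = (y₀ + r) - r := by abel
          rw [h6]
          exact Submodule.sub_mem _ hmem (Submodule.mem_sup_left hrK)
        · intro h
          apply hru
          have h7 := h.1
          rw [map_add, LinearMap.add_apply, hy₀u.1, zero_add] at h7
          exact h7
      · exact ⟨y₀, hy₀, hay₀, hby₀, hy₀R, hy₀u⟩
    obtain ⟨y, hyQ, hay, hby, hyR, hyu⟩ := hy
    obtain ⟨hy1, hy2⟩ := hE a b ha0 ha hb hab hbKa haRS y hyQ hay hby hyR
    exact hT b hb y hy1 hy2 u hu hbu hyu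
  by_cases huR : u ∈ KL U a ⊔ KL U b
  · -- case (iii)
    have haKb : a ∉ Submodule.span F (({b, U.J b} : Finset (ι → F)) : Set (ι → F)) := by
      intro h
      apply hbKa
      have h' : a ∈ KL U b := by
        have : (({b, U.J b} : Finset (ι → F)) : Set (ι → F)) = {b, U.J b} := by
          ext z; simp
        rw [this] at h
        exact h
      exact mem_KL_symm U b a h' ha0
    obtain ⟨u₂, hu₂, hu₂S, hau₂⟩ := exists_singular_orth_finset_one hQ hn {b, U.J b} (by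
        have h2 : ({b, U.J b} : Finset (ι → F)).card ≤ 2 := Finset.card_le_two
        omega) a haKb
    have hbu₂ : U.HOrth b u₂ := ⟨hu₂S b (by simp), hu₂S (U.J b) (by simp)⟩
    have hnau₂ : ¬ U.HOrth a u₂ := by
      intro h
      rw [h.1] at hau₂
      exact zero_ne_one hau₂
    obtain ⟨h1, h2⟩ := caseII u₂ hu₂ hbu₂ hnau₂
    have hnu₂a : ¬ U.HOrth u₂ a := fun h => hnau₂ h.symm
    obtain ⟨h3, h4⟩ := hT b hb u₂ h1 h2 a ha hab.symm hnu₂a
    obtain ⟨x, hx, z, hz, rfl⟩ := Submodule.mem_sup.1 huR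
    obtain ⟨α, β, rfl⟩ := (mem_KL_iff U a x).1 hx
    refine RS_add hQ hn M b hb ?_ (KL_subset_RS_self hQ hn U M hH b hb z hz)
    exact RS_add hQ hn M b hb (RS_smul hQ hn M b h3 α) (RS_smul hQ hn M b h4 β)
  · by_cases hau : U.HOrth a u
    · exact (hE a b ha0 ha hb hab hbKa haRS u hu hau hbu huR).1
    · exact (caseII u hu hbu hau).1

end Cfsg.Agent.Lib.Helper51.UF
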