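import Cfsg.Agent.Lib.Helper49.StOpDefs

/-!
# K-StOp pack (S2548), leaf R0b: the root elements `x_{ε_i - ε_j}(t)` are isometries of `quadFormPlus`
(port of Lib/Helper84/StOR0b.lean)
-/

set_option autoImplicit false
set_option linter.unusedSectionVars false

namespace Cfsg.Agent.Lib.Helper51.StOp

open Matrix Cfsg Cfsg.Agent.Lib.Helper49.StOp

variable {m : ℕ} {F : Type*} [Field F]

theorem xSMat_mul_neg (i j : Fin m) (hij : i ≠ j) (t : F) :
    xSMat m F i j t * xSMat m F i j (-t) = 1 := by
  unfold xSMat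
  have h1 : (eI j : OI m) ≠ eI i := fun h => hij (Sum.inl.inj h).symm
  have h2 : (eI j : OI m) ≠ fI j := fun h => by cases h
  have h3 : (fI i : OI m) ≠ eI i := fun h => by cases h
  have h4 : (fI i : OI m) ≠ fI j := fun h => hij (Sum.inr.inj h)
  simp only [Matrix.add_mul, Matrix.mul_add, Matrix.sub_mul, Matrix.mul_sub, Matrix.one_mul,
    Matrix.mul_one, Matrix.single_mul_single_of_ne _ _ _ _ h1, Matrix.single_mul_single_of_ne _ _ _ _ h2,
    Matrix.single_mul_single_of_ne _ _ _ _ h3, Matrix.single_mul_single_of_ne _ _ _ _ h4]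
  rw [← Matrix.single_neg, ← Matrix.single_neg]
  abel

theorem xSMat_mulVec_eI (i j : Fin m) (t : F) (u : OI m → F) (a : Fin m) :
    (xSMat m F i j t *ᵥ u) (eI a) = u (eI a) + if a = i then t * u (eI j) else 0 := by
  unfold xSMat
  rw [Matrix.sub_mulVec, Matrix.add_mulVec, Matrix.one_mulVec, Matrix.single_mulVec,
    Matrix.single_mulVec]
  simp [Function.update_apply]

theorem xSMat_mulVec_fI (i j : Fin m) (t : F) (u : OI m → F) (a : Fin m) :
    (xSMat m F i j t *ᵥ u) (fI a) = u (fI a) - if a = j then t * u (fI i) else 0 := by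
  unfold xSMat
  rw [Matrix.sub_mulVec, Matrix.add_mulVec, Matrix.one_mulVec, Matrix.single_mulVec,
    Matrix.single_mulVec]
  simp [Function.update_apply]

theorem quad_xSMat (i j : Fin m) (hij : i ≠ j) (t : F) (u : OI m → F) :
    Cfsg.quadFormPlus m F (xSMat m F i j t *ᵥ u) = Cfsg.quadFormPlus m F u := by
  unfold Cfsg.quadFormPlus
  have he := xSMat_mulVec_eI i j t u
  have hf := xSMat_mulVec_fI i j t u
  change ∑ a : Fin m, (xSMat m F i j t *ᵥ u) (eI a) * (xSMat m F i j t *ᵥ u) (fI a) =
    ∑ a : Fin m, u (eI a) * u (fI a)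
  simp only [he, hf]
  have key : ∀ a : Fin m,
      (u (eI a) + if a = i then t * u (eI j) else 0) *
        (u (fI a) - if a = j then t * u (fI i) else 0) =
      u (eI a) * u (fI a) + (if a = i then t * u (eI j) * u (fI i) else 0) -
        (if a = j then t * u (eI j) * u (fI i) else 0) := by
    intro a
    by_cases h1 : a = i
    · have h2 : a ≠ j := fun h => hij (h1.symm.trans h)
      rw [if_pos h1, if_neg h2, if_pos h1, if_neg h2, h1]
      ring
    · by_cases h2 : a = j
      · rw [if_neg h1, if_pos h2, if_neg h1, if_pos h2, h2]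
        ring
      · rw [if_neg h1, if_neg h2, if_neg h1, if_neg h2]
        ring
  simp only [key]
  rw [Finset.sum_sub_distrib, Finset.sum_add_distrib, Finset.sum_ite_eq' Finset.univ i,
    Finset.sum_ite_eq' Finset.univ j]
  simp

/-- **K-StOp leaf R0b** -/
theorem mat_xS (i j : Fin m) (hij : i ≠ j) (t : F) :
    mat (xS m F i j t) = xSMat m F i j t := by
  unfold xS
  refine mat_ofMat _ (exists_of_isometry (xSMat m F i j t) (xSMat m F i j (-t))
    (xSMat_mul_neg i j hij t) ?_ (quad_xSMat i j hij t))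
  have := xSMat_mul_neg i j hij (-t)
  rwa [neg_neg] at this

end Cfsg.Agent.Lib.Helper51.StOp
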