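import Mathlib
import Cfsg.Agent.Lib.Helper51.FieldAutU1
set_option autoImplicit false
set_option linter.unusedSectionVars false
set_option linter.unusedVariables false

/-! Conjugate transpose with respect to a ring endomorphism, and the polynomial
norm lemma `p^φ p ≡ 1 + X (mod X^(m+1))`. -/

namespace Cfsg.Agent.Lib.Helper51.URU

open Matrix Polynomial

section star
variable {K : Type*} [Field K] {n : ℕ} (φ : K →+* K)

/-- conjugate transpose -/
def cstar (M : Matrix (Fin n) (Fin n) K) : Matrix (Fin n) (Fin n) K := (M.map φ)ᵀ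

theorem cstar_apply (M : Matrix (Fin n) (Fin n) K) (i j : Fin n) :
    cstar φ M i j = φ (M j i) := rfl

theorem cstar_mul (M N : Matrix (Fin n) (Fin n) K) :
    cstar φ (M * N) = cstar φ N * cstar φ M := by
  unfold cstar
  rw [Matrix.map_mul, Matrix.transpose_mul]

theorem cstar_add (M N : Matrix (Fin n) (Fin n) K) :
    cstar φ (M + N) = cstar φ M + cstar φ N := by
  ext i j
  simp [cstar_apply]

theorem cstar_sub (M N : Matrix (Fin n) (Fin n) K) :
    cstar φ (M - N) = cstar φ M - cstar φ N := by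
  ext i j
  simp [cstar_apply]

theorem cstar_zero : cstar φ (0 : Matrix (Fin n) (Fin n) K) = 0 := by
  ext i j
  simp [cstar_apply]

theorem cstar_one : cstar φ (1 : Matrix (Fin n) (Fin n) K) = 1 := by
  ext i j
  rw [cstar_apply, Matrix.one_apply, Matrix.one_apply]
  by_cases h : i = j
  · subst h; simp
  · rw [if_neg h, if_neg (Ne.symm h), map_zero]

theorem cstar_smul (c : K) (M : Matrix (Fin n) (Fin n) K) :
    cstar φ (c • M) = φ c • cstar φ M := by
  ext i j
  simp [cstar_apply]

theorem cstar_algebraMap (c : K) :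
    cstar φ (algebraMap K (Matrix (Fin n) (Fin n) K) c) = algebraMap K _ (φ c) := by
  rw [Algebra.algebraMap_eq_smul_one, cstar_smul, cstar_one, Algebra.algebraMap_eq_smul_one]

theorem cstar_pow (M : Matrix (Fin n) (Fin n) K) (k : ℕ) :
    cstar φ (M ^ k) = (cstar φ M) ^ k := by
  induction k with
  | zero => rw [pow_zero, pow_zero, cstar_one]
  | succ k ih => rw [pow_succ, cstar_mul, ih, pow_succ']

theorem cstar_cstar (hφ : ∀ x, φ (φ x) = x) (M : Matrix (Fin n) (Fin n) K) :
    cstar φ (cstar φ M) = M := by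
  ext i j
  rw [cstar_apply, cstar_apply, hφ]

theorem cstar_det (M : Matrix (Fin n) (Fin n) K) : (cstar φ M).det = φ M.det := by
  unfold cstar
  rw [Matrix.det_transpose]
  exact (RingHom.map_det φ M).symm

theorem cstar_isNilpotent {M : Matrix (Fin n) (Fin n) K} (h : IsNilpotent M) :
    IsNilpotent (cstar φ M) := by
  obtain ⟨k, hk⟩ := h
  exact ⟨k, by rw [← cstar_pow, hk, cstar_zero]⟩

/-- `cstar` of a polynomial in a hermitian matrix -/
theorem cstar_aeval (W : Matrix (Fin n) (Fin n) K) (hW : cstar φ W = W) (p : K[X]) :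
    cstar φ (aeval W p) = aeval W (p.map φ) := by
  induction p using Polynomial.induction_on' with
  | add p r hp hr => rw [map_add, cstar_add, hp, hr, Polynomial.map_add, map_add]
  | monomial k c =>
    rw [Polynomial.map_monomial, aeval_monomial, aeval_monomial, cstar_mul, cstar_pow, hW,
      cstar_algebraMap]
    exact ((Algebra.commutes (φ c) (W ^ k))).symm

theorem commute_aeval (W N : Matrix (Fin n) (Fin n) K) (h : Commute W N) (p : K[X]) :
    Commute (aeval W p) N := by
  induction p using Polynomial.induction_on' with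
  | add p r hp hr => rw [map_add]; exact hp.add_left hr
  | monomial k c =>
    rw [aeval_monomial]
    exact (Algebra.commute_algebraMap_left c N).mul_left (h.pow_left k)

/-- a nilpotent scalar matrix vanishes -/
theorem scalar_eq_zero_of_isNilpotent (hn : 1 ≤ n) (c : K)
    (h : IsNilpotent (algebraMap K (Matrix (Fin n) (Fin n) K) c)) : c = 0 := by
  obtain ⟨k, hk⟩ := h
  rw [← map_pow] at hk
  have h1 := congrFun (congrFun hk ⟨0, hn⟩) ⟨0, hn⟩
  rw [Matrix.algebraMap_matrix_apply, if_pos rfl, Matrix.zero_apply] at h1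
  exact pow_eq_zero_iff (M₀ := K) (n := k) (a := c) (by
    rintro rfl
    rw [pow_zero] at h1
    exact one_ne_zero h1) |>.mp h1

end star

section poly
variable {K : Type*} [Field K] (φ : K →+* K)

/-- the polynomial norm lemma -/
theorem exists_poly_norm (hφ : ∀ x, φ (φ x) = x) (l : K) (hl : l + φ l = 1) (m : ℕ) :
    ∃ p : K[X], (X : K[X]) ^ (m + 1) ∣ p.map φ * p - (1 + X) := by
  induction m with
  | zero =>
    refine ⟨1, ⟨-1, ?_⟩⟩
    rw [Polynomial.map_one]
    ring
  | succ m ih =>
    obtain ⟨p, r, hr⟩ := ih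
    -- `r` is fixed by `φ`
    have hmapmap : (p.map φ).map φ = p := by
      rw [Polynomial.map_map]
      have : φ.comp φ = RingHom.id K := RingHom.ext hφ
      rw [this, Polynomial.map_id]
    have hrφ : r.map φ = r := by
      have h1 : (p.map φ * p - (1 + X)).map φ = p.map φ * p - (1 + X) := by
        rw [Polynomial.map_sub, Polynomial.map_mul, hmapmap, Polynomial.map_add,
          Polynomial.map_one, Polynomial.map_X, mul_comm]
      rw [hr, Polynomial.map_mul, Polynomial.map_pow, Polynomial.map_X] at h1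
      exact mul_left_cancel₀ (pow_ne_zero _ X_ne_zero) h1
    set r₀ : K := r.coeff 0 with hr₀
    have hr₀φ : φ r₀ = r₀ := by
      have := congrArg (fun s : K[X] => s.coeff 0) hrφ
      simpa [Polynomial.coeff_map] using this
    obtain ⟨r₁, hr₁⟩ : (X : K[X]) ∣ r - C r₀ := X_dvd_sub_C
    have hr' : r = C r₀ + X * r₁ := by rw [← hr₁]; ring
    have hpp : p.map φ * p = 1 + X + X ^ (m + 1) * r := by rw [← hr]; ring
    refine ⟨p * (1 - C (l * r₀) * X ^ (m + 1)), ?_⟩
    refine ⟨r₁ - C r₀ * (1 + X ^ m * r) + C (l * φ l * r₀ ^ 2) * X ^ m * (1 + X + X ^ (m + 1) * r), ?_⟩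
    have hmap : (p * (1 - C (l * r₀) * X ^ (m + 1))).map φ
        = p.map φ * (1 - C (φ l * r₀) * X ^ (m + 1)) := by
      rw [Polynomial.map_mul, Polynomial.map_sub, Polynomial.map_one, Polynomial.map_mul,
        Polynomial.map_C, Polynomial.map_pow, Polynomial.map_X, map_mul, hr₀φ]
    rw [hmap]
    have hC1 : (C (l * r₀) : K[X]) + C (φ l * r₀) = C r₀ := by
      rw [← C_add, ← add_mul, hl, one_mul]
    have hC2 : (C (l * r₀) : K[X]) * C (φ l * r₀) = C (l * φ l * r₀ ^ 2) := by
      rw [← C_mul]
      congr 1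
      ring
    have hexp : p.map φ * (1 - C (φ l * r₀) * X ^ (m + 1)) * (p * (1 - C (l * r₀) * X ^ (m + 1)))
        = (p.map φ * p) * (1 - (C (l * r₀) + C (φ l * r₀)) * X ^ (m + 1)
          + (C (l * r₀) * C (φ l * r₀)) * X ^ (m + 1) * X ^ (m + 1)) := by ring
    rw [hexp, hC1, hC2, hpp]
    conv_lhs => rw [hr']
    conv_rhs => rw [hr']
    ring

end poly

end Cfsg.Agent.Lib.Helper51.URU
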