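import Mathlib
import Cfsg.Agent.Lib.Helper51.URU1
import Cfsg.Agent.Lib.Helper51.SUGen1
import Cfsg.Agent.Lib.Helper51.UnitaryT1
import Cfsg.Agent.Lib.Helper49.RegUnipClasses
import Cfsg.Agent.Lib.Helper19.UnitaryDet
set_option autoImplicit false
set_option linter.unusedSectionVars false
set_option linter.unusedVariables false

/-! Hermitian units in the commutant of a regular nilpotent matrix are norms; regular
unipotent elements of `GU_n(q)` are conjugate in `GU_n(q)`. -/

namespace Cfsg.Agent.Lib.Helper51.URU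

open Matrix Polynomial Cfsg.Agent.Lib.Helper49
open Cfsg.Agent.Lib.Helper19 (frobQ frobQ_apply frobQ_frobQ)

section A
variable {K : Type*} [Field K] {n : ℕ}

theorem polyMat_sub_isNilpotent (hn : 1 ≤ n) (N : Matrix (Fin n) (Fin n) K) (hnil : N ^ n = 0)
    (a : Fin n → K) :
    IsNilpotent (polyMat N a - algebraMap K (Matrix (Fin n) (Fin n) K) (a ⟨0, hn⟩)) := by
  obtain ⟨k, rfl⟩ : ∃ k, n = k + 1 := ⟨n - 1, by omega⟩
  have h1 : polyMat N a = algebraMap K _ (a 0) + N * ∑ i : Fin k, a i.succ • N ^ (i : ℕ) := by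
    unfold polyMat
    rw [Fin.sum_univ_succ, Finset.mul_sum]
    congr 1
    · simp [Algebra.algebraMap_eq_smul_one]
    · apply Finset.sum_congr rfl
      intro i _
      rw [Matrix.mul_smul, Fin.val_succ, pow_succ']
  have hcomm : Commute N (∑ i : Fin k, a i.succ • N ^ (i : ℕ)) := by
    apply Commute.sum_right
    intro i _
    exact ((Commute.refl N).pow_right _).smul_right _
  have hnilp : IsNilpotent (N * ∑ i : Fin k, a i.succ • N ^ (i : ℕ)) :=
    Commute.isNilpotent_mul_right hcomm ⟨k + 1, hnil⟩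
  have h2 : polyMat N a - algebraMap K (Matrix (Fin (k + 1)) (Fin (k + 1)) K) (a ⟨0, hn⟩)
      = N * ∑ i : Fin k, a i.succ • N ^ (i : ℕ) := by
    rw [h1]
    have : (⟨0, hn⟩ : Fin (k + 1)) = 0 := rfl
    rw [this]
    abel
  rw [h2]
  exact hnilp

/-- the scalar part of a matrix commuting with a regular nilpotent matrix -/
theorem exists_scalar_part (hn : 1 ≤ n) (N : Matrix (Fin n) (Fin n) K) (hnil : N ^ n = 0)
    (hreg : N.rank = n - 1) (y : Matrix (Fin n) (Fin n) K) (hy : Commute y N) :
    ∃ t : K, IsNilpotent (y - algebraMap K (Matrix (Fin n) (Fin n) K) t) ∧ y.det = t ^ n := by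
  obtain ⟨e, b, he, hb⟩ := exists_cyclic_basis hn N hnil hreg
  have hya := eq_polyMat_of_commute N e b hb y hy
  refine ⟨b.equivFun (y.mulVec e) ⟨0, hn⟩, ?_, ?_⟩
  · have := polyMat_sub_isNilpotent hn N hnil (b.equivFun (y.mulVec e))
    rw [← hya] at this
    exact this
  · have := polyMat_det hn N hnil (b.equivFun (y.mulVec e))
    rw [← hya] at this
    exact this

end A

section B
variable {K : Type*} [Field K] [Fintype K] {q : ℕ} {n : ℕ}

theorem exists_herm_sqrt (hK : Fintype.card K = q ^ 2) (hn : 1 ≤ n)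
    (N : Matrix (Fin n) (Fin n) K) (hnil : N ^ n = 0) (hreg : N.rank = n - 1)
    (y : Matrix (Fin n) (Fin n) K) (hyN : Commute y N) (hy : cstar (frobQ hK) y = y)
    (hdet : y.det ≠ 0) :
    ∃ d : Matrix (Fin n) (Fin n) K, Commute d N ∧ cstar (frobQ hK) d * d = y := by
  set φ := frobQ hK with hφdef
  have hφφ : ∀ x, φ (φ x) = x := frobQ_frobQ hK
  obtain ⟨t, hR, hdt⟩ := exists_scalar_part hn N hnil hreg y hyN
  set R := y - algebraMap K (Matrix (Fin n) (Fin n) K) t with hRdef
  have ht0 : t ≠ 0 := by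
    rintro rfl
    rw [zero_pow (by omega)] at hdt
    exact hdet hdt
  -- `t` is fixed
  have hsR : cstar φ R = y - algebraMap K (Matrix (Fin n) (Fin n) K) (φ t) := by
    rw [hRdef, cstar_sub, hy, cstar_algebraMap]
  have hcomm : Commute R (cstar φ R) := by
    rw [hsR, hRdef]
    have h1 : Commute y y := Commute.refl y
    have h2 : ∀ c : K, Commute y (algebraMap K (Matrix (Fin n) (Fin n) K) c) :=
      fun c => (Algebra.commute_algebraMap_right c y)
    have h3 : ∀ c : K, Commute (algebraMap K (Matrix (Fin n) (Fin n) K) c) y :=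
      fun c => (Algebra.commute_algebraMap_left c y)
    have h4 : ∀ c c' : K, Commute (algebraMap K (Matrix (Fin n) (Fin n) K) c)
        (algebraMap K (Matrix (Fin n) (Fin n) K) c') :=
      fun c c' => Algebra.commute_algebraMap_left c _
    exact ((h1.sub_right (h2 _)).sub_left ((h3 _).sub_right (h4 _ _)))
  have htφ : φ t = t := by
    have h1 : IsNilpotent (cstar φ R - R) := (hcomm.symm.isNilpotent_sub (cstar_isNilpotent φ hR) hR)
    have h2 : cstar φ R - R = algebraMap K (Matrix (Fin n) (Fin n) K) (t - φ t) := by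
      rw [hsR, hRdef, map_sub]
      abel
    rw [h2] at h1
    have := scalar_eq_zero_of_isNilpotent hn _ h1
    exact (sub_eq_zero.mp this).symm
  have htq : t ^ q = t := by rw [← frobQ_apply hK, htφ]
  obtain ⟨c₀, hc₀⟩ := exists_nm_eq hK t htq
  have hsRR : cstar φ R = R := by rw [hsR, htφ]
  -- the hermitian nilpotent matrix `W`
  set W : Matrix (Fin n) (Fin n) K := t⁻¹ • R with hWdef
  have hWs : cstar φ W = W := by
    rw [hWdef, cstar_smul, hsRR, map_inv₀, htφ]
  obtain ⟨m, hm⟩ := hR
  have hWm : W ^ (m + 1) = 0 := by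
    rw [hWdef, _root_.smul_pow, pow_succ R, hm, zero_mul, smul_zero]
  obtain ⟨l, hl⟩ := exists_tr_eq hK 1 (one_pow q)
  have hl' : l + φ l = 1 := by rw [hφdef, frobQ_apply]; exact hl
  obtain ⟨p, s, hs⟩ := exists_poly_norm φ hφφ l hl' m
  have hev : aeval W (p.map φ) * aeval W p = 1 + W := by
    have h1 := congrArg (aeval W) hs
    rw [map_sub, map_mul, map_mul, map_add, map_one, aeval_X, map_pow, aeval_X, hWm,
      zero_mul] at h1
    exact sub_eq_zero.mp h1
  have hWN : Commute W N := by
    rw [hWdef, hRdef]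
    exact ((hyN.sub_left (Algebra.commute_algebraMap_left t N)).smul_left _)
  refine ⟨c₀ • aeval W p, (commute_aeval W N hWN p).smul_left _, ?_⟩
  rw [cstar_smul, cstar_aeval φ W hWs, smul_mul_smul_comm, hev, hφdef, frobQ_apply, mul_comm,
    hc₀, hWdef, smul_add, smul_smul, mul_inv_cancel₀ ht0, one_smul, hRdef,
    Algebra.algebraMap_eq_smul_one]
  abel

end B

end Cfsg.Agent.Lib.Helper51.URU
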