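import Mathlib
import Cfsg.Agent.Lib.Helper51.URU2
set_option autoImplicit false
set_option linter.unusedSectionVars false
set_option linter.unusedVariables false

/-! Regular unipotent elements of `GU_n(q)`: conjugacy and determinants of centralisers. -/

namespace Cfsg.Agent.Lib.Helper51.URU

open Matrix Polynomial Cfsg.Agent.Lib.Helper49
open Cfsg.Agent.Lib.Helper19 (frobQ frobQ_apply frobQ_frobQ normOne mem_normOne)

section C
variable {K : Type*} [Field K] [Fintype K] {q : ℕ} {n : ℕ}

theorem mem_GU_iff_cstar (hK : Fintype.card K = q ^ 2) (g : GL (Fin n) K) :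
    g ∈ Cfsg.GU n K q ↔
      cstar (frobQ hK) (g : Matrix (Fin n) (Fin n) K) * (g : Matrix (Fin n) (Fin n) K) = 1 := by
  rw [Cfsg.Agent.Lib.Helper51.mem_GU_iff_mul (frobQ hK) (frobQ_apply hK)]
  unfold cstar
  constructor
  · intro h
    have := congrArg Matrix.transpose h
    rw [Matrix.transpose_mul, Matrix.transpose_transpose, Matrix.transpose_one] at this
    exact this
  · intro h
    have := congrArg Matrix.transpose h
    rw [Matrix.transpose_mul, Matrix.transpose_transpose, Matrix.transpose_one] at this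
    exact this

/-- regular unipotent elements of `GU` are conjugate in `GU` -/
theorem exists_GU_conj (hK : Fintype.card K = q ^ 2) (hn : 1 ≤ n) (u u' : GL (Fin n) K)
    (hu : u ∈ Cfsg.GU n K q) (hu' : u' ∈ Cfsg.GU n K q)
    (h : IsRegUnip (u : Matrix (Fin n) (Fin n) K))
    (h' : IsRegUnip (u' : Matrix (Fin n) (Fin n) K)) :
    ∃ g : GL (Fin n) K, g ∈ Cfsg.GU n K q ∧ g * u = u' * g := by
  set φ := frobQ hK with hφdef
  have hφφ : ∀ x, φ (φ x) = x := frobQ_frobQ hK
  obtain ⟨x, hx⟩ := h.exists_conj hn h'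
  set U : Matrix (Fin n) (Fin n) K := (u : Matrix (Fin n) (Fin n) K) with hU
  set U' : Matrix (Fin n) (Fin n) K := (u' : Matrix (Fin n) (Fin n) K) with hU'
  set X : Matrix (Fin n) (Fin n) K := (x : Matrix (Fin n) (Fin n) K) with hX
  have hsu : cstar φ U * U = 1 := (mem_GU_iff_cstar hK u).mp hu
  have hsu' : cstar φ U' * U' = 1 := (mem_GU_iff_cstar hK u').mp hu'
  have hus : U * cstar φ U = 1 := mul_eq_one_comm.mp hsu
  -- `cstar X * U' = U * cstar X`
  have h1 : cstar φ U * cstar φ X = cstar φ X * cstar φ U' := by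
    rw [← cstar_mul, ← cstar_mul, hx]
  have h2 : cstar φ X * U' = U * cstar φ X := by
    calc cstar φ X * U' = (U * cstar φ U) * cstar φ X * U' := by rw [hus, one_mul]
      _ = U * (cstar φ U * cstar φ X) * U' := by simp only [mul_assoc]
      _ = U * (cstar φ X * cstar φ U') * U' := by rw [h1]
      _ = U * cstar φ X * (cstar φ U' * U') := by simp only [mul_assoc]
      _ = U * cstar φ X := by rw [hsu', mul_one]
  set y : Matrix (Fin n) (Fin n) K := cstar φ X * X with hy
  have hyU : y * U = U * y := by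
    rw [hy, mul_assoc, hx, ← mul_assoc, h2, mul_assoc]
  have hyN : Commute y (U - 1) := by
    change y * (U - 1) = (U - 1) * y
    rw [mul_sub, sub_mul, hyU, mul_one, one_mul]
  have hys : cstar φ y = y := by
    rw [hy, cstar_mul, cstar_cstar φ hφφ]
  have hXdet : X.det ≠ 0 := by
    have := (Matrix.isUnit_iff_isUnit_det _).mp x.isUnit
    exact this.ne_zero
  have hydet : y.det ≠ 0 := by
    rw [hy, Matrix.det_mul, cstar_det]
    exact mul_ne_zero ((map_ne_zero φ).mpr hXdet) hXdet
  obtain ⟨d, hdN, hd⟩ := exists_herm_sqrt hK hn (U - 1) h.1 h.2 y hyN hys hydet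
  have hddet : d.det ≠ 0 := by
    intro h0
    apply hydet
    rw [← hd, Matrix.det_mul, h0, mul_zero]
  have hdU : d * U = U * d := by
    have := hdN.eq
    rw [mul_sub, sub_mul, mul_one, one_mul] at this
    exact sub_left_inj.mp this
  have hdi : d * d⁻¹ = 1 := Matrix.mul_nonsing_inv d (isUnit_iff_ne_zero.mpr hddet)
  have hid : d⁻¹ * d = 1 := Matrix.nonsing_inv_mul d (isUnit_iff_ne_zero.mpr hddet)
  have hdiU : d⁻¹ * U = U * d⁻¹ := by
    calc d⁻¹ * U = d⁻¹ * U * (d * d⁻¹) := by rw [hdi, mul_one]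
      _ = d⁻¹ * (U * d) * d⁻¹ := by simp only [mul_assoc]
      _ = d⁻¹ * (d * U) * d⁻¹ := by rw [hdU]
      _ = (d⁻¹ * d) * U * d⁻¹ := by simp only [mul_assoc]
      _ = U * d⁻¹ := by rw [hid, one_mul]
  set G : Matrix (Fin n) (Fin n) K := X * d⁻¹ with hG
  have hGs : cstar φ G * G = 1 := by
    rw [hG, cstar_mul]
    calc cstar φ d⁻¹ * cstar φ X * (X * d⁻¹) = cstar φ d⁻¹ * (cstar φ X * X) * d⁻¹ := by
          simp only [mul_assoc]
      _ = cstar φ d⁻¹ * (cstar φ d * d) * d⁻¹ := by rw [← hy, hd]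
      _ = (cstar φ d⁻¹ * cstar φ d) * (d * d⁻¹) := by simp only [mul_assoc]
      _ = 1 := by rw [← cstar_mul, hdi, cstar_one, one_mul]
  have hGdet : G.det ≠ 0 := by
    intro h0
    have := congrArg Matrix.det hGs
    rw [Matrix.det_mul, h0, mul_zero, Matrix.det_one] at this
    exact zero_ne_one this
  refine ⟨Matrix.GeneralLinearGroup.mkOfDetNeZero G hGdet, ?_, ?_⟩
  · rw [mem_GU_iff_cstar hK]
    exact hGs
  · apply Units.ext
    change G * U = U' * G
    rw [hG, mul_assoc, hdiU, ← mul_assoc, hx, mul_assoc]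

/-- the determinant of an element of `GU` commuting with a regular unipotent matrix -/
theorem det_commute_regUnip (hK : Fintype.card K = q ^ 2) (hn : 1 ≤ n)
    (U : Matrix (Fin n) (Fin n) K) (hU : IsRegUnip U) (k : GL (Fin n) K)
    (hk : k ∈ Cfsg.GU n K q)
    (hkU : (k : Matrix (Fin n) (Fin n) K) * U = U * (k : Matrix (Fin n) (Fin n) K)) :
    ∃ c : Kˣ, c ∈ normOne K q ∧ Matrix.GeneralLinearGroup.det k = c ^ n := by
  set φ := frobQ hK with hφdef
  set M : Matrix (Fin n) (Fin n) K := (k : Matrix (Fin n) (Fin n) K) with hM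
  have hMN : Commute M (U - 1) := by
    change M * (U - 1) = (U - 1) * M
    rw [mul_sub, sub_mul, hkU, mul_one, one_mul]
  obtain ⟨t, hR, hdt⟩ := exists_scalar_part hn (U - 1) hU.1 hU.2 M hMN
  have hMdet : M.det ≠ 0 := by
    have := (Matrix.isUnit_iff_isUnit_det _).mp k.isUnit
    exact this.ne_zero
  have ht0 : t ≠ 0 := by
    rintro rfl
    rw [zero_pow (by omega)] at hdt
    exact hMdet hdt
  set R := M - algebraMap K (Matrix (Fin n) (Fin n) K) t with hRdef
  set Mi := cstar φ M with hMi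
  have hiM : Mi * M = 1 := (mem_GU_iff_cstar hK k).mp hk
  have hMi' : M * Mi = 1 := mul_eq_one_comm.mp hiM
  have hMiR : Commute Mi R := by
    change Mi * R = R * Mi
    rw [hRdef, mul_sub, sub_mul, hiM, hMi', Algebra.commutes]
  -- `Mi - φ t` is nilpotent
  have hn1 : IsNilpotent (Mi - algebraMap K (Matrix (Fin n) (Fin n) K) (φ t)) := by
    have := cstar_isNilpotent φ hR
    rw [hRdef, cstar_sub, cstar_algebraMap] at this
    exact this
  -- `Mi - t⁻¹` is nilpotent
  have hn2 : IsNilpotent (Mi - algebraMap K (Matrix (Fin n) (Fin n) K) t⁻¹) := by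
    have h1 : Mi - algebraMap K (Matrix (Fin n) (Fin n) K) t⁻¹ = (-t⁻¹) • (Mi * R) := by
      rw [hRdef, mul_sub, hiM, Algebra.algebraMap_eq_smul_one, Algebra.algebraMap_eq_smul_one,
        mul_smul_comm, mul_one, smul_sub, smul_smul, neg_mul, inv_mul_cancel₀ ht0]
      simp only [neg_smul, one_smul]
      abel
    rw [h1]
    exact (Commute.isNilpotent_mul_left hMiR hR).smul _
  have hcomm : Commute (Mi - algebraMap K (Matrix (Fin n) (Fin n) K) (φ t))
      (Mi - algebraMap K (Matrix (Fin n) (Fin n) K) t⁻¹) := by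
    have h3 : ∀ c : K, Commute Mi (algebraMap K (Matrix (Fin n) (Fin n) K) c) :=
      fun c => (Algebra.commute_algebraMap_right c Mi)
    have h4 : ∀ c : K, Commute (algebraMap K (Matrix (Fin n) (Fin n) K) c) Mi :=
      fun c => (Algebra.commute_algebraMap_left c Mi)
    have h5 : ∀ c c' : K, Commute (algebraMap K (Matrix (Fin n) (Fin n) K) c)
        (algebraMap K (Matrix (Fin n) (Fin n) K) c') :=
      fun c c' => Algebra.commute_algebraMap_left c _
    exact (((Commute.refl Mi).sub_right (h3 _)).sub_left ((h4 _).sub_right (h5 _ _)))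
  have hdiff : IsNilpotent (algebraMap K (Matrix (Fin n) (Fin n) K) (t⁻¹ - φ t)) := by
    have := hcomm.isNilpotent_sub hn1 hn2
    have h6 : (Mi - algebraMap K (Matrix (Fin n) (Fin n) K) (φ t))
        - (Mi - algebraMap K (Matrix (Fin n) (Fin n) K) t⁻¹)
        = algebraMap K (Matrix (Fin n) (Fin n) K) (t⁻¹ - φ t) := by
      rw [map_sub]; abel
    rw [h6] at this
    exact this
  have hteq : t⁻¹ = φ t := sub_eq_zero.mp (scalar_eq_zero_of_isNilpotent hn _ hdiff)
  have htn : t ^ (q + 1) = 1 := by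
    rw [pow_succ, ← frobQ_apply hK, ← hφdef, ← hteq, inv_mul_cancel₀ ht0]
  refine ⟨Units.mk0 t ht0, ?_, ?_⟩
  · rw [mem_normOne]
    apply Units.ext
    rw [Units.val_pow_eq_pow_val, Units.val_mk0, Units.val_one]
    exact htn
  · apply Units.ext
    rw [Matrix.GeneralLinearGroup.val_det_apply, Units.val_pow_eq_pow_val, Units.val_mk0]
    exact hdt

end C

end Cfsg.Agent.Lib.Helper51.URU
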