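import Mathlib
import Cfsg.Agent.Lib.Helper51.URU3
import Cfsg.Agent.S0755
set_option autoImplicit false
set_option linter.unusedSectionVars false
set_option linter.unusedVariables false

/-! Diagonalisation of a hermitian Gram matrix and transport of isometries. -/

namespace Cfsg.Agent.Lib.Helper51.URU

open Matrix

section D
variable {K : Type*} [Field K] {n : ℕ} (φ : K →+* K)

/-- the sesquilinear form with Gram matrix `G` -/
noncomputable def gramForm (G : Matrix (Fin n) (Fin n) K) :
    (Fin n → K) →ₛₗ[φ] (Fin n → K) →ₗ[K] K :=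
  LinearMap.mk₂'ₛₗ φ (RingHom.id K) (fun x y => (φ ∘ x) ⬝ᵥ (G *ᵥ y))
    (by
      intro x x' y
      have : φ ∘ (x + x') = φ ∘ x + φ ∘ x' := by
        funext i; simp
      rw [this, add_dotProduct])
    (by
      intro c x y
      have : φ ∘ (c • x) = φ c • (φ ∘ x) := by
        funext i; simp
      rw [this, smul_dotProduct])
    (by
      intro x y y'
      rw [Matrix.mulVec_add, dotProduct_add])
    (by
      intro c x y
      rw [Matrix.mulVec_smul, dotProduct_smul, RingHom.id_apply])

theorem gramForm_apply (G : Matrix (Fin n) (Fin n) K) (x y : Fin n → K) :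
    gramForm φ G x y = (φ ∘ x) ⬝ᵥ (G *ᵥ y) := rfl

theorem gramForm_eq_sum (G : Matrix (Fin n) (Fin n) K) (x y : Fin n → K) :
    gramForm φ G x y = ∑ i, ∑ j, φ (x i) * G i j * y j := by
  rw [gramForm_apply]
  unfold dotProduct Matrix.mulVec dotProduct
  apply Finset.sum_congr rfl
  intro i _
  rw [Function.comp_apply, Finset.mul_sum]
  apply Finset.sum_congr rfl
  intro j _
  rw [mul_assoc]

theorem gramForm_isSymm (hφ : ∀ x, φ (φ x) = x) (G : Matrix (Fin n) (Fin n) K)
    (hG : cstar φ G = G) : (gramForm φ G).IsSymm := by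
  constructor
  intro x y
  rw [gramForm_eq_sum, gramForm_eq_sum, map_sum, Finset.sum_comm]
  apply Finset.sum_congr rfl
  intro j _
  rw [map_sum]
  apply Finset.sum_congr rfl
  intro i _
  rw [map_mul, map_mul, hφ]
  have : φ (G j i) = G i j := by
    have h := congrFun (congrFun hG i) j
    rw [cstar_apply] at h
    exact h
  rw [this]
  ring

theorem gramForm_nondegenerate (hφ : ∀ x, φ (φ x) = x) (G : Matrix (Fin n) (Fin n) K)
    (hG : cstar φ G = G) (hdet : G.det ≠ 0) : (gramForm φ G).Nondegenerate := by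
  have hright : (gramForm φ G).SeparatingRight := by
    intro y hy
    have h1 : G *ᵥ y = 0 := by
      funext i
      have := hy (Pi.single i 1)
      rw [gramForm_apply] at this
      have h2 : φ ∘ (Pi.single i (1 : K) : Fin n → K) = Pi.single i 1 := by
        funext k
        by_cases hk : k = i
        · subst hk; simp
        · simp [hk]
      rw [h2, single_one_dotProduct] at this
      exact this
    have hinj : Function.Injective G.mulVec :=
      Matrix.mulVec_injective_of_isUnit ((Matrix.isUnit_iff_isUnit_det _).mpr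
        (isUnit_iff_ne_zero.mpr hdet))
    apply hinj
    rw [h1, Matrix.mulVec_zero]
  refine ⟨?_, hright⟩
  intro x hx
  apply hright
  intro y
  rw [← (gramForm_isSymm φ hφ G hG).eq, hx, map_zero]

end D

section E
variable {K : Type*} [Field K] [Fintype K] {q : ℕ} {n : ℕ}

open Cfsg.Agent.Lib.Helper19 (frobQ frobQ_apply frobQ_frobQ)

/-- a hermitian invertible Gram matrix is congruent to the identity -/
theorem exists_cstar_congr (hK : Fintype.card K = q ^ 2) (G : Matrix (Fin n) (Fin n) K)
    (hG : cstar (frobQ hK) G = G) (hdet : G.det ≠ 0) :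
    ∃ P : Matrix (Fin n) (Fin n) K, cstar (frobQ hK) P * G * P = 1 := by
  set φ := frobQ hK with hφdef
  have hφφ : ∀ x, φ (φ x) = x := frobQ_frobQ hK
  have hφne : φ ≠ RingHom.id K := by
    intro h
    obtain ⟨θ, hθ⟩ := Cfsg.Agent.Lib.Helper43.exists_pow_q_ne hK
    apply hθ
    have := congrArg (fun f : K →+* K => f θ) h
    simp only [RingHom.id_apply] at this
    rw [hφdef, frobQ_apply] at this
    exact this
  obtain ⟨b, hb⟩ := Cfsg.Agent.S0755.result φ hφne hφφ (gramForm φ G)
    (gramForm_isSymm φ hφφ G hG) (gramForm_nondegenerate φ hφφ G hG hdet)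
  have hfr : Module.finrank K (Fin n → K) = n := Module.finrank_fin_fun K
  let b' : Module.Basis (Fin n) K (Fin n → K) := b.reindex (finCongr hfr)
  have hb' : ∀ i j, gramForm φ G (b' i) (b' j) = if i = j then 1 else 0 := by
    intro i j
    simp only [b', Module.Basis.reindex_apply]
    rw [hb]
    simp
  refine ⟨Matrix.of fun i j => b' j i, ?_⟩
  ext i j
  rw [Matrix.one_apply, ← hb' i j, gramForm_eq_sum, Matrix.mul_apply]
  simp only [Matrix.mul_apply, cstar_apply, Matrix.of_apply, Finset.sum_mul]
  rw [Finset.sum_comm]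

/-- transport of a `G`-isometry to the standard unitary group -/
theorem cstar_transport (φ : K →+* K) (G P u : Matrix (Fin n) (Fin n) K)
    (hP : cstar φ P * G * P = 1) (hu : cstar φ u * G * u = G) :
    cstar φ (P⁻¹ * u * P) * (P⁻¹ * u * P) = 1 := by
  have hPdet : P.det ≠ 0 := by
    intro h0
    have := congrArg Matrix.det hP
    rw [Matrix.det_mul, h0, mul_zero, Matrix.det_one] at this
    exact zero_ne_one this
  have hPi : P * P⁻¹ = 1 := Matrix.mul_nonsing_inv P (isUnit_iff_ne_zero.mpr hPdet)
  have hiP : P⁻¹ * P = 1 := Matrix.nonsing_inv_mul P (isUnit_iff_ne_zero.mpr hPdet)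
  have hG : G = cstar φ P⁻¹ * P⁻¹ := by
    calc G = cstar φ (P * P⁻¹) * G * (P * P⁻¹) := by rw [hPi, cstar_one, one_mul, mul_one]
      _ = cstar φ P⁻¹ * (cstar φ P * G * P) * P⁻¹ := by
          rw [cstar_mul]; simp only [mul_assoc]
      _ = cstar φ P⁻¹ * P⁻¹ := by rw [hP, mul_one]
  calc cstar φ (P⁻¹ * u * P) * (P⁻¹ * u * P)
      = cstar φ P * cstar φ u * (cstar φ P⁻¹ * P⁻¹) * u * P := by
        rw [cstar_mul, cstar_mul]; simp only [mul_assoc]
    _ = cstar φ P * (cstar φ u * G * u) * P := by rw [← hG]; simp only [mul_assoc]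
    _ = 1 := by rw [hu, hP]

end E

end Cfsg.Agent.Lib.Helper51.URU
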