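import Mathlib
import Cfsg.Agent.Lib.Helper51.URU4
import Cfsg.Agent.Lib.Helper49.ShiftMatrix
set_option autoImplicit false
set_option linter.unusedSectionVars false
set_option linter.unusedVariables false

/-! Existence of a regular unipotent element in `GU_n(q)`. -/

namespace Cfsg.Agent.Lib.Helper51.URU

open Matrix Cfsg.Agent.Lib.Helper49
open Cfsg.Agent.Lib.Helper19 (frobQ frobQ_apply frobQ_frobQ)

section F
variable {K : Type*} [Field K] {n : ℕ}

/-- the antidiagonal Gram matrix with alternating signs -/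
def antiGram (n : ℕ) (c : K) : Matrix (Fin n) (Fin n) K :=
  Matrix.of fun i j => if (i : ℕ) + (j : ℕ) + 1 = n then (-1) ^ (i : ℕ) * c else 0

theorem antiGram_apply (c : K) (i j : Fin n) :
    antiGram n c i j = if (i : ℕ) + (j : ℕ) + 1 = n then (-1) ^ (i : ℕ) * c else 0 := rfl

theorem cstar_antiGram (φ : K →+* K) (c : K) (hc : φ c = (-1) ^ (n + 1) * c) :
    cstar φ (antiGram n c) = antiGram n c := by
  ext i j
  rw [cstar_apply, antiGram_apply, antiGram_apply]
  by_cases h : (i : ℕ) + (j : ℕ) + 1 = n
  · have h' : (j : ℕ) + (i : ℕ) + 1 = n := by omega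
    rw [if_pos h, if_pos h', map_mul, map_pow, map_neg, map_one, hc]
    have : (-1 : K) ^ (j : ℕ) * (-1) ^ (n + 1) = (-1) ^ (i : ℕ) := by
      have e : (j : ℕ) + (n + 1) = (i : ℕ) + 2 * ((j : ℕ) + 1) := by omega
      rw [← pow_add, e, pow_add, pow_mul]
      simp
    rw [← mul_assoc, this]
  · have h' : ¬ (j : ℕ) + (i : ℕ) + 1 = n := by omega
    rw [if_neg h, if_neg h', map_zero]

theorem antiGram_mul_inv (c : K) (hc : c ≠ 0) :
    antiGram n c * (Matrix.of fun j k : Fin n =>
      if (j : ℕ) + (k : ℕ) + 1 = n then ((-1) ^ (k : ℕ) * c)⁻¹ else 0) = 1 := by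
  ext i k
  rw [Matrix.mul_apply, Matrix.one_apply]
  have hi := i.2
  have hlt : n - 1 - (i : ℕ) < n := by omega
  rw [Finset.sum_eq_single (⟨n - 1 - (i : ℕ), hlt⟩ : Fin n)]
  · rw [antiGram_apply, Matrix.of_apply]
    have h1 : (i : ℕ) + (n - 1 - (i : ℕ)) + 1 = n := by omega
    simp only [h1, if_true]
    by_cases hik : i = k
    · subst hik
      have h2 : n - 1 - (i : ℕ) + (i : ℕ) + 1 = n := by omega
      rw [if_pos h2, if_pos rfl]
      apply mul_inv_cancel₀
      exact mul_ne_zero (pow_ne_zero _ (neg_ne_zero.mpr one_ne_zero)) hc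
    · have h2 : ¬ n - 1 - (i : ℕ) + (k : ℕ) + 1 = n := by
        intro h
        apply hik
        apply Fin.ext
        omega
      rw [if_neg h2, if_neg hik, mul_zero]
  · intro j _ hj
    rw [antiGram_apply]
    have h1 : ¬ (i : ℕ) + (j : ℕ) + 1 = n := by
      intro h
      apply hj
      apply Fin.ext
      simp only
      omega
    rw [if_neg h1, zero_mul]
  · intro h
    exact absurd (Finset.mem_univ _) h

theorem antiGram_det_ne_zero (c : K) (hc : c ≠ 0) : (antiGram n c).det ≠ 0 := by
  intro h0
  have := congrArg Matrix.det (antiGram_mul_inv (n := n) c hc)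
  rw [Matrix.det_mul, h0, zero_mul, Matrix.det_one] at this
  exact zero_ne_one this

/-- the shift matrix is skew-adjoint for `antiGram` -/
theorem shift_antiGram (c : K) :
    (shiftMat K n)ᵀ * antiGram n c = -(antiGram n c * shiftMat K n) := by
  ext i j
  rw [Matrix.neg_apply, Matrix.mul_apply, Matrix.mul_apply]
  have hi := i.2
  have hj := j.2
  by_cases h : (i : ℕ) + (j : ℕ) + 2 = n
  · have hlt1 : (i : ℕ) + 1 < n := by omega
    have hlt2 : (j : ℕ) + 1 < n := by omega
    rw [Finset.sum_eq_single (⟨(i : ℕ) + 1, hlt1⟩ : Fin n),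
      Finset.sum_eq_single (⟨(j : ℕ) + 1, hlt2⟩ : Fin n)]
    · rw [Matrix.transpose_apply, antiGram_apply, antiGram_apply]
      simp only [shiftMat, Matrix.of_apply]
      have h1 : (i : ℕ) + 1 + (j : ℕ) + 1 = n := by omega
      have h2 : (i : ℕ) + ((j : ℕ) + 1) + 1 = n := by omega
      simp only [h1, h2, if_true, one_mul, mul_one, pow_succ]
      ring
    · intro k _ hk
      simp only [shiftMat, Matrix.of_apply]
      have : ¬ (k : ℕ) = (j : ℕ) + 1 := by
        intro h'
        apply hk
        apply Fin.ext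
        exact h'
      rw [if_neg this, mul_zero]
    · intro h'
      exact absurd (Finset.mem_univ _) h'
    · intro k _ hk
      rw [Matrix.transpose_apply]
      simp only [shiftMat, Matrix.of_apply]
      have : ¬ (k : ℕ) = (i : ℕ) + 1 := by
        intro h'
        apply hk
        apply Fin.ext
        exact h'
      rw [if_neg this, zero_mul]
    · intro h'
      exact absurd (Finset.mem_univ _) h'
  · rw [Finset.sum_eq_zero, Finset.sum_eq_zero, neg_zero]
    · intro k _
      simp only [shiftMat, Matrix.of_apply, antiGram_apply]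
      by_cases hk : (k : ℕ) = (j : ℕ) + 1
      · have : ¬ (i : ℕ) + (k : ℕ) + 1 = n := by omega
        rw [if_neg this, zero_mul]
      · rw [if_neg hk, mul_zero]
    · intro k _
      rw [Matrix.transpose_apply]
      simp only [shiftMat, Matrix.of_apply, antiGram_apply]
      by_cases hk : (k : ℕ) = (i : ℕ) + 1
      · have : ¬ (k : ℕ) + (j : ℕ) + 1 = n := by omega
        rw [if_neg this, mul_zero]
      · rw [if_neg hk, zero_mul]

theorem cstar_shiftMat (φ : K →+* K) : cstar φ (shiftMat K n) = (shiftMat K n)ᵀ := by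
  ext i j
  rw [cstar_apply, Matrix.transpose_apply]
  simp only [shiftMat, Matrix.of_apply]
  split_ifs <;> simp

end F

end Cfsg.Agent.Lib.Helper51.URU
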