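import Mathlib
import Cfsg.Agent.Lib.Helper51.URU5
set_option autoImplicit false
set_option linter.unusedSectionVars false
set_option linter.unusedVariables false

/-! Existence of a regular unipotent element in `GU_n(q)` (Cayley-type transform). -/

namespace Cfsg.Agent.Lib.Helper51.URU

open Matrix Cfsg.Agent.Lib.Helper49
open Cfsg.Agent.Lib.Helper19 (frobQ frobQ_apply frobQ_frobQ)

section G
variable {K : Type*} [Field K] [Fintype K] {q : ℕ} {n : ℕ}

theorem exists_sign_fixed (hK : Fintype.card K = q ^ 2) (n : ℕ) :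
    ∃ c : K, c ≠ 0 ∧ frobQ hK c = (-1) ^ (n + 1) * c := by
  rcases Nat.even_or_odd n with he | ho
  · obtain ⟨s, hs0, hs⟩ := Cfsg.Agent.Lib.Helper51.exists_skew_ne_zero hK
    refine ⟨s, hs0, ?_⟩
    rw [frobQ_apply, (Even.add_one he).neg_one_pow]
    linear_combination hs
  · refine ⟨1, one_ne_zero, ?_⟩
    rw [map_one, (Odd.add_one ho).neg_one_pow, one_mul]

/-- the Cayley-type relation -/
theorem cayley_rel (φ : K →+* K) (hφφ : ∀ x, φ (φ x) = x) (G S : Matrix (Fin n) (Fin n) K)
    (hT : cstar φ S * G = -(G * S)) (l : K) :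
    cstar φ (1 + l • S) * G * (1 + l • S) = cstar φ (1 - φ l • S) * G * (1 - φ l • S) := by
  set T := cstar φ S with hTdef
  rw [cstar_add, cstar_sub, cstar_one, cstar_smul, cstar_smul, hφφ, ← hTdef]
  have e1 : (1 + φ l • T) * G * (1 + l • S)
      = G + l • (G * S) + φ l • (T * G) + (l * φ l) • (T * G * S) := by
    simp only [add_mul, mul_add, one_mul, mul_one, smul_mul_assoc, mul_smul_comm, smul_add,
      smul_smul]
    abel
  have e2 : (1 - l • T) * G * (1 - φ l • S)
      = G - φ l • (G * S) - l • (T * G) + (l * φ l) • (T * G * S) := by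
    simp only [sub_mul, mul_sub, one_mul, mul_one, smul_mul_assoc, mul_smul_comm, smul_sub,
      smul_smul]
    rw [mul_comm (φ l) l]
    abel
  rw [e1, e2, hT]
  simp only [smul_neg]
  abel

theorem exists_regUnip_GU (hK : Fintype.card K = q ^ 2) (hn : 1 ≤ n) :
    ∃ u : GL (Fin n) K, u ∈ Cfsg.GU n K q ∧ IsRegUnip (u : Matrix (Fin n) (Fin n) K) := by
  set φ := frobQ hK with hφdef
  have hφφ : ∀ x, φ (φ x) = x := frobQ_frobQ hK
  obtain ⟨c, hc0, hc⟩ := exists_sign_fixed hK n
  set G := antiGram n c with hGdef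
  have hG : cstar φ G = G := cstar_antiGram φ c hc
  have hGdet : G.det ≠ 0 := antiGram_det_ne_zero c hc0
  set S := shiftMat K n with hSdef
  have hT : cstar φ S * G = -(G * S) := by
    rw [cstar_shiftMat]
    exact shift_antiGram c
  have hSn : S ^ n = 0 := shiftMat_pow_self
  have hSr : S.rank = n - 1 := shiftMat_rank hn
  obtain ⟨l, hl⟩ := Cfsg.Agent.Lib.Helper51.exists_tr_eq hK 1 (one_pow q)
  have hl' : l + φ l = 1 := by rw [hφdef, frobQ_apply]; exact hl
  set A : Matrix (Fin n) (Fin n) K := 1 + l • S with hA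
  set B : Matrix (Fin n) (Fin n) K := 1 - φ l • S with hB
  have hrel : cstar φ A * G * A = cstar φ B * G * B := cayley_rel φ hφφ G S hT l
  -- `B` is invertible
  have hBdet : B.det = 1 := by
    have h1 : B = algebraMap K (Matrix (Fin n) (Fin n) K) 1 + (-(φ l)) • S := by
      rw [hB, map_one, neg_smul, sub_eq_add_neg]
    have hSnil : IsNilpotent S := ⟨n, hSn⟩
    rw [h1, det_scalar_add_nilpotent 1 _ (hSnil.smul _), one_pow]
  have hBu : IsUnit B.det := by rw [hBdet]; exact isUnit_one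
  have hBBi : B * B⁻¹ = 1 := Matrix.mul_nonsing_inv B hBu
  have hBiB : B⁻¹ * B = 1 := Matrix.nonsing_inv_mul B hBu
  have hSB : Commute S B := by
    rw [hB]
    exact (Commute.one_right S).sub_right ((Commute.refl S).smul_right _)
  have hSBi : Commute S B⁻¹ := by
    change S * B⁻¹ = B⁻¹ * S
    calc S * B⁻¹ = (B⁻¹ * B) * S * B⁻¹ := by rw [hBiB, one_mul]
      _ = B⁻¹ * (B * S) * B⁻¹ := by simp only [mul_assoc]
      _ = B⁻¹ * (S * B) * B⁻¹ := by rw [hSB.eq]
      _ = B⁻¹ * S * (B * B⁻¹) := by simp only [mul_assoc]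
      _ = B⁻¹ * S := by rw [hBBi, mul_one]
  set u : Matrix (Fin n) (Fin n) K := A * B⁻¹ with hu
  have huG : cstar φ u * G * u = G := by
    rw [hu, cstar_mul]
    calc cstar φ B⁻¹ * cstar φ A * G * (A * B⁻¹)
        = cstar φ B⁻¹ * (cstar φ A * G * A) * B⁻¹ := by simp only [mul_assoc]
      _ = cstar φ B⁻¹ * (cstar φ B * G * B) * B⁻¹ := by rw [hrel]
      _ = (cstar φ B⁻¹ * cstar φ B) * G * (B * B⁻¹) := by simp only [mul_assoc]
      _ = G := by rw [← cstar_mul, hBBi, cstar_one, one_mul, mul_one]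
  have hu1 : u - 1 = S * B⁻¹ := by
    have h1 : A - B = S := by
      rw [hA, hB]
      have : (1 + l • S) - (1 - φ l • S) = (l + φ l) • S := by
        rw [add_smul]; abel
      rw [this, hl', one_smul]
    calc u - 1 = A * B⁻¹ - B * B⁻¹ := by rw [hu, hBBi]
      _ = (A - B) * B⁻¹ := (sub_mul A B B⁻¹).symm
      _ = S * B⁻¹ := by rw [h1]
  have hreg : IsRegUnip u := by
    constructor
    · rw [hu1, hSBi.mul_pow, hSn, zero_mul]
    · rw [hu1, Matrix.rank_mul_eq_left_of_isUnit_det _ _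
        ((Matrix.isUnit_nonsing_inv_det_iff).mpr hBu)]
      exact hSr
  obtain ⟨P, hP⟩ := exists_cstar_congr hK G hG hGdet
  have hPdet : P.det ≠ 0 := by
    intro h0
    have := congrArg Matrix.det hP
    rw [Matrix.det_mul, h0, mul_zero, Matrix.det_one] at this
    exact zero_ne_one this
  have hPi : P * P⁻¹ = 1 := Matrix.mul_nonsing_inv P (isUnit_iff_ne_zero.mpr hPdet)
  have hiP : P⁻¹ * P = 1 := Matrix.nonsing_inv_mul P (isUnit_iff_ne_zero.mpr hPdet)
  set u' : Matrix (Fin n) (Fin n) K := P⁻¹ * u * P with hu'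
  have hu's : cstar φ u' * u' = 1 := cstar_transport φ G P u hP huG
  have hu'det : u'.det ≠ 0 := by
    intro h0
    have := congrArg Matrix.det hu's
    rw [Matrix.det_mul, h0, mul_zero, Matrix.det_one] at this
    exact zero_ne_one this
  have hPidet : (P⁻¹).det ≠ 0 := by
    intro h0
    have := congrArg Matrix.det hiP
    rw [Matrix.det_mul, h0, zero_mul, Matrix.det_one] at this
    exact zero_ne_one this
  refine ⟨Matrix.GeneralLinearGroup.mkOfDetNeZero u' hu'det, ?_, ?_⟩
  · rw [mem_GU_iff_cstar hK]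
    exact hu's
  · change IsRegUnip u'
    apply IsRegUnip.of_conj (Matrix.GeneralLinearGroup.mkOfDetNeZero P⁻¹ hPidet) _ hreg
    change P⁻¹ * u = u' * P⁻¹
    rw [hu', mul_assoc, hPi, mul_one]

end G

end Cfsg.Agent.Lib.Helper51.URU
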