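import Mathlib
import Cfsg.Agent.Lib.Helper51.URU6
set_option autoImplicit false
set_option linter.unusedSectionVars false
set_option linter.unusedVariables false

/-! The regular unipotent elements of `SU_n(q)` form `gcd(n, q+1)` classes. -/

namespace Cfsg.Agent.Lib.Helper51.URU

open Matrix Cfsg.Agent.Lib.Helper49
open Cfsg.Agent.Lib.Helper19 (frobQ frobQ_apply frobQ_frobQ normOne mem_normOne det_mem_normOne
  exists_theta)

section H
variable {K : Type*} [Field K] [Fintype K] {q : ℕ} {n : ℕ}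

theorem toGL_mem_GU (s : ↥(Cfsg.SU n K q)) :
    Matrix.SpecialLinearGroup.toGL (s : Matrix.SpecialLinearGroup (Fin n) K) ∈ Cfsg.GU n K q :=
  fun x y => s.2 x y

/-- elements of `GU` of determinant one, in `SU` -/
def ofGU (g : GL (Fin n) K) (hg : g ∈ Cfsg.GU n K q)
    (hdet : (g : Matrix (Fin n) (Fin n) K).det = 1) : ↥(Cfsg.SU n K q) :=
  ⟨⟨(g : Matrix (Fin n) (Fin n) K), hdet⟩, fun x y => hg x y⟩

theorem toGL_ofGU (g : GL (Fin n) K) (hg : g ∈ Cfsg.GU n K q)
    (hdet : (g : Matrix (Fin n) (Fin n) K).det = 1) :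
    Matrix.SpecialLinearGroup.toGL ((ofGU g hg hdet : ↥(Cfsg.SU n K q)) :
      Matrix.SpecialLinearGroup (Fin n) K) = g := by
  apply Units.ext
  rfl

theorem scalar_mem_GU (hK : Fintype.card K = q ^ 2) (w : Kˣ) (hw : w ∈ normOne K q) :
    Matrix.GeneralLinearGroup.scalar (Fin n) w ∈ Cfsg.GU n K q := by
  rw [mem_GU_iff_cstar hK, Matrix.GeneralLinearGroup.coe_scalar, Matrix.scalar_apply,
    ← Matrix.smul_one_eq_diagonal, cstar_smul, cstar_one, smul_mul_smul_comm, one_mul,
    frobQ_apply, ← pow_succ]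
  have := mem_normOne.mp hw
  have h2 : (w : K) ^ (q + 1) = 1 := by
    rw [← Units.val_pow_eq_pow_val, this, Units.val_one]
  rw [h2, one_smul]

/-- the determinant of an element of `GU`, as a norm-one element -/
noncomputable def detN (hK : Fintype.card K = q ^ 2) (g : GL (Fin n) K)
    (hg : g ∈ Cfsg.GU n K q) : normOne K q :=
  ⟨Matrix.GeneralLinearGroup.det g, det_mem_normOne hK g hg⟩

theorem key (hK : Fintype.card K = q ^ 2) (hn : 1 ≤ n) (u₀ : GL (Fin n) K)
    (hu₀ : u₀ ∈ Cfsg.GU n K q) (hreg : IsRegUnip (u₀ : Matrix (Fin n) (Fin n) K))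
    (θ : normOne K q →* Multiplicative (ZMod (Nat.gcd n (q + 1))))
    (hθ : ∀ w, θ w = 1 ↔ ∃ v : normOne K q, v ^ n = w)
    (u u' : ↥(Cfsg.SU n K q)) (g g' : GL (Fin n) K) (hgU : g ∈ Cfsg.GU n K q)
    (hg'U : g' ∈ Cfsg.GU n K q)
    (hg : g * u₀ * g⁻¹ = Matrix.SpecialLinearGroup.toGL (u : Matrix.SpecialLinearGroup (Fin n) K))
    (hg' : g' * u₀ * g'⁻¹ =
      Matrix.SpecialLinearGroup.toGL (u' : Matrix.SpecialLinearGroup (Fin n) K)) :
    θ (detN hK g hgU) = θ (detN hK g' hg'U) ↔ IsConj u u' := by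
  constructor
  · intro h
    have h1 : θ (detN hK g' hg'U * (detN hK g hgU)⁻¹) = 1 := by
      rw [map_mul, map_inv, h, mul_inv_cancel]
    obtain ⟨v, hv⟩ := (hθ _).mp h1
    set z : GL (Fin n) K := Matrix.GeneralLinearGroup.scalar (Fin n) ((v : Kˣ)⁻¹) with hz
    have hzU : z ∈ Cfsg.GU n K q := scalar_mem_GU hK _ ((normOne K q).inv_mem v.2)
    have hzc : ∀ A : GL (Fin n) K, z * A = A * z :=
      fun A => Matrix.GeneralLinearGroup.scalar_commute _ A
    set h : GL (Fin n) K := g' * z * g⁻¹ with hh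
    have hhU : h ∈ Cfsg.GU n K q :=
      (Cfsg.GU n K q).mul_mem ((Cfsg.GU n K q).mul_mem hg'U hzU) ((Cfsg.GU n K q).inv_mem hgU)
    have hv' : (v : Kˣ) ^ n = Matrix.GeneralLinearGroup.det g' *
        (Matrix.GeneralLinearGroup.det g)⁻¹ := by
      have := congrArg (fun x : normOne K q => (x : Kˣ)) hv
      simpa [detN] using this
    have hdet : Matrix.GeneralLinearGroup.det h = 1 := by
      rw [hh, map_mul, map_mul, map_inv, hz, Matrix.GeneralLinearGroup.det_scalar]
      simp only [Fintype.card_fin]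
      rw [inv_pow, hv', _root_.mul_inv_rev, inv_inv]
      calc Matrix.GeneralLinearGroup.det g' * (Matrix.GeneralLinearGroup.det g *
            (Matrix.GeneralLinearGroup.det g')⁻¹) * (Matrix.GeneralLinearGroup.det g)⁻¹
          = (Matrix.GeneralLinearGroup.det g' * (Matrix.GeneralLinearGroup.det g')⁻¹) *
            (Matrix.GeneralLinearGroup.det g * (Matrix.GeneralLinearGroup.det g)⁻¹) := by
            rw [mul_comm (Matrix.GeneralLinearGroup.det g)]
            simp only [mul_assoc]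
        _ = 1 := by rw [mul_inv_cancel, mul_inv_cancel, one_mul]
    have hconj : h * Matrix.SpecialLinearGroup.toGL (u : Matrix.SpecialLinearGroup (Fin n) K)
        = Matrix.SpecialLinearGroup.toGL (u' : Matrix.SpecialLinearGroup (Fin n) K) * h := by
      rw [← hg, ← hg', hh]
      have e1 : g' * z * g⁻¹ * (g * u₀ * g⁻¹) = g' * (z * u₀) * g⁻¹ := by group
      have e2 : g' * u₀ * g'⁻¹ * (g' * z * g⁻¹) = g' * (u₀ * z) * g⁻¹ := by group
      rw [e1, e2, hzc]
    have hdet' : (h : Matrix (Fin n) (Fin n) K).det = 1 := by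
      have := congrArg Units.val hdet
      simpa using this
    rw [isConj_iff]
    refine ⟨ofGU h hhU hdet', ?_⟩
    rw [mul_inv_eq_iff_eq_mul]
    apply Subtype.ext
    apply Subtype.ext
    have := congrArg (fun x : GL (Fin n) K => (x : Matrix (Fin n) (Fin n) K)) hconj
    simp only [Units.val_mul] at this
    exact this
  · intro h
    rw [isConj_iff] at h
    obtain ⟨s, hs⟩ := h
    have hs' : Matrix.SpecialLinearGroup.toGL (s : Matrix.SpecialLinearGroup (Fin n) K) *
        Matrix.SpecialLinearGroup.toGL (u : Matrix.SpecialLinearGroup (Fin n) K) *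
        (Matrix.SpecialLinearGroup.toGL (s : Matrix.SpecialLinearGroup (Fin n) K))⁻¹
        = Matrix.SpecialLinearGroup.toGL (u' : Matrix.SpecialLinearGroup (Fin n) K) := by
      rw [← map_mul, ← map_inv, ← map_mul, ← hs]
      rfl
    set sG : GL (Fin n) K :=
      Matrix.SpecialLinearGroup.toGL (s : Matrix.SpecialLinearGroup (Fin n) K) with hsG
    have hsU : sG ∈ Cfsg.GU n K q := toGL_mem_GU s
    set k : GL (Fin n) K := g'⁻¹ * sG * g with hk
    have hkU : k ∈ Cfsg.GU n K q :=
      (Cfsg.GU n K q).mul_mem ((Cfsg.GU n K q).mul_mem ((Cfsg.GU n K q).inv_mem hg'U) hsU) hgU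
    have hkc : k * u₀ = u₀ * k := by
      have e1 : u₀ = g⁻¹ * Matrix.SpecialLinearGroup.toGL
          (u : Matrix.SpecialLinearGroup (Fin n) K) * g := by rw [← hg]; group
      have e2 : u₀ = g'⁻¹ * Matrix.SpecialLinearGroup.toGL
          (u' : Matrix.SpecialLinearGroup (Fin n) K) * g' := by rw [← hg']; group
      have e3 : k * (g⁻¹ * Matrix.SpecialLinearGroup.toGL
          (u : Matrix.SpecialLinearGroup (Fin n) K) * g)
          = (g'⁻¹ * Matrix.SpecialLinearGroup.toGL
            (u' : Matrix.SpecialLinearGroup (Fin n) K) * g') * k := by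
        rw [hk, ← hs']
        group
      calc k * u₀ = k * (g⁻¹ * Matrix.SpecialLinearGroup.toGL
            (u : Matrix.SpecialLinearGroup (Fin n) K) * g) := by rw [← e1]
        _ = (g'⁻¹ * Matrix.SpecialLinearGroup.toGL
            (u' : Matrix.SpecialLinearGroup (Fin n) K) * g') * k := e3
        _ = u₀ * k := by rw [← e2]
    have hkc' : (k : Matrix (Fin n) (Fin n) K) * (u₀ : Matrix (Fin n) (Fin n) K)
        = (u₀ : Matrix (Fin n) (Fin n) K) * (k : Matrix (Fin n) (Fin n) K) := by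
      have := congrArg (fun x : GL (Fin n) K => (x : Matrix (Fin n) (Fin n) K)) hkc
      simpa using this
    obtain ⟨c, hcN, hc⟩ := det_commute_regUnip hK hn _ hreg k hkU hkc'
    have hdets : Matrix.GeneralLinearGroup.det sG = 1 := by
      apply Units.ext
      simp [hsG]
    rw [hk, map_mul, map_mul, map_inv, hdets, mul_one] at hc
    have h3 : detN hK g hgU = detN hK g' hg'U * (⟨c, hcN⟩ : normOne K q) ^ n := by
      apply Subtype.ext
      simp only [detN, Subgroup.coe_mul, Subgroup.coe_pow]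
      rw [← hc, mul_inv_cancel_left]
    rw [h3, map_mul]
    have h4 : θ ((⟨c, hcN⟩ : normOne K q) ^ n) = 1 := (hθ _).mpr ⟨_, rfl⟩
    rw [h4, mul_one]

theorem exists_GU_det (hK : Fintype.card K = q ^ 2) (hn : 1 ≤ n) (d : normOne K q) :
    ∃ (g : GL (Fin n) K) (hg : g ∈ Cfsg.GU n K q), detN hK g hg = d := by
  classical
  set f : Fin n → Kˣ := Function.update (fun _ => (1 : Kˣ)) ⟨0, hn⟩ (d : Kˣ) with hf
  have hfN : ∀ i, f i ∈ normOne K q := by
    intro i
    rw [hf]
    by_cases hi : i = ⟨0, hn⟩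
    · subst hi
      rw [Function.update_self]
      exact d.2
    · rw [Function.update_of_ne hi]
      exact (normOne K q).one_mem
  refine ⟨Cfsg.Agent.Lib.Helper19.diagGL f, Cfsg.Agent.Lib.Helper19.diagGL_mem_GU f hfN, ?_⟩
  apply Subtype.ext
  simp only [detN]
  rw [Cfsg.Agent.Lib.Helper19.det_diagGL, hf, Fintype.prod_eq_single (⟨0, hn⟩ : Fin n)]
  · rw [Function.update_self]
  · intro i hi
    rw [Function.update_of_ne hi]

end H

end Cfsg.Agent.Lib.Helper51.URU
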