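import Mathlib
import Cfsg.Agent.Lib.Helper51.URU7
set_option autoImplicit false
set_option linter.unusedSectionVars false
set_option linter.unusedVariables false

/-! A normal element `c` of the centraliser of a unitary matrix gives the unitary element
`c (c*)⁻¹` of that centraliser. -/

namespace Cfsg.Agent.Lib.Helper51.USemi

open Matrix Polynomial Cfsg.Agent.Lib.Helper51.URU

section Z
variable {K : Type*} [Field K] {n : ℕ} (φ : K →+* K)

/-- `cstar` of a polynomial in a matrix -/
theorem cstar_aeval_gen (W : Matrix (Fin n) (Fin n) K) (p : K[X]) :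
    cstar φ (aeval W p) = aeval (cstar φ W) (p.map φ) := by
  induction p using Polynomial.induction_on' with
  | add p r hp hr => rw [map_add, cstar_add, hp, hr, Polynomial.map_add, map_add]
  | monomial k c =>
    rw [Polynomial.map_monomial, aeval_monomial, aeval_monomial, cstar_mul, cstar_pow,
      cstar_algebraMap]
    exact ((Algebra.commutes (φ c) ((cstar φ W) ^ k))).symm

theorem commute_aeval_aeval (W N : Matrix (Fin n) (Fin n) K) (h : Commute W N) (p r : K[X]) :
    Commute (aeval W p) (aeval N r) :=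
  commute_aeval W _ ((commute_aeval N W h.symm r).symm) p

/-- the unitary element `c (c*)⁻¹` for `c = b(A) P + (1 - P)` -/
theorem exists_unitary_of_normal (hφ : ∀ x, φ (φ x) = x) (A P : Matrix (Fin n) (Fin n) K)
    (hA : cstar φ A * A = 1) (hPs : cstar φ P = P) (hPA : Commute P A) (b : K[X])
    (hdet : (aeval A b * P + (1 - P)).det ≠ 0) :
    ∃ z : Matrix (Fin n) (Fin n) K, cstar φ z * z = 1 ∧ Commute z A ∧
      z.det * φ ((aeval A b * P + (1 - P)).det) = (aeval A b * P + (1 - P)).det := by
  set A' := cstar φ A with hA'def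
  have hAA' : A * A' = 1 := mul_eq_one_comm.mp hA
  have hcAA' : Commute A A' := by
    change A * A' = A' * A
    rw [hAA', hA]
  have hPA' : Commute P A' := by
    have h1 : cstar φ (P * A) = cstar φ (A * P) := by rw [hPA.eq]
    rw [cstar_mul, cstar_mul, hPs] at h1
    exact h1.symm
  set X1 := aeval A b with hX1
  set X3 := aeval A' (b.map φ) with hX3
  have h12 : Commute X1 P := commute_aeval A P hPA.symm b
  have h13 : Commute X1 X3 := commute_aeval_aeval A A' hcAA' b _
  have h23 : Commute P X3 := (commute_aeval A' P hPA'.symm _).symm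
  have h1A : Commute X1 A := commute_aeval A A (Commute.refl A) b
  have h3A : Commute X3 A := commute_aeval A' A hcAA'.symm _
  set c := X1 * P + (1 - P) with hc
  set c' := P * X3 + (1 - P) with hc'
  have hcc' : cstar φ c = c' := by
    rw [hc, cstar_add, cstar_mul, cstar_sub, cstar_one, hPs, hX1, cstar_aeval_gen]
  have hc'c : cstar φ c' = c := by rw [← hcc', cstar_cstar φ hφ]
  have key : ∀ Y, Commute X1 Y → Commute P Y → Commute c Y := by
    intro Y h1 h2
    exact (h1.mul_left h2).add_left ((Commute.one_left Y).sub_left h2)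
  have hcP : Commute c P := key P h12 (Commute.refl P)
  have hc3 : Commute c X3 := key X3 h13 h23
  have hcomm : Commute c c' :=
    (hcP.mul_right hc3).add_right ((Commute.one_right c).sub_right hcP)
  have hcA : Commute c A := key A h1A hPA
  have hc'A : Commute c' A :=
    (hPA.mul_left h3A).add_left ((Commute.one_left A).sub_left hPA)
  have hdet' : c'.det ≠ 0 := by
    rw [← hcc', cstar_det]
    intro h0
    exact hdet ((map_eq_zero φ).mp h0)
  have hu' : IsUnit c'.det := isUnit_iff_ne_zero.mpr hdet'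
  have hi1 : c' * c'⁻¹ = 1 := Matrix.mul_nonsing_inv _ hu'
  have hi2 : c'⁻¹ * c' = 1 := Matrix.nonsing_inv_mul _ hu'
  set d := cstar φ (c'⁻¹) with hd
  have hdc : d * c = 1 := by
    rw [hd, ← hc'c, ← cstar_mul, hi1, cstar_one]
  refine ⟨c * c'⁻¹, ?_, ?_, ?_⟩
  · rw [cstar_mul, hcc', ← hd]
    calc d * c' * (c * c'⁻¹) = d * (c' * c) * c'⁻¹ := by simp only [mul_assoc]
      _ = d * (c * c') * c'⁻¹ := by rw [hcomm.eq]
      _ = (d * c) * (c' * c'⁻¹) := by simp only [mul_assoc]
      _ = 1 := by rw [hdc, hi1, mul_one]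
  · have h1 : c'⁻¹ * A = A * c'⁻¹ := by
      calc c'⁻¹ * A = c'⁻¹ * A * (c' * c'⁻¹) := by rw [hi1, mul_one]
        _ = c'⁻¹ * (A * c') * c'⁻¹ := by simp only [mul_assoc]
        _ = c'⁻¹ * (c' * A) * c'⁻¹ := by rw [hc'A.eq]
        _ = (c'⁻¹ * c') * A * c'⁻¹ := by simp only [mul_assoc]
        _ = A * c'⁻¹ := by rw [hi2, one_mul]
    change c * c'⁻¹ * A = A * (c * c'⁻¹)
    rw [mul_assoc, h1, ← mul_assoc, hcA.eq, mul_assoc]
  · have h1 : φ c.det = c'.det := by rw [← hcc', cstar_det]
    rw [h1, Matrix.det_mul, mul_assoc, ← Matrix.det_mul, hi2, Matrix.det_one, mul_one]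

end Z

end Cfsg.Agent.Lib.Helper51.USemi
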