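import Mathlib
import Cfsg.Agent.Lib.Helper51.USemi1
import Cfsg.Agent.Lib.Helper51.UStab5
import Cfsg.Agent.Lib.Helper51.UPar4
set_option autoImplicit false
set_option linter.unusedSectionVars false
set_option linter.unusedVariables false

/-! The orthogonal projector onto a non-degenerate subspace of the standard unitary space. -/

namespace Cfsg.Agent.Lib.Helper51.USemi

open Matrix Polynomial Cfsg.Agent.Lib.Helper51.URU Cfsg.Agent.Lib.Helper08
open Cfsg.Agent.Lib.Helper19 (pow_q_pow_q add_pow_q sum_pow_q q_pos one_lt_q frobQ frobQ_apply)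

section proj
variable {F : Type*} [Field F] [Fintype F] {q : ℕ} {n k : ℕ}

/-- the orthogonal projector attached to an orthonormal family -/
noncomputable def oproj (q : ℕ) (W : Submodule F (Fin n → F)) (b : Fin k → W) :
    (Fin n → F) →ₗ[F] (Fin n → F) :=
  (Fintype.linearCombination F (fun i => ((b i : W) : Fin n → F))) ∘ₗ hL q W b

theorem oproj_apply (W : Submodule F (Fin n → F)) (b : Fin k → W) (v : Fin n → F) :
    oproj q W b v = ∑ i, hL q W b v i • ((b i : W) : Fin n → F) := by
  unfold oproj
  rw [LinearMap.comp_apply, Fintype.linearCombination_apply]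

theorem oproj_mem (W : Submodule F (Fin n → F)) (b : Fin k → W) (v : Fin n → F) :
    oproj q W b v ∈ W := by
  rw [oproj_apply]
  apply Submodule.sum_mem
  intro j _
  exact W.smul_mem _ (b j).2

variable (hF : Fintype.card F = q ^ 2) (W : Submodule F (Fin n → F))
  (b : Module.Basis (Fin k) F W)
  (hb : ∀ i j, hform (Fin n) F q ((b i : W) : Fin n → F) ((b j : W) : Fin n → F) =
    if i = j then 1 else 0)

include hb in
theorem sub_oproj_mem_ker (v : Fin n → F) : v - oproj q W b v ∈ LinearMap.ker (hL q W b) := by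
  rw [LinearMap.mem_ker, map_sub, oproj_apply, hL_comb W b hb, sub_self]

include hb in
theorem oproj_of_mem (w : Fin n → F) (hw : w ∈ W) : oproj q W b w = w := by
  have h1 := b.sum_repr ⟨w, hw⟩
  have h2 := congrArg (Subtype.val) h1
  simp only [Submodule.coe_sum, Submodule.coe_smul] at h2
  rw [oproj_apply]
  conv_lhs => rw [← h2, hL_comb W b hb]
  exact h2

include hF hb in
theorem hform_oproj_right (w : Fin n → F) (hw : w ∈ W) (v : Fin n → F) :
    hform (Fin n) F q w (oproj q W b v) = hform (Fin n) F q w v := by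
  have h1 := hform_W_ker hF W b w hw _ (sub_oproj_mem_ker W b hb v)
  rw [hform_sub_right hF] at h1
  exact (sub_eq_zero.mp h1).symm

include hF hb in
theorem hform_oproj_left (v : Fin n → F) (w : Fin n → F) (hw : w ∈ W) :
    hform (Fin n) F q (oproj q W b v) w = hform (Fin n) F q v w := by
  rw [← hform_conj hF, hform_oproj_right hF W b hb w hw, hform_conj hF]

include hF hb in
theorem oproj_herm (u v : Fin n → F) :
    hform (Fin n) F q (oproj q W b u) v = hform (Fin n) F q u (oproj q W b v) := by
  rw [← hform_oproj_right hF W b hb _ (oproj_mem W b u) v,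
    hform_oproj_left hF W b hb u _ (oproj_mem W b v)]

include hF hb in
/-- the projector commutes with the isometries stabilising the subspace -/
theorem oproj_commute (hW : ∀ u ∈ W, (∀ v ∈ W, hform (Fin n) F q u v = 0) → u = 0)
    (A : Matrix (Fin n) (Fin n) F) (hA : IsIsoMat q A) (hAW : ∀ v, v ∈ W ↔ A *ᵥ v ∈ W)
    (v : Fin n → F) : oproj q W b (A *ᵥ v) = A *ᵥ (oproj q W b v) := by
  rw [← sub_eq_zero]
  apply hW
  · exact W.sub_mem (oproj_mem W b _) ((hAW _).mp (oproj_mem W b v))
  · intro w hw
    obtain ⟨hAi, hA1, hA2⟩ := Cfsg.Agent.Lib.Helper51.UPar.isIsoMat_inv hF A hA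
    have hw1 : A⁻¹ *ᵥ w ∈ W := by
      rw [hAW, Matrix.mulVec_mulVec, hA1, Matrix.one_mulVec]
      exact hw
    have hw2 : w = A *ᵥ (A⁻¹ *ᵥ w) := by rw [Matrix.mulVec_mulVec, hA1, Matrix.one_mulVec]
    rw [hform_sub_left, hform_oproj_left hF W b hb _ w hw]
    conv_lhs => rw [hw2]
    rw [hA, hA, hform_oproj_left hF W b hb _ _ hw1, sub_self]

end proj

section adj
variable {F : Type*} [Field F] [Fintype F] {q : ℕ} {n : ℕ}

theorem hform_single_left' (j : Fin n) (y : Fin n → F) :
    hform (Fin n) F q (Pi.single j 1) y = (y j) ^ q := by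
  unfold hform
  rw [Finset.sum_eq_single j]
  · rw [Pi.single_eq_same, one_mul]
  · intro i _ hij
    rw [Pi.single_eq_of_ne hij, zero_mul]
  · intro h
    exact absurd (Finset.mem_univ j) h

/-- the adjoint of a matrix for the standard hermitian form is `cstar` -/
theorem cstar_eq_of_adjoint (hF : Fintype.card F = q ^ 2) (M N : Matrix (Fin n) (Fin n) F)
    (h : ∀ u v, hform (Fin n) F q (M *ᵥ u) v = hform (Fin n) F q u (N *ᵥ v)) :
    cstar (frobQ hF) M = N := by
  ext i j
  have h1 := h (Pi.single i 1) (Pi.single j 1)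
  rw [hform_single_right hF, hform_single_left', Matrix.mulVec_single_one,
    Matrix.mulVec_single_one] at h1
  rw [cstar_apply, frobQ_apply]
  have h2 : M j i = N i j ^ q := h1
  rw [h2, pow_q_pow_q hF]

end adj

end Cfsg.Agent.Lib.Helper51.USemi
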