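import Mathlib
import Cfsg.Agent.Lib.Helper51.USemi2
set_option autoImplicit false
set_option linter.unusedSectionVars false
set_option linter.unusedVariables false

/-! Cyclic subspaces, and a non-degenerate cyclic invariant subspace for a semisimple isometry. -/

namespace Cfsg.Agent.Lib.Helper51.USemi

open Matrix Polynomial Cfsg.Agent.Lib.Helper51.URU Cfsg.Agent.Lib.Helper08
open Cfsg.Agent.Lib.Helper19 (pow_q_pow_q add_pow_q sum_pow_q q_pos one_lt_q frobQ frobQ_apply)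

section cyc
variable {F : Type*} [Field F] {n : ℕ}

/-- the cyclic subspace generated by a vector -/
def cyc (A : Matrix (Fin n) (Fin n) F) (v : Fin n → F) : Submodule F (Fin n → F) where
  carrier := {w | ∃ p : F[X], (aeval A p) *ᵥ v = w}
  add_mem' := by
    rintro _ _ ⟨p, rfl⟩ ⟨r, rfl⟩
    exact ⟨p + r, by rw [map_add, Matrix.add_mulVec]⟩
  zero_mem' := ⟨0, by rw [map_zero, Matrix.zero_mulVec]⟩
  smul_mem' := by
    rintro c _ ⟨p, rfl⟩
    exact ⟨c • p, by rw [map_smul, Matrix.smul_mulVec]⟩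

theorem mem_cyc {A : Matrix (Fin n) (Fin n) F} {v w : Fin n → F} :
    w ∈ cyc A v ↔ ∃ p : F[X], (aeval A p) *ᵥ v = w := Iff.rfl

theorem self_mem_cyc (A : Matrix (Fin n) (Fin n) F) (v : Fin n → F) : v ∈ cyc A v :=
  ⟨1, by rw [map_one, Matrix.one_mulVec]⟩

theorem aeval_mem_cyc {A : Matrix (Fin n) (Fin n) F} {v w : Fin n → F} (r : F[X])
    (hw : w ∈ cyc A v) : (aeval A r) *ᵥ w ∈ cyc A v := by
  obtain ⟨p, rfl⟩ := hw
  exact ⟨r * p, by rw [map_mul, Matrix.mulVec_mulVec]⟩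

theorem mul_mem_cyc {A : Matrix (Fin n) (Fin n) F} {v w : Fin n → F}
    (hw : w ∈ cyc A v) : A *ᵥ w ∈ cyc A v := by
  have := aeval_mem_cyc (X : F[X]) hw
  rwa [aeval_X] at this

theorem aeval_mem_of_invariant (A : Matrix (Fin n) (Fin n) F) (U : Submodule F (Fin n → F))
    (hU : ∀ u ∈ U, A *ᵥ u ∈ U) (p : F[X]) (u : Fin n → F) (hu : u ∈ U) :
    (aeval A p) *ᵥ u ∈ U := by
  induction p using Polynomial.induction_on' with
  | add p r hp hr =>
    rw [map_add, Matrix.add_mulVec]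
    exact U.add_mem hp hr
  | monomial k c =>
    rw [aeval_monomial, ← Matrix.mulVec_mulVec, Algebra.algebraMap_eq_smul_one,
      Matrix.smul_mulVec, Matrix.one_mulVec]
    apply U.smul_mem
    induction k with
    | zero => rw [pow_zero, Matrix.one_mulVec]; exact hu
    | succ k ih => rw [pow_succ', ← Matrix.mulVec_mulVec]; exact hU _ ih

theorem cyc_le (A : Matrix (Fin n) (Fin n) F) (U : Submodule F (Fin n → F))
    (hU : ∀ u ∈ U, A *ᵥ u ∈ U) (v : Fin n → F) (hv : v ∈ U) : cyc A v ≤ U := by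
  rintro _ ⟨p, rfl⟩
  exact aeval_mem_of_invariant A U hU p v hv

end cyc

section main
variable {F : Type*} [Field F] [Fintype F] {q : ℕ} {n : ℕ}

/-- a nonzero cyclic non-degenerate invariant subspace -/
theorem exists_nondeg_cyclic (hF : Fintype.card F = q ^ 2) (hn : 1 ≤ n)
    (A : Matrix (Fin n) (Fin n) F) (hA : IsIsoMat q A) (m : ℕ) (hm : 0 < m) (hm0 : (m : F) ≠ 0)
    (hAm : A ^ m = 1) :
    ∃ x' : Fin n → F, x' ≠ 0 ∧
      ∀ u ∈ cyc A x', (∀ v ∈ cyc A x', hform (Fin n) F q u v = 0) → u = 0 := by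
  classical
  have hq : q ≠ 0 := (q_pos hF).ne'
  set x : Fin n → F := Pi.single ⟨0, hn⟩ 1 with hx
  have hxx : hform (Fin n) F q x x = 1 := by
    rw [hx, hform_single_right hF, Pi.single_eq_same]
  set W := cyc A x with hW
  let R : Submodule F (Fin n → F) :=
    { carrier := {w | w ∈ W ∧ ∀ w' ∈ W, hform (Fin n) F q w w' = 0}
      add_mem' := by
        rintro a b ⟨ha, ha'⟩ ⟨hb, hb'⟩
        refine ⟨W.add_mem ha hb, fun w' hw' => ?_⟩
        rw [hform_add_left, ha' w' hw', hb' w' hw', add_zero]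
      zero_mem' := ⟨W.zero_mem, fun w' _ => hform_zero_left w'⟩
      smul_mem' := by
        rintro c a ⟨ha, ha'⟩
        refine ⟨W.smul_mem c ha, fun w' hw' => ?_⟩
        rw [hform_smul_left, ha' w' hw', mul_zero] }
  have hRmem : ∀ w, w ∈ R ↔ (w ∈ W ∧ ∀ w' ∈ W, hform (Fin n) F q w w' = 0) := fun w => Iff.rfl
  have hAm' : A * A ^ (m - 1) = 1 := by
    rw [← pow_succ', Nat.sub_add_cancel hm, hAm]
  have hRA : ∀ u ∈ R, A *ᵥ u ∈ R := by
    intro u hu
    rw [hRmem] at hu ⊢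
    refine ⟨mul_mem_cyc hu.1, fun w' hw' => ?_⟩
    have h1 : A ^ (m - 1) *ᵥ w' ∈ W := by
      have := aeval_mem_cyc (X ^ (m - 1) : F[X]) hw'
      rwa [map_pow, aeval_X] at this
    have h2 : w' = A *ᵥ (A ^ (m - 1) *ᵥ w') := by
      rw [Matrix.mulVec_mulVec, hAm', Matrix.one_mulVec]
    rw [h2, hA]
    exact hu.2 _ h1
  set f : Module.End F (Fin n → F) := Matrix.toLin' A with hf
  have hfm : f ^ m = 1 := by
    rw [hf, ← Matrix.toLin'_pow, hAm, Matrix.toLin'_one]; rfl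
  have hsq : Squarefree (X ^ m - C 1 : F[X]) :=
    (separable_X_pow_sub_C (1 : F) hm0 one_ne_zero).squarefree
  have hss : f.IsSemisimple := by
    apply Module.End.isSemisimple_of_squarefree_aeval_eq_zero hsq
    rw [map_sub, map_pow, aeval_X, aeval_C, hfm]
    simp
  have hRinv : R ∈ f.invtSubmodule := by
    rw [Module.End.mem_invtSubmodule]
    intro u hu
    rw [Submodule.mem_comap, hf, Matrix.toLin'_apply]
    exact hRA u hu
  obtain ⟨Q, hQinv, hRQ⟩ := (Module.End.isSemisimple_iff.mp hss) R hRinv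
  have hQA : ∀ u ∈ Q, A *ᵥ u ∈ Q := by
    intro u hu
    rw [Module.End.mem_invtSubmodule] at hQinv
    have := hQinv hu
    rwa [Submodule.mem_comap, hf, Matrix.toLin'_apply] at this
  have hxtop : x ∈ R ⊔ Q := by rw [hRQ.sup_eq_top]; exact Submodule.mem_top
  obtain ⟨r, hr, x', hx', hsum⟩ := Submodule.mem_sup.mp hxtop
  have hrW : r ∈ W := ((hRmem r).mp hr).1
  have hxW : x ∈ W := self_mem_cyc A x
  have hx'W : x' ∈ W := by
    have : x' = x - r := by rw [← hsum]; abel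
    rw [this]
    exact W.sub_mem hxW hrW
  have hWA : ∀ u ∈ W, A *ᵥ u ∈ W := fun u hu => mul_mem_cyc hu
  have hle1 : cyc A x' ≤ W := cyc_le A W hWA x' hx'W
  have hle2 : cyc A x' ≤ Q := cyc_le A Q hQA x' hx'
  refine ⟨x', ?_, ?_⟩
  · intro h0
    rw [h0, add_zero] at hsum
    rw [hsum] at hr
    have := ((hRmem x).mp hr).2 x hxW
    rw [hxx] at this
    exact one_ne_zero this
  · intro u hu huv
    have huR : u ∈ R := by
      rw [hRmem]
      refine ⟨hle1 hu, ?_⟩
      rintro _ ⟨p, rfl⟩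
      rw [← hsum, Matrix.mulVec_add, hform_add_right hF]
      have h1 : (aeval A p) *ᵥ r ∈ R := aeval_mem_of_invariant A R hRA p r hr
      have h2 : hform (Fin n) F q u ((aeval A p) *ᵥ r) = 0 := by
        rw [← hform_conj hF, ((hRmem _).mp h1).2 u (hle1 hu), zero_pow hq]
      rw [h2, zero_add]
      exact huv _ (aeval_mem_cyc p (self_mem_cyc A x'))
    have : u ∈ R ⊓ Q := ⟨huR, hle2 hu⟩
    rw [hRQ.inf_eq_bot] at this
    exact (Submodule.mem_bot F).mp this

end main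

end Cfsg.Agent.Lib.Helper51.USemi
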