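import Mathlib
import Cfsg.Agent.Lib.Helper51.USemi3
import Cfsg.Agent.Lib.Helper49.DetCentralizer
set_option autoImplicit false
set_option linter.unusedSectionVars false
set_option linter.unusedVariables false

/-! Prescribing the determinant of a polynomial in `A` on a cyclic invariant subspace. -/

namespace Cfsg.Agent.Lib.Helper51.USemi

open Matrix Polynomial Cfsg.Agent.Lib.Helper51.URU Cfsg.Agent.Lib.Helper08

section det
variable {F : Type*} [Field F] [Fintype F] {n : ℕ}

theorem aeval_restrict_coe (A : Matrix (Fin n) (Fin n) F) (W : Submodule F (Fin n → F))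
    (hinv : W ≤ W.comap (Matrix.toLin' A)) (p : F[X]) (w : W) :
    ((aeval ((Matrix.toLin' A).restrict hinv) p w : W) : Fin n → F) =
      (aeval A p) *ᵥ (w : Fin n → F) := by
  induction p using Polynomial.induction_on' with
  | add p r hp hr =>
    rw [map_add, map_add, LinearMap.add_apply, Submodule.coe_add, hp, hr, Matrix.add_mulVec]
  | monomial k c =>
    rw [aeval_monomial, aeval_monomial, ← Matrix.mulVec_mulVec, Algebra.algebraMap_eq_smul_one,
      Module.End.mul_apply, LinearMap.smul_apply, Module.End.one_apply, Submodule.coe_smul,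
      Algebra.algebraMap_eq_smul_one, Matrix.smul_mulVec, Matrix.one_mulVec]
    congr 1
    induction k generalizing w with
    | zero => rw [pow_zero, pow_zero, Matrix.one_mulVec, Module.End.one_apply]
    | succ k ih =>
      rw [pow_succ, pow_succ, Module.End.mul_apply, ih, ← Matrix.mulVec_mulVec]
      rfl

theorem exists_poly_det (A : Matrix (Fin n) (Fin n) F) (m : ℕ) (hm : 0 < m) (hm0 : (m : F) ≠ 0)
    (hAm : A ^ m = 1) (x' : Fin n → F) (hx' : x' ≠ 0) (P : Matrix (Fin n) (Fin n) F)
    (hPmem : ∀ v, P *ᵥ v ∈ cyc A x') (hPid : ∀ w ∈ cyc A x', P *ᵥ w = w)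
    (δ : F) (hδ : δ ≠ 0) : ∃ b : F[X], (aeval A b * P + (1 - P)).det = δ := by
  classical
  set W := cyc A x' with hW
  set f : Module.End F (Fin n → F) := Matrix.toLin' A with hf
  have hinv : W ≤ W.comap f := by
    intro u hu
    rw [Submodule.mem_comap, hf, Matrix.toLin'_apply]
    exact mul_mem_cyc hu
  set g : Module.End F W := f.restrict hinv with hg
  have hcoe : ∀ (p : F[X]) (w : W), ((aeval g p w : W) : Fin n → F) = (aeval A p) *ᵥ (w : Fin n → F) :=
    fun p w => aeval_restrict_coe A W hinv p w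
  set s : F[X] := X ^ m - C 1 with hs
  have hsq : Squarefree s := (separable_X_pow_sub_C (1 : F) hm0 one_ne_zero).squarefree
  have hsg : aeval g s = 0 := by
    apply LinearMap.ext
    intro w
    apply Subtype.ext
    rw [hcoe, hs, map_sub, map_pow, aeval_X, aeval_C, hAm]
    simp
  have hM : Module.IsTorsion F[X] (Module.AEval' g) :=
    Module.AEval.isTorsion_of_finiteDimensional F W g
  let o : W ≃ₗ[F] Module.AEval' g := Module.AEval'.of g
  have hsM : ∀ m' : Module.AEval' g, s • m' = 0 := by
    intro m'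
    obtain ⟨v, rfl⟩ := o.surjective m'
    have := Module.AEval.of_aeval_smul (R := F) (M := W) (a := g) s v
    change s • o v = 0
    rw [← this, hsg]
    simp
  set w0 : W := ⟨x', self_mem_cyc A x'⟩ with hw0
  have hw0ne : w0 ≠ 0 := by
    intro h
    apply hx'
    have := congrArg Subtype.val h
    exact this
  have : Nontrivial W := ⟨⟨w0, 0, hw0ne⟩⟩
  have : Nontrivial (Module.AEval' g) := o.symm.toEquiv.nontrivial
  obtain ⟨T, hT⟩ := Cfsg.Agent.Lib.Helper49.exists_equiv_det (M := Module.AEval' g) hM s hsq hsM δ hδ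
  have hsmul : ∀ (p : F[X]) (w : W), o (aeval g p w) = p • o w := by
    intro p w
    exact Module.AEval.of_aeval_smul (R := F) (M := W) (a := g) p w
  have hcyc : ∀ m' : Module.AEval' g, ∃ p : F[X], m' = p • o w0 := by
    intro m'
    obtain ⟨v, rfl⟩ := o.surjective m'
    obtain ⟨p, hp⟩ := v.2
    refine ⟨p, ?_⟩
    rw [← hsmul]
    congr 1
    apply Subtype.ext
    rw [hcoe, hw0]
    exact hp.symm
  obtain ⟨b, hb⟩ := hcyc (T (o w0))
  have hTb : ∀ m' : Module.AEval' g, T m' = b • m' := by
    intro m'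
    obtain ⟨p, rfl⟩ := hcyc m'
    rw [map_smul, hb, smul_comm]
  set gb : Module.End F W := aeval g b with hgb
  have hdetgb : LinearMap.det gb = δ := by
    rw [← hT]
    have h1 : gb = (o.symm : Module.AEval' g →ₗ[F] W) ∘ₗ
        ((T : Module.AEval' g →ₗ[F[X]] Module.AEval' g).restrictScalars F) ∘ₗ
        ((o.symm).symm : W →ₗ[F] Module.AEval' g) := by
      apply LinearMap.ext
      intro v
      change gb v = o.symm (T (o v))
      rw [hTb, ← hsmul, LinearEquiv.symm_apply_apply]
    rw [h1]
    exact LinearMap.det_conj (M := Module.AEval' g) (N := W)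
      ((T : Module.AEval' g →ₗ[F[X]] Module.AEval' g).restrictScalars F) o.symm
  refine ⟨b, ?_⟩
  set c := aeval A b * P + (1 - P) with hc
  set cl : Module.End F (Fin n → F) := Matrix.toLin' c with hcl
  have hclv : ∀ v, cl v = (aeval A b) *ᵥ (P *ᵥ v) + (v - P *ᵥ v) := by
    intro v
    rw [hcl, Matrix.toLin'_apply, hc, Matrix.add_mulVec, Matrix.sub_mulVec, Matrix.one_mulVec,
      Matrix.mulVec_mulVec]
  have hclw : ∀ w ∈ W, cl w = (aeval A b) *ᵥ w := by
    intro w hw
    rw [hclv, hPid w hw, sub_self, add_zero]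
  have he : W ≤ W.comap cl := by
    intro w hw
    rw [Submodule.mem_comap, hclw w hw]
    exact aeval_mem_cyc b hw
  have hres : cl.restrict he = gb := by
    apply LinearMap.ext
    intro w
    apply Subtype.ext
    rw [LinearMap.coe_restrict_apply, hclw _ w.2, hgb, hcoe]
  have hmapQ : W.mapQ W cl he = LinearMap.id := by
    apply Submodule.linearMap_qext
    apply LinearMap.ext
    intro v
    simp only [LinearMap.comp_apply, Submodule.mkQ_apply, Submodule.mapQ_apply, LinearMap.id_apply]
    rw [Submodule.Quotient.eq, hclv]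
    have h1 : (aeval A b) *ᵥ (P *ᵥ v) + (v - P *ᵥ v) - v = (aeval A b) *ᵥ (P *ᵥ v) - P *ᵥ v := by
      abel
    rw [h1]
    exact W.sub_mem (aeval_mem_cyc b (hPmem v)) (hPmem v)
  have h2 := LinearMap.det_eq_det_mul_det W cl he
  rw [hres, hmapQ, hdetgb, LinearMap.det_id, mul_one, hcl, LinearMap.det_toLin'] at h2
  exact h2

end det

end Cfsg.Agent.Lib.Helper51.USemi
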