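import Mathlib
import Cfsg.Agent.Lib.Helper51.USemi4
set_option autoImplicit false
set_option linter.unusedSectionVars false
set_option linter.unusedVariables false

/-! The determinant maps the centraliser of a semisimple element of `GU_n(q)` onto the
norm one elements. -/

namespace Cfsg.Agent.Lib.Helper51.USemi

open Matrix Polynomial Cfsg.Agent.Lib.Helper51.URU Cfsg.Agent.Lib.Helper08
open Cfsg.Agent.Lib.Helper19 (pow_q_pow_q add_pow_q sum_pow_q q_pos one_lt_q frobQ frobQ_apply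
  frobQ_frobQ)

section main
variable {K : Type*} [Field K] [Fintype K] {q : ℕ} {n : ℕ}

theorem exists_GU_commute_det (hK : Fintype.card K = q ^ 2) (hn : 1 ≤ n) (A : GL (Fin n) K)
    (hA : A ∈ Cfsg.GU n K q) (m : ℕ) (hm : 0 < m) (hm0 : (m : K) ≠ 0) (hAm : A ^ m = 1)
    (l : K) (hl : l * l ^ q = 1) :
    ∃ z : GL (Fin n) K, z ∈ Cfsg.GU n K q ∧ z * A = A * z ∧
      (z : Matrix (Fin n) (Fin n) K).det = l := by
  classical
  have hq : q ≠ 0 := (q_pos hK).ne'
  set A0 : Matrix (Fin n) (Fin n) K := (A : Matrix (Fin n) (Fin n) K) with hA0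
  have hIso : IsIsoMat q A0 := by
    rw [GU_eq_GUi, mem_GUi_iff] at hA
    exact hA
  have hA0m : A0 ^ m = 1 := by
    rw [hA0, ← Units.val_pow_eq_pow_val, hAm]; rfl
  obtain ⟨x', hx'0, hnd⟩ := exists_nondeg_cyclic hK hn A0 hIso m hm hm0 hA0m
  set W' := cyc A0 x' with hW'
  obtain ⟨b, hb⟩ := Cfsg.Agent.Lib.Helper51.exists_onb_sub hK W' (Module.finrank K W') rfl hnd
  set π := oproj q W' b with hπ
  set P : Matrix (Fin n) (Fin n) K := LinearMap.toMatrix' π with hP
  have hPv : ∀ v, P *ᵥ v = π v := fun v => by rw [hP, LinearMap.toMatrix'_mulVec]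
  have hPmem : ∀ v, P *ᵥ v ∈ cyc A0 x' := fun v => by rw [hPv]; exact oproj_mem W' b v
  have hPid : ∀ w ∈ cyc A0 x', P *ᵥ w = w := fun w hw => by
    rw [hPv]; exact oproj_of_mem W' b hb w hw
  have hPs : cstar (frobQ hK) P = P := by
    apply cstar_eq_of_adjoint hK
    intro u v
    rw [hPv, hPv]
    exact oproj_herm hK W' b hb u v
  have hAW : ∀ v, v ∈ W' ↔ A0 *ᵥ v ∈ W' :=
    Cfsg.Agent.Lib.Helper51.UPar.stab_iff_of_forward hK W' A0 hIso (fun v hv => mul_mem_cyc hv)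
  have hPA : Commute P A0 := by
    change P * A0 = A0 * P
    apply Matrix.toLin'.injective
    apply LinearMap.ext
    intro v
    rw [Matrix.toLin'_apply, Matrix.toLin'_apply, ← Matrix.mulVec_mulVec, ← Matrix.mulVec_mulVec,
      hPv, hPv]
    exact oproj_commute hK W' b hb hnd A0 hIso hAW v
  obtain ⟨μ, hμ0, hμ⟩ := Cfsg.Agent.Lib.Helper51.UPar.exists_hilbert90 hK l hl
  obtain ⟨bp, hbp⟩ := exists_poly_det A0 m hm hm0 hA0m x' hx'0 P hPmem hPid μ hμ0
  have hAc : cstar (frobQ hK) A0 * A0 = 1 := (mem_GU_iff_cstar hK A).mp hA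
  obtain ⟨z, hz1, hz2, hz3⟩ := exists_unitary_of_normal (frobQ hK) (frobQ_frobQ hK) A0 P hAc hPs
    hPA bp (by rw [hbp]; exact hμ0)
  rw [hbp, frobQ_apply] at hz3
  have hμq : μ ^ q ≠ 0 := pow_ne_zero _ hμ0
  have hzdet : z.det = l := by
    have h1 : z.det * μ ^ q = l * μ ^ q := by rw [hz3]; exact hμ
    exact mul_right_cancel₀ hμq h1
  have hl0 : l ≠ 0 := by
    intro h0
    rw [h0, zero_mul] at hl
    exact zero_ne_one hl
  let zG : GL (Fin n) K := Matrix.GeneralLinearGroup.mkOfDetNeZero z (by rw [hzdet]; exact hl0)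
  have hzG : (zG : Matrix (Fin n) (Fin n) K) = z := rfl
  refine ⟨zG, ?_, ?_, ?_⟩
  · rw [mem_GU_iff_cstar hK, hzG]
    exact hz1
  · apply Units.ext
    rw [Units.val_mul, Units.val_mul, hzG]
    exact hz2.eq
  · rw [hzG, hzdet]

end main

end Cfsg.Agent.Lib.Helper51.USemi
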