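import Mathlib
import Cfsg.Agent.Lib.Helper51.USemi5
set_option autoImplicit false
set_option linter.unusedSectionVars false
set_option linter.unusedVariables false

/-! Galois descent count: the fixed points of a semilinear involution over the field with
`q²` elements form a set whose square has the size of the whole space. -/

namespace Cfsg.Agent.Lib.Helper51.USemi

open Cfsg.Agent.Lib.Helper19 (pow_q_pow_q add_pow_q sum_pow_q q_pos one_lt_q frobQ frobQ_apply
  frobQ_frobQ)

section descent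
variable {F : Type*} [Field F] [Fintype F] {q : ℕ}

theorem card_fixed_semilinear (hF : Fintype.card F = q ^ 2) {V : Type*} [AddCommGroup V]
    [Module F V] [Finite V] (σ : V → V) (hadd : ∀ u v, σ (u + v) = σ u + σ v)
    (hsmul : ∀ (c : F) v, σ (c • v) = c ^ q • σ v) (hinv : ∀ v, σ (σ v) = v) :
    Nat.card {v : V // σ v = v} ^ 2 = Nat.card V := by
  obtain ⟨ω, hω⟩ := Cfsg.Agent.Lib.Helper43.exists_pow_q_ne hF
  set d : F := ω ^ q - ω with hd
  have hd0 : d ≠ 0 := sub_ne_zero.mpr hω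
  have hdq : d ^ q = -d := by
    rw [hd, Cfsg.Agent.Lib.Helper08.sub_pow_q hF, pow_q_pow_q hF]
    ring
  have hneg : ∀ v, σ (-v) = -σ v := by
    intro v
    have h0 : σ 0 = 0 := by
      have := hadd 0 0
      rw [add_zero] at this
      exact left_eq_add.mp this
    have := hadd v (-v)
    rw [add_neg_cancel, h0] at this
    exact (neg_eq_of_add_eq_zero_right this.symm).symm
  have hsub : ∀ u v, σ (u - v) = σ u - σ v := by
    intro u v
    rw [sub_eq_add_neg, hadd, hneg, ← sub_eq_add_neg]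
  let Fix := {v : V // σ v = v}
  let Ψ : V → Fix × Fix := fun v =>
    (⟨v + σ v, by rw [hadd, hinv, add_comm]⟩,
     ⟨ω • v + σ (ω • v), by rw [hadd, hinv, add_comm]⟩)
  let Φ : Fix × Fix → V := fun xy => d⁻¹ • (ω ^ q • (xy.1 : V) - (xy.2 : V))
  have h1 : ∀ v, Φ (Ψ v) = v := by
    intro v
    change d⁻¹ • (ω ^ q • (v + σ v) - (ω • v + σ (ω • v))) = v
    rw [hsmul, smul_add]
    have : ω ^ q • v + ω ^ q • σ v - (ω • v + ω ^ q • σ v) = d • v := by
      rw [hd, sub_smul]; abel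
    rw [this, smul_smul, inv_mul_cancel₀ hd0, one_smul]
  have h2 : ∀ xy, Ψ (Φ xy) = xy := by
    rintro ⟨⟨x, hx⟩, ⟨y, hy⟩⟩
    have hσv : σ (d⁻¹ • (ω ^ q • x - y)) = -(d⁻¹ • (ω • x - y)) := by
      rw [hsmul, hsub, hsmul, hx, hy, pow_q_pow_q hF, inv_pow, hdq, inv_neg, neg_smul]
    apply Prod.ext
    · apply Subtype.ext
      change d⁻¹ • (ω ^ q • x - y) + σ (d⁻¹ • (ω ^ q • x - y)) = x
      rw [hσv, ← sub_eq_add_neg, ← smul_sub]
      have : ω ^ q • x - y - (ω • x - y) = d • x := by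
        rw [hd, sub_smul]; abel
      rw [this, smul_smul, inv_mul_cancel₀ hd0, one_smul]
    · apply Subtype.ext
      change ω • (d⁻¹ • (ω ^ q • x - y)) + σ (ω • (d⁻¹ • (ω ^ q • x - y))) = y
      rw [hsmul, hσv, smul_neg, ← sub_eq_add_neg, smul_comm ω d⁻¹, smul_comm (ω ^ q) d⁻¹,
        ← smul_sub]
      have : ω • (ω ^ q • x - y) - ω ^ q • (ω • x - y) = d • y := by
        rw [hd, sub_smul, smul_sub, smul_sub, smul_smul, smul_smul, mul_comm ω (ω ^ q)]
        abel
      rw [this, smul_smul, inv_mul_cancel₀ hd0, one_smul]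
  have e : V ≃ Fix × Fix := ⟨Ψ, Φ, h1, h2⟩
  rw [Nat.card_congr e, Nat.card_prod, sq]

end descent

end Cfsg.Agent.Lib.Helper51.USemi
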