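import Mathlib
import Cfsg.Agent.Lib.Helper51.USemi6
set_option autoImplicit false
set_option linter.unusedSectionVars false
set_option linter.unusedVariables false

/-! Counting the monic polynomials of degree `m + 1` over the field with `q²` elements which
are fixed by the twisted reciprocal map `f ↦ (-1)^(m+1) (f^φ).reverse`. -/

namespace Cfsg.Agent.Lib.Helper51.USemi

open Polynomial
open Cfsg.Agent.Lib.Helper19 (pow_q_pow_q add_pow_q sum_pow_q q_pos one_lt_q frobQ frobQ_apply
  frobQ_frobQ)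

section polycount
variable {F : Type*} [Field F] [Fintype F] {q : ℕ}

theorem eps_pow_q (hF : Fintype.card F = q ^ 2) (k : ℕ) : ((-1 : F) ^ k) ^ q = (-1) ^ k := by
  rw [← pow_mul, mul_comm, pow_mul, Cfsg.Agent.Lib.Helper08.neg_pow_q hF, one_pow]

theorem eps_mul_eps (k : ℕ) : ((-1 : F) ^ k) * ((-1 : F) ^ k) = 1 := by
  rw [← mul_pow, neg_one_mul, neg_neg, one_pow]

theorem twisted_iff (hF : Fintype.card F = q ^ 2) (m : ℕ) (f : F[X]) (hm : f.Monic)
    (hd : f.natDegree = m + 1) :
    f = C ((-1 : F) ^ (m + 1)) * (f.map (frobQ hF)).reverse ↔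
      f.coeff 0 = (-1) ^ (m + 1) ∧
        ∀ i : Fin m, f.coeff ((i : ℕ) + 1) =
          (-1) ^ (m + 1) * (f.coeff (((Fin.rev i : Fin m) : ℕ) + 1)) ^ q := by
  have hd' : (f.map (frobQ hF)).natDegree = m + 1 := by rw [natDegree_map, hd]
  have hlead : f.coeff (m + 1) = 1 := by rw [← hd]; exact hm.coeff_natDegree
  have hcoefR : ∀ i, (C ((-1 : F) ^ (m + 1)) * (f.map (frobQ hF)).reverse).coeff i =
      (-1) ^ (m + 1) * (f.coeff (revAt (m + 1) i)) ^ q := by
    intro i
    rw [coeff_C_mul, coeff_reverse, hd', coeff_map, frobQ_apply]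
  constructor
  · intro h
    have hcoef : ∀ i, f.coeff i = (-1) ^ (m + 1) * (f.coeff (revAt (m + 1) i)) ^ q := by
      intro i
      conv_lhs => rw [h]
      exact hcoefR i
    constructor
    · rw [hcoef 0, revAt_le (Nat.zero_le _), Nat.sub_zero, hlead, one_pow, mul_one]
    · intro i
      rw [hcoef ((i : ℕ) + 1), revAt_le (by omega)]
      have : m + 1 - ((i : ℕ) + 1) = ((Fin.rev i : Fin m) : ℕ) + 1 := by
        rw [Fin.val_rev]; omega
      rw [this]
  · rintro ⟨h0, hmid⟩
    ext j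
    rw [hcoefR]
    rcases Nat.eq_zero_or_pos j with hj0 | hjpos
    · subst hj0
      rw [revAt_le (Nat.zero_le _), Nat.sub_zero, hlead, one_pow, mul_one, h0]
    rcases lt_trichotomy j (m + 1) with hlt | heq | hgt
    · obtain ⟨i, rfl⟩ : ∃ i : Fin m, j = (i : ℕ) + 1 := ⟨⟨j - 1, by omega⟩, by simp; omega⟩
      rw [hmid i, revAt_le (by omega)]
      have : m + 1 - ((i : ℕ) + 1) = ((Fin.rev i : Fin m) : ℕ) + 1 := by
        rw [Fin.val_rev]; omega
      rw [this]
    · subst heq
      rw [revAt_le le_rfl, Nat.sub_self, h0, hlead, eps_pow_q hF, eps_mul_eps]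
    · rw [revAt_eq_self_of_lt hgt]
      have : f.coeff j = 0 := coeff_eq_zero_of_natDegree_lt (by rw [hd]; exact hgt)
      rw [this, zero_pow (q_pos hF).ne', mul_zero]

/-- the twisted reversal on coefficient vectors -/
def twSigma (q m : ℕ) (b : Fin m → F) : Fin m → F :=
  fun i => (-1) ^ (m + 1) * (b (Fin.rev i)) ^ q

theorem card_twSigma_fixed (hF : Fintype.card F = q ^ 2) (m : ℕ) :
    Nat.card {b : Fin m → F // twSigma q m b = b} = q ^ m := by
  have h := card_fixed_semilinear hF (V := Fin m → F) (twSigma q m)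
    (by
      intro u v
      funext i
      simp only [twSigma, Pi.add_apply]
      rw [add_pow_q hF, mul_add])
    (by
      intro c v
      funext i
      simp only [twSigma, Pi.smul_apply, smul_eq_mul]
      rw [mul_pow]
      ring)
    (by
      intro v
      funext i
      simp only [twSigma]
      rw [Fin.rev_rev, mul_pow, pow_q_pow_q hF, eps_pow_q hF, ← mul_assoc, eps_mul_eps, one_mul])
  rw [Nat.card_eq_fintype_card (α := Fin m → F), Fintype.card_fun, Fintype.card_fin, hF,
    ← pow_mul, mul_comm, pow_mul] at h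
  exact Nat.pow_left_injective (n := 2) (by norm_num) h

/-- the number of twisted self-reciprocal monic polynomials of degree `m + 1` -/
theorem card_twisted (hF : Fintype.card F = q ^ 2) (m : ℕ) :
    Nat.card {f : F[X] // f.Monic ∧ f.natDegree = m + 1 ∧
      f = C ((-1 : F) ^ (m + 1)) * (f.map (frobQ hF)).reverse} = q ^ m := by
  let e₀ : {p : F[X] // p.Monic ∧ p.natDegree = m + 1} ≃ (Fin (m + 1) → F) :=
    (monicEquivDegreeLT (m + 1)).trans (degreeLTEquiv F (m + 1)).toEquiv
  have he₀ : ∀ (p : {p : F[X] // p.Monic ∧ p.natDegree = m + 1}) (j : Fin (m + 1)),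
      e₀ p j = p.1.coeff (j : ℕ) := by
    intro p j
    change p.1.eraseLead.coeff (j : ℕ) = p.1.coeff (j : ℕ)
    apply eraseLead_coeff_of_ne
    rw [p.2.2]
    exact j.2.ne
  let Q : (Fin (m + 1) → F) → Prop := fun a =>
    a 0 = (-1) ^ (m + 1) ∧ ∀ i : Fin m, a i.succ = (-1) ^ (m + 1) * (a (Fin.rev i).succ) ^ q
  let e₁ : {f : F[X] // f.Monic ∧ f.natDegree = m + 1 ∧
      f = C ((-1 : F) ^ (m + 1)) * (f.map (frobQ hF)).reverse} ≃
      {p : {p : F[X] // p.Monic ∧ p.natDegree = m + 1} //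
        p.1 = C ((-1 : F) ^ (m + 1)) * (p.1.map (frobQ hF)).reverse} :=
    { toFun := fun f => ⟨⟨f.1, f.2.1, f.2.2.1⟩, f.2.2.2⟩
      invFun := fun p => ⟨p.1.1, p.1.2.1, p.1.2.2, p.2⟩
      left_inv := fun f => rfl
      right_inv := fun p => rfl }
  let e₂ : {p : {p : F[X] // p.Monic ∧ p.natDegree = m + 1} //
        p.1 = C ((-1 : F) ^ (m + 1)) * (p.1.map (frobQ hF)).reverse} ≃
      {a : Fin (m + 1) → F // Q a} :=
    e₀.subtypeEquiv (fun p => by
      rw [twisted_iff hF m p.1 p.2.1 p.2.2]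
      change _ ↔ (e₀ p 0 = _ ∧ ∀ i : Fin m, e₀ p i.succ = _ * (e₀ p (Fin.rev i).succ) ^ q)
      rw [he₀]
      simp only [he₀, Fin.val_succ, Fin.val_zero])
  let e₃ : {a : Fin (m + 1) → F // Q a} ≃ {b : Fin m → F // twSigma q m b = b} :=
    { toFun := fun a => ⟨Fin.tail a.1, by
        funext i
        simp only [twSigma, Fin.tail]
        exact (a.2.2 i).symm⟩
      invFun := fun b => ⟨(Fin.cons ((-1 : F) ^ (m + 1)) b.1 : Fin (m + 1) → F), by
        refine ⟨Fin.cons_zero _ _, fun i => ?_⟩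
        rw [Fin.cons_succ, Fin.cons_succ]
        exact (congrFun b.2 i).symm⟩
      left_inv := fun a => by
        apply Subtype.ext
        change (Fin.cons ((-1 : F) ^ (m + 1)) (Fin.tail a.1) : Fin (m + 1) → F) = a.1
        have h2 := a.2.1
        rw [← h2]
        exact Fin.cons_self_tail a.1
      right_inv := fun b => by
        apply Subtype.ext
        change Fin.tail (Fin.cons ((-1 : F) ^ (m + 1)) b.1 : Fin (m + 1) → F) = b.1
        exact Fin.tail_cons _ _ }
  rw [Nat.card_congr (e₁.trans (e₂.trans e₃)), card_twSigma_fixed hF]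

end polycount

end Cfsg.Agent.Lib.Helper51.USemi
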