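import Mathlib
import Cfsg.Agent.Lib.Helper51.USemi7
import Cfsg.Agent.Lib.Helper49.SemisimpleCharpoly
import Cfsg.Agent.S2588
set_option autoImplicit false
set_option linter.unusedSectionVars false
set_option linter.unusedVariables false

/-! Characteristic polynomials of the semisimple elements of `SU_n(q)`. -/

namespace Cfsg.Agent.Lib.Helper51.USemi

open Matrix Polynomial Cfsg.Agent.Lib.Helper51.URU
open Cfsg.Agent.Lib.Helper19 (pow_q_pow_q add_pow_q sum_pow_q q_pos one_lt_q frobQ frobQ_apply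
  frobQ_frobQ)

section charpoly
variable {F : Type*} [Field F] [Fintype F] {q : ℕ}

/-- characteristic polynomial of the inverse conjugate transpose -/
theorem charpoly_cstar_inv (φ : F →+* F) (m : ℕ) (G : Matrix (Fin (m + 1)) (Fin (m + 1)) F)
    (hdet : G.det = 1) :
    ((cstar φ G)⁻¹).charpoly = C ((-1 : F) ^ (m + 1)) * (G.charpoly.map φ).reverse := by
  have hdet' : (cstar φ G).det = 1 := by rw [cstar_det, hdet, map_one]
  have hu : IsUnit (cstar φ G) := by
    rw [Matrix.isUnit_iff_isUnit_det, hdet']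
    exact isUnit_one
  rw [Matrix.charpoly_inv _ hu, hdet', Ring.inverse_one, C_1, mul_one, Fintype.card_fin,
    ← Matrix.reverse_charpoly]
  have h1 : (cstar φ G).charpoly = G.charpoly.map φ := by
    unfold cstar
    rw [Matrix.charpoly_transpose, Matrix.charpoly_map]
  rw [h1, C_pow, C_neg, C_1]

/-- the characteristic polynomial of a unitary matrix of determinant one -/
theorem charpoly_twisted (φ : F →+* F) (m : ℕ) (G : Matrix (Fin (m + 1)) (Fin (m + 1)) F)
    (hG : cstar φ G * G = 1) (hdet : G.det = 1) :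
    G.charpoly = C ((-1 : F) ^ (m + 1)) * (G.charpoly.map φ).reverse := by
  have h1 : (cstar φ G)⁻¹ = G := Matrix.inv_eq_right_inv hG
  conv_lhs => rw [← h1]
  exact charpoly_cstar_inv φ m G hdet

theorem exists_SU_charpoly (hF : Fintype.card F = q ^ 2) (p : ℕ) [Fact p.Prime] [CharP F p]
    (m : ℕ) (f : F[X]) (hm : f.Monic) (hd : f.natDegree = m + 1)
    (htw : f = C ((-1 : F) ^ (m + 1)) * (f.map (frobQ hF)).reverse) :
    ∃ g : ↥(Cfsg.SU (m + 1) F q), (orderOf g).Coprime p ∧
      ((g : Matrix.SpecialLinearGroup (Fin (m + 1)) F) :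
        Matrix (Fin (m + 1)) (Fin (m + 1)) F).charpoly = f := by
  classical
  have h0 : f.coeff 0 = (-1) ^ (m + 1) := ((twisted_iff hF m f hm hd).mp htw).1
  have hne : f.coeff 0 ≠ 0 := by
    rw [h0]; exact pow_ne_zero _ (neg_ne_zero.mpr one_ne_zero)
  obtain ⟨G, hG, N, hN, hGN⟩ :=
    Cfsg.Agent.Lib.Helper49.exists_matrix_charpoly p f hm (m + 1) hd hne
  have hdetG : G.det = 1 := by
    rw [Matrix.det_eq_sign_charpoly_coeff, hG, h0, Fintype.card_fin, eps_mul_eps]
  have hN0 : (N : F) ≠ 0 := by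
    intro h0'
    rw [CharP.cast_eq_zero_iff F p] at h0'
    have h1 : p ∣ Nat.gcd N p := Nat.dvd_gcd h0' (dvd_refl p)
    rw [hN] at h1
    exact (Fact.out : p.Prime).one_lt.ne' (Nat.dvd_one.mp h1)
  let GU : GL (Fin (m + 1)) F :=
    Matrix.GeneralLinearGroup.mkOfDetNeZero G (by rw [hdetG]; exact one_ne_zero)
  have hGU : (GU : Matrix (Fin (m + 1)) (Fin (m + 1)) F) = G := rfl
  set G' : Matrix (Fin (m + 1)) (Fin (m + 1)) F := (cstar (frobQ hF) G)⁻¹ with hG'
  have hG'cp : G'.charpoly = f := by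
    rw [hG', charpoly_cstar_inv (frobQ hF) m G hdetG, hG]
    exact htw.symm
  have hG'N : G' ^ N = 1 := by
    rw [hG', Matrix.inv_pow', ← cstar_pow, hGN, cstar_one, inv_one]
  set s : F[X] := X ^ N - C 1 with hs
  have hsq : Squarefree s := (separable_X_pow_sub_C (1 : F) hN0 one_ne_zero).squarefree
  have hsG : aeval G s = 0 := by
    rw [hs, map_sub, map_pow, aeval_X, aeval_C, hGN]
    simp
  have hsG' : aeval G' s = 0 := by
    rw [hs, map_sub, map_pow, aeval_X, aeval_C, hG'N]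
    simp
  obtain ⟨P, hP⟩ := Cfsg.Agent.Lib.Helper49.exists_GL_conj_of_charpoly_eq G G' s hsq hsG hsG'
    (hG.trans hG'cp.symm)
  have hmap : ((GU : Matrix (Fin (m + 1)) (Fin (m + 1)) F).map (fun x : F => x ^ q)).transpose =
      cstar (frobQ hF) G := by
    unfold cstar
    rw [hGU]
    have : (fun x : F => x ^ q) = ⇑(frobQ hF) := funext (fun x => (frobQ_apply hF x).symm)
    rw [this]
  have hconj : IsConj (GU : Matrix (Fin (m + 1)) (Fin (m + 1)) F)
      (((GU : Matrix (Fin (m + 1)) (Fin (m + 1)) F).map (fun x : F => x ^ q)).transpose)⁻¹ := by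
    rw [hmap]
    exact ⟨P, hP⟩
  obtain ⟨B, hB⟩ := (Cfsg.Agent.S2588.result hF GU).mpr hconj
  obtain ⟨c, hc⟩ := isConj_iff.mp hB
  have hBval : ((B : GL (Fin (m + 1)) F) : Matrix (Fin (m + 1)) (Fin (m + 1)) F) =
      (c : Matrix (Fin (m + 1)) (Fin (m + 1)) F) * G *
        ((c⁻¹ : GL (Fin (m + 1)) F) : Matrix (Fin (m + 1)) (Fin (m + 1)) F) := by
    rw [← hc]
    rfl
  have hBcp : ((B : GL (Fin (m + 1)) F) : Matrix (Fin (m + 1)) (Fin (m + 1)) F).charpoly = f := by
    rw [hBval, Matrix.coe_units_inv, Matrix.charpoly_units_conj, hG]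
  have hBdet : ((B : GL (Fin (m + 1)) F) : Matrix (Fin (m + 1)) (Fin (m + 1)) F).det = 1 := by
    rw [Matrix.det_eq_sign_charpoly_coeff, hBcp, h0, Fintype.card_fin, eps_mul_eps]
  have hBN : (B : GL (Fin (m + 1)) F) ^ N = 1 := by
    rw [← hc, conj_pow]
    have : GU ^ N = 1 := by
      apply Units.ext
      rw [Units.val_pow_eq_pow_val, hGU, hGN]
      rfl
    rw [this, mul_one, mul_inv_cancel]
  let g : ↥(Cfsg.SU (m + 1) F q) := ofGU (B : GL (Fin (m + 1)) F) B.2 hBdet
  have hgN : g ^ N = 1 := by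
    apply Subtype.ext
    apply Subtype.ext
    have h1 := congrArg (fun x : GL (Fin (m + 1)) F =>
      (x : Matrix (Fin (m + 1)) (Fin (m + 1)) F)) hBN
    simp only [Units.val_pow_eq_pow_val, Units.val_one] at h1
    rw [SubgroupClass.coe_pow, Matrix.SpecialLinearGroup.coe_pow]
    exact h1
  refine ⟨g, ?_, hBcp⟩
  exact Nat.Coprime.coprime_dvd_left (orderOf_dvd_of_pow_eq_one hgN) hN

end charpoly

end Cfsg.Agent.Lib.Helper51.USemi
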