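import Mathlib
import Cfsg.Agent.Lib.Helper51.USemi8
import Cfsg.Agent.Lib.Helper49.PrimeOrderSpCount
import Cfsg.Agent.Lib.Helper49.SimilarTranspose
set_option autoImplicit false
set_option linter.unusedSectionVars false
set_option linter.unusedVariables false

/-! Kernel dimensions under the Frobenius twist, the transpose and the conjugate transpose. -/

namespace Cfsg.Agent.Lib.Helper51.UPrime

open Matrix Polynomial Cfsg.Agent.Lib.Helper49 Cfsg.Agent.Lib.Helper51.URU

section twist
variable {K : Type*} [Field K] [Fintype K] {n : ℕ}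

theorem map_aeval_matrix (φ : K →+* K) (M : Matrix (Fin n) (Fin n) K) (P : K[X]) :
    (aeval M P).map φ = aeval (M.map φ) (P.map φ) := by
  have h : (algebraMap K (Matrix (Fin n) (Fin n) K)).comp φ =
      (φ.mapMatrix : Matrix (Fin n) (Fin n) K →+* Matrix (Fin n) (Fin n) K).comp
        (algebraMap K (Matrix (Fin n) (Fin n) K)) := by
    ext c i j
    simp only [RingHom.comp_apply, RingHom.mapMatrix_apply, Matrix.map_apply,
      Matrix.algebraMap_matrix_apply]
    split_ifs
    · rfl
    · rw [map_zero]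
  have := Polynomial.map_aeval_eq_aeval_map h P M
  rw [RingHom.mapMatrix_apply, RingHom.mapMatrix_apply] at this
  exact this

theorem aeval_toLin' (M : Matrix (Fin n) (Fin n) K) (P : K[X]) :
    aeval (Matrix.toLin' M) P = Matrix.toLin' (aeval M P) := by
  have := Polynomial.aeval_algHom_apply (Matrix.toLinAlgEquiv' : Matrix (Fin n) (Fin n) K ≃ₐ[K] _).toAlgHom M P
  exact this

theorem kdim_eq_card (M : Matrix (Fin n) (Fin n) K) (P : K[X]) :
    Fintype.card K ^ kdim (Matrix.toLin' M) P =
      Nat.card {v : Fin n → K // (aeval M P) *ᵥ v = 0} := by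
  unfold kdim
  rw [aeval_toLin']
  have h1 := Module.natCard_eq_pow_finrank (K := K)
    (V := LinearMap.ker (Matrix.toLin' (aeval M P)))
  rw [Nat.card_eq_fintype_card (α := K)] at h1
  rw [← h1]
  apply Nat.card_congr
  exact Equiv.subtypeEquivRight (fun v => by rw [LinearMap.mem_ker, Matrix.toLin'_apply])

theorem mulVec_map_comp (φ : K →+* K) (N : Matrix (Fin n) (Fin n) K) (v : Fin n → K) :
    (N.map φ) *ᵥ (φ ∘ v) = φ ∘ (N *ᵥ v) := by
  funext i
  exact (RingHom.map_mulVec φ N v i).symm

/-- kernel dimensions are invariant under an involutive field automorphism -/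
theorem kdim_map (φ : K →+* K) (hφ : ∀ x, φ (φ x) = x) (M : Matrix (Fin n) (Fin n) K) (P : K[X]) :
    kdim (Matrix.toLin' (M.map φ)) (P.map φ) = kdim (Matrix.toLin' M) P := by
  have hK2 : 1 < Fintype.card K := Fintype.one_lt_card
  apply Nat.pow_right_injective hK2
  simp only
  rw [kdim_eq_card, kdim_eq_card, ← map_aeval_matrix]
  set N := aeval M P with hN
  have hNN : (N.map φ).map φ = N := by
    ext i j
    simp only [Matrix.map_apply, hφ]
  have hcomp : ∀ v : Fin n → K, φ ∘ (φ ∘ v) = v := by
    intro v; funext i; exact hφ (v i)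
  apply Nat.card_congr
  refine ⟨fun v => ⟨φ ∘ v.1, ?_⟩, fun w => ⟨φ ∘ w.1, ?_⟩, ?_, ?_⟩
  · have := mulVec_map_comp φ (N.map φ) v.1
    rw [hNN, v.2] at this
    rw [this]
    funext i
    simp
  · rw [mulVec_map_comp, w.2]
    funext i
    simp
  · intro v
    apply Subtype.ext
    exact hcomp v.1
  · intro w
    apply Subtype.ext
    exact hcomp w.1

/-- kernel dimensions of the transpose -/
theorem kdim_transpose (M : Matrix (Fin n) (Fin n) K) (P : K[X]) :
    kdim (Matrix.toLin' Mᵀ) P = kdim (Matrix.toLin' M) P := by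
  obtain ⟨c, hc⟩ := isConj_transpose M
  symm
  apply kdim_conj _ _ (glEquiv c)
  intro v
  rw [glEquiv_apply, glEquiv_apply, Matrix.toLin'_apply, Matrix.toLin'_apply,
    Matrix.mulVec_mulVec, Matrix.mulVec_mulVec]
  have : (c : Matrix (Fin n) (Fin n) K) * M = Mᵀ * (c : Matrix (Fin n) (Fin n) K) := hc
  rw [this]

/-- kernel dimensions of the conjugate transpose -/
theorem kdim_cstar (φ : K →+* K) (hφ : ∀ x, φ (φ x) = x) (M : Matrix (Fin n) (Fin n) K)
    (Q : K[X]) :
    kdim (Matrix.toLin' (cstar φ M)) Q = kdim (Matrix.toLin' M) (Q.map φ) := by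
  unfold cstar
  rw [kdim_transpose]
  have h1 : Q = (Q.map φ).map φ := by
    rw [Polynomial.map_map]
    have : φ.comp φ = RingHom.id K := RingHom.ext hφ
    rw [this, Polynomial.map_id]
  conv_lhs => rw [h1]
  exact kdim_map φ hφ M (Q.map φ)

end twist

end Cfsg.Agent.Lib.Helper51.UPrime
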