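import Mathlib
import Cfsg.Agent.S2587
import Cfsg.Agent.S2588
import Cfsg.Agent.Lib.Helper19.UnitaryDet
import Cfsg.Agent.Lib.Helper49.Necklace
import Cfsg.Agent.Lib.Helper49.SplitEig
import Cfsg.Agent.Lib.Helper49.PGLTools
import Cfsg.Agent.Lib.Helper49.SemisimpleConj
import Cfsg.Agent.Lib.Helper49.SemisimpleModel
import Cfsg.Agent.Lib.Helper49.PrimeOrderGL
import Cfsg.Agent.Lib.Helper51.UPrime1
set_option autoImplicit false
set_option linter.unusedSectionVars false
set_option linter.unusedVariables false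

/-! Tools for conjugacy classes of prime order in `PGU_n(q)`: quotient by the centre, scalar
elements of `GU`, the twisted inverse on `GL`, eigenvalue profiles. -/

namespace Cfsg.Agent.Lib.Helper51.PGU

open Matrix Polynomial Cfsg.Agent.Lib.Helper49 Cfsg.Agent.Lib.Helper19 Cfsg.Agent.Lib.Helper51.URU
  Cfsg.Agent.Lib.Helper51.UPrime

section generic

variable {G : Type*} [Group G]

theorem isConj_mk_center_iff (g g' : G) :
    IsConj (QuotientGroup.mk g : G ⧸ Subgroup.center G) (QuotientGroup.mk g') ↔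
      ∃ c z : G, z ∈ Subgroup.center G ∧ g' = z * (c * g * c⁻¹) := by
  constructor
  · intro h
    obtain ⟨c', hc'⟩ := isConj_iff.mp h
    obtain ⟨c, rfl⟩ := QuotientGroup.mk_surjective c'
    rw [← QuotientGroup.mk_inv, ← QuotientGroup.mk_mul, ← QuotientGroup.mk_mul,
      QuotientGroup.eq] at hc'
    refine ⟨c, (c * g * c⁻¹)⁻¹ * g', hc', ?_⟩
    rw [(Subgroup.mem_center_iff.mp hc' _).symm, mul_inv_cancel_left]
  · rintro ⟨c, z, hz, rfl⟩
    rw [QuotientGroup.mk_mul, (QuotientGroup.eq_one_iff z).mpr hz, one_mul, isConj_iff]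
    exact ⟨QuotientGroup.mk c, by
      rw [← QuotientGroup.mk_inv, ← QuotientGroup.mk_mul, ← QuotientGroup.mk_mul]⟩

theorem orderOf_mk_center_eq_prime_iff {r : ℕ} (hr : r.Prime) (g : G) :
    orderOf (QuotientGroup.mk g : G ⧸ Subgroup.center G) = r ↔
      (g ^ r ∈ Subgroup.center G ∧ g ∉ Subgroup.center G) := by
  have : Fact r.Prime := ⟨hr⟩
  rw [orderOf_eq_prime_iff, ← QuotientGroup.mk_pow, QuotientGroup.eq_one_iff, Ne,
    QuotientGroup.eq_one_iff]

end generic

section usc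

variable {K : Type*} [Field K] [Fintype K] {q : ℕ}

/-- the scalar element of `GU` attached to a norm-one scalar -/
noncomputable def usc (n : ℕ) : ↥(normOne K q) →* ↥(Cfsg.GU n K q) where
  toFun u := ⟨diagGL (fun _ => ((u : ↥(normOne K q)) : Kˣ)), diagGL_mem_GU _ (fun _ => u.2)⟩
  map_one' := by
    apply Subtype.ext
    apply Units.ext
    change Matrix.diagonal (fun _ : Fin n => (((1 : ↥(normOne K q)) : Kˣ) : K)) = 1
    simp
  map_mul' u v := by
    apply Subtype.ext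
    apply Units.ext
    change Matrix.diagonal (fun _ : Fin n => (((u * v : ↥(normOne K q)) : Kˣ) : K)) =
      Matrix.diagonal (fun _ : Fin n => ((u : Kˣ) : K)) *
        Matrix.diagonal (fun _ : Fin n => ((v : Kˣ) : K))
    rw [Matrix.diagonal_mul_diagonal]
    simp

theorem usc_val (n : ℕ) (u : ↥(normOne K q)) :
    (((usc n u : ↥(Cfsg.GU n K q)) : GL (Fin n) K) : Matrix (Fin n) (Fin n) K) =
      ((u : Kˣ) : K) • (1 : Matrix (Fin n) (Fin n) K) := by
  rw [Matrix.smul_one_eq_diagonal]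
  rfl

theorem usc_mem_center (n : ℕ) (u : ↥(normOne K q)) :
    usc n u ∈ Subgroup.center ↥(Cfsg.GU n K q) := by
  rw [Subgroup.mem_center_iff]
  intro g
  apply Subtype.ext
  apply Units.ext
  rw [Subgroup.coe_mul, Subgroup.coe_mul, Units.val_mul, Units.val_mul, usc_val, Matrix.mul_smul,
    Matrix.smul_mul, Matrix.mul_one, Matrix.one_mul]

theorem exists_usc_of_mem_center (hK : Fintype.card K = q ^ 2) {n : ℕ} (hn : 0 < n)
    (z : ↥(Cfsg.GU n K q)) (hz : z ∈ Subgroup.center ↥(Cfsg.GU n K q)) :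
    ∃ u : ↥(normOne K q), z = usc n u := by
  obtain ⟨u, hu, hzu⟩ := central_GU_scalar hK hn (z : GL (Fin n) K) z.2 (fun g hg => by
    have := Subgroup.mem_center_iff.mp hz ⟨g, hg⟩
    exact congrArg Subtype.val this)
  exact ⟨⟨u, hu⟩, Subtype.ext hzu⟩

theorem usc_injective {n : ℕ} (hn : 0 < n) :
    Function.Injective (usc n : ↥(normOne K q) → ↥(Cfsg.GU n K q)) := by
  intro u v h
  have h1 := congrArg (fun g : ↥(Cfsg.GU n K q) =>
    ((g : GL (Fin n) K) : Matrix (Fin n) (Fin n) K) ⟨0, hn⟩ ⟨0, hn⟩) h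
  simp only [usc_val, Matrix.smul_apply, Matrix.one_apply_eq, smul_eq_mul, mul_one] at h1
  exact Subtype.ext (Units.ext h1)

theorem toLin'_usc_mul {n : ℕ} (u : ↥(normOne K q)) (g : ↥(Cfsg.GU n K q)) :
    Matrix.toLin' (((usc n u * g : ↥(Cfsg.GU n K q)) : GL (Fin n) K) :
      Matrix (Fin n) (Fin n) K) =
      ((u : Kˣ) : K) • Matrix.toLin' ((g : GL (Fin n) K) : Matrix (Fin n) (Fin n) K) := by
  rw [Subgroup.coe_mul, Units.val_mul, usc_val, Matrix.smul_mul, Matrix.one_mul, map_smul]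

theorem mk_usc_mul {n : ℕ} (u : ↥(normOne K q)) (g : ↥(Cfsg.GU n K q)) :
    (QuotientGroup.mk (usc n u * g) :
      ↥(Cfsg.GU n K q) ⧸ Subgroup.center ↥(Cfsg.GU n K q)) = QuotientGroup.mk g := by
  rw [QuotientGroup.mk_mul, (QuotientGroup.eq_one_iff _).mpr (usc_mem_center n u), one_mul]

theorem usc_mul_pow {n : ℕ} (u : ↥(normOne K q)) (g : ↥(Cfsg.GU n K q)) (k : ℕ) :
    (usc n u * g) ^ k = usc n (u ^ k) * g ^ k := by
  have hc : Commute (usc n u) g := (Subgroup.mem_center_iff.mp (usc_mem_center n u) g).symm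
  rw [hc.mul_pow, map_pow]

theorem conj_usc {n : ℕ} (c : ↥(Cfsg.GU n K q)) (u : ↥(normOne K q)) :
    c * usc n u * c⁻¹ = usc n u := by
  rw [Subgroup.mem_center_iff.mp (usc_mem_center n u) c, mul_inv_cancel_right]

theorem val_pow_of_pow_eq_usc {n r : ℕ} (g : ↥(Cfsg.GU n K q)) (u : ↥(normOne K q))
    (hg : g ^ r = usc n u) :
    ((g : GL (Fin n) K) : Matrix (Fin n) (Fin n) K) ^ r =
      ((u : Kˣ) : K) • (1 : Matrix (Fin n) (Fin n) K) := by
  rw [← usc_val, ← hg, Subgroup.coe_pow, Units.val_pow_eq_pow_val]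

end usc

section gstar

variable {K : Type*} [Field K] [Fintype K] {q : ℕ}

/-- the twisted inverse `A ↦ (A⁻¹)^*` on `GL` -/
noncomputable def gstar (hK : Fintype.card K = q ^ 2) {n : ℕ} : GL (Fin n) K →* GL (Fin n) K where
  toFun A := ⟨cstar (frobQ hK) ((A⁻¹ : GL (Fin n) K) : Matrix (Fin n) (Fin n) K),
    cstar (frobQ hK) (A : Matrix (Fin n) (Fin n) K),
    by rw [← cstar_mul, ← Units.val_mul, mul_inv_cancel, Units.val_one, cstar_one],
    by rw [← cstar_mul, ← Units.val_mul, inv_mul_cancel, Units.val_one, cstar_one]⟩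
  map_one' := by
    apply Units.ext
    change cstar (frobQ hK) (((1 : GL (Fin n) K)⁻¹ : GL (Fin n) K) : Matrix (Fin n) (Fin n) K) = 1
    rw [inv_one, Units.val_one, cstar_one]
  map_mul' A B := by
    apply Units.ext
    change cstar (frobQ hK) (((A * B)⁻¹ : GL (Fin n) K) : Matrix (Fin n) (Fin n) K) =
      cstar (frobQ hK) ((A⁻¹ : GL (Fin n) K) : Matrix (Fin n) (Fin n) K) *
        cstar (frobQ hK) ((B⁻¹ : GL (Fin n) K) : Matrix (Fin n) (Fin n) K)
    rw [_root_.mul_inv_rev, Units.val_mul, cstar_mul]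

theorem gstar_val (hK : Fintype.card K = q ^ 2) {n : ℕ} (A : GL (Fin n) K) :
    ((gstar hK A : GL (Fin n) K) : Matrix (Fin n) (Fin n) K) =
      (cstar (frobQ hK) (A : Matrix (Fin n) (Fin n) K))⁻¹ := by
  symm
  apply Matrix.inv_eq_left_inv
  change cstar (frobQ hK) ((A⁻¹ : GL (Fin n) K) : Matrix (Fin n) (Fin n) K) *
    cstar (frobQ hK) (A : Matrix (Fin n) (Fin n) K) = 1
  rw [← cstar_mul, ← Units.val_mul, mul_inv_cancel, Units.val_one, cstar_one]

theorem gstar_val' (hK : Fintype.card K = q ^ 2) {n : ℕ} (A : GL (Fin n) K) :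
    ((gstar hK A : GL (Fin n) K) : Matrix (Fin n) (Fin n) K) =
      cstar (frobQ hK) ((A⁻¹ : GL (Fin n) K) : Matrix (Fin n) (Fin n) K) := rfl

/-- a matrix conjugate to its twisted inverse is conjugate to a unitary matrix -/
theorem exists_GU_isConj (hK : Fintype.card K = q ^ 2) {n : ℕ} (A : GL (Fin n) K)
    (h : IsConj A (gstar hK A)) : ∃ B : ↥(Cfsg.GU n K q), IsConj A (B : GL (Fin n) K) := by
  rw [Cfsg.Agent.S2588.result hK]
  have h1 := (Units.coeHom (Matrix (Fin n) (Fin n) K)).map_isConj h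
  rw [Units.coeHom_apply, Units.coeHom_apply, gstar_val] at h1
  have h2 : ((A : Matrix (Fin n) (Fin n) K).map (fun x : K => x ^ q)) =
      (A : Matrix (Fin n) (Fin n) K).map (frobQ hK) := by
    congr 1
    funext x
    exact (frobQ_apply hK x).symm
  rw [h2]
  exact h1

theorem ed_inv_matrix {n : ℕ} (B : Matrix (Fin n) (Fin n) K) (hB : IsUnit B.det) (μ : K)
    (hμ : μ ≠ 0) : ed (Matrix.toLin' B⁻¹) μ = ed (Matrix.toLin' B) μ⁻¹ := by
  unfold ed kdim
  have : LinearMap.ker (aeval (Matrix.toLin' B⁻¹) (X - C μ)) =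
      LinearMap.ker (aeval (Matrix.toLin' B) (X - C μ⁻¹)) := by
    ext v
    rw [mem_ker_aeval_X_sub_C, mem_ker_aeval_X_sub_C, Matrix.toLin'_apply, Matrix.toLin'_apply]
    constructor
    · intro h
      have h1 : B *ᵥ (B⁻¹ *ᵥ v) = v := by
        rw [Matrix.mulVec_mulVec, Matrix.mul_nonsing_inv _ hB, Matrix.one_mulVec]
      rw [h, Matrix.mulVec_smul] at h1
      calc B *ᵥ v = μ⁻¹ • (μ • B *ᵥ v) := by rw [smul_smul, inv_mul_cancel₀ hμ, one_smul]
        _ = μ⁻¹ • v := by rw [h1]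
    · intro h
      have h1 : B⁻¹ *ᵥ (B *ᵥ v) = v := by
        rw [Matrix.mulVec_mulVec, Matrix.nonsing_inv_mul _ hB, Matrix.one_mulVec]
      rw [h, Matrix.mulVec_smul] at h1
      calc B⁻¹ *ᵥ v = μ • (μ⁻¹ • B⁻¹ *ᵥ v) := by rw [smul_smul, mul_inv_cancel₀ hμ, one_smul]
        _ = μ • v := by rw [h1]
  rw [this]

/-- eigenspace dimensions of the twisted inverse at norm-one scalars -/
theorem ed_gstar (hK : Fintype.card K = q ^ 2) {n : ℕ} (A : GL (Fin n) K) (μ : K)
    (hμ : μ ^ (q + 1) = 1) :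
    ed (Matrix.toLin' ((gstar hK A : GL (Fin n) K) : Matrix (Fin n) (Fin n) K)) μ =
      ed (Matrix.toLin' (A : Matrix (Fin n) (Fin n) K)) μ := by
  have hμ0 : μ ≠ 0 := by
    rintro rfl
    rw [zero_pow (by omega)] at hμ
    exact zero_ne_one hμ
  have hq : μ ^ q * μ = 1 := by rw [← pow_succ]; exact hμ
  have hinv : (μ ^ q)⁻¹ = μ := inv_eq_of_mul_eq_one_right hq
  rw [gstar_val']
  unfold ed
  rw [kdim_cstar (frobQ hK) (frobQ_frobQ hK), Polynomial.map_sub, Polynomial.map_X,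
    Polynomial.map_C, frobQ_apply, Matrix.coe_units_inv]
  have h1 := ed_inv_matrix (A : Matrix (Fin n) (Fin n) K)
    ((Matrix.isUnit_iff_isUnit_det _).mp A.isUnit) (μ ^ q) (pow_ne_zero q hμ0)
  unfold ed at h1
  rw [h1, hinv]

end gstar

end Cfsg.Agent.Lib.Helper51.PGU
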