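import Mathlib
import Cfsg.Agent.Lib.Helper51.PGU1
set_option autoImplicit false
set_option linter.unusedSectionVars false
set_option linter.unusedVariables false

/-! Eigenvalue profiles of unitary elements of order `r ∣ q + 1` and elements whose `r`-th power
is a scalar which is not an `r`-th power. -/

namespace Cfsg.Agent.Lib.Helper51.PGU

open Matrix Polynomial Cfsg.Agent.Lib.Helper49 Cfsg.Agent.Lib.Helper19 Cfsg.Agent.Lib.Helper51.URU
  Cfsg.Agent.Lib.Helper51.UPrime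

section aux

variable {K : Type*} [Field K] [Fintype K] {q n r : ℕ}

/-- `r`-th roots of unity among the norm-one scalars -/
abbrev RU (K : Type*) [Field K] (q r : ℕ) : Subgroup ↥(normOne K q) :=
  (powMonoidHom r : ↥(normOne K q) →* ↥(normOne K q)).ker

/-- `r`-th powers of norm-one scalars -/
abbrev RP (K : Type*) [Field K] (q r : ℕ) : Subgroup ↥(normOne K q) :=
  (powMonoidHom r : ↥(normOne K q) →* ↥(normOne K q)).range

theorem mem_RU (x : ↥(normOne K q)) : x ∈ RU K q r ↔ x ^ r = 1 := by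
  rw [MonoidHom.mem_ker, powMonoidHom_apply]

theorem mem_RP (x : ↥(normOne K q)) : x ∈ RP K q r ↔ ∃ c : ↥(normOne K q), c ^ r = x := by
  rw [MonoidHom.mem_range]
  simp only [powMonoidHom_apply]

theorem card_RU (hK : Fintype.card K = q ^ 2) (hrq : r ∣ q + 1) : Nat.card (RU K q r) = r := by
  classical
  rw [IsCyclic.card_powMonoidHom_ker, card_normOne hK, Nat.gcd_eq_right hrq]

theorem index_RP (hK : Fintype.card K = q ^ 2) (hrq : r ∣ q + 1) : (RP K q r).index = r := by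
  classical
  rw [IsCyclic.index_powMonoidHom_range, card_normOne hK, Nat.gcd_eq_right hrq]

/-- the eigenvalue attached to a root of unity -/
def ev (K : Type*) [Field K] (q r : ℕ) : RU K q r → K :=
  fun ω => (((ω : ↥(normOne K q)) : Kˣ) : K)

theorem ev_injective : Function.Injective (ev K q r) :=
  fun _ _ h => Subtype.ext (Subtype.ext (Units.ext h))

theorem ev_pow (ω : RU K q r) : ev K q r ω ^ r = 1 := by
  have h := (mem_RU (ω : ↥(normOne K q))).mp ω.2
  have h1 := congrArg (fun x : ↥(normOne K q) => ((x : Kˣ) : K)) h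
  simpa [ev] using h1

theorem ev_norm (ω : RU K q r) : ev K q r ω ^ (q + 1) = 1 := by
  have h := mem_normOne.mp (ω : ↥(normOne K q)).2
  have h1 := congrArg (fun x : Kˣ => (x : K)) h
  simpa [ev] using h1

theorem ev_ne_zero (ω : RU K q r) : ev K q r ω ≠ 0 := Units.ne_zero _

theorem normOne_val_pow (u : ↥(normOne K q)) : (((u : Kˣ) : K)) ^ (q + 1) = 1 := by
  have h := mem_normOne.mp u.2
  have h1 := congrArg (fun x : Kˣ => (x : K)) h
  simpa using h1

variable [Fintype (RU K q r)]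

theorem splitPoly_ev (hK : Fintype.card K = q ^ 2) (hr : r.Prime) (hrq : r ∣ q + 1) :
    splitPoly (ev K q r) = (X ^ r - 1 : K[X]) :=
  splitPoly_eq_X_pow_sub_one (ev K q r) ev_injective r hr.pos
    (by rw [← Nat.card_eq_fintype_card, card_RU hK hrq]) ev_pow

/-- profile of an element of `GU` -/
noncomputable def prof (r : ℕ) (g : ↥(Cfsg.GU n K q)) : RU K q r → ℕ :=
  fun ω => ed (Matrix.toLin' ((g : GL (Fin n) K) : Matrix (Fin n) (Fin n) K)) (ev K q r ω)

theorem aeval_splitPoly_GL (hK : Fintype.card K = q ^ 2) (hr : r.Prime) (hrq : r ∣ q + 1)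
    (g : GL (Fin n) K) (hg : g ^ r = 1) :
    aeval (Matrix.toLin' (g : Matrix (Fin n) (Fin n) K)) (splitPoly (ev K q r)) = 0 := by
  rw [splitPoly_ev hK hr hrq]
  exact aeval_toLin'_pow_sub_one g r hg

theorem GU_coe_pow_one (g : ↥(Cfsg.GU n K q)) (hg : g ^ r = 1) : (g : GL (Fin n) K) ^ r = 1 := by
  rw [← Subgroup.coe_pow, hg, Subgroup.coe_one]

theorem prof_sum (hK : Fintype.card K = q ^ 2) (hr : r.Prime) (hrq : r ∣ q + 1)
    (g : ↥(Cfsg.GU n K q)) (hg : g ^ r = 1) : ∑ ω, prof r g ω = n := by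
  have := finrank_eq_sum_ed (ev K q r) ev_injective _
    (aeval_splitPoly_GL hK hr hrq (g : GL (Fin n) K) (GU_coe_pow_one g hg))
  rw [Module.finrank_fin_fun] at this
  exact this.symm

theorem GU_mem_center_of_GL (g : ↥(Cfsg.GU n K q))
    (h : (g : GL (Fin n) K) ∈ Subgroup.center (GL (Fin n) K)) :
    g ∈ Subgroup.center ↥(Cfsg.GU n K q) := by
  rw [Subgroup.mem_center_iff]
  intro x
  apply Subtype.ext
  rw [Subgroup.coe_mul, Subgroup.coe_mul]
  exact Subgroup.mem_center_iff.mp h _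

theorem prof_ne (hn : 0 < n) (g : ↥(Cfsg.GU n K q))
    (hgz : g ∉ Subgroup.center ↥(Cfsg.GU n K q)) (ω : RU K q r) : prof r g ω ≠ n :=
  fun h => hgz (GU_mem_center_of_GL g (gl_mem_center_of_ed_eq hn _ _ h))

theorem isConj_of_prof_eq (hK : Fintype.card K = q ^ 2) (hr : r.Prime) (hrq : r ∣ q + 1)
    (g g' : ↥(Cfsg.GU n K q)) (hg : g ^ r = 1) (hg' : g' ^ r = 1)
    (h : ∀ ω, prof r g ω = prof r g' ω) : IsConj g g' := by
  rw [Cfsg.Agent.S2587.result hK]
  obtain ⟨e, he⟩ := exists_equiv_of_ed_eq (ev K q r) ev_injective _ _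
    (aeval_splitPoly_GL hK hr hrq _ (GU_coe_pow_one g hg))
    (aeval_splitPoly_GL hK hr hrq _ (GU_coe_pow_one g' hg')) h
  exact isConj_of_equiv _ _ e he

theorem prof_usc_mul (c : RU K q r) (g : ↥(Cfsg.GU n K q)) (ω : RU K q r) :
    prof r (usc n (c : ↥(normOne K q)) * g) ω = prof r g (c⁻¹ * ω) := by
  unfold prof
  rw [toLin'_usc_mul]
  have h : ev K q r ω = ev K q r c * ev K q r (c⁻¹ * ω) := by
    unfold ev
    rw [← Units.val_mul, ← Subgroup.coe_mul, ← Subgroup.coe_mul, mul_inv_cancel_left]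
  rw [h]
  exact ed_smul _ _ (ev_ne_zero c) _

theorem prof_conj (c g : ↥(Cfsg.GU n K q)) (ω : RU K q r) :
    prof r (c * g * c⁻¹) ω = prof r g ω := by
  unfold prof ed
  exact (kdim_eq_of_isConj (g : GL (Fin n) K) ((c * g * c⁻¹ : ↥(Cfsg.GU n K q)) : GL (Fin n) K)
    (isConj_iff.mpr ⟨(c : GL (Fin n) K), rfl⟩) _).symm

theorem exists_GU_of_prof (hK : Fintype.card K = q ^ 2) (hr : r.Prime) (hrq : r ∣ q + 1)
    (a : RU K q r → ℕ) (ha : ∑ ω, a ω = n) :
    ∃ g : ↥(Cfsg.GU n K q), g ^ r = 1 ∧ ∀ ω, prof r g ω = a ω := by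
  obtain ⟨G, hG1, hG2⟩ := exists_matrix_of_profile (ev K q r) ev_injective n a ha
  rw [splitPoly_ev hK hr hrq] at hG1
  have hGr : G ^ r = 1 := by
    rw [map_sub, map_pow, aeval_X, map_one] at hG1
    exact sub_eq_zero.mp hG1
  have hr1 : r = (r - 1) + 1 := by have := hr.pos; omega
  let A : GL (Fin n) K := ⟨G, G ^ (r - 1), by rw [← pow_succ', ← hr1, hGr],
    by rw [← pow_succ, ← hr1, hGr]⟩
  have hAr : A ^ r = 1 := Units.ext (by rw [Units.val_pow_eq_pow_val, Units.val_one]; exact hGr)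
  have hAsr : (gstar hK A) ^ r = 1 := by rw [← map_pow, hAr, map_one]
  have hconj : IsConj A (gstar hK A) := by
    obtain ⟨e, he⟩ := exists_equiv_of_ed_eq (ev K q r) ev_injective
      (Matrix.toLin' (A : Matrix (Fin n) (Fin n) K))
      (Matrix.toLin' ((gstar hK A : GL (Fin n) K) : Matrix (Fin n) (Fin n) K))
      (aeval_splitPoly_GL hK hr hrq A hAr) (aeval_splitPoly_GL hK hr hrq _ hAsr)
      (fun ω => (ed_gstar hK A _ (ev_norm ω)).symm)
    exact isConj_of_equiv A _ e he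
  obtain ⟨B, hB⟩ := exists_GU_isConj hK A hconj
  refine ⟨B, ?_, ?_⟩
  · obtain ⟨x, hx⟩ := isConj_iff.mp hB
    apply Subtype.ext
    rw [Subgroup.coe_pow, Subgroup.coe_one, ← hx, conj_pow, hAr, mul_one, mul_inv_cancel]
  · intro ω
    unfold prof ed
    rw [← kdim_eq_of_isConj A (B : GL (Fin n) K) hB]
    exact hG2 ω

theorem not_mem_center_of_prof (hn : 0 < n) (g : ↥(Cfsg.GU n K q)) (hg : g ^ r = 1)
    (a : Prof (RU K q r) n) (h : ∀ ω, prof r g ω = a.1 ω) (hK : Fintype.card K = q ^ 2) :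
    g ∉ Subgroup.center ↥(Cfsg.GU n K q) := by
  intro hz
  obtain ⟨u, hu⟩ := exists_usc_of_mem_center hK hn g hz
  have hur : u ^ r = 1 := by
    rw [hu, ← map_pow] at hg
    have h1 : usc n (u ^ r) = usc n (1 : ↥(normOne K q)) := by rw [hg, map_one]
    exact usc_injective hn h1
  let ω : RU K q r := ⟨u, (mem_RU u).mpr hur⟩
  have h1 : prof r g ω = n := by
    unfold prof
    apply ed_of_scalar
    rw [hu, usc_val]
    rfl
  exact a.2.2 ω ((h ω).symm.trans h1)

end aux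

section typeB

variable {K : Type*} [Field K] [Fintype K] {q n r : ℕ}

/-- a norm-one scalar that is not an `r`-th power of a norm-one scalar has no `r`-th root -/
theorem irreducible_of_not_mem_RP (hK : Fintype.card K = q ^ 2) (hr : r.Prime) (hr2 : r ≠ 2)
    (hrq : r ∣ q + 1) (u : ↥(normOne K q)) (hu : u ∉ RP K q r) :
    Irreducible (X ^ r - C (((u : Kˣ) : K)) : K[X]) := by
  rw [X_pow_sub_C_irreducible_iff_of_prime hr]
  intro b hb
  apply hu
  have hb0 : b ≠ 0 := by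
    rintro rfl
    rw [zero_pow hr.pos.ne'] at hb
    exact (Units.ne_zero (u : Kˣ)) hb.symm
  have hq1 : 1 ≤ q := by
    rcases Nat.eq_zero_or_pos q with h | h
    · subst h
      have := Fintype.one_lt_card (α := K)
      rw [hK] at this
      omega
    · exact h
  have hun := normOne_val_pow u
  have hw1 : (b ^ (q + 1)) ^ r = 1 := by
    rw [← pow_mul, mul_comm, pow_mul, hb, hun]
  have hqq : (q + 1) * (q - 1) = Fintype.card K - 1 := by
    rw [hK]
    obtain ⟨q', rfl⟩ : ∃ q', q = q' + 1 := ⟨q - 1, by omega⟩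
    have : (q' + 1) ^ 2 = (q' + 1 + 1) * q' + 1 := by ring
    rw [this]
    simp
  have hw2 : (b ^ (q + 1)) ^ (q - 1) = 1 := by
    rw [← pow_mul, hqq]
    exact FiniteField.pow_card_sub_one_eq_one b hb0
  have hcop : Nat.Coprime r (q - 1) := by
    rw [Nat.Prime.coprime_iff_not_dvd hr]
    intro h
    have h2 : r ∣ (q + 1) - (q - 1) := Nat.dvd_sub hrq h
    have h3 : (q + 1) - (q - 1) = 2 := by omega
    rw [h3] at h2
    exact hr2 ((Nat.prime_dvd_prime_iff_eq hr Nat.prime_two).mp h2)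
  have hw : b ^ (q + 1) = 1 := by
    have := pow_gcd_eq_one.mpr ⟨hw1, hw2⟩
    rwa [hcop.gcd_eq_one, pow_one] at this
  rw [mem_RP]
  refine ⟨⟨Units.mk0 b hb0, mem_normOne.mpr (Units.ext ?_)⟩, Subtype.ext (Units.ext ?_)⟩
  · rw [Units.val_pow_eq_pow_val, Units.val_mk0, hw, Units.val_one]
  · rw [Subgroup.coe_pow, Units.val_pow_eq_pow_val]
    exact hb

theorem dvd_of_irreducible (g : ↥(Cfsg.GU n K q)) (u : ↥(normOne K q))
    (hirr : Irreducible (X ^ r - C (((u : Kˣ) : K)) : K[X])) (hg : g ^ r = usc n u) : r ∣ n := by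
  have := natDegree_dvd_finrank_of_irreducible
    (Matrix.toLin' ((g : GL (Fin n) K) : Matrix (Fin n) (Fin n) K)) _ hirr
    (aeval_toLin'_X_pow_sub_C _ r _ (val_pow_of_pow_eq_usc g u hg))
  rwa [natDegree_X_pow_sub_C, Module.finrank_fin_fun] at this

theorem isConj_of_lam (hK : Fintype.card K = q ^ 2) (g g' : ↥(Cfsg.GU n K q))
    (u : ↥(normOne K q))
    (hirr : Irreducible (X ^ r - C (((u : Kˣ) : K)) : K[X])) (hg : g ^ r = usc n u)
    (hg' : g' ^ r = usc n u) : IsConj g g' := by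
  rw [Cfsg.Agent.S2587.result hK]
  obtain ⟨e, he⟩ := exists_equiv_of_irreducible
    (Matrix.toLin' ((g : GL (Fin n) K) : Matrix (Fin n) (Fin n) K))
    (Matrix.toLin' ((g' : GL (Fin n) K) : Matrix (Fin n) (Fin n) K)) _ hirr
    (aeval_toLin'_X_pow_sub_C _ r _ (val_pow_of_pow_eq_usc g u hg))
    (aeval_toLin'_X_pow_sub_C _ r _ (val_pow_of_pow_eq_usc g' u hg')) rfl
  exact isConj_of_equiv _ _ e he

theorem exists_GU_of_lam (hK : Fintype.card K = q ^ 2) (hr : 0 < r) (u : ↥(normOne K q))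
    (hirr : Irreducible (X ^ r - C (((u : Kˣ) : K)) : K[X])) (hdvd : r ∣ n) :
    ∃ g : ↥(Cfsg.GU n K q), g ^ r = usc n u := by
  set lam : K := ((u : Kˣ) : K) with hlamdef
  have hlam : lam ≠ 0 := Units.ne_zero _
  obtain ⟨k, hk⟩ := hdvd
  let Q : Fin k → K[X] := fun _ => X ^ r - C lam
  have hQ : ∀ j, Irreducible (Q j) := fun _ => hirr
  have := finiteDimensional_model Q hQ
  have hfr : Module.finrank K ((j : Fin k) → AdjoinRoot (Q j)) = n := by
    rw [finrank_model Q hQ]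
    simp only [Q, natDegree_X_pow_sub_C, Finset.sum_const, Finset.card_univ, Fintype.card_fin,
      smul_eq_mul]
    rw [hk, mul_comm]
  obtain ⟨G, hG1, _⟩ := exists_matrix_of_operator (modelOp Q) n hfr
  have hGs := hG1 (X ^ r - C lam) (aeval_modelOp_eq_zero Q _ (fun j => dvd_rfl))
  have hGG := pow_eq_of_aeval_X_pow_sub_C G r lam hGs
  obtain ⟨r', rfl⟩ : ∃ r', r = r' + 1 := ⟨r - 1, by omega⟩
  set A : GL (Fin n) K := glOfPow G r' lam hlam hGG with hA
  have hAr : A ^ (r' + 1) = gsc n lam hlam := by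
    apply Units.ext
    rw [Units.val_pow_eq_pow_val, glOfPow_val, hGG, gsc_val]
  -- the twisted inverse satisfies the same equation
  have hgs : gstar hK (gsc n lam hlam) = gsc n lam hlam := by
    apply Units.ext
    rw [gstar_val, gsc_val, cstar_smul, cstar_one, frobQ_apply]
    have hq : lam ^ q * lam = 1 := by rw [← pow_succ]; exact normOne_val_pow u
    apply Matrix.inv_eq_left_inv
    rw [Matrix.smul_mul, Matrix.mul_smul, Matrix.one_mul, smul_smul, mul_comm, hq, one_smul]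
  have hAsr : (gstar hK A) ^ (r' + 1) = gsc n lam hlam := by rw [← map_pow, hAr, hgs]
  have hval : ∀ B : GL (Fin n) K, B ^ (r' + 1) = gsc n lam hlam →
      (B : Matrix (Fin n) (Fin n) K) ^ (r' + 1) = lam • (1 : Matrix (Fin n) (Fin n) K) := by
    intro B hB
    rw [← Units.val_pow_eq_pow_val, hB, gsc_val]
  have hconj : IsConj A (gstar hK A) := by
    obtain ⟨e, he⟩ := exists_equiv_of_irreducible
      (Matrix.toLin' (A : Matrix (Fin n) (Fin n) K))
      (Matrix.toLin' ((gstar hK A : GL (Fin n) K) : Matrix (Fin n) (Fin n) K)) _ hirr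
      (aeval_toLin'_X_pow_sub_C _ (r' + 1) lam (hval A hAr))
      (aeval_toLin'_X_pow_sub_C _ (r' + 1) lam (hval _ hAsr)) rfl
    exact isConj_of_equiv A _ e he
  obtain ⟨B, hB⟩ := exists_GU_isConj hK A hconj
  refine ⟨B, ?_⟩
  obtain ⟨x, hx⟩ := isConj_iff.mp hB
  apply Subtype.ext
  apply Units.ext
  rw [Subgroup.coe_pow, ← hx, conj_pow, hAr, usc_val,
    Subgroup.mem_center_iff.mp (gsc_mem_center lam hlam) x, mul_inv_cancel_right, gsc_val]

theorem not_mem_center_of_lam (hn : 0 < n) (hK : Fintype.card K = q ^ 2) (g : ↥(Cfsg.GU n K q))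
    (u : ↥(normOne K q)) (hu : u ∉ RP K q r) (hg : g ^ r = usc n u) :
    g ∉ Subgroup.center ↥(Cfsg.GU n K q) := by
  intro hz
  obtain ⟨c, hc⟩ := exists_usc_of_mem_center hK hn g hz
  rw [hc, ← map_pow] at hg
  exact hu ((mem_RP u).mpr ⟨c, usc_injective hn hg⟩)

/-- the scalar `g ^ r` is a class invariant modulo `r`-th powers -/
theorem lam_rel (hK : Fintype.card K = q ^ 2) (hn : 0 < n) (g g' : ↥(Cfsg.GU n K q))
    (hconj : IsConj (QuotientGroup.mk g :
      ↥(Cfsg.GU n K q) ⧸ Subgroup.center ↥(Cfsg.GU n K q)) (QuotientGroup.mk g'))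
    (u u' : ↥(normOne K q)) (hg : g ^ r = usc n u) (hg' : g' ^ r = usc n u') :
    ∃ μ : ↥(normOne K q), u' = μ ^ r * u ∧
      ∃ c : ↥(Cfsg.GU n K q), g' = usc n μ * (c * g * c⁻¹) := by
  obtain ⟨c, z, hz, rfl⟩ := (isConj_mk_center_iff g g').mp hconj
  obtain ⟨μ, rfl⟩ := exists_usc_of_mem_center hK hn z hz
  refine ⟨μ, ?_, c, rfl⟩
  have h1 : (c * g * c⁻¹) ^ r = usc n u := by
    rw [conj_pow, hg, conj_usc]
  rw [usc_mul_pow, h1, ← map_mul] at hg'
  exact (usc_injective hn hg').symm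

end typeB

end Cfsg.Agent.Lib.Helper51.PGU
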