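import Mathlib
import Cfsg.Agent.Lib.Helper51.UPrime1
set_option autoImplicit false
set_option linter.unusedSectionVars false
set_option linter.unusedVariables false
set_option linter.style.haveILetI false

/-! The twisted star involution `P ↦ (P*)^φ` on the irreducible factors of `X^r - 1`. -/

namespace Cfsg.Agent.Lib.Helper51.UPrime

open Matrix Polynomial Cfsg.Agent.Lib.Helper49 Cfsg.Agent.Lib.Helper51.URU

section sigma
variable {K : Type*} [Field K] {r b : ℕ} {PP : Finset K[X]}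

/-- an involutive ring endomorphism as a ring equivalence -/
def phiEquiv (φ : K →+* K) (hφ : ∀ x, φ (φ x) = x) : K ≃+* K where
  toFun := φ
  invFun := φ
  left_inv := hφ
  right_inv := hφ
  map_mul' := map_mul φ
  map_add' := map_add φ

theorem irreducible_map (φ : K →+* K) (hφ : ∀ x, φ (φ x) = x) {P : K[X]} (hP : Irreducible P) :
    Irreducible (P.map φ) := by
  have h1 : P.map φ = Polynomial.mapEquiv (phiEquiv φ hφ) P := rfl
  rw [h1]
  exact (MulEquiv.irreducible_iff (Polynomial.mapEquiv (phiEquiv φ hφ))).mpr hP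

theorem map_map_id (φ : K →+* K) (hφ : ∀ x, φ (φ x) = x) (P : K[X]) : (P.map φ).map φ = P := by
  rw [Polynomial.map_map]
  have : φ.comp φ = RingHom.id K := RingHom.ext hφ
  rw [this, Polynomial.map_id]

theorem map_X_pow_sub_one (φ : K →+* K) (r : ℕ) : (X ^ r - 1 : K[X]).map φ = X ^ r - 1 := by
  rw [Polynomial.map_sub, Polynomial.map_pow, Polynomial.map_X, Polynomial.map_one]

theorem map_X_sub_one (φ : K →+* K) : (X - 1 : K[X]).map φ = X - 1 := by
  rw [Polynomial.map_sub, Polynomial.map_X, Polynomial.map_one]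

theorem tau_mem (φ : K →+* K) (hφ : ∀ x, φ (φ x) = x) (D : FactorData K r b PP)
    (hmon : ∀ P ∈ PP, P.Monic) {P : K[X]} (hP : P ∈ PP) : P.map φ ∈ PP := by
  have hirr := irreducible_map φ hφ (D.irr P hP)
  have hdvd : P.map φ ∣ (X ^ r - 1 : K[X]) := by
    have := Polynomial.map_dvd φ (D.dvd_of_mem hP)
    rwa [map_X_pow_sub_one] at this
  rcases D.irreducible_dvd hirr hdvd with h | ⟨P', hP', h⟩
  · exfalso
    apply D.not_dvd_X_sub_one hP
    have h1 := Polynomial.map_dvd φ h.dvd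
    rwa [map_map_id φ hφ, map_X_sub_one] at h1
  · rw [eq_of_monic_of_associated ((hmon P hP).map φ) (hmon P' hP') h]
    exact hP'

/-- the Frobenius twist on the set of factors -/
noncomputable def tau (φ : K →+* K) (hφ : ∀ x, φ (φ x) = x) (D : FactorData K r b PP)
    (hmon : ∀ P ∈ PP, P.Monic) (P : PP) : PP :=
  ⟨P.1.map φ, tau_mem φ hφ D hmon P.2⟩

theorem tau_tau (φ : K →+* K) (hφ : ∀ x, φ (φ x) = x) (D : FactorData K r b PP)
    (hmon : ∀ P ∈ PP, P.Monic) (P : PP) : tau φ hφ D hmon (tau φ hφ D hmon P) = P := by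
  apply Subtype.ext
  exact map_map_id φ hφ P.1

theorem starP_unique {P : K[X]} [Fact (Irreducible P)] {r : ℕ} (hr : 0 < r)
    (h : P ∣ (X ^ r - 1 : K[X])) (S : K[X]) (hS : S.Monic) (hSi : Irreducible S)
    (hdvd : P ∣ S.comp (X ^ (r - 1))) : S = starP P := by
  have h0 : aeval (AdjoinRoot.root P)⁻¹ S = 0 := by
    rw [root_inv_eq_pow hr h]
    have h1 : aeval (AdjoinRoot.root P) (S.comp (X ^ (r - 1))) = 0 := by
      rw [AdjoinRoot.aeval_eq, AdjoinRoot.mk_eq_zero]
      exact hdvd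
    rwa [aeval_comp, map_pow, aeval_X] at h1
  exact minpoly.eq_of_irreducible_of_monic hSi h0 hS

theorem starP_map (φ : K →+* K) (hφ : ∀ x, φ (φ x) = x) {P : K[X]} [Fact (Irreducible P)]
    [Fact (Irreducible (P.map φ))] {r : ℕ} (hr : 0 < r) (h : P ∣ (X ^ r - 1 : K[X])) :
    starP (P.map φ) = (starP P).map φ := by
  symm
  have hdvd' : P.map φ ∣ (X ^ r - 1 : K[X]) := by
    have := Polynomial.map_dvd φ h
    rwa [map_X_pow_sub_one] at this
  apply starP_unique hr hdvd' _ ((starP_monic P).map φ) (irreducible_map φ hφ (starP_irreducible P))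
  have h1 := Polynomial.map_dvd φ (dvd_starP_comp hr h)
  rwa [Polynomial.map_comp, Polynomial.map_pow, Polynomial.map_X] at h1

/-- the twisted star involution -/
noncomputable def sig (φ : K →+* K) (hφ : ∀ x, φ (φ x) = x) (D : FactorData K r b PP)
    (hmon : ∀ P ∈ PP, P.Monic) (P : PP) : PP :=
  D.star hmon (tau φ hφ D hmon P)

theorem sig_val (φ : K →+* K) (hφ : ∀ x, φ (φ x) = x) (D : FactorData K r b PP)
    (hmon : ∀ P ∈ PP, P.Monic) (hr : 0 < r) (P : PP) :
    ((sig φ hφ D hmon P : PP) : K[X]) = (@starP K _ P.1 ⟨D.irr P.1 P.2⟩).map φ := by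
  unfold sig
  rw [D.star_val]
  haveI : Fact (Irreducible P.1) := ⟨D.irr P.1 P.2⟩
  haveI : Fact (Irreducible (P.1.map φ)) := ⟨irreducible_map φ hφ (D.irr P.1 P.2)⟩
  exact starP_map φ hφ hr (D.dvd_of_mem P.2)

theorem sig_eq_tau_star (φ : K →+* K) (hφ : ∀ x, φ (φ x) = x) (D : FactorData K r b PP)
    (hmon : ∀ P ∈ PP, P.Monic) (hr : 0 < r) (P : PP) :
    sig φ hφ D hmon P = tau φ hφ D hmon (D.star hmon P) := by
  apply Subtype.ext
  rw [sig_val φ hφ D hmon hr]
  rfl

theorem sig_sig (φ : K →+* K) (hφ : ∀ x, φ (φ x) = x) (D : FactorData K r b PP)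
    (hmon : ∀ P ∈ PP, P.Monic) (hr : 0 < r) (P : PP) :
    sig φ hφ D hmon (sig φ hφ D hmon P) = P := by
  rw [sig_eq_tau_star φ hφ D hmon hr (sig φ hφ D hmon P)]
  unfold sig
  rw [D.star_star, tau_tau]

end sigma

end Cfsg.Agent.Lib.Helper51.UPrime
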