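import Mathlib
import Cfsg.Agent.Lib.Helper51.UPrime2
set_option autoImplicit false
set_option linter.unusedSectionVars false
set_option linter.unusedVariables false
set_option linter.style.haveILetI false

/-! Fixed points of the twisted star involution on the irreducible factors of `X^r - 1`
over the field with `q²` elements. -/

namespace Cfsg.Agent.Lib.Helper51.UPrime

open Matrix Polynomial Cfsg.Agent.Lib.Helper49 Cfsg.Agent.Lib.Helper51.URU
open Cfsg.Agent.Lib.Helper19 (pow_q_pow_q add_pow_q sum_pow_q q_pos one_lt_q frobQ frobQ_apply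
  frobQ_frobQ)

section roots
variable {K : Type*} [Field K] [Fintype K] {q : ℕ}

theorem exists_q_eq_pow (hK : Fintype.card K = q ^ 2) (p : ℕ) [Fact p.Prime] [CharP K p] :
    ∃ e : ℕ, q = p ^ e := by
  obtain ⟨n, hp, hn⟩ := FiniteField.card K p
  have h1 : q ∣ p ^ (n : ℕ) := by
    rw [← hn, hK]
    exact dvd_pow_self q (by norm_num)
  obtain ⟨e, -, he⟩ := (Nat.dvd_prime_pow hp).mp h1
  exact ⟨e, he⟩

/-- the `q`-th power of a root of `P` is a root of `P^φ` -/
theorem aeval_pow_q_map (hK : Fintype.card K = q ^ 2) (p : ℕ) [Fact p.Prime] [CharP K p]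
    {A : Type*} [CommRing A] [Algebra K A] [CharP A p] (P : K[X]) (x : A) :
    aeval (x ^ q) (P.map (frobQ hK)) = (aeval x P) ^ q := by
  obtain ⟨e, he⟩ := exists_q_eq_pow hK p
  haveI : ExpChar A p := ExpChar.prime Fact.out
  have h : (algebraMap K A).comp (frobQ hK) = (iterateFrobenius A p e).comp (algebraMap K A) := by
    ext c
    simp only [RingHom.comp_apply, iterateFrobenius_def, frobQ_apply, map_pow, he]
  have := Polynomial.map_aeval_eq_aeval_map h P x
  rw [iterateFrobenius_def, iterateFrobenius_def, ← he] at this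
  exact this.symm

/-- `starP Q` kills the inverse of any nonzero root of `Q` -/
theorem aeval_inv_starP {L : Type*} [Field L] [Algebra K L] (Q : K[X]) [Fact (Irreducible Q)]
    (x : L) (hx : aeval x Q = 0) : aeval x⁻¹ (starP Q) = 0 := by
  have h0 : eval₂ (↑(Algebra.ofId K L) : K →+* L) x Q = 0 := hx
  let f : AdjoinRoot Q →ₐ[K] L := AdjoinRoot.liftAlgHom Q (Algebra.ofId K L) x h0
  have hf : f (AdjoinRoot.root Q) = x := AdjoinRoot.liftAlgHom_root _ _ _ _
  have h1 := Polynomial.aeval_algHom_apply f (AdjoinRoot.root Q)⁻¹ (starP Q)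
  rw [aeval_root_inv_starP, map_zero, map_inv₀, hf] at h1
  exact h1

end roots

section fixed
variable {K : Type*} [Field K] [Fintype K] {q r b i : ℕ} {PP : Finset K[X]}

/-- the root of `P` has order exactly `r` -/
theorem pow_root_eq_one_iff (D : FactorData K r b PP) (hr : r.Prime) {P : K[X]}
    [Fact (Irreducible P)] (hP : P ∈ PP) (k : ℕ) :
    (AdjoinRoot.root P) ^ k = 1 ↔ r ∣ k := by
  haveI : Fact r.Prime := ⟨hr⟩
  have h1 := root_pow_eq_one (D.dvd_of_mem hP)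
  have h2 := root_ne_one (D.not_dvd_X_sub_one hP)
  have hord : orderOf (AdjoinRoot.root P) = r := orderOf_eq_prime h1 h2
  rw [← hord]
  exact (orderOf_dvd_iff_pow_eq_one).symm

theorem sig_eq_self_of_mod_four (hK : Fintype.card K = q ^ 2) (p : ℕ) [Fact p.Prime] [CharP K p]
    (D : FactorData K r b PP) (hmon : ∀ P ∈ PP, P.Monic) (hr : r.Prime)
    (hi : i = orderOf (q : ZMod r)) (hi4 : i % 4 = 2) (P : PP) :
    sig (frobQ hK) (frobQ_frobQ hK) D hmon P = P := by
  haveI : Fact r.Prime := ⟨hr⟩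
  haveI : Fact (Irreducible P.1) := ⟨D.irr P.1 P.2⟩
  haveI : Fact (Irreducible (P.1.map (frobQ hK))) :=
    ⟨irreducible_map (frobQ hK) (frobQ_frobQ hK) (D.irr P.1 P.2)⟩
  apply Subtype.ext
  unfold sig
  rw [D.star_val]
  change starP (P.1.map (frobQ hK)) = P.1
  obtain ⟨j, hj⟩ : ∃ j, i = 2 * j := ⟨i / 2, by omega⟩
  have hjodd : j % 2 = 1 := by omega
  obtain ⟨k, hk⟩ : ∃ k, j + 1 = 2 * k := ⟨(j + 1) / 2, by omega⟩
  set y : ZMod r := (q : ZMod r) ^ j with hy
  have hy2 : y * y = 1 := by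
    rw [hy, ← pow_add, ← two_mul, ← hj, hi]
    exact pow_orderOf_eq_one _
  have hy1 : y ≠ 1 := by
    rw [hy]
    apply pow_ne_one_of_lt_orderOf (by omega)
    rw [← hi]; omega
  have hyn : y = -1 := by
    rcases mul_self_eq_one_iff.mp hy2 with h1 | h1
    · exact absurd h1 hy1
    · exact h1
  have hdvd : r ∣ q ^ j + 1 := by
    rw [← ZMod.natCast_eq_zero_iff, Nat.cast_add, Nat.cast_pow, Nat.cast_one, ← hy, hyn]
    ring
  set ζ := AdjoinRoot.root P.1 with hζ
  have hζ0 : ζ ≠ 0 := root_ne_zero' hr.pos (D.dvd_of_mem P.2)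
  have h1 : ζ ^ (q ^ j + 1) = 1 := (pow_root_eq_one_iff D hr P.2 _).mpr hdvd
  have h2 : ζ⁻¹ = ζ ^ (q ^ j) := by
    apply inv_eq_of_mul_eq_one_right
    rw [← pow_succ']
    exact h1
  haveI : CharP (AdjoinRoot P.1) p :=
    charP_of_injective_algebraMap (algebraMap K (AdjoinRoot P.1)).injective p
  have h3 : aeval (ζ ^ q) (P.1.map (frobQ hK)) = 0 := by
    rw [aeval_pow_q_map hK p, hζ, AdjoinRoot.aeval_eq, AdjoinRoot.mk_self, zero_pow (q_pos hK).ne']
  have h4 : aeval (ζ ^ q)⁻¹ (starP (P.1.map (frobQ hK))) = 0 :=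
    aeval_inv_starP _ _ h3
  have h5 : (ζ ^ q)⁻¹ = ζ ^ (Fintype.card K ^ k) := by
    rw [← inv_pow, h2, ← pow_mul, ← pow_succ, hk, hK, ← pow_mul]
  have h6 : aeval (ζ ^ q)⁻¹ P.1 = 0 := by
    rw [h5, aeval_pow_card_pow, hζ, AdjoinRoot.aeval_eq, AdjoinRoot.mk_self, zero_pow]
    exact (pow_pos Fintype.card_pos k).ne'
  have e1 := minpoly.eq_of_irreducible_of_monic (starP_irreducible _) h4 (starP_monic _)
  have e2 := minpoly.eq_of_irreducible_of_monic (D.irr P.1 P.2) h6 (hmon P.1 P.2)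
  exact e1.trans e2.symm

theorem sig_ne_self (hK : Fintype.card K = q ^ 2) (p : ℕ) [Fact p.Prime] [CharP K p]
    (D : FactorData K r b PP) (hmon : ∀ P ∈ PP, P.Monic) (hr : r.Prime) (hr2 : r ≠ 2)
    (hi : i = orderOf (q : ZMod r)) (hi0 : 0 < i) (hi4 : i % 4 ≠ 2) (P : PP) :
    sig (frobQ hK) (frobQ_frobQ hK) D hmon P ≠ P := by
  haveI : Fact r.Prime := ⟨hr⟩
  haveI : Fact (Irreducible P.1) := ⟨D.irr P.1 P.2⟩
  haveI : Fact (Irreducible (P.1.map (frobQ hK))) :=
    ⟨irreducible_map (frobQ hK) (frobQ_frobQ hK) (D.irr P.1 P.2)⟩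
  intro hfix
  have hfix' : starP (P.1.map (frobQ hK)) = P.1 := by
    have := congrArg Subtype.val hfix
    unfold sig at this
    rw [D.star_val] at this
    exact this
  set ζ := AdjoinRoot.root P.1 with hζ
  have hζ0 : ζ ≠ 0 := root_ne_zero' hr.pos (D.dvd_of_mem P.2)
  haveI : CharP (AdjoinRoot P.1) p :=
    charP_of_injective_algebraMap (algebraMap K (AdjoinRoot P.1)).injective p
  have h3 : aeval (ζ ^ q) (P.1.map (frobQ hK)) = 0 := by
    rw [aeval_pow_q_map hK p, hζ, AdjoinRoot.aeval_eq, AdjoinRoot.mk_self, zero_pow (q_pos hK).ne']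
  have h4 : aeval (ζ ^ q)⁻¹ P.1 = 0 := by
    have := aeval_inv_starP _ _ h3
    rwa [hfix'] at this
  have h0 : eval₂ (↑(Algebra.ofId K (AdjoinRoot P.1)) : K →+* AdjoinRoot P.1) (ζ ^ q)⁻¹ P.1 = 0 := h4
  let ρ : AdjoinRoot P.1 →ₐ[K] AdjoinRoot P.1 :=
    AdjoinRoot.liftAlgHom P.1 (Algebra.ofId K (AdjoinRoot P.1)) (ζ ^ q)⁻¹ h0
  have hρ : ρ ζ = (ζ ^ q)⁻¹ := AdjoinRoot.liftAlgHom_root _ _ _ _
  haveI := finite_adjoinRoot_of_irreducible P.1
  haveI : Finite (AdjoinRoot P.1) := Module.finite_of_finite K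
  obtain ⟨c, hc⟩ := (FiniteField.bijective_frobeniusAlgHom_pow K (AdjoinRoot P.1)).2 ρ
  have hc' : ρ ζ = ζ ^ (Fintype.card K ^ (c : ℕ)) := by
    have h := congrArg (fun f : AdjoinRoot P.1 →ₐ[K] AdjoinRoot P.1 => f ζ) hc
    simp only [AlgHom.coe_pow, FiniteField.coe_frobeniusAlgHom, pow_iterate] at h
    exact h.symm
  rw [hρ] at hc'
  have h5 : ζ ^ (q + (q ^ 2) ^ (c : ℕ)) = 1 := by
    rw [pow_add, ← hK, ← hc', mul_inv_cancel₀ (pow_ne_zero _ hζ0)]
  have h6 : r ∣ q + (q ^ 2) ^ (c : ℕ) := (pow_root_eq_one_iff D hr P.2 _).mp h5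
  -- arithmetic in `ZMod r`
  set Q : ZMod r := (q : ZMod r) with hQ
  have h7 : Q + Q ^ (2 * (c : ℕ)) = 0 := by
    have := (ZMod.natCast_eq_zero_iff _ _).mpr h6
    rw [Nat.cast_add, Nat.cast_pow, Nat.cast_pow, ← pow_mul] at this
    exact this
  have hQi : Q ^ i = 1 := by rw [hi]; exact pow_orderOf_eq_one _
  set m' := 2 * (c : ℕ) + (i - 1) with hm'
  have h8 : Q ^ m' = -1 := by
    rw [hm', pow_add]
    have : Q ^ (2 * (c : ℕ)) = -Q := by linear_combination h7
    rw [this, neg_mul, ← pow_succ', Nat.sub_add_cancel hi0, hQi]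
  have hne : (-1 : ZMod r) ≠ 1 := by
    intro h
    have h2 : (2 : ZMod r) = 0 := by linear_combination -h
    have h3 : ((2 : ℕ) : ZMod r) = 0 := by exact_mod_cast h2
    rw [ZMod.natCast_eq_zero_iff] at h3
    exact hr2 ((Nat.prime_dvd_prime_iff_eq hr Nat.prime_two).mp h3)
  have h9 : ¬ i ∣ m' := by
    intro hdvd
    have h : orderOf Q ∣ m' := by rw [← hi]; exact hdvd
    rw [orderOf_dvd_iff_pow_eq_one, h8] at h
    exact hne h
  have h10 : i ∣ 2 * m' := by
    have h : Q ^ (2 * m') = 1 := by rw [mul_comm, pow_mul, h8, neg_one_sq]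
    have h' : orderOf Q ∣ 2 * m' := orderOf_dvd_of_pow_eq_one h
    rwa [← hi] at h'
  rcases Nat.even_or_odd i with hev | hodd
  · obtain ⟨j, hj⟩ := hev
    have hj2 : i = 2 * j := by omega
    rw [hj2] at h10
    have h11 : j ∣ m' := Nat.dvd_of_mul_dvd_mul_left (by norm_num) h10
    have hm'odd : m' % 2 = 1 := by omega
    obtain ⟨t, ht⟩ := h11
    have hjodd : j % 2 = 1 := by
      by_contra hcon
      have hje : j % 2 = 0 := by omega
      have : m' % 2 = 0 := by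
        rw [ht, Nat.mul_mod, hje, zero_mul, Nat.zero_mod]
      omega
      
    omega
  · have hcop : Nat.Coprime i 2 := Nat.coprime_two_right.mpr hodd
    exact h9 (Nat.Coprime.dvd_of_dvd_mul_left hcop h10)

end fixed

end Cfsg.Agent.Lib.Helper51.UPrime
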