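import Mathlib
import Cfsg.Agent.Lib.Helper51.UPrime3
import Cfsg.Agent.S2587
set_option autoImplicit false
set_option linter.unusedSectionVars false
set_option linter.unusedVariables false
set_option linter.style.haveILetI false

/-! Elements of order dividing `r` in `GU_n(q)`: invariance of the kernel dimensions under the
twisted star, realisation of invariant profiles, and conjugacy. -/

namespace Cfsg.Agent.Lib.Helper51.UPrime

open Matrix Polynomial Cfsg.Agent.Lib.Helper49 Cfsg.Agent.Lib.Helper51.URU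
open Cfsg.Agent.Lib.Helper19 (pow_q_pow_q add_pow_q sum_pow_q q_pos one_lt_q frobQ frobQ_apply
  frobQ_frobQ)

section GUfacts
variable {K : Type*} [Field K] [Fintype K] {q r b n : ℕ} {PP : Finset K[X]}

/-- the kernel dimensions of the inverse conjugate transpose -/
theorem kdim_cstar_inv (hK : Fintype.card K = q ^ 2) (D : FactorData K r b PP)
    (hmon : ∀ P ∈ PP, P.Monic) (hr : 2 ≤ r) (M : Matrix (Fin n) (Fin n) K) (hM : M ^ r = 1)
    (P : PP) :
    kdim (Matrix.toLin' (cstar (frobQ hK) M)⁻¹) (P : K[X]) =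
      kdim (Matrix.toLin' M) (sig (frobQ hK) (frobQ_frobQ hK) D hmon P : K[X]) := by
  haveI : Fact (Irreducible P.1) := ⟨D.irr P.1 P.2⟩
  set C := cstar (frobQ hK) M with hC
  have hCr : C ^ r = 1 := by rw [hC, ← cstar_pow, hM, cstar_one]
  have hCinv : C⁻¹ = C ^ (r - 1) := by
    apply Matrix.inv_eq_right_inv
    rw [← pow_succ', Nat.sub_add_cancel (by omega), hCr]
  have hLr : (Matrix.toLin' C) ^ r = 1 := by
    rw [← Matrix.toLin'_pow, hCr, Matrix.toLin'_one]; rfl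
  have h1 := kdim_pow_pred_eq (P := P.1) (Matrix.toLin' C) hr hLr (hmon P.1 P.2)
    (D.dvd_of_mem P.2)
  rw [hCinv, Matrix.toLin'_pow, h1, hC, kdim_cstar (frobQ hK) (frobQ_frobQ hK),
    sig_val (frobQ hK) (frobQ_frobQ hK) D hmon (by omega)]

theorem GU_coe_pow_eq_one (g : ↥(Cfsg.GU n K q)) (r : ℕ) (h : g ^ r = 1) :
    ((g : GL (Fin n) K) : Matrix (Fin n) (Fin n) K) ^ r = 1 := by
  have h1 := congrArg (fun y : ↥(Cfsg.GU n K q) =>
    ((y : GL (Fin n) K) : Matrix (Fin n) (Fin n) K)) h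
  simpa using h1

/-- the kernel dimensions of a unitary element of order dividing `r` are invariant -/
theorem kdim_sig_GU (hK : Fintype.card K = q ^ 2) (D : FactorData K r b PP)
    (hmon : ∀ P ∈ PP, P.Monic) (hr : 2 ≤ r) (g : ↥(Cfsg.GU n K q)) (hg : g ^ r = 1) (P : PP) :
    kdim (Matrix.toLin' ((g : GL (Fin n) K) : Matrix (Fin n) (Fin n) K))
        (sig (frobQ hK) (frobQ_frobQ hK) D hmon P : K[X]) =
      kdim (Matrix.toLin' ((g : GL (Fin n) K) : Matrix (Fin n) (Fin n) K)) (P : K[X]) := by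
  have hU := (mem_GU_iff_cstar hK (g : GL (Fin n) K)).mp g.2
  have hinv : (cstar (frobQ hK) ((g : GL (Fin n) K) : Matrix (Fin n) (Fin n) K))⁻¹ =
      ((g : GL (Fin n) K) : Matrix (Fin n) (Fin n) K) := Matrix.inv_eq_right_inv hU
  have := kdim_cstar_inv hK D hmon hr _ (GU_coe_pow_eq_one g r hg) P
  rw [hinv] at this
  exact this.symm

theorem GU_sum_le (D : FactorData K r b PP) (g : ↥(Cfsg.GU n K q)) (hg : g ^ r = 1) :
    ∑ P : PP, kdim (Matrix.toLin' ((g : GL (Fin n) K) : Matrix (Fin n) (Fin n) K)) (P : K[X]) ≤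
      n := by
  have h1 := D.finrank_eq _ (aeval_toLin'_of_pow_eq_one _ r (GU_coe_pow_eq_one g r hg))
  rw [Module.finrank_fintype_fun_eq_card, Fintype.card_fin] at h1
  have h3 : ∑ P : PP, kdim (Matrix.toLin' ((g : GL (Fin n) K) : Matrix (Fin n) (Fin n) K))
      (P : K[X]) =
      ∑ P ∈ PP, kdim (Matrix.toLin' ((g : GL (Fin n) K) : Matrix (Fin n) (Fin n) K)) P :=
    Finset.sum_coe_sort PP
      (fun P => kdim (Matrix.toLin' ((g : GL (Fin n) K) : Matrix (Fin n) (Fin n) K)) P)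
  omega

theorem GU_eq_one_iff (D : FactorData K r b PP) (g : ↥(Cfsg.GU n K q)) (hg : g ^ r = 1) :
    g = 1 ↔ ∀ P : PP,
      kdim (Matrix.toLin' ((g : GL (Fin n) K) : Matrix (Fin n) (Fin n) K)) (P : K[X]) = 0 := by
  have h0 : g = 1 ↔ ((g : GL (Fin n) K) : Matrix (Fin n) (Fin n) K) = 1 := by
    constructor
    · rintro rfl; rfl
    · intro h
      apply Subtype.ext
      apply Units.ext
      exact h
  rw [h0, ← Matrix.toLin'.injective.eq_iff, Matrix.toLin'_one]
  have := D.eq_one_iff (Matrix.toLin' ((g : GL (Fin n) K) : Matrix (Fin n) (Fin n) K))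
    (aeval_toLin'_of_pow_eq_one _ r (GU_coe_pow_eq_one g r hg))
  have h1 : (LinearMap.id : (Fin n → K) →ₗ[K] (Fin n → K)) = 1 := rfl
  rw [h1, this]
  exact ⟨fun h P => h P P.2, fun h P hP => h ⟨P, hP⟩⟩

/-- unitary elements of order dividing `r` with the same kernel dimensions are conjugate -/
theorem GU_isConj (hK : Fintype.card K = q ^ 2) (D : FactorData K r b PP)
    (g g' : ↥(Cfsg.GU n K q)) (hg : g ^ r = 1) (hg' : g' ^ r = 1)
    (hk : ∀ P ∈ PP, kdim (Matrix.toLin' ((g : GL (Fin n) K) : Matrix (Fin n) (Fin n) K)) P =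
      kdim (Matrix.toLin' ((g' : GL (Fin n) K) : Matrix (Fin n) (Fin n) K)) P) : IsConj g g' := by
  obtain ⟨e, he⟩ := D.exists_equiv
    (Matrix.toLin' ((g : GL (Fin n) K) : Matrix (Fin n) (Fin n) K))
    (Matrix.toLin' ((g' : GL (Fin n) K) : Matrix (Fin n) (Fin n) K))
    (aeval_toLin'_of_pow_eq_one _ r (GU_coe_pow_eq_one g r hg))
    (aeval_toLin'_of_pow_eq_one _ r (GU_coe_pow_eq_one g' r hg')) rfl hk
  exact (Cfsg.Agent.S2587.result hK g g').mpr (isConj_of_equiv _ _ e he)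

/-- realisation of an invariant profile in the unitary group -/
theorem exists_GU_realize (hK : Fintype.card K = q ^ 2) (D : FactorData K r b PP)
    (hmon : ∀ P ∈ PP, P.Monic) (hr : 2 ≤ r) (n : ℕ) (a : PP → ℕ)
    (hinv : ∀ P, a (sig (frobQ hK) (frobQ_frobQ hK) D hmon P) = a P)
    (ha : b * ∑ P, a P ≤ n) :
    ∃ g : ↥(Cfsg.GU n K q), g ^ r = 1 ∧ ∀ P : PP,
      kdim (Matrix.toLin' ((g : GL (Fin n) K) : Matrix (Fin n) (Fin n) K)) (P : K[X]) =
        b * a P := by
  classical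
  obtain ⟨G, hG1, hG2, -⟩ := D.exists_model hmon (Fin n) n (Fintype.card_fin n) a ha
  have hr0 : 0 < r := by omega
  have hGinv : G * G ^ (r - 1) = 1 := by rw [← pow_succ', Nat.sub_add_cancel hr0, hG1]
  have hGinv' : G ^ (r - 1) * G = 1 := by rw [← pow_succ, Nat.sub_add_cancel hr0, hG1]
  let GG : GL (Fin n) K := ⟨G, G ^ (r - 1), hGinv, hGinv'⟩
  have hGG : (GG : Matrix (Fin n) (Fin n) K) = G := rfl
  set G' : Matrix (Fin n) (Fin n) K := (cstar (frobQ hK) G)⁻¹ with hG'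
  have hG'r : G' ^ r = 1 := by
    rw [hG', Matrix.inv_pow', ← cstar_pow, hG1, cstar_one, inv_one]
  have hG'inv : G' * G' ^ (r - 1) = 1 := by rw [← pow_succ', Nat.sub_add_cancel hr0, hG'r]
  have hG'inv' : G' ^ (r - 1) * G' = 1 := by rw [← pow_succ, Nat.sub_add_cancel hr0, hG'r]
  let GG' : GL (Fin n) K := ⟨G', G' ^ (r - 1), hG'inv, hG'inv'⟩
  have hk : ∀ P ∈ PP, kdim (Matrix.toLin' G) P = kdim (Matrix.toLin' G') P := by
    intro P hP
    have h1 := kdim_cstar_inv hK D hmon hr G hG1 ⟨P, hP⟩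
    rw [hG2, hinv] at h1
    rw [hG', h1]
    exact hG2 ⟨P, hP⟩
  obtain ⟨e, he⟩ := D.exists_equiv (Matrix.toLin' G) (Matrix.toLin' G')
    (aeval_toLin'_of_pow_eq_one _ r hG1) (aeval_toLin'_of_pow_eq_one _ r hG'r) rfl hk
  have hconjGL : IsConj GG GG' := isConj_of_equiv GG GG' e he
  obtain ⟨c, hc⟩ := isConj_iff.mp hconjGL
  rw [mul_inv_eq_iff_eq_mul] at hc
  have hc' : (c : Matrix (Fin n) (Fin n) K) * G = G' * (c : Matrix (Fin n) (Fin n) K) :=
    congrArg (fun x : GL (Fin n) K => (x : Matrix (Fin n) (Fin n) K)) hc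
  have hmap : ((GG : Matrix (Fin n) (Fin n) K).map (fun x : K => x ^ q)).transpose =
      cstar (frobQ hK) G := by
    unfold cstar
    rw [hGG]
    have : (fun x : K => x ^ q) = ⇑(frobQ hK) := funext (fun x => (frobQ_apply hK x).symm)
    rw [this]
  have hconj : IsConj (GG : Matrix (Fin n) (Fin n) K)
      (((GG : Matrix (Fin n) (Fin n) K).map (fun x : K => x ^ q)).transpose)⁻¹ := by
    rw [hmap]
    exact ⟨c, hc'⟩
  obtain ⟨B, hB⟩ := (Cfsg.Agent.S2588.result hK GG).mpr hconj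
  have hBr : B ^ r = 1 := by
    obtain ⟨d, hd⟩ := isConj_iff.mp hB
    apply Subtype.ext
    rw [SubgroupClass.coe_pow, ← hd, conj_pow]
    have : GG ^ r = 1 := by
      apply Units.ext
      rw [Units.val_pow_eq_pow_val, hGG, hG1]
      rfl
    rw [this, mul_one, mul_inv_cancel]
    rfl
  refine ⟨B, hBr, fun P => ?_⟩
  rw [← kdim_eq_of_isConj GG (B : GL (Fin n) K) hB, hGG]
  exact hG2 P

end GUfacts

end Cfsg.Agent.Lib.Helper51.UPrime
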