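import Mathlib
import Cfsg.Agent.Lib.Helper51.UPrime4
import Cfsg.Agent.Lib.Helper49.Transversal
set_option autoImplicit false
set_option linter.unusedSectionVars false
set_option linter.unusedVariables false
set_option linter.style.haveILetI false

/-! Counting the classes of elements of prime order `r` in `GU_n(q)`. -/

namespace Cfsg.Agent.Lib.Helper51.UPrime

open Matrix Polynomial Cfsg.Agent.Lib.Helper49 Cfsg.Agent.Lib.Helper51.URU
open Cfsg.Agent.Lib.Helper19 (pow_q_pow_q add_pow_q sum_pow_q q_pos one_lt_q frobQ frobQ_apply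
  frobQ_frobQ)

section CountFixed
variable {K : Type*} [Field K] [Fintype K] {q r b : ℕ} {PP : Finset K[X]}

theorem card_classes_GU_fixed (hK : Fintype.card K = q ^ 2) (D : FactorData K r b PP)
    (hmon : ∀ P ∈ PP, P.Monic) (hr : r.Prime)
    (hfix : ∀ P : PP, sig (frobQ hK) (frobQ_frobQ hK) D hmon P = P) (n : ℕ) :
    Nat.card {C : ConjClasses ↥(Cfsg.GU n K q) //
      ∃ g : ↥(Cfsg.GU n K q), ConjClasses.mk g = C ∧ orderOf g = r} =
      Nat.choose (n / b + PP.card) PP.card - 1 := by
  classical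
  haveI : Fact r.Prime := ⟨hr⟩
  let S := {C : ConjClasses ↥(Cfsg.GU n K q) //
      ∃ g : ↥(Cfsg.GU n K q), ConjClasses.mk g = C ∧ orderOf g = r}
  let T := {a : PP → ℕ // ∑ P, a P ≤ n / b ∧ a ≠ 0}
  have hex : ∀ C : S, ∃ g : ↥(Cfsg.GU n K q),
      ConjClasses.mk g = C.1 ∧ orderOf g = r := fun C => C.2
  choose rep hrep hord using hex
  have hpow : ∀ C : S, (rep C) ^ r = 1 := fun C => by rw [← hord C]; exact pow_orderOf_eq_one _
  let κ : ↥(Cfsg.GU n K q) → PP → ℕ := fun g P =>
    kdim (Matrix.toLin' ((g : GL (Fin n) K) : Matrix (Fin n) (Fin n) K)) (P : K[X])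
  have hκdvd : ∀ g P, b ∣ κ g P := fun g P => D.dvd_kdim _ P.2
  have hb1 := D.hi
  have hκsum : ∀ g : ↥(Cfsg.GU n K q), g ^ r = 1 → b * ∑ P, κ g P / b ≤ n := by
    intro g hg
    rw [Finset.mul_sum]
    have h2 : ∑ P : PP, b * (κ g P / b) = ∑ P : PP, κ g P :=
      Finset.sum_congr rfl (fun P _ => Nat.mul_div_cancel' (hκdvd g P))
    rw [h2]
    exact GU_sum_le D g hg
  have hT : ∀ C : S, ∑ P, κ (rep C) P / b ≤ n / b ∧ (fun P => κ (rep C) P / b) ≠ 0 := by
    intro C
    refine ⟨(Nat.le_div_iff_mul_le hb1).mpr (by rw [mul_comm]; exact hκsum _ (hpow C)), ?_⟩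
    intro h0
    have h1 : rep C = 1 := by
      rw [GU_eq_one_iff D _ (hpow C)]
      intro P
      have := congrFun h0 P
      simp only [Pi.zero_apply] at this
      obtain ⟨c, hc⟩ := hκdvd (rep C) P
      rw [hc, Nat.mul_div_cancel_left _ hb1] at this
      show κ (rep C) P = 0
      rw [hc, this, mul_zero]
    have h2 := hord C
    rw [h1, orderOf_one] at h2
    exact hr.one_lt.ne h2
  let f : S → T := fun C => ⟨fun P => κ (rep C) P / b, hT C⟩
  have hbij : Function.Bijective f := by
    constructor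
    · intro C C' h
      have h0 : (fun P => κ (rep C) P / b) = (fun P => κ (rep C') P / b) := congrArg Subtype.val h
      have h1 : ∀ P ∈ PP,
          kdim (Matrix.toLin' (((rep C) : GL (Fin n) K) : Matrix (Fin n) (Fin n) K)) P =
          kdim (Matrix.toLin' (((rep C') : GL (Fin n) K) : Matrix (Fin n) (Fin n) K)) P := by
        intro P hP
        have := congrFun h0 ⟨P, hP⟩
        beta_reduce at this
        have e1 := Nat.mul_div_cancel' (hκdvd (rep C) ⟨P, hP⟩)
        have e2 := Nat.mul_div_cancel' (hκdvd (rep C') ⟨P, hP⟩)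
        rw [this] at e1
        exact e1.symm.trans e2
      apply Subtype.ext
      rw [← hrep C, ← hrep C']
      exact ConjClasses.mk_eq_mk_iff_isConj.mpr (GU_isConj hK D _ _ (hpow C) (hpow C') h1)
    · rintro ⟨a, ha1, ha2⟩
      have ha1' : b * ∑ P, a P ≤ n := by
        rw [mul_comm]; exact (Nat.le_div_iff_mul_le hb1).mp ha1
      obtain ⟨g, hg, hκ⟩ := exists_GU_realize hK D hmon hr.two_le n a
        (fun P => by rw [hfix P]) ha1'
      have hg1 : g ≠ 1 := by
        intro h1
        apply ha2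
        funext P
        have := (GU_eq_one_iff D g hg).mp h1 P
        rw [hκ P] at this
        rcases Nat.mul_eq_zero.mp this with h | h
        · omega
        · exact h
      have hgr : orderOf g = r := orderOf_eq_prime hg hg1
      let C : S := ⟨ConjClasses.mk g, g, rfl, hgr⟩
      refine ⟨C, ?_⟩
      apply Subtype.ext
      funext P
      have h1 : IsConj (rep C) g := ConjClasses.mk_eq_mk_iff_isConj.mp (hrep C)
      have h2 : κ (rep C) P = κ g P :=
        kdim_eq_of_isConj _ _ ((Cfsg.Agent.S2587.result hK _ _).mp h1) _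
      have h3 : κ g P = b * a P := hκ P
      change κ (rep C) P / b = a P
      rw [h2, h3, Nat.mul_div_cancel_left _ hb1]
  rw [Nat.card_eq_of_bijective f hbij, card_sumLe_ne_zero, Fintype.card_coe]

end CountFixed

section CountFree
variable {K : Type*} [Field K] [Fintype K] {q r b : ℕ} {PP : Finset K[X]}

theorem card_classes_GU_free (hK : Fintype.card K = q ^ 2) (D : FactorData K r b PP)
    (hmon : ∀ P ∈ PP, P.Monic) (hr : r.Prime)
    (hne : ∀ P : PP, sig (frobQ hK) (frobQ_frobQ hK) D hmon P ≠ P) (n : ℕ) :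
    Nat.card {C : ConjClasses ↥(Cfsg.GU n K q) //
      ∃ g : ↥(Cfsg.GU n K q), ConjClasses.mk g = C ∧ orderOf g = r} =
      Nat.choose (n / (2 * b) + PP.card / 2) (PP.card / 2) - 1 := by
  classical
  haveI : Fact r.Prime := ⟨hr⟩
  set σ := sig (frobQ hK) (frobQ_frobQ hK) D hmon with hσdef
  have hσ : ∀ P : PP, σ (σ P) = P := sig_sig (frobQ hK) (frobQ_frobQ hK) D hmon hr.pos
  let R := Transv σ
  let S := {C : ConjClasses ↥(Cfsg.GU n K q) //
      ∃ g : ↥(Cfsg.GU n K q), ConjClasses.mk g = C ∧ orderOf g = r}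
  let T := {a : R → ℕ // ∑ Q, a Q ≤ n / (2 * b) ∧ a ≠ 0}
  have hex : ∀ C : S, ∃ g : ↥(Cfsg.GU n K q),
      ConjClasses.mk g = C.1 ∧ orderOf g = r := fun C => C.2
  choose rep hrep hord using hex
  have hpow : ∀ C : S, (rep C) ^ r = 1 := fun C => by rw [← hord C]; exact pow_orderOf_eq_one _
  let κ : ↥(Cfsg.GU n K q) → PP → ℕ := fun g P =>
    kdim (Matrix.toLin' ((g : GL (Fin n) K) : Matrix (Fin n) (Fin n) K)) (P : K[X])
  have hκdvd : ∀ g P, b ∣ κ g P := fun g P => D.dvd_kdim _ P.2
  have hb1 := D.hi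
  have h2b : 0 < 2 * b := by omega
  have hκstar : ∀ g : ↥(Cfsg.GU n K q), g ^ r = 1 → ∀ P,
      κ g (σ P) = κ g P := fun g hg P => kdim_sig_GU hK D hmon hr.two_le g hg P
  have hκsum : ∀ g : ↥(Cfsg.GU n K q), g ^ r = 1 →
      (2 * b) * ∑ Q : R, κ g Q.1 / b ≤ n := by
    intro g hg
    rw [mul_assoc, Finset.mul_sum]
    have h2 : ∑ Q : R, b * (κ g Q.1 / b) = ∑ Q : R, κ g Q.1 :=
      Finset.sum_congr rfl (fun Q _ => Nat.mul_div_cancel' (hκdvd g Q.1))
    rw [h2]
    have h3 := GU_sum_le D g hg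
    have h4 := sum_transv hσ hne (fun P => κ g P)
    have h5 : ∑ Q : R, (κ g Q.1 + κ g (σ Q.1)) = 2 * ∑ Q : R, κ g Q.1 := by
      rw [Finset.mul_sum]
      apply Finset.sum_congr rfl
      intro Q _
      rw [hκstar g hg]; ring
    have h6 : ∑ P : PP, κ g P ≤ n := h3
    rw [h4, h5] at h6
    exact h6
  have hzero : ∀ g : ↥(Cfsg.GU n K q), g ^ r = 1 →
      (∀ Q : R, κ g Q.1 = 0) → g = 1 := by
    intro g hg h0
    rw [GU_eq_one_iff D g hg]
    intro P
    have h1 := (transvEquiv hσ hne).apply_symm_apply P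
    rcases hx : (transvEquiv hσ hne).symm P with Q | Q
    · rw [hx, transvEquiv_inl] at h1
      rw [← h1]; exact h0 Q
    · rw [hx, transvEquiv_inr] at h1
      rw [← h1]
      show κ g (σ Q.1) = 0
      rw [hκstar g hg]; exact h0 Q
  have hT : ∀ C : S, ∑ Q : R, κ (rep C) Q.1 / b ≤ n / (2 * b) ∧
      (fun Q : R => κ (rep C) Q.1 / b) ≠ 0 := by
    intro C
    refine ⟨(Nat.le_div_iff_mul_le h2b).mpr (by rw [mul_comm]; exact hκsum _ (hpow C)), ?_⟩
    intro h0
    have h1 : rep C = 1 := by
      apply hzero _ (hpow C)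
      intro Q
      have := congrFun h0 Q
      simp only [Pi.zero_apply] at this
      obtain ⟨c, hc⟩ := hκdvd (rep C) Q.1
      rw [hc, Nat.mul_div_cancel_left _ hb1] at this
      rw [hc, this, mul_zero]
    have h2 := hord C
    rw [h1, orderOf_one] at h2
    exact hr.one_lt.ne h2
  let f : S → T := fun C => ⟨fun Q => κ (rep C) Q.1 / b, hT C⟩
  have hbij : Function.Bijective f := by
    constructor
    · intro C C' h
      have h0 : (fun Q : R => κ (rep C) Q.1 / b) = (fun Q : R => κ (rep C') Q.1 / b) :=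
        congrArg Subtype.val h
      have hR : ∀ Q : R, κ (rep C) Q.1 = κ (rep C') Q.1 := by
        intro Q
        have := congrFun h0 Q
        beta_reduce at this
        have e1 := Nat.mul_div_cancel' (hκdvd (rep C) Q.1)
        have e2 := Nat.mul_div_cancel' (hκdvd (rep C') Q.1)
        rw [this] at e1
        exact e1.symm.trans e2
      have h1 : ∀ P ∈ PP,
          kdim (Matrix.toLin' (((rep C) : GL (Fin n) K) : Matrix (Fin n) (Fin n) K)) P =
          kdim (Matrix.toLin' (((rep C') : GL (Fin n) K) : Matrix (Fin n) (Fin n) K)) P := by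
        intro P hP
        show κ (rep C) ⟨P, hP⟩ = κ (rep C') ⟨P, hP⟩
        have h1 := (transvEquiv hσ hne).apply_symm_apply ⟨P, hP⟩
        rcases hx : (transvEquiv hσ hne).symm ⟨P, hP⟩ with Q | Q
        · rw [hx, transvEquiv_inl] at h1
          rw [← h1]; exact hR Q
        · rw [hx, transvEquiv_inr] at h1
          rw [← h1, hκstar _ (hpow C), hκstar _ (hpow C')]; exact hR Q
      apply Subtype.ext
      rw [← hrep C, ← hrep C']
      exact ConjClasses.mk_eq_mk_iff_isConj.mpr (GU_isConj hK D _ _ (hpow C) (hpow C') h1)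
    · rintro ⟨a, ha1, ha2⟩
      let a' : PP → ℕ := fun P => Sum.elim a a ((transvEquiv hσ hne).symm P)
      have ha'1 : ∀ Q : R, a' Q.1 = a Q := by
        intro Q
        show Sum.elim a a ((transvEquiv hσ hne).symm Q.1) = a Q
        rw [← transvEquiv_inl hσ hne Q, Equiv.symm_apply_apply]; rfl
      have ha'2 : ∀ Q : R, a' (σ Q.1) = a Q := by
        intro Q
        show Sum.elim a a ((transvEquiv hσ hne).symm (σ Q.1)) = a Q
        rw [← transvEquiv_inr hσ hne Q, Equiv.symm_apply_apply]; rfl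
      have ha'inv : ∀ P : PP, a' (σ P) = a' P := by
        intro P
        have h1 := (transvEquiv hσ hne).apply_symm_apply P
        rcases hx : (transvEquiv hσ hne).symm P with Q | Q
        · rw [hx, transvEquiv_inl] at h1
          rw [← h1, ha'1, ha'2]
        · rw [hx, transvEquiv_inr] at h1
          rw [← h1, hσ, ha'1, ha'2]
      have hsum' : ∑ P, a' P = 2 * ∑ Q : R, a Q := by
        rw [sum_transv hσ hne a', Finset.mul_sum]
        apply Finset.sum_congr rfl
        intro Q _
        rw [ha'1, ha'2]; ring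
      have ha1' : b * ∑ P, a' P ≤ n := by
        have := (Nat.le_div_iff_mul_le h2b).mp ha1
        rw [hsum']
        calc b * (2 * ∑ Q : R, a Q) = (∑ Q : R, a Q) * (2 * b) := by ring
          _ ≤ n := this
      obtain ⟨g, hg, hκ⟩ := exists_GU_realize hK D hmon hr.two_le n a' ha'inv ha1'
      have hg1 : g ≠ 1 := by
        intro h1
        apply ha2
        funext Q
        have := (GU_eq_one_iff D g hg).mp h1 Q.1
        rw [hκ Q.1, ha'1] at this
        rcases Nat.mul_eq_zero.mp this with h | h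
        · omega
        · exact h
      have hgr : orderOf g = r := orderOf_eq_prime hg hg1
      let C : S := ⟨ConjClasses.mk g, g, rfl, hgr⟩
      refine ⟨C, ?_⟩
      apply Subtype.ext
      funext Q
      have h1 : IsConj (rep C) g := ConjClasses.mk_eq_mk_iff_isConj.mp (hrep C)
      have h2 : κ (rep C) Q.1 = κ g Q.1 :=
        kdim_eq_of_isConj _ _ ((Cfsg.Agent.S2587.result hK _ _).mp h1) _
      have h3 : κ g Q.1 = b * a Q := by
        show kdim _ _ = _
        rw [hκ Q.1, ha'1]
      change κ (rep C) Q.1 / b = a Q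
      rw [h2, h3, Nat.mul_div_cancel_left _ hb1]
  have hcardR : Fintype.card R = PP.card / 2 := by
    have h1 : Fintype.card PP = 2 * Fintype.card R := card_transv hσ hne
    rw [Fintype.card_coe] at h1
    omega
  rw [Nat.card_eq_of_bijective f hbij, card_sumLe_ne_zero, hcardR]

end CountFree

end Cfsg.Agent.Lib.Helper51.UPrime
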