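import Mathlib
import Cfsg.Agent.Lib.Helper51.UPrime5
set_option autoImplicit false
set_option linter.unusedSectionVars false
set_option linter.unusedVariables false
set_option linter.style.haveILetI false

/-! The factorisation data of `X^r - 1` over a finite field (after helper49's S2568), and the
class count for elements of prime order in `GU_n(q)`. -/

namespace Cfsg.Agent.Lib.Helper51.UPrime

open Matrix Polynomial UniqueFactorizationMonoid Cfsg.Agent.Lib.Helper49
open Cfsg.Agent.Lib.Helper19 (frobQ frobQ_apply frobQ_frobQ)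

theorem factorDataU {F : Type*} [Field F] [Fintype F] [DecidableEq F] {p f : ℕ} [Fact p.Prime]
    (hK : Fintype.card F = p ^ f) (r i : ℕ) [Fact r.Prime] (hrp : r ≠ p)
    (hi : i = orderOf ((p ^ f : ℕ) : ZMod r)) :
    FactorData F r i (normalizedFactors (cyclotomic r F)).toFinset := by
  have hr : r.Prime := Fact.out
  have hp : p.Prime := Fact.out
  have hn : p.Coprime r := (Nat.coprime_primes hp hr).mpr (Ne.symm hrp)
  haveI : CharP F p := charP_of_card_eq_prime_pow hK
  have hrF : (r : F) ≠ 0 := by
    intro h0
    rw [CharP.cast_eq_zero_iff F p] at h0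
    exact hrp ((Nat.prime_dvd_prime_iff_eq hp hr).mp h0).symm
  haveI : NeZero (r : F) := ⟨hrF⟩
  have hord : orderOf (ZMod.unitOfCoprime _ (hn.pow_left f)) = i := by
    rw [hi, ← orderOf_units, ZMod.coe_unitOfCoprime]
  have hΦ0 : cyclotomic r F ≠ 0 := cyclotomic_ne_zero r F
  have hmonic : ∀ P ∈ normalizedFactors (cyclotomic r F), P.Monic := by
    intro P hP
    rw [← normalize_normalized_factor P hP]
    exact monic_normalize (irreducible_of_normalized_factor P hP).ne_zero
  have hnd : (normalizedFactors (cyclotomic r F)).Nodup :=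
    (squarefree_iff_nodup_normalizedFactors hΦ0).mp (squarefree_cyclotomic r F)
  have hprod : ∏ P ∈ (normalizedFactors (cyclotomic r F)).toFinset, P = cyclotomic r F := by
    rw [Finset.prod_eq_multiset_prod, Multiset.toFinset_val, Multiset.dedup_eq_self.mpr hnd,
      Multiset.map_id']
    apply eq_of_monic_of_associated _ (cyclotomic.monic r F) (prod_normalizedFactors hΦ0)
    have := monic_multiset_prod_of_monic (normalizedFactors (cyclotomic r F)) id hmonic
    rwa [Multiset.map_id] at this
  refine ⟨?_, ?_, ?_, ?_, ?_, ?_, ?_⟩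
  · rw [← hord]
    exact orderOf_pos _
  · intro P hP
    exact irreducible_of_normalized_factor P (Multiset.mem_toFinset.mp hP)
  · intro P hP
    rw [natDegree_of_mem_normalizedFactors_cyclotomic hK hn (Multiset.mem_toFinset.mp hP), hord]
  · intro P hP P' hP' hne
    have hP1 := Multiset.mem_toFinset.mp hP
    have hP'1 := Multiset.mem_toFinset.mp hP'
    rw [(irreducible_of_normalized_factor P hP1).coprime_iff_not_dvd]
    intro hdvd
    apply hne
    have hass := (irreducible_of_normalized_factor P hP1).associated_of_dvd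
      (irreducible_of_normalized_factor P' hP'1) hdvd
    rw [← normalize_normalized_factor P hP1, ← normalize_normalized_factor P' hP'1]
    exact normalize_eq_normalize hass.dvd hass.symm.dvd
  · intro P hP
    have hP1 := Multiset.mem_toFinset.mp hP
    rw [irreducible_X_sub_one.coprime_iff_not_dvd]
    intro hdvd
    have h1 : (X - C (1 : F)) ∣ cyclotomic r F := by
      rw [C_1]
      exact hdvd.trans (dvd_of_mem_normalizedFactors hP1)
    rw [dvd_iff_isRoot, IsRoot.def, eval_one_cyclotomic_prime] at h1
    exact hrF h1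
  · rw [hprod, mul_comm]
    exact cyclotomic_prime_mul_X_sub_one F r
  · have := (separable_X_pow_sub_C (1 : F) hrF one_ne_zero).squarefree
    rwa [C_1] at this

section main
variable {K : Type*} [Field K] [Fintype K]

/-- the number of classes of elements of odd prime order `r` in `GU_n(q)` -/
theorem card_classes_GU {p q n r i b s : ℕ} [Fact p.Prime] [CharP K p]
    (hK : Fintype.card K = q ^ 2) (hr : r.Prime) (hr2 : r ≠ 2) (hrp : r ≠ p)
    (hi : i = orderOf (q : ZMod r)) (hb : b = if Odd i then i else i / 2)
    (hs : s * b = r - 1) :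
    Nat.card {C : ConjClasses ↥(Cfsg.GU n K q) //
      ∃ g : ↥(Cfsg.GU n K q), ConjClasses.mk g = C ∧ orderOf g = r} =
      if i % 4 = 2 then Nat.choose (2 * n / i + s) s - 1
      else Nat.choose (n / (2 * b) + s / 2) (s / 2) - 1 := by
  classical
  haveI : Fact r.Prime := ⟨hr⟩
  have hr3 : 2 ≤ r - 1 := by
    have := hr.two_le
    omega
  have hb0 : b ≠ 0 := by
    rintro rfl
    rw [mul_zero] at hs
    omega
  have hi0 : 0 < i := by
    rcases Nat.eq_zero_or_pos i with h | h
    · exfalso
      apply hb0
      rw [hb, h]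
      simp
    · exact h
  obtain ⟨f, _, hqf⟩ := FiniteField.card K p
  have hK' : Fintype.card K = p ^ (f : ℕ) := hqf
  have hb' : b = orderOf ((p ^ (f : ℕ) : ℕ) : ZMod r) := by
    rw [← hqf, hK, Nat.cast_pow, orderOf_pow' _ (by norm_num : (2 : ℕ) ≠ 0), ← hi, hb]
    rcases Nat.even_or_odd i with hev | hodd
    · rw [if_neg (Nat.not_odd_iff_even.mpr hev)]
      obtain ⟨j, hj⟩ := hev
      have : Nat.gcd i 2 = 2 := by
        rw [hj, ← two_mul]
        exact Nat.gcd_mul_right_left j 2
      rw [this]
    · rw [if_pos hodd]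
      have : Nat.gcd i 2 = 1 := Nat.coprime_two_right.mpr hodd
      rw [this, Nat.div_one]
  have D := factorDataU hK' r b hrp hb'
  have hp : p.Prime := Fact.out
  have hn : p.Coprime r := (Nat.coprime_primes hp hr).mpr (Ne.symm hrp)
  have hmon : ∀ P ∈ (normalizedFactors (cyclotomic r K)).toFinset, P.Monic := by
    intro P hP
    have hP1 := Multiset.mem_toFinset.mp hP
    rw [← normalize_normalized_factor P hP1]
    exact monic_normalize (irreducible_of_normalized_factor P hP1).ne_zero
  have hcard : (normalizedFactors (cyclotomic r K)).toFinset.card = s := by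
    rw [normalizedFactors_cyclotomic_card hK' hn, Nat.totient_prime hr]
    have hord : orderOf (ZMod.unitOfCoprime _ (hn.pow_left (f : ℕ))) = b := by
      rw [hb', ← orderOf_units, ZMod.coe_unitOfCoprime]
    rw [hord, ← hs]
    exact Nat.mul_div_cancel _ D.hi
  by_cases h4 : i % 4 = 2
  · rw [if_pos h4]
    have hfix := sig_eq_self_of_mod_four hK p D hmon hr hi h4
    rw [card_classes_GU_fixed hK D hmon hr hfix n, hcard]
    have hb2 : b = i / 2 := by
      rw [hb, if_neg]
      rw [Nat.not_odd_iff_even, Nat.even_iff]
      omega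
    have hdiv : n / b = 2 * n / i := by
      obtain ⟨j, hj⟩ : ∃ j, i = 2 * j := ⟨i / 2, by omega⟩
      rw [hb2, hj, Nat.mul_div_cancel_left _ (by norm_num : 0 < 2),
        Nat.mul_div_mul_left _ _ (by norm_num : 0 < 2)]
    rw [hdiv]
  · rw [if_neg h4]
    have hne := sig_ne_self hK p D hmon hr hr2 hi hi0 h4
    rw [card_classes_GU_free hK D hmon hr hne n, hcard]

end main

end Cfsg.Agent.Lib.Helper51.UPrime
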