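import Mathlib
import Cfsg.Agent.Lib.Helper38.CD3.Defs
import Cfsg.Agent.Lib.Helper83.OneNonlinear

set_option autoImplicit false

/-!
# Pack K-CD3 (S4460), LEAF N2: the irreducible characters of `G / H'` have `p`-power degree when `H` is a normal
subgroup of `p`-power index (Itô's theorem applied to the normal abelian image of `H`)
-/

namespace Cfsg.Agent.Lib.Helper51.CD3

open Cfsg Cfsg.Agent.Lib.Helper97
open scoped commutatorElement

universe u

variable {G : Type u} [Group G] [Finite G]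

/-- 446002 N2 : characters of `G / H'` have `p`-power degree (Ito). -/
theorem ppow_degree_quot (p : ℕ) (hp : p.Prime) (H : Subgroup G) [H.Normal]
    (hidx : ∃ k : ℕ, H.index = p ^ k) (χ : IrrCharacter (G ⧸ ⁅H, H⁆)) :
    ∃ j : ℕ, charDegree (χ : G ⧸ ⁅H, H⁆ → ℂ) = p ^ j := by
  obtain ⟨k, hk⟩ := hidx
  have hsurj : Function.Surjective (QuotientGroup.mk' ⁅H, H⁆) := QuotientGroup.mk'_surjective _
  have hnorm : (H.map (QuotientGroup.mk' ⁅H, H⁆)).Normal :=
    Subgroup.Normal.map inferInstance _ hsurj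
  have hab : ∀ a ∈ H.map (QuotientGroup.mk' ⁅H, H⁆), ∀ b ∈ H.map (QuotientGroup.mk' ⁅H, H⁆),
      a * b = b * a := by
    rintro _ ⟨x, hx, rfl⟩ _ ⟨y, hy, rfl⟩
    have hc : ⁅x, y⁆ ∈ ⁅H, H⁆ := Subgroup.commutator_mem_commutator hx hy
    have h1 : (QuotientGroup.mk' ⁅H, H⁆) ⁅x, y⁆ = 1 := by
      rw [QuotientGroup.mk'_apply, QuotientGroup.eq_one_iff]
      exact hc
    rw [commutatorElement_def, map_mul, map_mul, map_mul, map_inv, map_inv] at h1
    set a := (QuotientGroup.mk' ⁅H, H⁆) x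
    set b := (QuotientGroup.mk' ⁅H, H⁆) y
    calc a * b = (a * b * a⁻¹ * b⁻¹) * (b * a) := by group
      _ = b * a := by rw [h1, one_mul]
  have hindex : (H.map (QuotientGroup.mk' ⁅H, H⁆)).index = H.index := by
    apply Subgroup.index_map_eq _ hsurj
    rw [QuotientGroup.ker_mk']
    exact Subgroup.commutator_le_left H H
  have hdvd := @Cfsg.Agent.Lib.Helper83.ito_charDegree _ _ _ χ
    (H.map (QuotientGroup.mk' ⁅H, H⁆)) hnorm hab
  rw [hindex, hk] at hdvd
  obtain ⟨j, _, hj⟩ := (Nat.dvd_prime_pow hp).mp hdvd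
  exact ⟨j, hj⟩

end Cfsg.Agent.Lib.Helper51.CD3
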