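import Mathlib
set_option autoImplicit false
set_option linter.unusedSectionVars false

namespace Cfsg.Agent.Lib.Helper51

section fld0
variable {F K : Type*} [Field F] [Field K] [Algebra F K] {q : ℕ}
variable (ω : K)

theorem omega_cube (hω : ω ^ 2 + ω + 1 = 0) : ω ^ 3 = 1 := by
  linear_combination (ω - 1) * hω

theorem omega_pow_q (hω : ω ^ 2 + ω + 1 = 0) (hq : q % 3 = 2) : ω ^ q = ω ^ 2 := by
  have h3 := omega_cube ω hω
  have : q = 3 * (q / 3) + 2 := by omega
  rw [this, pow_add, pow_mul, h3, one_pow, one_mul]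

theorem omega_repr_unique (hωF : ∀ α : F, algebraMap F K α ≠ ω) (α β α' β' : F)
    (h : algebraMap F K α + algebraMap F K β * ω = algebraMap F K α' + algebraMap F K β' * ω) :
    α = α' ∧ β = β' := by
  have hβ : β = β' := by
    by_contra hne
    have hne' : β - β' ≠ 0 := sub_ne_zero.2 hne
    apply hωF ((α' - α) / (β - β'))
    have h1 : algebraMap F K (β - β') ≠ 0 := by
      rw [Ne, map_eq_zero]; exact hne'
    rw [map_div₀, div_eq_iff h1, map_sub, map_sub]
    linear_combination (-1 : K) * h
  refine ⟨?_, hβ⟩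
  subst hβ
  have := add_right_cancel h
  exact (algebraMap F K).injective this

end fld0

section fld
variable {F K : Type*} [Field F] [Fintype F] [Field K] [Fintype K] [Algebra F K] {q : ℕ}
variable (ω : K)

theorem exists_omega_repr (hF : Fintype.card F = q) (hK : Fintype.card K = q ^ 2)
    (hωF : ∀ α : F, algebraMap F K α ≠ ω) (k : K) :
    ∃ α β : F, k = algebraMap F K α + algebraMap F K β * ω := by
  classical
  let g : F × F → K := fun p => algebraMap F K p.1 + algebraMap F K p.2 * ω
  have hinj : Function.Injective g := by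
    rintro ⟨α, β⟩ ⟨α', β'⟩ h
    obtain ⟨h1, h2⟩ := omega_repr_unique ω hωF α β α' β' h
    rw [h1, h2]
  have hcard : Fintype.card (F × F) = Fintype.card K := by
    rw [Fintype.card_prod, hF, hK, sq]
  have hbij : Function.Bijective g := (Fintype.bijective_iff_injective_and_card g).2 ⟨hinj, hcard⟩
  obtain ⟨⟨α, β⟩, h⟩ := hbij.2 k
  exact ⟨α, β, h.symm⟩

theorem algebraMap_pow_card (hF : Fintype.card F = q) (α : F) :
    (algebraMap F K α) ^ q = algebraMap F K α := by
  rw [← map_pow, ← hF, FiniteField.pow_card]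

end fld

end Cfsg.Agent.Lib.Helper51
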