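import Mathlib
import Cfsg.Agent.Lib.Helper51.Cent1
set_option autoImplicit false
set_option linter.unusedSectionVars false

namespace Cfsg.Agent.Lib.Helper51

/-- data for the hermitian structure attached to an element of order three of a symplectic
group -/
structure CData (F K V : Type*) [Field F] [Field K] [Algebra F K] [AddCommGroup V] [Module F V]
    [Module K V] (q : ℕ) where
  ω : K
  σ : K →+* K
  f : V →ₗ[F] V →ₗ[F] F
  hω : ω ^ 2 + ω + 1 = 0
  hσω : σ ω = ω ^ 2
  hσF : ∀ α : F, σ (algebraMap F K α) = algebraMap F K α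
  hrepr : ∀ k : K, ∃ α β : F, k = algebraMap F K α + algebraMap F K β * ω
  huniq : ∀ α β α' β' : F, algebraMap F K α + algebraMap F K β * ω =
    algebraMap F K α' + algebraMap F K β' * ω → α = α' ∧ β = β'
  hfω : ∀ u v, f (ω • u) (ω • v) = f u v
  hfalt : ∀ u v, f v u = - f u v
  hfnd : ∀ u, (∀ v, f u v = 0) → u = 0

namespace CData

variable {F K V : Type*} [Field F] [Field K] [Algebra F K] [AddCommGroup V] [Module F V]
  [Module K V] [IsScalarTower F K V] {q : ℕ} (D : CData F K V q)

theorem ω3 : D.ω ^ 3 = 1 := omega_cube D.ω D.hω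

theorem ωω (v : V) : D.ω • D.ω • v = - v - D.ω • v := by
  have h : (D.ω ^ 2 + D.ω + 1) • v = 0 := by rw [D.hω, zero_smul]
  rw [add_smul, add_smul, one_smul, sq, mul_smul] at h
  rw [eq_sub_iff_add_eq, eq_neg_iff_add_eq_zero]
  exact h

theorem ωωω (v : V) : D.ω • D.ω • D.ω • v = v := by
  rw [← mul_smul, ← mul_smul, ← pow_two, ← pow_succ, D.ω3, one_smul]

theorem smul_repr (α β : F) (v : V) :
    (algebraMap F K α + algebraMap F K β * D.ω) • v = α • v + β • (D.ω • v) := by
  rw [add_smul, mul_smul, algebraMap_smul, algebraMap_smul]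

theorem f_ω_left (u v : V) : D.f (D.ω • u) v = - D.f u v - D.f u (D.ω • v) := by
  have h := D.hfω u (D.ω • D.ω • v)
  rw [D.ωωω] at h
  rw [h, D.ωω, map_sub, map_neg]

theorem f_ω_comm (α : F) (v : V) : D.ω • (α • v) = α • (D.ω • v) := by
  rw [smul_comm]

/-- the value of the hermitian form -/
noncomputable def val (u v : V) : K :=
  D.ω ^ 2 * algebraMap F K (D.f u v) - algebraMap F K (D.f u (D.ω • v))

theorem val_add_left (u u' v : V) : D.val (u + u') v = D.val u v + D.val u' v := by
  unfold val
  rw [map_add, LinearMap.add_apply, LinearMap.add_apply, map_add, map_add]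
  ring

theorem val_add_right (u v v' : V) : D.val u (v + v') = D.val u v + D.val u v' := by
  unfold val
  rw [smul_add, map_add, map_add, map_add, map_add]
  ring

theorem val_smulF_right (α : F) (u v : V) : D.val u (α • v) = algebraMap F K α * D.val u v := by
  unfold val
  rw [D.f_ω_comm, LinearMap.map_smul, LinearMap.map_smul, smul_eq_mul, smul_eq_mul, map_mul,
    map_mul]
  ring

theorem val_smulF_left (α : F) (u v : V) : D.val (α • u) v = algebraMap F K α * D.val u v := by
  unfold val
  rw [LinearMap.map_smul₂, LinearMap.map_smul₂, smul_eq_mul, smul_eq_mul, map_mul, map_mul]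
  ring

theorem val_ω_right (u v : V) : D.val u (D.ω • v) = D.ω * D.val u v := by
  unfold val
  rw [D.ωω, map_sub, map_neg, map_sub, map_neg]
  linear_combination (algebraMap F K (D.f u (D.ω • v)) - (D.ω - 1) * algebraMap F K (D.f u v)) * D.hω

theorem val_ω_left (u v : V) : D.val (D.ω • u) v = D.ω ^ 2 * D.val u v := by
  unfold val
  rw [D.hfω, D.f_ω_left, map_sub, map_neg]
  linear_combination (- algebraMap F K (D.f u v) * (D.ω ^ 2 - D.ω + 1)) * D.hω

theorem val_smul_right (k : K) (u v : V) : D.val u (k • v) = k * D.val u v := by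
  obtain ⟨α, β, rfl⟩ := D.hrepr k
  rw [D.smul_repr, val_add_right, val_smulF_right, val_smulF_right, val_ω_right]
  ring

theorem val_smul_left (k : K) (u v : V) : D.val (k • u) v = D.σ k * D.val u v := by
  obtain ⟨α, β, rfl⟩ := D.hrepr k
  rw [D.smul_repr, val_add_left, val_smulF_left, val_smulF_left, val_ω_left, map_add, map_mul,
    D.hσF, D.hσF, D.hσω]
  ring

/-- the hermitian form -/
noncomputable def B : V →ₛₗ[D.σ] V →ₗ[K] K :=
  LinearMap.mk₂'ₛₗ D.σ (RingHom.id K) D.val D.val_add_left (fun c m n => D.val_smul_left c m n)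
    D.val_add_right (fun c m n => D.val_smul_right c m n)

theorem B_apply (u v : V) : D.B u v = D.val u v := rfl

theorem val_conj (u v : V) : D.σ (D.val u v) = D.val v u := by
  unfold val
  rw [map_sub, map_mul, map_pow, D.hσω, D.hσF, D.hσF, D.hfalt u v, D.hfalt (D.ω • u) v,
    D.f_ω_left]
  simp only [map_neg, map_sub]
  linear_combination (algebraMap F K (D.f u v)) * (D.ω ^ 2 - D.ω + 1) * D.hω

theorem B_isSymm : D.B.IsSymm := ⟨fun u v => D.val_conj u v⟩

theorem val_eq_zero (u v : V) (h : D.val u v = 0) : D.f u v = 0 := by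
  unfold val at h
  have hω2 : D.ω ^ 2 = -1 - D.ω := by linear_combination D.hω
  rw [hω2] at h
  have h1 : algebraMap F K (-(D.f u v) - D.f u (D.ω • v)) + algebraMap F K (-(D.f u v)) * D.ω =
      algebraMap F K 0 + algebraMap F K 0 * D.ω := by
    rw [map_sub, map_neg, map_zero]
    linear_combination h
  have := (D.huniq _ _ _ _ h1).2
  exact neg_eq_zero.1 this

theorem val_eq_val (u v u' v' : V) (h : D.val u v = D.val u' v') : D.f u v = D.f u' v' := by
  unfold val at h
  have hω2 : D.ω ^ 2 = -1 - D.ω := by linear_combination D.hω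
  rw [hω2] at h
  have h1 : algebraMap F K (-(D.f u v) - D.f u (D.ω • v)) + algebraMap F K (-(D.f u v)) * D.ω =
      algebraMap F K (-(D.f u' v') - D.f u' (D.ω • v')) +
        algebraMap F K (-(D.f u' v')) * D.ω := by
    rw [map_sub, map_neg, map_neg, map_sub, map_neg]
    linear_combination h
  have := (D.huniq _ _ _ _ h1).2
  exact neg_injective this

theorem B_nondegenerate : D.B.Nondegenerate := by
  constructor
  · intro u hu
    apply D.hfnd
    intro v
    exact D.val_eq_zero u v (hu v)
  · intro v hv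
    apply D.hfnd
    intro u
    rw [D.hfalt, neg_eq_zero]
    exact D.val_eq_zero u v (hv u)

end CData

end Cfsg.Agent.Lib.Helper51
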