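import Mathlib
import Cfsg.Agent.Lib.Helper51.Cent2
import Cfsg.Agent.Lib.Helper08.GUCard
set_option autoImplicit false
set_option linter.unusedSectionVars false

namespace Cfsg.Agent.Lib.Helper51

open Cfsg.Agent.Lib.Helper08

namespace CData

variable {F K V : Type*} [Field F] [Field K] [Algebra F K] [AddCommGroup V] [Module F V]
  [Module K V] [IsScalarTower F K V] {q : ℕ} (D : CData F K V q)

/-- `K`-linear isometries of the hermitian form -/
def IsoK : Type _ := {φ : V →ₗ[K] V // ∀ u v, D.B (φ u) (φ v) = D.B u v}

/-- `F`-linear isometries of the alternating form commuting with `ω` -/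
def IsoF : Type _ :=
  {ψ : V →ₗ[F] V // (∀ u v, D.f (ψ u) (ψ v) = D.f u v) ∧ ∀ v, ψ (D.ω • v) = D.ω • ψ v}

/-- the two kinds of isometries correspond -/
noncomputable def isoEquiv : D.IsoK ≃ D.IsoF where
  toFun φ := ⟨φ.1.restrictScalars F, by
    constructor
    · intro u v
      apply D.val_eq_val
      exact φ.2 u v
    · intro v
      exact φ.1.map_smul D.ω v⟩
  invFun ψ := ⟨{ toFun := ψ.1
                 map_add' := ψ.1.map_add
                 map_smul' := by
                   intro k v
                   obtain ⟨α, β, rfl⟩ := D.hrepr k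
                   simp only [RingHom.id_apply]
                   rw [D.smul_repr, D.smul_repr, map_add, map_smul, map_smul, ψ.2.2] }, by
    intro u v
    show D.val (ψ.1 u) (ψ.1 v) = D.val u v
    unfold val
    rw [ψ.2.1, ← ψ.2.2, ψ.2.1]⟩
  left_inv φ := by
    apply Subtype.ext
    apply LinearMap.ext
    intro v
    rfl
  right_inv ψ := by
    apply Subtype.ext
    apply LinearMap.ext
    intro v
    rfl

theorem B_eq_hform {m : ℕ} (hσ : ∀ x, D.σ x = x ^ q) (e : Module.Basis (Fin m) K V)
    (he : ∀ i j, D.B (e i) (e j) = if i = j then 1 else 0) (u v : V) :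
    D.B u v = hform (Fin m) K q (e.equivFun v) (e.equivFun u) := by
  have h1 : ∀ w : V, D.B u w = ∑ i, D.σ (e.equivFun u i) * D.B (e i) w := by
    intro w
    conv_lhs => rw [← e.sum_equivFun u]
    rw [map_sum, LinearMap.sum_apply]
    apply Finset.sum_congr rfl
    intro i _
    rw [LinearMap.map_smulₛₗ, LinearMap.smul_apply, smul_eq_mul]
  have h2 : ∀ i, D.B (e i) v = e.equivFun v i := by
    intro i
    conv_lhs => rw [← e.sum_equivFun v]
    rw [map_sum, Finset.sum_eq_single i]
    · rw [map_smul, he, if_pos rfl, smul_eq_mul, mul_one]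
    · intro j _ hj
      rw [map_smul, he, if_neg hj.symm, smul_zero]
    · intro h
      exact absurd (Finset.mem_univ i) h
  rw [h1]
  unfold hform
  apply Finset.sum_congr rfl
  intro i _
  rw [h2, hσ, mul_comm]

/-- isometry matrices correspond to `K`-linear isometries -/
noncomputable def matEquiv {m : ℕ} (hσ : ∀ x, D.σ x = x ^ q) (e : Module.Basis (Fin m) K V)
    (he : ∀ i j, D.B (e i) (e j) = if i = j then 1 else 0) :
    {A : Matrix (Fin m) (Fin m) K // IsIsoMat q A} ≃ D.IsoK :=
  Equiv.subtypeEquiv (Matrix.toLin e e).toEquiv (by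
    intro A
    have key : ∀ u, e.equivFun ((Matrix.toLin e e) A u) = A.mulVec (e.equivFun u) := by
      intro u
      exact Matrix.repr_toLin e e A u
    constructor
    · intro hA u v
      show D.B ((Matrix.toLin e e) A u) ((Matrix.toLin e e) A v) = D.B u v
      rw [D.B_eq_hform hσ e he, D.B_eq_hform hσ e he, key, key]
      exact hA _ _
    · intro hA x y
      have := hA (e.equivFun.symm y) (e.equivFun.symm x)
      change D.B ((Matrix.toLin e e) A _) ((Matrix.toLin e e) A _) = D.B _ _ at this
      rw [D.B_eq_hform hσ e he, D.B_eq_hform hσ e he, key, key, LinearEquiv.apply_symm_apply,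
        LinearEquiv.apply_symm_apply] at this
      exact this)

end CData

end Cfsg.Agent.Lib.Helper51
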