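import Mathlib
import Cfsg.Agent.Lib.Helper51.Cent1
set_option autoImplicit false
set_option linter.unusedSectionVars false

namespace Cfsg.Agent.Lib.Helper51

open Polynomial

section field4
variable {F : Type*} [Field F] [Fintype F] {q : ℕ}

/-- the third cyclotomic polynomial -/
noncomputable def cyc3 (F : Type*) [Field F] : F[X] := X ^ 2 + X + 1

omit [Fintype F] in
theorem cyc3_natDegree : (cyc3 F).natDegree = 2 := by
  unfold cyc3
  compute_degree!

omit [Fintype F] in
theorem cyc3_monic : (cyc3 F).Monic := by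
  unfold cyc3
  monicity!

omit [Fintype F] in
theorem cyc3_ne_zero : cyc3 F ≠ 0 := cyc3_monic.ne_zero

omit [Fintype F] in
theorem cyc3_eval₂ {S : Type*} [CommRing S] (i : F →+* S) (r : S) :
    (cyc3 F).eval₂ i r = r ^ 2 + r + 1 := by
  unfold cyc3
  simp only [eval₂_add, eval₂_pow, eval₂_X, eval₂_one]

theorem cyc3_not_root (hF : Fintype.card F = q) (hq : q % 3 = 2) (a : F) :
    ¬ IsRoot (cyc3 F) a := by
  intro h
  have ha : a ^ 2 + a + 1 = 0 := by
    simpa [cyc3, IsRoot] using h
  have h3 : a ^ 3 = 1 := by linear_combination (a - 1) * ha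
  have hq' : a ^ q = a := by rw [← hF, FiniteField.pow_card]
  have hqa : a ^ q = a ^ 2 := by
    have : q = 3 * (q / 3) + 2 := by omega
    rw [this, pow_add, pow_mul, h3, one_pow, one_mul]
  have ha0 : a ≠ 0 := by
    intro h0
    rw [h0] at h3
    simp at h3
  have ha1 : a = 1 := by
    have : a * a = a * 1 := by rw [mul_one, ← sq, ← hqa, hq']
    exact mul_left_cancel₀ ha0 this
  rw [ha1] at ha
  have h3' : (3 : F) = 0 := by linear_combination ha
  have hq0 : ((q : ℕ) : F) = 0 := by rw [← hF]; exact Nat.cast_card_eq_zero F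
  have hq2 : ((q : ℕ) : F) = 3 * ((q / 3 : ℕ) : F) + 2 := by
    have : q = 3 * (q / 3) + 2 := by omega
    conv_lhs => rw [this]
    push_cast
    ring
  rw [hq0, h3', zero_mul, zero_add] at hq2
  have : (1 : F) = 0 := by linear_combination h3' + hq2
  exact one_ne_zero this

theorem cyc3_irreducible (hF : Fintype.card F = q) (hq : q % 3 = 2) : Irreducible (cyc3 F) := by
  apply irreducible_of_degree_le_three_of_not_isRoot
  · rw [cyc3_natDegree]; decide
  · exact cyc3_not_root hF hq

/-- the quadratic extension generated by a primitive cube root of unity -/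
abbrev K3 (F : Type*) [Field F] : Type _ := AdjoinRoot (cyc3 F)

variable [Fact (Irreducible (cyc3 F))]

theorem K3_finrank : Module.finrank F (K3 F) = 2 := by
  rw [(AdjoinRoot.powerBasis (cyc3_ne_zero (F := F))).finrank, AdjoinRoot.powerBasis_dim,
    cyc3_natDegree]

instance K3_finite : Finite (K3 F) := by
  have : Module.Finite F (K3 F) := (AdjoinRoot.powerBasis (cyc3_ne_zero (F := F))).finite
  exact Module.finite_of_finite F

noncomputable instance K3_fintype : Fintype (K3 F) := Fintype.ofFinite _

theorem K3_card (hF : Fintype.card F = q) : Fintype.card (K3 F) = q ^ 2 := by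
  have : Module.Finite F (K3 F) := (AdjoinRoot.powerBasis (cyc3_ne_zero (F := F))).finite
  rw [Module.card_eq_pow_finrank (K := F) (V := K3 F), K3_finrank, hF]

theorem K3_root : (AdjoinRoot.root (cyc3 F)) ^ 2 + AdjoinRoot.root (cyc3 F) + 1 = 0 := by
  have := AdjoinRoot.eval₂_root (cyc3 F)
  rw [cyc3_eval₂] at this
  exact this

theorem K3_root_notin (hF : Fintype.card F = q) (hq : q % 3 = 2) (α : F) :
    algebraMap F (K3 F) α ≠ AdjoinRoot.root (cyc3 F) := by
  intro h
  apply cyc3_not_root hF hq α
  have h1 := K3_root (F := F)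
  rw [← h] at h1
  have h2 : algebraMap F (K3 F) (α ^ 2 + α + 1) = 0 := by
    rw [map_add, map_add, map_pow, map_one]; exact h1
  have h3 : α ^ 2 + α + 1 = 0 := by
    rw [map_eq_zero] at h2; exact h2
  simpa [cyc3, IsRoot] using h3

end field4

end Cfsg.Agent.Lib.Helper51
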