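import Mathlib
import Cfsg.Agent.Lib.Helper51.Cent4
set_option autoImplicit false
set_option linter.unusedSectionVars false

namespace Cfsg.Agent.Lib.Helper51

open Matrix

section jform
variable {F : Type*} [Field F] {m : ℕ}

/-- the standard alternating form -/
noncomputable def jform (m : ℕ) (F : Type*) [Field F] :
    ((Fin m ⊕ Fin m) → F) →ₗ[F] ((Fin m ⊕ Fin m) → F) →ₗ[F] F :=
  Matrix.toLinearMap₂' F (Matrix.J (Fin m) F)

theorem jform_apply (u v : (Fin m ⊕ Fin m) → F) :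
    jform m F u v = u ⬝ᵥ (Matrix.J (Fin m) F *ᵥ v) :=
  Matrix.toLinearMap₂'_apply' _ _ _

theorem jform_mulVec (A : Matrix (Fin m ⊕ Fin m) (Fin m ⊕ Fin m) F) (u v : (Fin m ⊕ Fin m) → F) :
    jform m F (A *ᵥ u) (A *ᵥ v) = u ⬝ᵥ ((Aᵀ * Matrix.J (Fin m) F * A) *ᵥ v) := by
  rw [jform_apply, ← Matrix.mulVec_mulVec, ← Matrix.mulVec_mulVec]
  calc (A *ᵥ u) ⬝ᵥ (Matrix.J (Fin m) F *ᵥ (A *ᵥ v))
      = (u ᵥ* Aᵀ) ⬝ᵥ (Matrix.J (Fin m) F *ᵥ (A *ᵥ v)) := by rw [Matrix.vecMul_transpose]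
    _ = u ⬝ᵥ (Aᵀ *ᵥ (Matrix.J (Fin m) F *ᵥ (A *ᵥ v))) := by rw [← Matrix.dotProduct_mulVec]

theorem jform_pres_iff (A : Matrix (Fin m ⊕ Fin m) (Fin m ⊕ Fin m) F) :
    (∀ u v, jform m F (A *ᵥ u) (A *ᵥ v) = jform m F u v) ↔
      A ∈ Matrix.symplecticGroup (Fin m) F := by
  rw [SymplecticGroup.mem_iff']
  constructor
  · intro h
    ext i j
    have := h (Pi.single i 1) (Pi.single j 1)
    rw [jform_mulVec, jform_apply, Matrix.mulVec_single_one, Matrix.mulVec_single_one,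
      single_one_dotProduct, single_one_dotProduct] at this
    exact this
  · intro h u v
    rw [jform_mulVec, h, jform_apply]

theorem jform_alt (u v : (Fin m ⊕ Fin m) → F) : jform m F v u = - jform m F u v := by
  rw [jform_apply, jform_apply, Matrix.dotProduct_mulVec, ← Matrix.mulVec_transpose,
    Matrix.J_transpose, Matrix.neg_mulVec, neg_dotProduct, dotProduct_comm]

theorem jform_nondeg (u : (Fin m ⊕ Fin m) → F) (h : ∀ v, jform m F u v = 0) : u = 0 := by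
  funext i
  have := h ((-Matrix.J (Fin m) F) *ᵥ Pi.single i 1)
  rw [jform_apply, Matrix.mulVec_mulVec, Matrix.mul_neg, Matrix.J_squared, neg_neg,
    Matrix.one_mulVec, dotProduct_single_one] at this
  exact this

end jform

end Cfsg.Agent.Lib.Helper51
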