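import Mathlib
import Cfsg.Agent.Lib.Helper51.Cent3
import Cfsg.Agent.Lib.Helper51.Cent5
import Cfsg.Agent.Lib.Helper51.FieldAutU2
set_option autoImplicit false
set_option linter.unusedSectionVars false

namespace Cfsg.Agent.Lib.Helper51

open Matrix

section conc
variable {F : Type*} [Field F] {m : ℕ} [Fact (Irreducible (cyc3 F))]

/-- the symplectic space, remembering a matrix `X` with `X ^ 2 + X + 1 = 0` -/
def VX (X : Matrix (Fin m ⊕ Fin m) (Fin m ⊕ Fin m) F) (_hX : X ^ 2 + X + 1 = 0) : Type _ :=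
  (Fin m ⊕ Fin m) → F

variable (X : Matrix (Fin m ⊕ Fin m) (Fin m ⊕ Fin m) F) (hX : X ^ 2 + X + 1 = 0)

instance : AddCommGroup (VX X hX) := inferInstanceAs (AddCommGroup ((Fin m ⊕ Fin m) → F))
instance : Module F (VX X hX) := inferInstanceAs (Module F ((Fin m ⊕ Fin m) → F))

/-- `X` as an endomorphism -/
def XEnd : Module.End F (VX X hX) := Matrix.mulVecLin X

theorem XEnd_apply (v : VX X hX) : XEnd X hX v = X *ᵥ (v : (Fin m ⊕ Fin m) → F) := rfl

theorem XEnd_rel : (XEnd X hX) ^ 2 + XEnd X hX + 1 = 0 := by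
  apply LinearMap.ext
  intro v
  rw [LinearMap.add_apply, LinearMap.add_apply, pow_two, Module.End.mul_apply, Module.End.one_apply,
    XEnd_apply, XEnd_apply, LinearMap.zero_apply]
  have h1 : ∀ w : (Fin m ⊕ Fin m) → F, X *ᵥ (X *ᵥ w) + X *ᵥ w + w = 0 := by
    intro w
    have h2 : (X ^ 2 + X + 1) *ᵥ w = 0 := by rw [hX, Matrix.zero_mulVec]
    rw [Matrix.add_mulVec, Matrix.add_mulVec, Matrix.one_mulVec, pow_two,
      ← Matrix.mulVec_mulVec] at h2
    exact h2
  exact h1 v

/-- the action of the quadratic extension -/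
noncomputable def actHom : K3 F →+* Module.End F (VX X hX) :=
  Ideal.Quotient.lift (Ideal.span {cyc3 F})
    (Polynomial.aeval (R := F) (XEnd X hX)).toRingHom
    (by
      intro a ha
      rw [Ideal.mem_span_singleton] at ha
      obtain ⟨b, rfl⟩ := ha
      have h0 : Polynomial.aeval (R := F) (XEnd X hX) (cyc3 F) = 0 := by
        unfold cyc3
        rw [map_add, map_add, map_pow, Polynomial.aeval_X, map_one]
        exact XEnd_rel X hX
      show Polynomial.aeval (R := F) (XEnd X hX) (cyc3 F * b) = 0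
      rw [map_mul, h0, zero_mul])

theorem actHom_mk (p : Polynomial F) :
    actHom X hX (AdjoinRoot.mk (cyc3 F) p) = Polynomial.aeval (R := F) (XEnd X hX) p := rfl

noncomputable instance : Module (K3 F) (VX X hX) :=
  Module.compHom (VX X hX) (actHom X hX)

theorem K3_smul_def (k : K3 F) (v : VX X hX) : k • v = actHom X hX k v := rfl

theorem actHom_algebraMap (α : F) :
    actHom X hX (algebraMap F (K3 F) α) = algebraMap F (Module.End F (VX X hX)) α := by
  rw [AdjoinRoot.algebraMap_eq, ← AdjoinRoot.mk_C, actHom_mk, Polynomial.aeval_C]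

instance : IsScalarTower F (K3 F) (VX X hX) := ⟨fun α k v => by
  rw [K3_smul_def, K3_smul_def, Algebra.smul_def, map_mul, actHom_algebraMap]
  rfl⟩

theorem root_smul (v : VX X hX) :
    (AdjoinRoot.root (cyc3 F)) • v = X *ᵥ (v : (Fin m ⊕ Fin m) → F) := by
  rw [K3_smul_def]
  have : AdjoinRoot.root (cyc3 F) = AdjoinRoot.mk (cyc3 F) Polynomial.X := rfl
  rw [this, actHom_mk, Polynomial.aeval_X]
  rfl

end conc

end Cfsg.Agent.Lib.Helper51
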