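import Mathlib
import Cfsg.Agent.Lib.Helper51.Cent6
import Cfsg.Agent.Lib.Helper51.QuadExt
import Cfsg.Agent.Lib.Helper51.UnitaryT1
import Cfsg.Agent.S0755
set_option autoImplicit false
set_option linter.unusedSectionVars false

namespace Cfsg.Agent.Lib.Helper51

open Matrix Cfsg.Agent.Lib.Helper08

section conc2
variable {F : Type*} [Field F] [Fintype F] {m q : ℕ} [Fact (Irreducible (cyc3 F))]
variable (X : Matrix (Fin m ⊕ Fin m) (Fin m ⊕ Fin m) F) (hX : X ^ 2 + X + 1 = 0)

instance : Fintype (VX X hX) := inferInstanceAs (Fintype ((Fin m ⊕ Fin m) → F))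

/-- the form on `VX` -/
noncomputable def fX : VX X hX →ₗ[F] VX X hX →ₗ[F] F := jform m F

theorem fX_apply (u v : VX X hX) : fX X hX u v = jform m F u v := rfl

/-- the data attached to a symplectic `X` with `X ^ 2 + X + 1 = 0` -/
noncomputable def cdata (hF : Fintype.card F = q) (hq : q % 3 = 2)
    (hXsp : X ∈ Matrix.symplecticGroup (Fin m) F) (σ : K3 F →+* K3 F) (hσ : ∀ x, σ x = x ^ q) :
    CData F (K3 F) (VX X hX) q where
  ω := AdjoinRoot.root (cyc3 F)
  σ := σ
  f := fX X hX
  hω := K3_root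
  hσω := by rw [hσ]; exact omega_pow_q _ K3_root hq
  hσF := by intro α; rw [hσ]; exact algebraMap_pow_card hF α
  hrepr := exists_omega_repr _ hF (K3_card hF) (K3_root_notin hF hq)
  huniq := omega_repr_unique _ (K3_root_notin hF hq)
  hfω := by
    intro u v
    rw [root_smul, root_smul]
    exact (jform_pres_iff X).2 hXsp u v
  hfalt := fun u v => jform_alt u v
  hfnd := fun u h => jform_nondeg u h

theorem finrank_VX (hF : Fintype.card F = q) : Module.finrank (K3 F) (VX X hX) = m := by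
  have hq1 : 1 < q := by rw [← hF]; exact Fintype.one_lt_card
  have h1 := Module.card_eq_pow_finrank (K := K3 F) (V := VX X hX)
  have h2 : Fintype.card (VX X hX) = q ^ (m + m) := by
    show Fintype.card ((Fin m ⊕ Fin m) → F) = _
    rw [Fintype.card_fun, hF, Fintype.card_sum, Fintype.card_fin]
  rw [h2, K3_card hF, ← pow_mul] at h1
  have := Nat.pow_right_injective hq1 h1
  omega

theorem exists_orthonormal (hF : Fintype.card F = q) (hq : q % 3 = 2)
    (hXsp : X ∈ Matrix.symplecticGroup (Fin m) F) (σ : K3 F →+* K3 F) (hσ : ∀ x, σ x = x ^ q) :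
    ∃ e : Module.Basis (Fin m) (K3 F) (VX X hX),
      ∀ i j, (cdata X hX hF hq hXsp σ hσ).B (e i) (e j) = if i = j then 1 else 0 := by
  set D := cdata X hX hF hq hXsp σ hσ with hD
  have hK := K3_card (F := F) hF
  have hσne : D.σ ≠ RingHom.id (K3 F) := by
    intro h
    have h1 : D.σ D.ω = D.ω := by rw [h]; rfl
    have h2 : D.ω ^ q = D.ω := by rw [← hσ]; exact h1
    obtain ⟨a, ha⟩ := mem_range_of_pow_q hF D.ω h2
    exact K3_root_notin hF hq a ha
  have hσ2 : ∀ a, D.σ (D.σ a) = a := by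
    intro a
    show σ (σ a) = a
    rw [hσ, hσ, pow_q_pow_q' hK]
  obtain ⟨b, hb⟩ := Cfsg.Agent.S0755.result D.σ hσne hσ2 D.B D.B_isSymm D.B_nondegenerate
  have hfr := finrank_VX X hX hF
  refine ⟨b.reindex (finCongr hfr), ?_⟩
  intro i j
  rw [Module.Basis.reindex_apply, Module.Basis.reindex_apply, hb]
  simp

end conc2

end Cfsg.Agent.Lib.Helper51
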