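import Mathlib
import Cfsg.Agent.Lib.Helper51.Cent7
set_option autoImplicit false
set_option linter.unusedSectionVars false

namespace Cfsg.Agent.Lib.Helper51

open Matrix Cfsg.Agent.Lib.Helper08

section conc3
variable {F : Type*} [Field F] [Fintype F] {m q : ℕ} [Fact (Irreducible (cyc3 F))]

/-- plain linear maps preserving the alternating form and commuting with `X` -/
def CentLin (X : Matrix (Fin m ⊕ Fin m) (Fin m ⊕ Fin m) F) : Type _ :=
  {ψ : ((Fin m ⊕ Fin m) → F) →ₗ[F] ((Fin m ⊕ Fin m) → F) //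
    (∀ u v, jform m F (ψ u) (ψ v) = jform m F u v) ∧ ∀ v, ψ (X *ᵥ v) = X *ᵥ ψ v}

/-- the centraliser as linear maps -/
noncomputable def centEquiv (x : Matrix.symplecticGroup (Fin m) F) :
    ↥(Subgroup.centralizer ({x} : Set ↥(Matrix.symplecticGroup (Fin m) F))) ≃
      CentLin (x : Matrix (Fin m ⊕ Fin m) (Fin m ⊕ Fin m) F) := by
  refine Equiv.ofBijective (fun g => ⟨Matrix.mulVecLin (g.1 : Matrix (Fin m ⊕ Fin m) (Fin m ⊕ Fin m) F), ?_, ?_⟩) ⟨?_, ?_⟩
  · intro u v
    exact (jform_pres_iff _).2 g.1.2 u v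
  · intro v
    have hg := g.2
    rw [Subgroup.mem_centralizer_iff] at hg
    have h1 := hg x (Set.mem_singleton x)
    have h2 : (x : Matrix (Fin m ⊕ Fin m) (Fin m ⊕ Fin m) F) * (g.1 : Matrix _ _ F) =
        (g.1 : Matrix _ _ F) * (x : Matrix _ _ F) := congr_arg Subtype.val h1
    rw [Matrix.mulVecLin_apply, Matrix.mulVecLin_apply, Matrix.mulVec_mulVec, Matrix.mulVec_mulVec,
      h2]
  · intro g g' h
    have h1 := congr_arg Subtype.val h
    simp only at h1
    apply Subtype.ext
    apply Subtype.ext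
    apply Matrix.mulVec_injective
    funext v
    exact LinearMap.congr_fun h1 v
  · rintro ⟨ψ, hψ1, hψ2⟩
    have hA : ∀ v, (LinearMap.toMatrix' ψ) *ᵥ v = ψ v := fun v => LinearMap.toMatrix'_mulVec ψ v
    have hsp : LinearMap.toMatrix' ψ ∈ Matrix.symplecticGroup (Fin m) F := by
      rw [← jform_pres_iff]
      intro u v
      rw [hA, hA, hψ1]
    have hcomm : (⟨LinearMap.toMatrix' ψ, hsp⟩ : ↥(Matrix.symplecticGroup (Fin m) F)) ∈
        Subgroup.centralizer ({x} : Set ↥(Matrix.symplecticGroup (Fin m) F)) := by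
      rw [Subgroup.mem_centralizer_iff]
      intro h hh
      rw [Set.mem_singleton_iff] at hh
      subst hh
      apply Subtype.ext
      show (h : Matrix _ _ F) * LinearMap.toMatrix' ψ = LinearMap.toMatrix' ψ * (h : Matrix _ _ F)
      apply Matrix.mulVec_injective
      funext v
      rw [← Matrix.mulVec_mulVec, ← Matrix.mulVec_mulVec, hA, hA, hψ2]
    refine ⟨⟨⟨LinearMap.toMatrix' ψ, hsp⟩, hcomm⟩, ?_⟩
    apply Subtype.ext
    apply LinearMap.ext
    intro v
    exact hA v

variable (X : Matrix (Fin m ⊕ Fin m) (Fin m ⊕ Fin m) F) (hX : X ^ 2 + X + 1 = 0)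

/-- `CentLin` in terms of the data -/
noncomputable def centLinEquiv (hF : Fintype.card F = q) (hq : q % 3 = 2)
    (hXsp : X ∈ Matrix.symplecticGroup (Fin m) F) (σ : K3 F →+* K3 F) (hσ : ∀ x, σ x = x ^ q) :
    CentLin X ≃ (cdata X hX hF hq hXsp σ hσ).IsoF :=
  Equiv.subtypeEquiv
    (show (((Fin m ⊕ Fin m) → F) →ₗ[F] ((Fin m ⊕ Fin m) → F)) ≃ (VX X hX →ₗ[F] VX X hX) from
      Equiv.refl _)
    (by
      intro ψ
      constructor
      · rintro ⟨h1, h2⟩
        refine ⟨fun u v => h1 u v, fun v => ?_⟩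
        exact (congr_arg ψ (root_smul X hX v)).trans
          ((h2 v).trans (root_smul X hX (show VX X hX from ψ v)).symm)
      · rintro ⟨h1, h2⟩
        refine ⟨fun u v => h1 u v, fun v => ?_⟩
        have h3 := h2 (show VX X hX from v)
        exact (congr_arg ψ (root_smul X hX (show VX X hX from v))).symm.trans
          (h3.trans (root_smul X hX (show VX X hX from ψ v))))

end conc3

end Cfsg.Agent.Lib.Helper51
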