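import Mathlib
import Cfsg.Agent.Lib.Helper51.Cent8
set_option autoImplicit false
set_option linter.unusedSectionVars false

namespace Cfsg.Agent.Lib.Helper51

open Matrix Cfsg.Agent.Lib.Helper08

section conc4
variable {F : Type*} [Field F] [Fintype F] {m q : ℕ} [Fact (Irreducible (cyc3 F))]

theorem card_centralizer_order3 (hF : Fintype.card F = q) (hq : q % 3 = 2)
    (x : Matrix.symplecticGroup (Fin m) F) (hx3 : x ^ 3 = 1)
    (hfpf : IsUnit ((x : Matrix (Fin m ⊕ Fin m) (Fin m ⊕ Fin m) F) - 1)) :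
    Nat.card ↥(Subgroup.centralizer ({x} : Set ↥(Matrix.symplecticGroup (Fin m) F))) =
      Nat.card ↥(Cfsg.GU m (K3 F) q) := by
  set X : Matrix (Fin m ⊕ Fin m) (Fin m ⊕ Fin m) F := (x : Matrix (Fin m ⊕ Fin m) (Fin m ⊕ Fin m) F) with hXdef
  have hX3 : X ^ 3 = 1 := by
    have := congr_arg Subtype.val hx3
    simpa using this
  have hX : X ^ 2 + X + 1 = 0 := by
    have h1 : (X - 1) * (X ^ 2 + X + 1) = 0 := by
      have : (X - 1) * (X ^ 2 + X + 1) = X ^ 3 - 1 := by noncomm_ring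
      rw [this, hX3, sub_self]
    exact (hfpf.mul_right_eq_zero).1 h1
  have hK := K3_card (F := F) hF
  obtain ⟨σ, hσ⟩ := exists_frob hK
  obtain ⟨e, he⟩ := exists_orthonormal X hX hF hq x.2 σ hσ
  set D := cdata X hX hF hq x.2 σ hσ with hD
  exact Nat.card_congr ((centEquiv x).trans ((centLinEquiv X hX hF hq x.2 σ hσ).trans
    ((D.isoEquiv).symm.trans ((D.matEquiv hσ e he).symm.trans (guEquiv hK).symm))))

end conc4

end Cfsg.Agent.Lib.Helper51
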