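import Mathlib
import Cfsg.Prelude.Def_Solvable
import Cfsg.Agent.S0034
import Cfsg.Agent.S0035
import Cfsg.Agent.S0042

/-!
# Order types of Frobenius groups (for S3999), part 1: general facts on Frobenius groups
-/

set_option autoImplicit false

namespace Cfsg.Agent.Lib.Helper51.FT

open Cfsg
open scoped Pointwise

/-- membership in a conjugate -/
theorem mem_conj_smul_iff {X : Type*} [Group X] (C : Subgroup X) (g x : X) :
    x ∈ MulAut.conj g • C ↔ g⁻¹ * x * g ∈ C := by
  rw [Subgroup.mem_pointwise_smul_iff_inv_smul_mem]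
  simp [MulAut.smul_def]

/-- the basic data of a Frobenius group -/
theorem frob_data {X : Type*} [Group X] [Finite X] (C : Subgroup X)
    (hC : IsFrobeniusComplement C) :
    ∃ K : Subgroup X, K.Normal ∧ Group.IsNilpotent K ∧ Subgroup.IsComplement' K C ∧
      (K : Set X) = frobeniusKernel C ∧ (Nat.card K).Coprime (Nat.card C) ∧
      Nat.card K * Nat.card C = Nat.card X := by
  obtain ⟨K, hK1, hK2, hK3⟩ := Cfsg.Agent.S0042.result C hC
  obtain ⟨K', hK'1, _, hK'3⟩ := Cfsg.Agent.S0035.result C hC
  have hKK : K' = K := SetLike.coe_injective (hK'1.trans hK1.symm)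
  subst hKK
  obtain ⟨h1, h2⟩ := Cfsg.Agent.S0034.result C hC
  have hcard : Nat.card K' * Nat.card C = Nat.card X := hK'3.card_mul_card
  have hidx : C.index = Nat.card K' := by
    have := Subgroup.card_mul_index C
    rw [← hcard] at this
    have hpos : 0 < Nat.card C := Nat.card_pos
    exact Nat.eq_of_mul_eq_mul_left hpos (this.trans (mul_comm _ _))
  refine ⟨K', hK2, hK3, hK'3, hK1, ?_, hcard⟩
  rw [hidx] at h2
  have h3 : Nat.card K' ≡ 1 [MOD Nat.card C] := h2
  have := Nat.ModEq.gcd_eq h3
  rw [Nat.Coprime, this]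
  simp

/-- every element of a Frobenius group lies in the kernel or in a conjugate of the complement -/
theorem mem_or_conj {X : Type*} [Group X] (C K : Subgroup X)
    (hK : (K : Set X) = frobeniusKernel C) (x : X) : x ∈ K ∨ ∃ g : X, g⁻¹ * x * g ∈ C := by
  by_cases hx : x ∈ K
  · exact Or.inl hx
  · right
    have : x ∉ frobeniusKernel C := by rw [← hK]; exact hx
    simp only [frobeniusKernel, Set.mem_ofPred_eq, not_or, not_forall, not_not] at this
    obtain ⟨_, g, hg⟩ := this
    exact ⟨g, (mem_conj_smul_iff C g x).1 hg⟩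

theorem orderOf_conj' {X : Type*} [Group X] (g x : X) : orderOf (g⁻¹ * x * g) = orderOf x := by
  have := orderOf_injective (MulAut.conj g⁻¹).toMonoidHom (MulAut.conj g⁻¹).injective x
  simpa using this

/-- a Frobenius group is solvable iff its complement is -/
theorem solvable_iff_complement {X : Type*} [Group X] [Finite X] (C : Subgroup X)
    (hC : IsFrobeniusComplement C) : Group.IsSolvable X ↔ Group.IsSolvable C := by
  constructor
  · intro h
    infer_instance
  · intro h
    obtain ⟨K, hKn, hKnil, hcomp, -, -, -⟩ := frob_data C hC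
    have hKs : Group.IsSolvable K := inferInstance
    have hq : Group.IsSolvable (X ⧸ K) := by
      apply Group.isSolvable_of_surjective (f := (QuotientGroup.mk' K).comp C.subtype)
      intro y
      obtain ⟨x, rfl⟩ := QuotientGroup.mk'_surjective K y
      obtain ⟨⟨k, c⟩, hkc⟩ := hcomp.2 x
      refine ⟨⟨c.1, c.2⟩, ?_⟩
      have hkc' : (k : X) * (c : X) = x := hkc
      rw [← hkc']
      simp only [MonoidHom.comp_apply, Subgroup.subtype_apply, map_mul]
      have hk1 : QuotientGroup.mk' K (k : X) = 1 := (QuotientGroup.eq_one_iff (k : X)).2 k.2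
      rw [hk1, one_mul]
    exact Group.isSolvable_of_ker_le_range K.subtype (QuotientGroup.mk' K)
      (by rw [QuotientGroup.ker_mk', Subgroup.range_subtype])

end Cfsg.Agent.Lib.Helper51.FT
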