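import Mathlib
import Cfsg.Agent.S0529

/-!
# Order types and Sylow towers (for S3998), part 1

`Big t m`: all prime divisors of `m` are `≥ t`; `Small t m`: all prime divisors are `< t`.
`HallBig t M`: `M` is a normal Hall subgroup for the primes `≥ t`.
A supersolvable group has such a subgroup for every `t`.
-/

set_option autoImplicit false

namespace Cfsg.Agent.Lib.Helper51.OT

def Big (t m : ℕ) : Prop := ∀ q : ℕ, q.Prime → q ∣ m → t ≤ q
def Small (t m : ℕ) : Prop := ∀ q : ℕ, q.Prime → q ∣ m → q < t

theorem big_one (t : ℕ) : Big t 1 := by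
  intro q hq h
  exact absurd (Nat.dvd_one.1 h) hq.one_lt.ne'

theorem small_one (t : ℕ) : Small t 1 := by
  intro q hq h
  exact absurd (Nat.dvd_one.1 h) hq.one_lt.ne'

theorem Big.mul {t a b : ℕ} (ha : Big t a) (hb : Big t b) : Big t (a * b) := by
  intro q hq h
  rcases (Nat.Prime.dvd_mul hq).1 h with h | h
  · exact ha q hq h
  · exact hb q hq h

theorem Small.mul {t a b : ℕ} (ha : Small t a) (hb : Small t b) : Small t (a * b) := by
  intro q hq h
  rcases (Nat.Prime.dvd_mul hq).1 h with h | h
  · exact ha q hq h
  · exact hb q hq h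

theorem Big.of_dvd {t a b : ℕ} (hb : Big t b) (h : a ∣ b) : Big t a :=
  fun q hq hqa => hb q hq (hqa.trans h)

theorem Small.of_dvd {t a b : ℕ} (hb : Small t b) (h : a ∣ b) : Small t a :=
  fun q hq hqa => hb q hq (hqa.trans h)

theorem Big.mono {s t a : ℕ} (h : Big t a) (hst : s ≤ t) : Big s a :=
  fun q hq hqa => hst.trans (h q hq hqa)

theorem big_prime_pow {p : ℕ} (hp : p.Prime) (k : ℕ) : Big p (p ^ k) := by
  intro q hq h
  have := (Nat.prime_dvd_prime_iff_eq hq hp).1 (hq.dvd_of_dvd_pow h)
  exact this.ge

theorem eq_one_of_big_small {t a : ℕ} (h1 : Big t a) (h2 : Small t a) : a = 1 := by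
  by_contra h
  obtain ⟨q, hq, hqa⟩ := Nat.exists_prime_and_dvd h
  exact absurd (h1 q hq hqa) (not_le.2 (h2 q hq hqa))

theorem coprime_of_big_small {t a b : ℕ} (ha : Big t a) (hb : Small t b) : Nat.Coprime a b := by
  have h1 : Big t (Nat.gcd a b) := ha.of_dvd (Nat.gcd_dvd_left a b)
  have h2 : Small t (Nat.gcd a b) := hb.of_dvd (Nat.gcd_dvd_right a b)
  exact eq_one_of_big_small h1 h2

/-- unique factorisation into a big and a small part -/
theorem eq_of_big_small {t a b c d : ℕ} (ha : Big t a) (hb : Small t b) (hc : Big t c)
    (hd : Small t d) (h : a * b = c * d) : a = c := by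
  have h1 : a ∣ c := by
    have : a ∣ c * d := ⟨b, h.symm⟩
    exact (coprime_of_big_small ha hd).dvd_of_dvd_mul_right this
  have h2 : c ∣ a := by
    have : c ∣ a * b := ⟨d, h⟩
    exact (coprime_of_big_small hc hb).dvd_of_dvd_mul_right this
  exact Nat.dvd_antisymm h1 h2

structure HallBig {X : Type*} [Group X] (t : ℕ) (M : Subgroup X) : Prop where
  normal : M.Normal
  big : Big t (Nat.card M)
  small : Small t M.index

/-- the elements of a normal Hall subgroup for the primes `≥ t` are the elements whose order
has only prime divisors `≥ t` -/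
theorem HallBig.mem_iff {X : Type*} [Group X] [Finite X] {t : ℕ} {M : Subgroup X}
    (hM : HallBig t M) (x : X) : x ∈ M ↔ Big t (orderOf x) := by
  have := hM.normal
  constructor
  · intro hx
    exact hM.big.of_dvd (Subgroup.orderOf_dvd_natCard M hx)
  · intro hx
    have h1 : orderOf (QuotientGroup.mk' M x) ∣ orderOf x := orderOf_map_dvd _ x
    have h2 : orderOf (QuotientGroup.mk' M x) ∣ M.index := by
      rw [Subgroup.index_eq_card]
      exact orderOf_dvd_natCard _
    have h3 := eq_one_of_big_small (hx.of_dvd h1) (hM.small.of_dvd h2)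
    rw [orderOf_eq_one_iff] at h3
    exact (QuotientGroup.eq_one_iff x).1 h3

theorem card_succ {G : Type*} [Group G] [Finite G] {A B : Subgroup G} (h : A ≤ B) :
    Nat.card B = Nat.card A * A.relIndex B := by
  have h1 := Subgroup.card_mul_index (A.subgroupOf B)
  rw [Nat.card_congr (Subgroup.subgroupOfEquivOfLe h).toEquiv] at h1
  exact h1.symm

/-- **G-side**: a supersolvable group has a normal Hall subgroup for the primes `≥ t`. -/
theorem exists_hallBig_of_supersolvable {G : Type*} [Group G] [Finite G]
    (hG : Cfsg.IsSupersolvable G) (t : ℕ) : ∃ M : Subgroup G, HallBig t M := by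
  classical
  obtain ⟨n, H, h0, hlast, hnorm, hstep, hmono⟩ := Cfsg.Agent.S0529.result hG
  -- lower part
  have c1 : ∀ i : Fin (n + 1), (∀ j : Fin n, j.castSucc < i →
      t ≤ (H j.castSucc).relIndex (H j.succ)) → Big t (Nat.card (H i)) := by
    intro i
    induction i using Fin.induction with
    | zero =>
      intro _
      rw [h0, Subgroup.card_bot]
      exact big_one t
    | succ i ih =>
      intro hj
      rw [card_succ (hstep i).1]
      apply Big.mul
      · apply ih
        intro j hji
        exact hj j (hji.trans (Fin.castSucc_lt_succ))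
      · intro q hq hqd
        have := (Nat.prime_dvd_prime_iff_eq hq (hstep i).2).1 hqd
        rw [this]
        exact hj i (Fin.castSucc_lt_succ)
  -- upper part
  have c2 : ∀ i : Fin (n + 1), (∀ j : Fin n, i ≤ j.castSucc →
      (H j.castSucc).relIndex (H j.succ) < t) → Small t (H i).index := by
    intro i
    induction i using Fin.reverseInduction with
    | last =>
      intro _
      rw [hlast, Subgroup.index_top]
      exact small_one t
    | cast i ih =>
      intro hj
      rw [← Subgroup.relIndex_mul_index (hstep i).1]
      apply Small.mul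
      · intro q hq hqd
        have := (Nat.prime_dvd_prime_iff_eq hq (hstep i).2).1 hqd
        rw [this]
        exact hj i le_rfl
      · apply ih
        intro j hji
        apply hj j
        exact le_trans (le_of_lt Fin.castSucc_lt_succ) hji
  by_cases hS : ∃ j : Fin n, (H j.castSucc).relIndex (H j.succ) < t
  · -- the first small step
    let S : Finset (Fin n) := Finset.univ.filter
      (fun j => (H j.castSucc).relIndex (H j.succ) < t)
    have hSne : S.Nonempty := by
      obtain ⟨j, hj⟩ := hS
      exact ⟨j, by simp [S, hj]⟩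
    set j0 := S.min' hSne with hj0
    have hj0S : j0 ∈ S := Finset.min'_mem S hSne
    have hj0t : (H j0.castSucc).relIndex (H j0.succ) < t := by
      simpa [S] using hj0S
    refine ⟨H j0.castSucc, hnorm _, ?_, ?_⟩
    · apply c1
      intro j hj
      by_contra hlt
      have hjS : j ∈ S := by simp [S, not_le.1 hlt]
      have := Finset.min'_le S j hjS
      have hj' : j < j0 := by simpa using hj
      exact absurd this (not_le.2 hj')
    · apply c2
      intro j hj
      have hj' : j0 ≤ j := by simpa using hj
      exact lt_of_le_of_lt (hmono j0 j hj') hj0t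
  · push Not at hS
    refine ⟨H (Fin.last n), hnorm _, ?_, ?_⟩
    · apply c1
      intro j _
      exact hS j
    · rw [hlast, Subgroup.index_top]
      exact small_one t

end Cfsg.Agent.Lib.Helper51.OT
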