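import Mathlib
import Cfsg.Prelude.Def_Solvable
import Cfsg.Agent.Lib.Helper51.OT1
import Cfsg.Agent.Lib.Helper51.FT1
import Cfsg.Agent.S3359

/-!
# Order types of Frobenius groups (for S3999), part 2: group-theoretic tools
-/

set_option autoImplicit false

namespace Cfsg.Agent.Lib.Helper51.FT

open Cfsg
open scoped Pointwise

/-! ### products of normal subgroups of coprime orders -/

theorem card_sup_of_coprime {X : Type*} [Group X] [Finite X] (A B : Subgroup X) [B.Normal]
    (h : (Nat.card A).Coprime (Nat.card B)) :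
    Nat.card (A ⊔ B : Subgroup X) = Nat.card A * Nat.card B := by
  have h1 : Nat.card (A ⊔ B : Subgroup X) = Nat.card B * B.relIndex (A ⊔ B) :=
    Cfsg.Agent.Lib.Helper51.OT.card_succ le_sup_right
  rw [h1, Subgroup.relIndex_sup_right, ← Subgroup.inf_relIndex_right,
    (disjoint_iff.1 (Subgroup.disjoint_of_coprime_natCard h.symm) : B ⊓ A = ⊥), Subgroup.relIndex_bot_left, mul_comm]

theorem exists_normal_card_prod {X : Type*} [Group X] [Finite X] (s : Finset ℕ)
    (hs : ∀ p ∈ s, p.Prime)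
    (hn : ∀ p ∈ s, ∀ (_ : Fact p.Prime) (P : Sylow p X), (P : Subgroup X).Normal) :
    ∃ M : Subgroup X, M.Normal ∧ Nat.card M = ∏ p ∈ s, p ^ (Nat.card X).factorization p := by
  classical
  induction s using Finset.induction_on with
  | empty => exact ⟨⊥, inferInstance, by simp⟩
  | insert p s hps ih =>
    obtain ⟨M, hMn, hMc⟩ := ih (fun q hq => hs q (Finset.mem_insert_of_mem hq))
      (fun q hq => hn q (Finset.mem_insert_of_mem hq))
    have hp : Fact p.Prime := ⟨hs p (Finset.mem_insert_self p s)⟩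
    obtain ⟨P⟩ : Nonempty (Sylow p X) := inferInstance
    have hPn : (P : Subgroup X).Normal := hn p (Finset.mem_insert_self p s) hp P
    have hPc : Nat.card (P : Subgroup X) = p ^ (Nat.card X).factorization p :=
      Sylow.card_eq_multiplicity P
    refine ⟨(P : Subgroup X) ⊔ M, inferInstance, ?_⟩
    rw [card_sup_of_coprime, hPc, hMc, Finset.prod_insert hps]
    rw [hPc, hMc]
    apply Nat.Coprime.prod_right
    intro q hq
    apply Nat.Coprime.pow
    rw [Nat.coprime_primes hp.out (hs q (Finset.mem_insert_of_mem hq))]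
    rintro rfl
    exact hps hq

/-- a normal Hall subgroup of order `a` from normal Sylow subgroups -/
theorem exists_normal_card {X : Type*} [Group X] [Finite X] (a c : ℕ)
    (hX : Nat.card X = a * c) (hac : a.Coprime c)
    (hn : ∀ p, p ∣ a → ∀ (_ : Fact p.Prime) (P : Sylow p X), (P : Subgroup X).Normal) :
    ∃ M : Subgroup X, M.Normal ∧ Nat.card M = a := by
  have ha : a ≠ 0 := by
    rintro rfl
    rw [zero_mul] at hX
    exact Nat.card_pos.ne' hX
  have hc : c ≠ 0 := by
    rintro rfl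
    rw [mul_zero] at hX
    exact Nat.card_pos.ne' hX
  obtain ⟨M, hMn, hMc⟩ := exists_normal_card_prod (X := X) a.primeFactors
    (fun p hp => Nat.prime_of_mem_primeFactors hp)
    (fun p hp => hn p (Nat.dvd_of_mem_primeFactors hp))
  refine ⟨M, hMn, ?_⟩
  rw [hMc]
  conv_rhs => rw [← Nat.prod_factorization_pow_eq_self ha]
  rw [Finsupp.prod, Nat.support_factorization]
  apply Finset.prod_congr rfl
  intro p hp
  have hpp := Nat.prime_of_mem_primeFactors hp
  have hpa := Nat.dvd_of_mem_primeFactors hp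
  have hpc : ¬ p ∣ c := by
    intro h
    have := Nat.dvd_gcd hpa h
    rw [hac] at this
    exact hpp.one_lt.ne' (Nat.dvd_one.1 this)
  rw [hX, Nat.factorization_mul ha hc]
  simp [Nat.factorization_eq_zero_of_not_dvd hpc]

/-! ### groups of order 15 -/

theorem exists_orderOf_fifteen {U : Type*} [Group U] [Finite U] (h : Nat.card U = 15) :
    ∃ x : U, orderOf x = 15 := by
  have h3 : Fact (Nat.Prime 3) := ⟨by norm_num⟩
  have h5 : Fact (Nat.Prime 5) := ⟨by norm_num⟩
  obtain ⟨a, ha⟩ := exists_prime_orderOf_dvd_card' (G := U) 3 (by rw [h]; norm_num)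
  obtain ⟨b, hb⟩ := exists_prime_orderOf_dvd_card' (G := U) 5 (by rw [h]; norm_num)
  set B : Subgroup U := Subgroup.zpowers b with hB
  have hBc : Nat.card B = 5 := by rw [Nat.card_zpowers, hb]
  have hBi : B.index = 3 := by
    have := Subgroup.card_mul_index B
    rw [hBc, h] at this
    omega
  have hBn : B.Normal := by
    apply Subgroup.normal_of_index_eq_minFac_card
    rw [hBi, h]
    norm_num
  -- conjugation by `a` on `B`
  set φ : MulAut B := MulAut.conjNormal a with hφ
  have hφ3 : φ ^ 3 = 1 := by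
    rw [hφ, ← map_pow, ← ha, pow_orderOf_eq_one, map_one]
  have hφ4 : φ ^ 4 = 1 := by
    have hcard : Nat.card (MulAut B) = 4 := by
      rw [IsCyclic.card_mulAut, hBc]
      exact Nat.totient_prime (by norm_num)
    have := pow_card_eq_one' (G := MulAut B) (x := φ)
    rwa [hcard] at this
  have hφ1 : φ = 1 := by
    have : φ ^ 4 = φ ^ 3 * φ := pow_succ φ 3
    rw [hφ4, hφ3, one_mul] at this
    exact this.symm
  have hcomm : Commute a b := by
    have h1 : φ ⟨b, Subgroup.mem_zpowers b⟩ = ⟨b, Subgroup.mem_zpowers b⟩ := by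
      rw [hφ1]; rfl
    have h2 : a * b * a⁻¹ = b := by
      have := congrArg Subtype.val h1
      simpa [hφ, MulAut.conjNormal_apply] using this
    show a * b = b * a
    calc a * b = a * b * a⁻¹ * a := by group
      _ = b * a := by rw [h2]
  refine ⟨a * b, ?_⟩
  rw [hcomm.orderOf_mul_eq_mul_orderOf_of_coprime (by rw [ha, hb]; norm_num), ha, hb]

/-! ### `SL(2,5)` -/

set_option maxRecDepth 100000 in
theorem sl25_pow : ∀ s : Matrix.SpecialLinearGroup (Fin 2) (ZMod 5), s ^ 10 = 1 ∨ s ^ 12 = 1 := by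
  decide +kernel

/-- a non-solvable Frobenius complement has no element of order 15 -/
theorem no_fifteen {D : Type*} [Group D] [Finite D] (hns : ¬ Group.IsSolvable D)
    (hFC : ∃ (L : Type) (_ : Group L) (_ : Finite L) (H : Subgroup L),
      IsFrobeniusComplement H ∧ Nonempty (D ≃* H)) (y : D) : orderOf y ≠ 15 := by
  intro hy
  obtain ⟨G₀, hG₀n, hG₀i, S, M, hSM, hdis, hcomm, ⟨ψ⟩, -, hM30⟩ :=
    Cfsg.Agent.S3359.result hns hFC
  have hy15 : y ^ 15 = 1 := by rw [← hy]; exact pow_orderOf_eq_one y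
  have hy2 : y ^ 2 ∈ G₀ := by
    rcases hG₀i with h | h
    · rw [Subgroup.index_eq_one.1 h]; exact Subgroup.mem_top _
    · have := G₀.pow_index_mem y
      rwa [h] at this
  have hyG : y ∈ G₀ := by
    have : y = (y ^ 2) ^ 8 := by
      rw [← pow_mul]
      calc y = y ^ 15 * y := by rw [hy15, one_mul]
        _ = y ^ (2 * 8) := by rw [← pow_succ]
    rw [this]
    exact Subgroup.pow_mem _ hy2 8
  rw [← hSM] at hyG
  -- decompose `y = s * m`
  have hrange := MonoidHom.noncommCoprod_range S.subtype M.subtype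
    (fun s m => hcomm s.1 s.2 m.1 m.2)
  rw [Subgroup.range_subtype, Subgroup.range_subtype] at hrange
  rw [← hrange] at hyG
  obtain ⟨⟨s, m⟩, hsm⟩ := hyG
  have hsm' : (s : D) * (m : D) = y := hsm
  have hc : Commute (s : D) (m : D) := hcomm s.1 s.2 m.1 m.2
  have h1 : (s : D) ^ 15 * (m : D) ^ 15 = 1 := by rw [← hc.mul_pow, hsm', hy15]
  have h2 : (m : D) ^ 15 ∈ S ⊓ M := by
    refine ⟨?_, Subgroup.pow_mem _ m.2 15⟩
    have : (m : D) ^ 15 = ((s : D) ^ 15)⁻¹ := eq_inv_of_mul_eq_one_right h1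
    rw [this]
    exact Subgroup.inv_mem _ (Subgroup.pow_mem _ s.2 15)
  rw [hdis, Subgroup.mem_bot] at h2
  have hm1 : (m : D) = 1 := by
    have hd1 : orderOf (m : D) ∣ 15 := orderOf_dvd_of_pow_eq_one h2
    have hd2 : orderOf (m : D) ∣ Nat.card M := Subgroup.orderOf_dvd_natCard M m.2
    have hd3 : orderOf (m : D) ∣ Nat.gcd 15 (Nat.card M) := Nat.dvd_gcd hd1 hd2
    have hcop : Nat.gcd 15 (Nat.card M) = 1 := by
      have : Nat.Coprime (Nat.card M) 15 := Nat.Coprime.coprime_dvd_right (by norm_num) hM30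
      exact this.symm
    rw [hcop] at hd3
    exact orderOf_eq_one_iff.1 (Nat.dvd_one.1 hd3)
  rw [hm1, mul_one] at hsm'
  have hs15 : orderOf s = 15 := by
    rw [← Subgroup.orderOf_coe, hsm', hy]
  have hψ : orderOf (ψ s) = 15 := by rw [MulEquiv.orderOf_eq, hs15]
  rcases sl25_pow (ψ s) with h | h
  · have := orderOf_dvd_of_pow_eq_one h
    rw [hψ] at this
    omega
  · have := orderOf_dvd_of_pow_eq_one h
    rw [hψ] at this
    omega

/-! ### transport to a small universe -/

theorem isFrob_iff {X : Type*} [Group X] (C : Subgroup X) :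
    IsFrobeniusComplement C ↔
      C ≠ ⊥ ∧ C ≠ ⊤ ∧ ∀ g : X, g ∉ C → ∀ x ∈ C, g⁻¹ * x * g ∈ C → x = 1 := by
  unfold IsFrobeniusComplement
  refine and_congr Iff.rfl (and_congr Iff.rfl ?_)
  constructor
  · intro h g hg x hx hgx
    have : x ∈ C ⊓ MulAut.conj g • C := ⟨hx, (mem_conj_smul_iff C g x).2 hgx⟩
    rw [h g hg, Subgroup.mem_bot] at this
    exact this
  · intro h g hg
    rw [eq_bot_iff]
    rintro x ⟨hx1, hx2⟩
    rw [Subgroup.mem_bot]
    exact h g hg x hx1 ((mem_conj_smul_iff C g x).1 hx2)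

theorem exists_model {Y : Type*} [Group Y] [Finite Y] (C : Subgroup Y)
    (hC : IsFrobeniusComplement C) :
    ∃ (L : Type) (_ : Group L) (_ : Finite L) (H : Subgroup L),
      IsFrobeniusComplement H ∧ Nonempty (↥C ≃* H) := by
  let e : {i : ℕ // i < Nat.card Y} ≃ Y :=
    (Fin.equivSubtype.symm).trans (Finite.equivFin Y).symm
  let _ : Group {i : ℕ // i < Nat.card Y} := e.group
  let φ : Y ≃* {i : ℕ // i < Nat.card Y} := (e.mulEquiv).symm
  have hfin : Finite {i : ℕ // i < Nat.card Y} := Finite.of_equiv _ e.symm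
  refine ⟨{i : ℕ // i < Nat.card Y}, inferInstance, hfin,
    C.map (φ : Y →* {i : ℕ // i < Nat.card Y}), ?_, ⟨φ.subgroupMap C⟩⟩
  rw [isFrob_iff] at hC ⊢
  obtain ⟨h1, h2, h3⟩ := hC
  refine ⟨?_, ?_, ?_⟩
  · intro h
    apply h1
    exact (Subgroup.map_eq_bot_iff_of_injective C φ.injective).1 h
  · intro h
    apply h2
    rw [eq_top_iff]
    intro x _
    have : φ x ∈ C.map (φ : Y →* {i : ℕ // i < Nat.card Y}) := by rw [h]; exact Subgroup.mem_top _
    obtain ⟨c, hc, hcx⟩ := this
    have : c = x := φ.injective hcx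
    rwa [← this]
  · intro g hg x hx hgx
    obtain ⟨c, hc, rfl⟩ := hx
    obtain ⟨c', hc', hcc⟩ := hgx
    have hg' : φ.symm g ∉ C := by
      intro h
      apply hg
      exact ⟨φ.symm g, h, by simp⟩
    have h4 : (φ.symm g)⁻¹ * c * φ.symm g ∈ C := by
      have : c' = (φ.symm g)⁻¹ * c * φ.symm g := by
        apply φ.injective
        have : φ c' = g⁻¹ * φ c * g := hcc
        rw [this]
        simp
      rwa [← this]
    have := h3 _ hg' c hc h4
    rw [this]
    simp

end Cfsg.Agent.Lib.Helper51.FT
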