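import Mathlib
import Cfsg.Prelude.Def_Solvable
import Cfsg.Agent.Lib.Helper51.FT2
import Cfsg.Agent.S3997
import Cfsg.Agent.S0003
import Cfsg.Agent.S0039

/-!
# Order types of Frobenius groups (S3999), part 3: the theorem
-/

set_option autoImplicit false

namespace Cfsg.Agent.Lib.Helper51.FT

open Cfsg
open scoped Pointwise

/-- transfer of a normal Sylow subgroup along an order-preserving bijection
(the argument of `Cfsg.Agent.S3997.result`) -/
theorem normal_sylow_transfer {F G : Type*} [Group F] [Finite F] [Group G] [Finite G]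
    (e : F ≃ G) (he : ∀ x, orderOf (e x) = orderOf x) (p : ℕ) [hp : Fact p.Prime]
    (P : Sylow p F) (hPn : (P : Subgroup F).Normal) (Q : Sylow p G) :
    (Q : Subgroup G).Normal := by
  have hcard : Nat.card F = Nat.card G := Nat.card_congr e
  have hpe : (Cfsg.Agent.S3997.pElts p F).ncard = (Cfsg.Agent.S3997.pElts p G).ncard := by
    have : Cfsg.Agent.S3997.pElts p G = e '' Cfsg.Agent.S3997.pElts p F := by
      ext h
      constructor
      · rintro ⟨k, hk⟩
        refine ⟨e.symm h, ⟨k, ?_⟩, by simp⟩
        rw [← he, Equiv.apply_symm_apply, hk]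
      · rintro ⟨g, ⟨k, hk⟩, rfl⟩
        exact ⟨k, by rw [he, hk]⟩
    rw [this, Set.ncard_image_of_injective _ e.injective]
  have hPeq : ((P : Subgroup F) : Set F) = Cfsg.Agent.S3997.pElts p F :=
    Set.Subset.antisymm (Cfsg.Agent.S3997.sylow_subset_pElts p P)
      (Cfsg.Agent.S3997.pElts_subset_sylow_of_normal p P hPn)
  have hQcard : ∀ Q' : Sylow p G,
      ((Q' : Subgroup G) : Set G).ncard = (Cfsg.Agent.S3997.pElts p G).ncard := by
    intro Q'
    rw [← hpe, ← hPeq]
    change Nat.card (Q' : Subgroup G) = Nat.card (P : Subgroup F)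
    rw [Sylow.card_eq_multiplicity, Sylow.card_eq_multiplicity, hcard]
  have hQeq : ∀ Q' : Sylow p G, ((Q' : Subgroup G) : Set G) = Cfsg.Agent.S3997.pElts p G := by
    intro Q'
    exact Set.eq_of_subset_of_ncard_le (Cfsg.Agent.S3997.sylow_subset_pElts p Q')
      (hQcard Q').ge (Set.toFinite _)
  have : Subsingleton (Sylow p G) := by
    constructor
    intro Q1 Q2
    apply Sylow.ext
    apply SetLike.coe_injective
    rw [hQeq Q1, hQeq Q2]
  exact Sylow.normal_of_subsingleton Q

/-- **Part 1**: a group with the order type of a Frobenius group is a Frobenius group. -/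
theorem exists_frobenius {F G : Type*} [Group F] [Finite F] [Group G] [Finite G]
    (C : Subgroup F) (hC : IsFrobeniusComplement C) (e : F ≃ G)
    (he : ∀ x, orderOf (e x) = orderOf x) :
    ∃ CG : Subgroup G, IsFrobeniusComplement CG ∧ Nat.card CG = Nat.card C := by
  obtain ⟨K, hKn, hKnil, hcomp, hKset, hcop, hcard⟩ := frob_data C hC
  have hG : Nat.card G = Nat.card K * Nat.card C := by rw [← Nat.card_congr e, hcard]
  have hapos : 0 < Nat.card K := Nat.card_pos
  -- orders
  have hF1 : ∀ x : F, orderOf x ∣ Nat.card K ∨ orderOf x ∣ Nat.card C := by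
    intro x
    rcases mem_or_conj C K hKset x with h | ⟨g, hg⟩
    · exact Or.inl (Subgroup.orderOf_dvd_natCard K h)
    · right
      rw [← orderOf_conj' g x]
      exact Subgroup.orderOf_dvd_natCard C hg
  have hG1 : ∀ y : G, orderOf y ∣ Nat.card K ∨ orderOf y ∣ Nat.card C := by
    intro y
    have := hF1 (e.symm y)
    rwa [← he, Equiv.apply_symm_apply] at this
  -- elements of order dividing `|K|` lie in `K`
  have hKmem : ∀ x : F, orderOf x ∣ Nat.card K → x ∈ K := by
    intro x hx
    rcases mem_or_conj C K hKset x with h | ⟨g, hg⟩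
    · exact h
    · have h1 : orderOf x ∣ Nat.card C := by
        rw [← orderOf_conj' g x]
        exact Subgroup.orderOf_dvd_natCard C hg
      have h2 := Nat.dvd_gcd hx h1
      rw [hcop] at h2
      rw [orderOf_eq_one_iff.1 (Nat.dvd_one.1 h2)]
      exact Subgroup.one_mem K
  -- normal Sylow subgroups of `F` for the primes dividing `|K|`
  have hsylF : ∀ p, p ∣ Nat.card K → ∀ (_ : Fact p.Prime) (P : Sylow p F),
      (P : Subgroup F).Normal := by
    intro p hpa hp P
    have hPK : (P : Subgroup F) ≤ K := by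
      intro x hx
      apply hKmem
      obtain ⟨k, hk⟩ := (IsPGroup.iff_orderOf.mp P.isPGroup') ⟨x, hx⟩
      have hxo : orderOf x = p ^ k := by
        rw [← hk]
        exact (Subgroup.orderOf_mk x hx).symm
      rcases hF1 x with h | h
      · exact h
      · -- `p ^ k ∣ |C|` forces `k = 0`
        rw [hxo] at h ⊢
        rcases Nat.eq_zero_or_pos k with hk0 | hk0
        · rw [hk0, pow_zero]; exact one_dvd _
        · exfalso
          have hpc : p ∣ Nat.card C := (dvd_pow_self p hk0.ne').trans h
          have := Nat.dvd_gcd hpa hpc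
          rw [hcop] at this
          exact hp.out.one_lt.ne' (Nat.dvd_one.1 this)
    have hall : ∀ (q : ℕ) (_ : Fact q.Prime) (R : Sylow q K), (R : Subgroup K).Normal :=
      (Group.isNilpotent_of_finite_tfae.out 0 3).mp hKnil
    have hPKn : ((P.subtype hPK : Sylow p K) : Subgroup K).Normal := hall p hp (P.subtype hPK)
    have hchar : ((P.subtype hPK : Sylow p K) : Subgroup K).Characteristic :=
      Sylow.characteristic_of_normal _ hPKn
    have hmap : ((P.subtype hPK : Sylow p K) : Subgroup K).map K.subtype = (P : Subgroup F) := by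
      rw [Sylow.coe_subtype]
      exact Subgroup.map_subgroupOf_eq_of_le hPK
    rw [← hmap]
    infer_instance
  have hsylG : ∀ p, p ∣ Nat.card K → ∀ (_ : Fact p.Prime) (Q : Sylow p G),
      (Q : Subgroup G).Normal := by
    intro p hpa hp Q
    obtain ⟨P⟩ : Nonempty (Sylow p F) := inferInstance
    exact normal_sylow_transfer e he p P (hsylF p hpa hp P) Q
  obtain ⟨KG, hKGn, hKGc⟩ := exists_normal_card (X := G) (Nat.card K) (Nat.card C) hG hcop hsylG
  have hKGi : KG.index = Nat.card C := by
    have := Subgroup.card_mul_index KG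
    rw [hKGc, hG] at this
    exact Nat.eq_of_mul_eq_mul_left hapos this
  obtain ⟨CG, hCG⟩ := Subgroup.exists_right_complement'_of_coprime (N := KG)
    (by rw [hKGc, hKGi]; exact hcop)
  have hCGc : Nat.card CG = Nat.card C := by
    have := hCG.card_mul_card
    rw [hKGc, hG] at this
    exact Nat.eq_of_mul_eq_mul_left hapos this
  refine ⟨CG, ?_, hCGc⟩
  have hKGne : KG ≠ ⊥ := by
    intro h
    rw [h, Subgroup.card_bot] at hKGc
    apply hC.2.1
    rw [← Subgroup.card_eq_iff_eq_top, ← hcard, ← hKGc, one_mul]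
  have hCGne : CG ≠ ⊥ := by
    intro h
    rw [h, Subgroup.card_bot] at hCGc
    exact hC.1 (Subgroup.card_eq_one.1 hCGc.symm)
  rw [Cfsg.Agent.S0039.result KG CG hCG hKGne hCGne]
  intro h hh hh1
  rw [eq_bot_iff]
  rintro k ⟨hk1, hk2⟩
  rw [Subgroup.mem_bot]
  have hkh : Commute h k := by
    have := Subgroup.mem_centralizer_iff.1 hk2 h rfl
    exact this
  have hok : orderOf k ∣ Nat.card K := by
    rw [← hKGc]; exact Subgroup.orderOf_dvd_natCard KG hk1
  have hoh : orderOf h ∣ Nat.card C := by
    rw [← hCGc]; exact Subgroup.orderOf_dvd_natCard CG hh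
  have hcop' : (orderOf h).Coprime (orderOf k) :=
    Nat.Coprime.coprime_dvd_left hoh (Nat.Coprime.coprime_dvd_right hok hcop.symm)
  have hmul := hkh.orderOf_mul_eq_mul_orderOf_of_coprime hcop'
  rcases hG1 (h * k) with hd | hd
  · exfalso
    rw [hmul] at hd
    have h1 : orderOf h ∣ Nat.card K := (Dvd.intro _ rfl).trans hd
    have h2 := Nat.dvd_gcd h1 hoh
    rw [hcop] at h2
    exact hh1 (orderOf_eq_one_iff.1 (Nat.dvd_one.1 h2))
  · rw [hmul] at hd
    have h1 : orderOf k ∣ Nat.card C := (Dvd.intro_left _ rfl).trans hd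
    have h2 := Nat.dvd_gcd hok h1
    rw [hcop] at h2
    exact orderOf_eq_one_iff.1 (Nat.dvd_one.1 h2)

set_option maxRecDepth 100000 in
theorem sl25_card : Fintype.card (Matrix.SpecialLinearGroup (Fin 2) (ZMod 5)) = 120 := by
  decide +kernel

/-- **Part 2**: solvability of the complement is determined by the order type. -/
theorem solvable_transfer {X Y : Type*} [Group X] [Finite X] [Group Y] [Finite Y]
    (e : X ≃ Y) (he : ∀ x, orderOf (e x) = orderOf x)
    (CX : Subgroup X) (CY : Subgroup Y) (hCY : IsFrobeniusComplement CY)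
    (hcard : Nat.card CX = Nat.card CY) (hs : Group.IsSolvable CX) : Group.IsSolvable CY := by
  by_contra hns
  have hmodel := exists_model CY hCY
  have hno := no_fifteen hns hmodel
  -- the order of `CY`
  obtain ⟨G₀, hG₀n, hG₀i, S, M, hSM, hdis, hcomm, ⟨ψ⟩, -, hM30⟩ :=
    Cfsg.Agent.S3359.result hns hmodel
  have hScard : Nat.card S = 120 := by
    rw [Nat.card_congr ψ.toEquiv, Nat.card_eq_fintype_card, sl25_card]
  have hG₀card : Nat.card G₀ = 120 * Nat.card M := by
    have hinj := MonoidHom.noncommCoprod_injective S.subtype M.subtype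
      (fun s m => hcomm s.1 s.2 m.1 m.2)
    have hrange := MonoidHom.noncommCoprod_range S.subtype M.subtype
      (fun s m => hcomm s.1 s.2 m.1 m.2)
    rw [Subgroup.range_subtype, Subgroup.range_subtype, hSM] at hrange
    have hi : Function.Injective (S.subtype.noncommCoprod M.subtype
        (fun s m => hcomm s.1 s.2 m.1 m.2)) := by
      rw [hinj]
      refine ⟨Subgroup.subtype_injective S, Subgroup.subtype_injective M, ?_⟩
      rw [Subgroup.range_subtype, Subgroup.range_subtype, disjoint_iff, hdis]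
    rw [← hrange, ← Nat.card_congr (MonoidHom.ofInjective hi).toEquiv, Nat.card_prod, hScard]
  have hCYcard : ∃ n, Nat.card CY = 15 * n ∧ Nat.Coprime 15 n := by
    have h1 := Subgroup.card_mul_index G₀
    rw [hG₀card] at h1
    have hM15 : Nat.Coprime 15 (Nat.card M) :=
      (Nat.Coprime.coprime_dvd_right (by norm_num) hM30).symm
    rcases hG₀i with h | h
    · rw [h, mul_one] at h1
      refine ⟨8 * Nat.card M, by rw [← h1]; ring, ?_⟩
      exact Nat.Coprime.mul_right (by norm_num) hM15
    · rw [h] at h1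
      refine ⟨16 * Nat.card M, by rw [← h1]; ring, ?_⟩
      exact Nat.Coprime.mul_right (by norm_num) hM15
  obtain ⟨n, hn1, hn2⟩ := hCYcard
  -- a subgroup of order 15 in `CX`
  obtain ⟨U, hU⟩ := Cfsg.Agent.S0003.result (G := CX) 15 n (by rw [hcard, hn1]) hn2
  obtain ⟨u, hu⟩ := exists_orderOf_fifteen hU
  have hu' : orderOf ((u : CX) : X) = 15 := by
    rw [Subgroup.orderOf_coe, Subgroup.orderOf_coe, hu]
  set y : Y := e ((u : CX) : X) with hy
  have hy15 : orderOf y = 15 := by rw [hy, he, hu']
  -- `y` lies in a conjugate of `CY`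
  obtain ⟨KY, -, -, -, hKYset, hKYcop, -⟩ := frob_data CY hCY
  rcases mem_or_conj CY KY hKYset y with h | ⟨g, hg⟩
  · have h1 : 15 ∣ Nat.card KY := by
      rw [← hy15]; exact Subgroup.orderOf_dvd_natCard KY h
    have h2 : 15 ∣ Nat.card CY := by rw [hn1]; exact Dvd.intro _ rfl
    have := Nat.dvd_gcd h1 h2
    rw [hKYcop] at this
    omega
  · apply hno ⟨g⁻¹ * y * g, hg⟩
    rw [← Subgroup.orderOf_coe]
    show orderOf (g⁻¹ * y * g) = 15
    rw [orderOf_conj', hy15]

/-- **S3999** -/
theorem frobenius_orderType {F G : Type*} [Group F] [Finite F] [Group G] [Finite G]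
    (hF : ∃ C : Subgroup F, IsFrobeniusComplement C)
    (hT : ∀ m : ℕ, Nat.card {g : F // orderOf g = m} = Nat.card {h : G // orderOf h = m}) :
    (∃ C : Subgroup G, IsFrobeniusComplement C) ∧
      (Group.IsSolvable G ↔ Group.IsSolvable F) := by
  obtain ⟨C, hC⟩ := hF
  obtain ⟨e, he⟩ := Cfsg.Agent.S3997.exists_equiv hT
  obtain ⟨CG, hCG, hcard⟩ := exists_frobenius C hC e he
  refine ⟨⟨CG, hCG⟩, ?_⟩
  rw [solvable_iff_complement CG hCG, solvable_iff_complement C hC]
  have he' : ∀ y, orderOf (e.symm y) = orderOf y := by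
    intro y
    rw [← he, Equiv.apply_symm_apply]
  constructor
  · intro h
    exact solvable_transfer e.symm he' CG C hC hcard h
  · intro h
    exact solvable_transfer e he C CG hCG hcard.symm h

end Cfsg.Agent.Lib.Helper51.FT
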