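import Mathlib
import Cfsg.Prelude.Def_LieClassical
import Cfsg.Agent.Lib.Helper51.FieldAutU4
set_option autoImplicit false
set_option linter.unusedSectionVars false

namespace Cfsg.Agent.Lib.Helper51

open Matrix

section count2
variable {K : Type*} [Field K] [Fintype K] (σ : K ≃+* K) {n : ℕ} {q q₀ r : ℕ}

/-- the restriction of `scalarTimes` to norm-one scalars and unitary matrices over the fixed
field -/
noncomputable def scalarTimesU (n q q₀ : ℕ) :
    ↥(normOneU K q) × ↥(Cfsg.GU n (fixField σ) q₀) →* GL (Fin n) K :=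
  (scalarTimes σ).comp (MonoidHom.prodMap (normOneU K q).subtype (Cfsg.GU n (fixField σ) q₀).subtype)

theorem scalarTimesU_apply (p : ↥(normOneU K q) × ↥(Cfsg.GU n (fixField σ) q₀)) :
    scalarTimesU σ n q q₀ p = scalarTimes σ ((p.1 : Kˣ), (p.2 : GL (Fin n) (fixField σ))) := rfl

theorem card_sigma_scalar_GU (hr : Odd r) (hn : 1 ≤ n) (hq : q = q₀ ^ r)
    (hK : Fintype.card K = q ^ 2) (hσ : orderOf σ = r) :
    Nat.card (fixField σ) = q₀ ^ 2 ∧
    Nat.card {g : ↥(Cfsg.GU n K q) // ∃ c : K, c ≠ 0 ∧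
      ((g : GL (Fin n) K) : Matrix (Fin n) (Fin n) K).map σ =
        c • ((g : GL (Fin n) K) : Matrix (Fin n) (Fin n) K)} * (q₀ + 1) =
      (q + 1) * Nat.card (Cfsg.GU n (fixField σ) q₀) := by
  classical
  have hr0 : r ≠ 0 := by
    rintro rfl
    exact absurd hr (by decide)
  have hK' : Fintype.card K = (q₀ ^ 2) ^ r := by rw [hK, hq, ← pow_mul, ← pow_mul, mul_comm]
  have hK₀ : Nat.card (fixField σ) = q₀ ^ 2 := card_fixField σ hr0 hK' hσ
  refine ⟨hK₀, ?_⟩
  have : Fintype (fixField σ) := Fintype.ofFinite _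
  have hK₀' : Fintype.card (fixField σ) = q₀ ^ 2 := by rw [← Nat.card_eq_fintype_card, hK₀]
  obtain ⟨φ, hφ⟩ := exists_frob hK
  obtain ⟨φ₀, hφ₀⟩ := exists_frob hK₀'
  have hφφ : ∀ x, φ (φ x) = x := by
    intro x
    rw [hφ, hφ, ← pow_mul, ← sq, ← hK, FiniteField.pow_card]
  have hc : ∀ x : fixField σ, φ (x : K) = (φ₀ x : K) := by
    intro x
    rw [hφ, hφ₀, hq, ← pow_q_eq_pow_q₀ hK₀' r hr x]
    rfl
  have hnorm : ∀ μ : fixField σ, μ ≠ 0 → φ₀ μ = μ → ∃ e : fixField σ, e * φ₀ e = μ := by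
    intro μ hμ0 hμ
    rw [hφ₀] at hμ
    obtain ⟨e, he⟩ := exists_norm_eq hK₀' μ hμ0 hμ
    exact ⟨e, by rw [hφ₀]; exact he⟩
  -- the set as a range
  have hS : Nat.card {g : ↥(Cfsg.GU n K q) // ∃ c : K, c ≠ 0 ∧
      ((g : GL (Fin n) K) : Matrix (Fin n) (Fin n) K).map σ =
        c • ((g : GL (Fin n) K) : Matrix (Fin n) (Fin n) K)} =
      Nat.card (scalarTimesU σ n q q₀).range := by
    apply Nat.card_congr
    refine (Equiv.subtypeSubtypeEquivSubtypeInter (fun g : GL (Fin n) K => g ∈ Cfsg.GU n K q)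
      (fun g : GL (Fin n) K => ∃ c : K, c ≠ 0 ∧
        (g : Matrix (Fin n) (Fin n) K).map σ = c • (g : Matrix (Fin n) (Fin n) K))).trans ?_
    apply Equiv.subtypeEquivRight
    intro g
    rw [MonoidHom.mem_range]
    constructor
    · rintro ⟨hgU, hgσ⟩
      obtain ⟨⟨d, h₁⟩, hdh⟩ := exists_scalarTimes_eq σ (Nat.pos_of_ne_zero hr0) hσ hn g hgσ
      rw [← hdh] at hgU
      obtain ⟨z, h, hz, hh, hzh⟩ :=
        exists_scalarTimes_GU σ φ φ₀ hn hφ hφ₀ hφφ hc hnorm d h₁ hgU
      have hzN : z ∈ normOneU K q := by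
        rw [mem_normOneU]
        apply Units.ext
        rw [Units.val_pow_eq_pow_val, Units.val_one, pow_succ', ← hφ]
        exact hz
      exact ⟨(⟨z, hzN⟩, ⟨h, hh⟩), by rw [scalarTimesU_apply]; exact hzh.trans hdh⟩
    · rintro ⟨⟨⟨z, hzN⟩, ⟨h, hh⟩⟩, rfl⟩
      rw [scalarTimesU_apply]
      refine ⟨?_, scalarTimes_mem σ _⟩
      apply scalarTimes_mem_GU σ φ φ₀ hφ hφ₀ hc z _ h hh
      rw [mem_normOneU] at hzN
      have := congr_arg Units.val hzN
      rw [Units.val_pow_eq_pow_val, Units.val_one, pow_succ'] at this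
      rw [hφ]
      exact this
  -- kernel
  have hker : Nat.card (scalarTimesU σ n q q₀).ker = q₀ + 1 := by
    rw [← card_normOneU hK₀']
    symm
    have hmem : ∀ e : ↥(normOneU (fixField σ) q₀),
        (Units.map ((fixField σ).subtype : fixField σ →* K) (e : (fixField σ)ˣ))⁻¹ ∈ normOneU K q := by
      intro e
      have he := (mem_normOneU _).1 e.2
      rw [mem_normOneU, inv_pow, inv_eq_one]
      apply Units.ext
      rw [Units.val_pow_eq_pow_val, Units.val_one, Units.coe_map, MonoidHom.coe_coe,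
        Subfield.coe_subtype, pow_succ', ← hφ, hc, hφ₀]
      have := congr_arg Units.val he
      rw [Units.val_pow_eq_pow_val, Units.val_one, pow_succ'] at this
      rw [← Subfield.coe_mul, this]
      rfl
    have hmem2 : ∀ e : ↥(normOneU (fixField σ) q₀),
        Matrix.GeneralLinearGroup.scalar (Fin n) (e : (fixField σ)ˣ) ∈ Cfsg.GU n (fixField σ) q₀ := by
      intro e
      have he := (mem_normOneU _).1 e.2
      rw [mem_GU_iff_mul φ₀ hφ₀, Matrix.GeneralLinearGroup.coe_scalar, Matrix.scalar_apply]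
      have h1 : (Matrix.diagonal fun _ : Fin n => ((e : (fixField σ)ˣ) : fixField σ)) =
          ((e : (fixField σ)ˣ) : fixField σ) • (1 : Matrix (Fin n) (Fin n) (fixField σ)) := by
        ext i j
        by_cases hij : i = j
        · subst hij; simp
        · simp [hij]
      rw [h1, herm_smul, Matrix.transpose_one, Matrix.map_one _ (map_zero _) (map_one _),
        Matrix.one_mul, hφ₀]
      have := congr_arg Units.val he
      rw [Units.val_pow_eq_pow_val, Units.val_one, pow_succ'] at this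
      rw [this, one_smul]
    have hmem3 : ∀ e : ↥(normOneU (fixField σ) q₀),
        ((⟨_, hmem e⟩, ⟨_, hmem2 e⟩) : ↥(normOneU K q) × ↥(Cfsg.GU n (fixField σ) q₀)) ∈
          (scalarTimesU σ n q q₀).ker := by
      intro e
      rw [MonoidHom.mem_ker, scalarTimesU_apply]
      exact scalarTimes_kerElt σ (e : (fixField σ)ˣ)
    apply Nat.card_eq_of_bijective
      (fun e => (⟨_, hmem3 e⟩ : (scalarTimesU σ n q q₀).ker))
    constructor
    · intro e e' h
      have h1 := congr_arg (fun x : (scalarTimesU σ n q q₀).ker =>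
        ((x : ↥(normOneU K q) × ↥(Cfsg.GU n (fixField σ) q₀)).1 : Kˣ)) h
      simp only [_root_.inv_inj] at h1
      exact Subtype.ext (Units.map_injective (Subtype.val_injective) h1)
    · rintro ⟨⟨⟨z, hzN⟩, ⟨h, hh⟩⟩, hk⟩
      rw [MonoidHom.mem_ker, scalarTimesU_apply] at hk
      obtain ⟨e, he⟩ := exists_kerElt_of_mem_ker σ hn _ hk
      unfold kerElt at he
      have hz : z = (Units.map ((fixField σ).subtype : fixField σ →* K) e)⁻¹ := congr_arg Prod.fst he
      have hh' : h = Matrix.GeneralLinearGroup.scalar (Fin n) e := congr_arg Prod.snd he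
      have heN : e ∈ normOneU (fixField σ) q₀ := by
        rw [mem_normOneU]
        rw [mem_normOneU, hz, inv_pow, inv_eq_one] at hzN
        have h2 := congr_arg Units.val hzN
        rw [Units.val_pow_eq_pow_val, Units.val_one, Units.coe_map, MonoidHom.coe_coe,
          Subfield.coe_subtype, pow_succ', ← hφ, hc, hφ₀, ← Subfield.coe_mul, ← pow_succ'] at h2
        apply Units.ext
        rw [Units.val_pow_eq_pow_val, Units.val_one]
        exact Subtype.ext h2
      refine ⟨⟨e, heN⟩, ?_⟩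
      apply Subtype.ext
      apply Prod.ext
      · exact Subtype.ext hz.symm
      · exact Subtype.ext hh'.symm
  have hcard := Subgroup.card_mul_index (scalarTimesU σ n q q₀).ker
  rw [Subgroup.index_ker, hker, Nat.card_prod, card_normOneU hK, ← hS] at hcard
  rw [← hcard, mul_comm]

end count2

end Cfsg.Agent.Lib.Helper51
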