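import Mathlib
import Cfsg.Prelude.Def_Solvable

set_option autoImplicit false

namespace Cfsg.Agent.Lib.Helper51.Gag

variable {G : Type*} [Group G] [Finite G]

/-- a `p`-element normalising the nontrivial `p`-group `N` centralises some `b ≠ 1` of `N`. -/
theorem g06_fixed {p : ℕ} [Fact p.Prime] (N : Subgroup G) [N.Normal]
    (hNp : IsPGroup p N) (hN1 : N ≠ ⊥) (y : G) (hy : orderOf y = p) :
    ∃ b ∈ N, b ≠ 1 ∧ y * b = b * y := by
  classical
  let K : Subgroup (ConjAct G) := Subgroup.zpowers (ConjAct.toConjAct y)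
  have hKp : IsPGroup p K := by
    refine IsPGroup.of_card (n := 1) ?_
    rw [Nat.card_zpowers, pow_one, ← hy]
    exact MulEquiv.orderOf_eq (ConjAct.toConjAct (G := G)) y
  have hpN : p ∣ Nat.card N := by
    rcases hNp.card_eq_or_dvd with h1 | h
    · exfalso
      apply hN1
      exact Subgroup.card_eq_one.mp h1
    · exact h
  have h1fix : (1 : N) ∈ MulAction.fixedPoints K N := by
    intro k
    exact smul_one k
  obtain ⟨b, hbfix, hb1⟩ := hKp.exists_fixed_point_of_prime_dvd_card_of_fixed_point N hpN h1fix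
  refine ⟨(b : G), b.2, ?_, ?_⟩
  · intro h
    apply hb1
    exact Subtype.ext h.symm
  · have h := hbfix ⟨ConjAct.toConjAct y, Subgroup.mem_zpowers _⟩
    have h2 : ((ConjAct.toConjAct y • b : N) : G) = (b : G) := congrArg Subtype.val h
    rw [ConjAct.Subgroup.val_conj_smul, ConjAct.toConjAct_smul] at h2
    calc y * (b : G) = y * (b : G) * y⁻¹ * y := by group
      _ = (b : G) * y := by rw [h2]

/-- G06 (MEDIUM-HARD): a split extension `G = N L` with the Camina property has `p ∤ [G:N]`. -/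
theorem split_kill {p : ℕ} [Fact p.Prime] (N : Subgroup G) [hNn : N.Normal]
    (hNp : IsPGroup p N) (hN1 : N ≠ ⊥)
    (hcam : ∀ x : G, x ∉ N → ∀ n ∈ N, IsConj x (x * n))
    (L : Subgroup G) (hLN : L ⊓ N = ⊥) (hNL : ∀ g : G, ∃ n ∈ N, ∃ l ∈ L, g = n * l) :
    ¬ p ∣ N.index := by
  classical
  intro hpidx
  -- `L` is a complement of `N`
  have hcompl : L.IsComplement' N := by
    refine Subgroup.isComplement'_of_disjoint_and_mul_eq_univ (disjoint_iff.mpr hLN) ?_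
    rw [Set.eq_univ_iff_forall]
    intro g
    obtain ⟨n, hn, l, hl, hg⟩ := hNL g⁻¹
    refine ⟨l⁻¹, L.inv_mem hl, n⁻¹, N.inv_mem hn, ?_⟩
    show l⁻¹ * n⁻¹ = g
    rw [← mul_inv_rev, ← hg, inv_inv]
  have hcardL : N.index = Nat.card L := hcompl.index_eq_card
  rw [hcardL] at hpidx
  obtain ⟨y0, hy0⟩ := exists_prime_orderOf_dvd_card' p hpidx
  set y : G := (y0 : G) with hydef
  have hyL : y ∈ L := y0.2
  have hy : orderOf y = p := by
    rw [hydef, Subgroup.orderOf_coe]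
    exact hy0
  have hy1 : y ≠ 1 := by
    intro h
    rw [h, orderOf_one] at hy
    exact (Fact.out : p.Prime).one_lt.ne hy
  have hyN : y ∉ N := by
    intro h
    apply hy1
    have : y ∈ L ⊓ N := ⟨hyL, h⟩
    rw [hLN] at this
    exact Subgroup.mem_bot.mp this
  -- surjectivity from Camina
  have hsurj : ∀ n ∈ N, ∃ m ∈ N, m * y * m⁻¹ = y * n := by
    intro n hn
    obtain ⟨g, hg⟩ := isConj_iff.mp (hcam y hyN n hn)
    obtain ⟨m, hm, l, hl, rfl⟩ := hNL g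
    refine ⟨m, hm, ?_⟩
    have hy' : l * y * l⁻¹ ∈ L := L.mul_mem (L.mul_mem hl hyL) (L.inv_mem hl)
    have hkey : l * y * l⁻¹ = m⁻¹ * (y * n) * m := by
      rw [← hg]
      group
    have hmemN : y⁻¹ * (l * y * l⁻¹) ∈ N := by
      rw [hkey]
      have h1 : y⁻¹ * m⁻¹ * y⁻¹⁻¹ ∈ N := hNn.conj_mem _ (N.inv_mem hm) _
      have h2 : y⁻¹ * m⁻¹ * y⁻¹⁻¹ * n * m ∈ N := N.mul_mem (N.mul_mem h1 hn) hm
      have e : y⁻¹ * (m⁻¹ * (y * n) * m) = y⁻¹ * m⁻¹ * y⁻¹⁻¹ * n * m := by group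
      rw [e]
      exact h2
    have hmemL : y⁻¹ * (l * y * l⁻¹) ∈ L := L.mul_mem (L.inv_mem hyL) hy'
    have h1 : y⁻¹ * (l * y * l⁻¹) = 1 := by
      have : y⁻¹ * (l * y * l⁻¹) ∈ L ⊓ N := ⟨hmemL, hmemN⟩
      rw [hLN] at this
      exact Subgroup.mem_bot.mp this
    have h2 : l * y * l⁻¹ = y := by
      have := congrArg (fun z => y * z) h1
      simpa using this
    calc m * y * m⁻¹ = m * (l * y * l⁻¹) * m⁻¹ := by rw [h2]
      _ = m * l * y * (m * l)⁻¹ := by group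
      _ = y * n := hg
  -- the map m ↦ y⁻¹ m y m⁻¹ on N
  let f : N → N := fun m => ⟨y⁻¹ * (m : G) * y * (m : G)⁻¹, by
    have h1 : y⁻¹ * (m : G) * y⁻¹⁻¹ ∈ N := hNn.conj_mem _ m.2 _
    have h2 : y⁻¹ * (m : G) * y⁻¹⁻¹ * (m : G)⁻¹ ∈ N := N.mul_mem h1 (N.inv_mem m.2)
    simpa using h2⟩
  have hfsurj : Function.Surjective f := by
    intro n
    obtain ⟨m, hm, hmy⟩ := hsurj (n : G) n.2
    refine ⟨⟨m, hm⟩, ?_⟩
    apply Subtype.ext
    show y⁻¹ * m * y * m⁻¹ = (n : G)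
    calc y⁻¹ * m * y * m⁻¹ = y⁻¹ * (m * y * m⁻¹) := by group
      _ = y⁻¹ * (y * n) := by rw [hmy]
      _ = (n : G) := by group
  have hfinj : Function.Injective f := Finite.injective_iff_surjective.mpr hfsurj
  obtain ⟨b, hbN, hb1, hyb⟩ := g06_fixed N hNp hN1 y hy
  have hfb : f ⟨b, hbN⟩ = f 1 := by
    apply Subtype.ext
    show y⁻¹ * b * y * b⁻¹ = y⁻¹ * ((1 : N) : G) * y * ((1 : N) : G)⁻¹
    rw [Subgroup.coe_one]
    calc y⁻¹ * b * y * b⁻¹ = y⁻¹ * (b * y) * b⁻¹ := by group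
      _ = y⁻¹ * (y * b) * b⁻¹ := by rw [hyb]
      _ = y⁻¹ * 1 * y * 1⁻¹ := by group
  have := hfinj hfb
  apply hb1
  exact congrArg Subtype.val this

end Cfsg.Agent.Lib.Helper51.Gag
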