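import Cfsg.Agent.Lib.Helper06.Hall4.Defs

/-!
# K-H4 pack (S4221, architect helper6), LEAF P1 (422104): odd powers that are involutions.
-/

set_option autoImplicit false
set_option linter.unusedSectionVars false
open Equiv

namespace Cfsg.Agent.Lib.Helper51.Hall4
open Cfsg.Agent.Lib.Helper06.Hall4

variable {α : Type*} [Fintype α] [DecidableEq α]

theorem exists_odd_pow_invol (G : Subgroup (Perm α)) (hodd : Odd4 G)
    {a b c d : α} (hab : a ≠ b) (hac : a ≠ c) (had : a ≠ d) (hbc : b ≠ c) (hbd : b ≠ d)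
    (hcd : c ≠ d) {g : Perm α} (hg : g ∈ G) (ha : g (g a) = a) (hb : g (g b) = b)
    (hc : g (g c) = c) (hd : g (g d) = d) : ∃ k : ℕ, Odd k ∧ g ^ k * g ^ k = 1 := by
  have hmem : g * g ∈ FS G {a, b, c, d} := by
    refine ⟨G.mul_mem hg hg, ?_⟩
    intro s hs
    simp only [Set.mem_insert_iff, Set.mem_singleton_iff] at hs
    rw [Perm.mul_apply]
    rcases hs with rfl | rfl | rfl | rfl
    · exact ha
    · exact hb
    · exact hc
    · exact hd
  have hdvd : orderOf (g * g) ∣ Nat.card (FS G {a, b, c, d}) :=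
    Subgroup.orderOf_dvd_natCard _ hmem
  refine ⟨orderOf (g * g), Odd.of_dvd_nat (hodd a b c d hab hac had hbc hbd hcd) hdvd, ?_⟩
  rw [← (Commute.refl g).mul_pow]
  exact pow_orderOf_eq_one (g * g)

theorem pow_odd_apply (g : Perm α) (p : α) (h : g (g p) = p) {k : ℕ} (hk : Odd k) :
    (g ^ k) p = g p := by
  obtain ⟨m, rfl⟩ := hk
  induction m with
  | zero => simp
  | succ m ih =>
    have e : g ^ (2 * (m + 1) + 1) = g ^ (2 * m + 1) * (g * g) := by
      rw [show 2 * (m + 1) + 1 = (2 * m + 1) + 2 by ring, pow_add, pow_two]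
    rw [e, Perm.mul_apply, Perm.mul_apply, h]
    exact ih

end Cfsg.Agent.Lib.Helper51.Hall4
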