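import Mathlib
set_option autoImplicit false
set_option linter.unusedSectionVars false

namespace Cfsg.Agent.Lib.Helper51

section lines
variable {K V : Type*} [Field K] [Fintype K] [AddCommGroup V] [Module K V] [Finite V]

theorem span_coe_eq_of_linearIndependent (W : Submodule K V) (hW : Module.finrank K W = 2)
    (t : Fin 2 → W) (ht : LinearIndependent K t) :
    Submodule.span K (Set.range (fun i => (t i : V))) = W := by
  have h1 : Submodule.span K (Set.range t) = ⊤ :=
    ht.span_eq_top_of_card_eq_finrank' (by rw [Fintype.card_fin, hW])
  have h2 : Set.range (fun i => (t i : V)) = W.subtype '' Set.range t := by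
    rw [← Set.range_comp]
    rfl
  rw [h2, ← Submodule.map_span, h1, Submodule.map_subtype_top]

/-- counting two-dimensional subspaces with a property through their ordered bases -/
theorem card_pairs_eq_card_lines (P : Submodule K V → Prop) :
    Nat.card {s : Fin 2 → V // LinearIndependent K s ∧ P (Submodule.span K (Set.range s))} =
      Nat.card {W : Submodule K V // Module.finrank K W = 2 ∧ P W} *
        ((Fintype.card K ^ 2 - 1) * (Fintype.card K ^ 2 - Fintype.card K)) := by
  classical
  have : Fintype {W : Submodule K V // Module.finrank K W = 2 ∧ P W} := Fintype.ofFinite _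
  let φ : {s : Fin 2 → V // LinearIndependent K s ∧ P (Submodule.span K (Set.range s))} →
      {W : Submodule K V // Module.finrank K W = 2 ∧ P W} :=
    fun s => ⟨Submodule.span K (Set.range s.1), by
      rw [finrank_span_eq_card s.2.1, Fintype.card_fin], s.2.2⟩
  rw [← Nat.card_congr (Equiv.sigmaFiberEquiv φ), Nat.card_sigma]
  have hfib : ∀ W : {W : Submodule K V // Module.finrank K W = 2 ∧ P W},
      Nat.card {s // φ s = W} =
        (Fintype.card K ^ 2 - 1) * (Fintype.card K ^ 2 - Fintype.card K) := by
    intro W
    have hc := card_linearIndependent (K := K) (V := W.1) (k := 2) (by rw [W.2.1])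
    rw [W.2.1, Fin.prod_univ_two] at hc
    simp only [Fin.val_zero, pow_zero, Fin.val_one, pow_one] at hc
    rw [← hc]
    symm
    apply Nat.card_eq_of_bijective
      (fun t : {t : Fin 2 → W.1 // LinearIndependent K t} =>
        (⟨⟨fun i => (t.1 i : V), t.2.map' W.1.subtype (Submodule.ker_subtype _), by
          rw [span_coe_eq_of_linearIndependent W.1 W.2.1 t.1 t.2]; exact W.2.2⟩, by
          apply Subtype.ext
          exact span_coe_eq_of_linearIndependent W.1 W.2.1 t.1 t.2⟩ : {s // φ s = W}))
    constructor
    · intro t t' h
      have h1 := congr_arg (fun x : {s // φ s = W} => (x.1.1 : Fin 2 → V)) h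
      simp only at h1
      apply Subtype.ext
      funext i
      apply Subtype.ext
      exact congr_fun h1 i
    · rintro ⟨⟨s, hs1, hs2⟩, hsW⟩
      have hsp : Submodule.span K (Set.range s) = W.1 := congr_arg Subtype.val hsW
      have hmem : ∀ i, s i ∈ W.1 := by
        intro i
        rw [← hsp]
        exact Submodule.subset_span ⟨i, rfl⟩
      refine ⟨⟨fun i => ⟨s i, hmem i⟩, ?_⟩, ?_⟩
      · apply LinearIndependent.of_comp W.1.subtype
        exact hs1
      · apply Subtype.ext
        apply Subtype.ext
        rfl
  rw [Finset.sum_congr rfl (fun W _ => hfib W), Finset.sum_const, Finset.card_univ, smul_eq_mul,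
    Nat.card_eq_fintype_card]

end lines

end Cfsg.Agent.Lib.Helper51
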