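import Mathlib
import Cfsg.Agent.Lib.Helper51.Lines1
set_option autoImplicit false
set_option linter.unusedSectionVars false

namespace Cfsg.Agent.Lib.Helper51

section lines2
variable {K V : Type*} [Field K] [Fintype K] [AddCommGroup V] [Module K V] [Finite V]

theorem range_pair (v w : V) : Set.range ![v, w] = {v, w} := by
  ext x
  simp only [Set.mem_range, Set.mem_insert_iff, Set.mem_singleton_iff]
  constructor
  · rintro ⟨i, rfl⟩
    fin_cases i
    · left; rfl
    · right; rfl
  · rintro (rfl | rfl)
    · exact ⟨0, rfl⟩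
    · exact ⟨1, rfl⟩

theorem linearIndependent_pair_of_not_mem (v w : V) (hv : v ≠ 0)
    (hw : w ∉ Submodule.span K {v}) : LinearIndependent K ![v, w] := by
  rw [LinearIndependent.pair_iff' hv]
  intro a ha
  apply hw
  rw [Submodule.mem_span_singleton]
  exact ⟨a, ha⟩

theorem finrank_span_pair (v w : V) (hv : v ≠ 0) (hw : w ∉ Submodule.span K {v}) :
    Module.finrank K (Submodule.span K {v, w}) = 2 := by
  rw [← range_pair, finrank_span_eq_card (linearIndependent_pair_of_not_mem v w hv hw),
    Fintype.card_fin]

theorem span_pair_eq (W : Submodule K V) (hW : Module.finrank K W = 2) (v w : V) (hv : v ≠ 0)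
    (hvW : v ∈ W) (hwW : w ∈ W) (hw : w ∉ Submodule.span K {v}) :
    Submodule.span K {v, w} = W := by
  have hle : Submodule.span K {v, w} ≤ W := by
    rw [Submodule.span_le]
    intro x hx
    rcases hx with rfl | rfl
    · exact hvW
    · exact hwW
  apply Submodule.eq_of_le_of_finrank_eq hle
  rw [finrank_span_pair v w hv hw, hW]

theorem card_diff_span (W : Submodule K V) (hW : Module.finrank K W = 2) (v : V) (hv : v ≠ 0)
    (hvW : v ∈ W) :
    Nat.card {w : V // w ∈ W ∧ w ∉ Submodule.span K {v}} =
      Fintype.card K ^ 2 - Fintype.card K := by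
  classical
  have hsub : ((Submodule.span K {v} : Submodule K V) : Set V) ⊆ (W : Set V) := by
    intro x hx
    have : Submodule.span K {v} ≤ W := by
      rw [Submodule.span_le]
      intro y hy
      rw [Set.mem_singleton_iff] at hy
      rw [hy]; exact hvW
    exact this hx
  have h1 : Nat.card {w : V // w ∈ W ∧ w ∉ Submodule.span K {v}} =
      ((W : Set V) \ ((Submodule.span K {v} : Submodule K V) : Set V)).ncard := by
    rw [← Nat.card_coe_set_eq]
    rfl
  rw [h1, Set.ncard_sdiff hsub (Set.toFinite _)]
  have h2 : (W : Set V).ncard = Fintype.card K ^ 2 := by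
    rw [← Nat.card_coe_set_eq]
    show Nat.card W = _
    rw [Module.natCard_eq_pow_finrank (K := K) (V := W), hW, Nat.card_eq_fintype_card]
  have h3 : (((Submodule.span K {v} : Submodule K V)) : Set V).ncard = Fintype.card K := by
    rw [← Nat.card_coe_set_eq]
    show Nat.card (Submodule.span K {v} : Submodule K V) = _
    rw [Module.natCard_eq_pow_finrank (K := K) (V := (Submodule.span K {v} : Submodule K V)),
      finrank_span_singleton hv, pow_one, Nat.card_eq_fintype_card]
  rw [h2, h3]

/-- counting the two-dimensional subspaces with a property through a given vector -/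
theorem card_second_eq_card_lines_through (P : Submodule K V → Prop) (v : V) (hv : v ≠ 0) :
    Nat.card {w : V // w ∉ Submodule.span K {v} ∧ P (Submodule.span K {v, w})} =
      Nat.card {W : Submodule K V // Module.finrank K W = 2 ∧ v ∈ W ∧ P W} *
        (Fintype.card K ^ 2 - Fintype.card K) := by
  classical
  have : Fintype {W : Submodule K V // Module.finrank K W = 2 ∧ v ∈ W ∧ P W} := Fintype.ofFinite _
  let φ : {w : V // w ∉ Submodule.span K {v} ∧ P (Submodule.span K {v, w})} →
      {W : Submodule K V // Module.finrank K W = 2 ∧ v ∈ W ∧ P W} :=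
    fun w => ⟨Submodule.span K {v, w.1}, finrank_span_pair v w.1 hv w.2.1,
      Submodule.subset_span (Set.mem_insert _ _), w.2.2⟩
  rw [← Nat.card_congr (Equiv.sigmaFiberEquiv φ), Nat.card_sigma]
  have hfib : ∀ W : {W : Submodule K V // Module.finrank K W = 2 ∧ v ∈ W ∧ P W},
      Nat.card {w // φ w = W} = Fintype.card K ^ 2 - Fintype.card K := by
    intro W
    rw [← card_diff_span W.1 W.2.1 v hv W.2.2.1]
    symm
    apply Nat.card_eq_of_bijective
      (fun w : {w : V // w ∈ W.1 ∧ w ∉ Submodule.span K {v}} =>
        (⟨⟨w.1, w.2.2, by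
          rw [span_pair_eq W.1 W.2.1 v w.1 hv W.2.2.1 w.2.1 w.2.2]; exact W.2.2.2⟩, by
          apply Subtype.ext
          exact span_pair_eq W.1 W.2.1 v w.1 hv W.2.2.1 w.2.1 w.2.2⟩ : {w // φ w = W}))
    constructor
    · intro w w' h
      have h1 := congr_arg (fun x : {w // φ w = W} => (x.1.1 : V)) h
      exact Subtype.ext h1
    · rintro ⟨⟨w, hw1, hw2⟩, hwW⟩
      have hsp : Submodule.span K {v, w} = W.1 := congr_arg Subtype.val hwW
      have hmem : w ∈ W.1 := by
        rw [← hsp]
        exact Submodule.subset_span (Set.mem_insert_of_mem _ rfl)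
      exact ⟨⟨w, hmem, hw1⟩, rfl⟩
  rw [Finset.sum_congr rfl (fun W _ => hfib W), Finset.sum_const, Finset.card_univ, smul_eq_mul,
    Nat.card_eq_fintype_card]

end lines2

end Cfsg.Agent.Lib.Helper51
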