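import Mathlib
import Cfsg.Agent.Lib.Helper51.Lines2
set_option autoImplicit false
set_option linter.unusedSectionVars false

namespace Cfsg.Agent.Lib.Helper51

section pairs
variable {K V : Type*} [Field K] [Fintype K] [AddCommGroup V] [Module K V] [Finite V]

/-- ordered independent pairs as a sigma type -/
theorem card_pairs_eq_card_sigma (P : Submodule K V → Prop) :
    Nat.card {s : Fin 2 → V // LinearIndependent K s ∧ P (Submodule.span K (Set.range s))} =
      Nat.card (Σ v : {v : V // v ≠ 0},
        {w : V // w ∉ Submodule.span K {v.1} ∧ P (Submodule.span K {v.1, w})}) := by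
  symm
  apply Nat.card_eq_of_bijective
    (fun p : (Σ v : {v : V // v ≠ 0},
        {w : V // w ∉ Submodule.span K {v.1} ∧ P (Submodule.span K {v.1, w})}) =>
      (⟨![p.1.1, p.2.1], linearIndependent_pair_of_not_mem p.1.1 p.2.1 p.1.2 p.2.2.1, by
        rw [range_pair]; exact p.2.2.2⟩ :
        {s : Fin 2 → V // LinearIndependent K s ∧ P (Submodule.span K (Set.range s))}))
  constructor
  · rintro ⟨⟨v, hv⟩, ⟨w, hw⟩⟩ ⟨⟨v', hv'⟩, ⟨w', hw'⟩⟩ h
    have h1 := congr_arg Subtype.val h
    simp only at h1
    have h2 : v = v' := congr_fun h1 0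
    have h3 : w = w' := congr_fun h1 1
    subst h2
    subst h3
    rfl
  · rintro ⟨s, hs1, hs2⟩
    have hs : s = ![s 0, s 1] := by
      funext i
      fin_cases i <;> rfl
    have h0 : s 0 ≠ 0 := hs1.ne_zero 0
    have h1 : s 1 ∉ Submodule.span K {s 0} := by
      intro hmem
      rw [Submodule.mem_span_singleton] at hmem
      obtain ⟨a, ha⟩ := hmem
      rw [hs, LinearIndependent.pair_iff' h0] at hs1
      exact hs1 a ha
    have h2 : P (Submodule.span K {s 0, s 1}) := by
      rw [← range_pair, ← hs]; exact hs2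
    refine ⟨⟨⟨s 0, h0⟩, ⟨s 1, h1, h2⟩⟩, ?_⟩
    apply Subtype.ext
    exact hs.symm

end pairs

end Cfsg.Agent.Lib.Helper51
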