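import Mathlib
import Cfsg.Agent.Lib.Helper51.UnitaryT3
import Cfsg.Agent.Lib.Helper51.Lines4
set_option autoImplicit false
set_option linter.unusedSectionVars false

namespace Cfsg.Agent.Lib.Helper51

open Matrix Cfsg.Agent.Lib.Helper08

section herm
variable {K : Type*} [Field K] [Fintype K] {q : ℕ}

/-- a pair spans a totally isotropic subspace iff it consists of orthogonal isotropic vectors -/
theorem hform_span_pair {ι : Type} [Fintype ι] (hK : Fintype.card K = q ^ 2) (v w : ι → K) :
    (∀ u ∈ Submodule.span K {v, w}, ∀ u' ∈ Submodule.span K {v, w}, hform ι K q u u' = 0) ↔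
      hform ι K q v v = 0 ∧ hform ι K q w w = 0 ∧ hform ι K q v w = 0 := by
  have hq0 : q ≠ 0 := by have := one_lt_q' hK; omega
  have hv : v ∈ Submodule.span K {v, w} := Submodule.subset_span (Set.mem_insert _ _)
  have hw : w ∈ Submodule.span K {v, w} := Submodule.subset_span (Set.mem_insert_of_mem _ rfl)
  constructor
  · intro h
    exact ⟨h v hv v hv, h w hw w hw, h v hv w hw⟩
  · rintro ⟨h1, h2, h3⟩ u hu u' hu'
    rw [Submodule.mem_span_pair] at hu hu'
    obtain ⟨a, b, rfl⟩ := hu
    obtain ⟨a', b', rfl⟩ := hu'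
    have h4 : hform ι K q w v = 0 := by rw [← hform_conj hK, h3, zero_pow hq0]
    simp only [hform_add_left, hform_add_right hK, hform_smul_left, hform_smul_right, h1, h2, h3,
      h4]
    ring

theorem hform_cons_cons {k : ℕ} (a b a' b' : K) (u u' : Fin k → K) :
    hform (Fin (k + 2)) K q (Fin.cons a (Fin.cons b u)) (Fin.cons a' (Fin.cons b' u')) =
      a * a' ^ q + b * b' ^ q + hform (Fin k) K q u u' := by
  unfold hform
  rw [Fin.sum_univ_succ, Fin.sum_univ_succ]
  simp only [Fin.cons_zero, Fin.cons_succ]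
  ring

/-- the isotropic vectors orthogonal to a specific isotropic vector -/
theorem card_perp_isotropic_std (hK : Fintype.card K = q ^ 2) (k : ℕ) (ε : K)
    (hε : ε * ε ^ q = -1) :
    Nat.card {w : Fin (k + 2) → K //
      hform (Fin (k + 2)) K q (Fin.cons 1 (Fin.cons ε (0 : Fin k → K))) w = 0 ∧
        hform (Fin (k + 2)) K q w w = 0} =
      q ^ 2 * Nat.card {u : Fin k → K // hform (Fin k) K q u u = 0} := by
  classical
  have hq0 : q ≠ 0 := by have := one_lt_q' hK; omega
  set γ : K := -(ε ^ q) with hγ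
  have hγN : γ * γ ^ q = -1 := by
    rw [hγ, neg_pow_q hK, pow_q_pow_q' hK]
    linear_combination hε
  have hcond : ∀ a b : K, a ^ q + ε * b ^ q = 0 ↔ a = γ * b := by
    intro a b
    constructor
    · intro h
      have h1 : a ^ q = -(ε * b ^ q) := by linear_combination h
      have h2 : (a ^ q) ^ q = (-(ε * b ^ q)) ^ q := by rw [h1]
      rw [pow_q_pow_q' hK, neg_pow_q hK, mul_pow, pow_q_pow_q' hK] at h2
      rw [h2, hγ]
      ring
    · intro h
      rw [h, mul_pow, hγ, neg_pow_q hK, pow_q_pow_q' hK]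
      ring
  rw [← hK, ← Nat.card_eq_fintype_card (α := K), ← Nat.card_prod]
  symm
  apply Nat.card_eq_of_bijective
    (fun p : K × {u : Fin k → K // hform (Fin k) K q u u = 0} =>
      (⟨Fin.cons (γ * p.1) (Fin.cons p.1 p.2.1), by
        constructor
        · rw [hform_cons_cons, hform_zero_left, add_zero, one_mul]
          exact (hcond _ _).2 rfl
        · rw [hform_cons_cons, p.2.2, add_zero, mul_pow]
          linear_combination (p.1 * p.1 ^ q) * hγN⟩ :
        {w : Fin (k + 2) → K //
          hform (Fin (k + 2)) K q (Fin.cons 1 (Fin.cons ε (0 : Fin k → K))) w = 0 ∧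
            hform (Fin (k + 2)) K q w w = 0}))
  constructor
  · rintro ⟨t, ⟨u, hu⟩⟩ ⟨t', ⟨u', hu'⟩⟩ h
    have h1 := congr_arg Subtype.val h
    simp only at h1
    have h2 := congr_fun h1 1
    have h3 : t = t' := by
      have : (1 : Fin (k + 2)) = Fin.succ 0 := rfl
      rw [this, Fin.cons_succ, Fin.cons_succ, Fin.cons_zero, Fin.cons_zero] at h2
      exact h2
    have h4 : u = u' := by
      funext i
      have := congr_fun h1 i.succ.succ
      simpa using this
    subst h3
    subst h4
    rfl
  · rintro ⟨w, hw1, hw2⟩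
    have hw : w = Fin.cons (w 0) (Fin.cons (w 1) (fun i => w i.succ.succ)) := by
      funext i
      refine Fin.cases ?_ (fun j => ?_) i
      · rfl
      · refine Fin.cases ?_ (fun l => ?_) j
        · rfl
        · rfl
    rw [hw, hform_cons_cons, hform_zero_left, add_zero, one_mul] at hw1
    have h0 : w 0 = γ * w 1 := (hcond _ _).1 hw1
    have hu : hform (Fin k) K q (fun i => w i.succ.succ) (fun i => w i.succ.succ) = 0 := by
      rw [hw, hform_cons_cons, h0, mul_pow] at hw2
      linear_combination hw2 - (w 1 * w 1 ^ q) * hγN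
    refine ⟨(w 1, ⟨fun i => w i.succ.succ, hu⟩), ?_⟩
    apply Subtype.ext
    show Fin.cons (γ * w 1) (Fin.cons (w 1) (fun i => w i.succ.succ)) = w
    rw [← h0]
    exact hw.symm

end herm

end Cfsg.Agent.Lib.Helper51
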