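import Mathlib
import Cfsg.Agent.Lib.Helper51.Herm1
set_option autoImplicit false
set_option linter.unusedSectionVars false

namespace Cfsg.Agent.Lib.Helper51

open Matrix Cfsg.Agent.Lib.Helper08

section herm2
variable {K : Type*} [Field K] [Fintype K] {q : ℕ} {ι : Type} [Fintype ι] [DecidableEq ι]

theorem card_perp_isotropic_le (hK : Fintype.card K = q ^ 2) (v : ι → K) (M : Matrix ι ι K)
    (hM : IsIsoMat q M) :
    Nat.card {w : ι → K // hform ι K q v w = 0 ∧ hform ι K q w w = 0} ≤
      Nat.card {w : ι → K // hform ι K q (M *ᵥ v) w = 0 ∧ hform ι K q w w = 0} := by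
  apply Nat.card_le_card_of_injective
    (fun w : {w : ι → K // hform ι K q v w = 0 ∧ hform ι K q w w = 0} =>
      (⟨M *ᵥ w.1, by rw [hM]; exact w.2.1, by rw [hM]; exact w.2.2⟩ :
        {w : ι → K // hform ι K q (M *ᵥ v) w = 0 ∧ hform ι K q w w = 0}))
  intro w w' h
  have h1 := congr_arg Subtype.val h
  simp only at h1
  apply Subtype.ext
  exact (Matrix.mulVec_injective_iff_isUnit.2 (hM.isUnit hK)) h1

theorem card_perp_isotropic_eq (hK : Fintype.card K = q ^ 2) (v v' : ι → K)
    (hv0 : v ≠ 0) (hv'0 : v' ≠ 0) (hv : hform ι K q v v = 0) (hv' : hform ι K q v' v' = 0) :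
    Nat.card {w : ι → K // hform ι K q v w = 0 ∧ hform ι K q w w = 0} =
      Nat.card {w : ι → K // hform ι K q v' w = 0 ∧ hform ι K q w w = 0} := by
  obtain ⟨M, hM, hMv⟩ := exists_iso_map_isotropic hK v v' hv0 hv'0 hv hv'
  obtain ⟨M', hM', hMv'⟩ := exists_iso_map_isotropic hK v' v hv'0 hv0 hv' hv
  apply le_antisymm
  · have := card_perp_isotropic_le hK v M hM
    rw [hMv] at this
    exact this
  · have := card_perp_isotropic_le hK v' M' hM'
    rw [hMv'] at this
    exact this

/-- the second vectors of totally isotropic pairs starting with `v` -/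
theorem card_second_isotropic (hK : Fintype.card K = q ^ 2) (v : ι → K) (hv0 : v ≠ 0)
    (hv : hform ι K q v v = 0) :
    Nat.card {w : ι → K // w ∉ Submodule.span K {v} ∧
      (hform ι K q v v = 0 ∧ hform ι K q w w = 0 ∧ hform ι K q v w = 0)} =
      Nat.card {w : ι → K // hform ι K q v w = 0 ∧ hform ι K q w w = 0} - q ^ 2 := by
  classical
  have hsub : ((Submodule.span K {v} : Submodule K (ι → K)) : Set (ι → K)) ⊆
      {w | hform ι K q v w = 0 ∧ hform ι K q w w = 0} := by
    intro x hx
    rw [SetLike.mem_coe, Submodule.mem_span_singleton] at hx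
    obtain ⟨a, rfl⟩ := hx
    show hform ι K q v (a • v) = 0 ∧ hform ι K q (a • v) (a • v) = 0
    rw [hform_smul_right, hform_smul_left, hform_smul_right, hv]
    simp
  have h1 : Nat.card {w : ι → K // w ∉ Submodule.span K {v} ∧
      (hform ι K q v v = 0 ∧ hform ι K q w w = 0 ∧ hform ι K q v w = 0)} =
      ({w | hform ι K q v w = 0 ∧ hform ι K q w w = 0} \
        ((Submodule.span K {v} : Submodule K (ι → K)) : Set (ι → K))).ncard := by
    rw [← Nat.card_coe_set_eq]
    apply Nat.card_congr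
    apply Equiv.subtypeEquivRight
    intro w
    simp only [Set.mem_sdiff, Set.mem_ofPred_eq, SetLike.mem_coe]
    constructor
    · rintro ⟨h1, _, h3, h4⟩
      exact ⟨⟨h4, h3⟩, h1⟩
    · rintro ⟨⟨h4, h3⟩, h1⟩
      exact ⟨h1, hv, h3, h4⟩
  rw [h1, Set.ncard_sdiff hsub (Set.toFinite _)]
  have h3 : (((Submodule.span K {v} : Submodule K (ι → K))) : Set (ι → K)).ncard = q ^ 2 := by
    rw [← Nat.card_coe_set_eq]
    show Nat.card (Submodule.span K {v} : Submodule K (ι → K)) = _
    rw [Module.natCard_eq_pow_finrank (K := K)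
      (V := (Submodule.span K {v} : Submodule K (ι → K))),
      finrank_span_singleton hv0, pow_one, Nat.card_eq_fintype_card, hK]
  rw [h3, ← Nat.card_coe_set_eq]
  rfl

theorem card_second_nonisotropic (v : ι → K) (hv : hform ι K q v v ≠ 0) :
    Nat.card {w : ι → K // w ∉ Submodule.span K {v} ∧
      (hform ι K q v v = 0 ∧ hform ι K q w w = 0 ∧ hform ι K q v w = 0)} = 0 := by
  have : IsEmpty {w : ι → K // w ∉ Submodule.span K {v} ∧
      (hform ι K q v v = 0 ∧ hform ι K q w w = 0 ∧ hform ι K q v w = 0)} :=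
    ⟨fun w => hv w.2.2.1⟩
  exact Nat.card_of_isEmpty

end herm2

end Cfsg.Agent.Lib.Helper51
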