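import Mathlib
import Cfsg.Agent.Lib.Helper51.Herm2
set_option autoImplicit false
set_option linter.unusedSectionVars false

namespace Cfsg.Agent.Lib.Helper51

open Matrix Cfsg.Agent.Lib.Helper08

section herm3
variable {K : Type*} [Field K] [Fintype K] {q : ℕ}

theorem card_second_isotropic_std (hK : Fintype.card K = q ^ 2) (k : ℕ) (v : Fin (k + 2) → K)
    (hv0 : v ≠ 0) (hv : hform (Fin (k + 2)) K q v v = 0) :
    Nat.card {w : Fin (k + 2) → K // w ∉ Submodule.span K {v} ∧
      (hform (Fin (k + 2)) K q v v = 0 ∧ hform (Fin (k + 2)) K q w w = 0 ∧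
        hform (Fin (k + 2)) K q v w = 0)} =
      q ^ 2 * Nat.card {u : Fin k → K // hform (Fin k) K q u u = 0} - q ^ 2 := by
  obtain ⟨ε, hε⟩ := exists_norm_eq hK (-1 : K) (neg_ne_zero.2 one_ne_zero) (by
    rw [neg_pow_q hK, one_pow])
  set v₀ : Fin (k + 2) → K := Fin.cons 1 (Fin.cons ε (0 : Fin k → K)) with hv₀
  have hv₀0 : v₀ ≠ 0 := by
    intro h
    have := congr_fun h 0
    simp [hv₀] at this
  have hv₀i : hform (Fin (k + 2)) K q v₀ v₀ = 0 := by
    rw [hv₀, hform_cons_cons, hform_zero_left, one_pow, one_mul, hε]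
    ring
  rw [card_second_isotropic hK v hv0 hv, card_perp_isotropic_eq hK v v₀ hv0 hv₀0 hv hv₀i,
    card_perp_isotropic_std hK k ε hε]

/-- the number of totally isotropic two-dimensional subspaces of the hermitian space of dimension
`k + 2`, in terms of the numbers of isotropic vectors -/
theorem card_ti_lines_mul (hK : Fintype.card K = q ^ 2) (k : ℕ) :
    Nat.card {W : Submodule K (Fin (k + 2) → K) // Module.finrank K W = 2 ∧
      ∀ u ∈ W, ∀ v ∈ W, hform (Fin (k + 2)) K q u v = 0} *
        (((q ^ 2) ^ 2 - 1) * ((q ^ 2) ^ 2 - q ^ 2)) =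
      (Nat.card {v : Fin (k + 2) → K // hform (Fin (k + 2)) K q v v = 0} - 1) *
        (q ^ 2 * Nat.card {u : Fin k → K // hform (Fin k) K q u u = 0} - q ^ 2) := by
  classical
  have h1 := card_pairs_eq_card_lines (K := K) (V := Fin (k + 2) → K)
    (fun W => ∀ u ∈ W, ∀ v ∈ W, hform (Fin (k + 2)) K q u v = 0)
  have h2 := card_pairs_eq_card_sigma (K := K) (V := Fin (k + 2) → K)
    (fun W => ∀ u ∈ W, ∀ v ∈ W, hform (Fin (k + 2)) K q u v = 0)
  rw [hK] at h1
  rw [← h1, h2, Nat.card_sigma]
  set c := q ^ 2 * Nat.card {u : Fin k → K // hform (Fin k) K q u u = 0} - q ^ 2 with hc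
  have h3 : ∀ v : {v : Fin (k + 2) → K // v ≠ 0},
      Nat.card {w : Fin (k + 2) → K // w ∉ Submodule.span K {v.1} ∧
        (∀ u ∈ Submodule.span K {v.1, w}, ∀ u' ∈ Submodule.span K {v.1, w},
          hform (Fin (k + 2)) K q u u' = 0)} =
      if hform (Fin (k + 2)) K q v.1 v.1 = 0 then c else 0 := by
    intro v
    have h4 : Nat.card {w : Fin (k + 2) → K // w ∉ Submodule.span K {v.1} ∧
        (∀ u ∈ Submodule.span K {v.1, w}, ∀ u' ∈ Submodule.span K {v.1, w},
          hform (Fin (k + 2)) K q u u' = 0)} =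
        Nat.card {w : Fin (k + 2) → K // w ∉ Submodule.span K {v.1} ∧
          (hform (Fin (k + 2)) K q v.1 v.1 = 0 ∧ hform (Fin (k + 2)) K q w w = 0 ∧
            hform (Fin (k + 2)) K q v.1 w = 0)} := by
      apply Nat.card_congr
      apply Equiv.subtypeEquivRight
      intro w
      rw [hform_span_pair hK]
    rw [h4]
    by_cases hv : hform (Fin (k + 2)) K q v.1 v.1 = 0
    · rw [if_pos hv, card_second_isotropic_std hK k v.1 v.2 hv]
    · rw [if_neg hv, card_second_nonisotropic v.1 hv]
  rw [Finset.sum_congr rfl (fun v _ => h3 v), Finset.sum_ite, Finset.sum_const_zero, add_zero,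
    Finset.sum_const, smul_eq_mul]
  congr 1
  -- the number of nonzero isotropic vectors
  have h5 : (Finset.univ.filter (fun v : {v : Fin (k + 2) → K // v ≠ 0} =>
      hform (Fin (k + 2)) K q v.1 v.1 = 0)).card + 1 =
      Nat.card {v : Fin (k + 2) → K // hform (Fin (k + 2)) K q v v = 0} := by
    rw [Nat.card_eq_fintype_card, Fintype.card_subtype]
    have h6 : (Finset.univ.filter (fun v : {v : Fin (k + 2) → K // v ≠ 0} =>
        hform (Fin (k + 2)) K q v.1 v.1 = 0)).card =
        ((Finset.univ.filter (fun v : Fin (k + 2) → K =>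
          hform (Fin (k + 2)) K q v v = 0)).erase 0).card := by
      apply Finset.card_bij (fun v _ => v.1)
      · intro v hv
        rw [Finset.mem_filter] at hv
        rw [Finset.mem_erase, Finset.mem_filter]
        exact ⟨v.2, Finset.mem_univ _, hv.2⟩
      · intro v _ v' _ h
        exact Subtype.ext h
      · intro v hv
        rw [Finset.mem_erase, Finset.mem_filter] at hv
        exact ⟨⟨v, hv.1⟩, by rw [Finset.mem_filter]; exact ⟨Finset.mem_univ _, hv.2.2⟩, rfl⟩
    rw [h6, Finset.card_erase_of_mem]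
    · apply Nat.sub_add_cancel
      apply Finset.card_pos.2
      exact ⟨0, by rw [Finset.mem_filter]; exact ⟨Finset.mem_univ _, hform_zero_left _⟩⟩
    · rw [Finset.mem_filter]; exact ⟨Finset.mem_univ _, hform_zero_left _⟩
  omega

end herm3

end Cfsg.Agent.Lib.Helper51
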