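import Mathlib
import Cfsg.Agent.Lib.Helper51.Herm3
import Cfsg.Agent.Lib.Helper99.HermCount
set_option autoImplicit false
set_option linter.unusedSectionVars false

namespace Cfsg.Agent.Lib.Helper51

open Matrix Cfsg.Agent.Lib.Helper08

theorem arith_lines_aux (q N i a b : ℤ) (hq : 2 ≤ q)
    (h : N * ((q ^ 4 - 1) * (q ^ 4 - q ^ 2)) = (q ^ 4 - 1) * a * (q ^ 2 * (b * (q ^ 2 - 1))))
    (hi : i = a * b) : N = i := by
  have h2 : (4 : ℤ) ≤ q ^ 2 := by nlinarith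
  have h4 : (16 : ℤ) ≤ q ^ 4 := by nlinarith
  have hne : (q ^ 4 - 1) * (q ^ 2 * (q ^ 2 - 1)) ≠ 0 := by
    apply mul_ne_zero
    · linarith
    · apply mul_ne_zero <;> linarith
  apply mul_right_cancel₀ hne
  rw [hi]
  linear_combination h

section herm4
variable {K : Type*} [Field K] [Fintype K] {q : ℕ}

theorem card_isotropic_int (hK : Fintype.card K = q ^ 2) (n : ℕ) :
    ∃ A : ℤ, (q : ℤ) * A = (q : ℤ) ^ n * ((q : ℤ) ^ n - (-1) ^ n) ∧
      (Nat.card {v : Fin n → K // hform (Fin n) K q v v = 0} : ℤ) =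
        (q : ℤ) ^ (2 * n) - ((q : ℤ) - 1) * A := by
  have h1 := (Cfsg.Agent.Lib.Helper99.hcnt_eq hK n).1
  obtain ⟨h2, h3⟩ := Cfsg.Agent.Lib.Helper99.hAZ_closed (Cfsg.Agent.Lib.Helper99.herm_q_ge_two hK) n
  refine ⟨((Cfsg.Agent.Lib.Helper99.hAZ q n).1 : ℤ), h2, ?_⟩
  rw [← h3, ← h1]
  rfl

/-- the general identity over the integers -/
theorem card_ti_lines_int (hK : Fintype.card K = q ^ 2) (k : ℕ) (N i2 i4 : ℕ)
    (hN : N = Nat.card {W : Submodule K (Fin (k + 2) → K) // Module.finrank K W = 2 ∧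
      ∀ u ∈ W, ∀ v ∈ W, hform (Fin (k + 2)) K q u v = 0})
    (hi4 : i4 = Nat.card {v : Fin (k + 2) → K // hform (Fin (k + 2)) K q v v = 0})
    (hi2 : i2 = Nat.card {u : Fin k → K // hform (Fin k) K q u u = 0}) :
    (N : ℤ) * ((((q : ℤ)) ^ 4 - 1) * (((q : ℤ)) ^ 4 - (q : ℤ) ^ 2)) =
      ((i4 : ℤ) - 1) * ((q : ℤ) ^ 2 * (i2 : ℤ) - (q : ℤ) ^ 2) := by
  have hq : 2 ≤ q := Cfsg.Agent.Lib.Helper99.herm_q_ge_two hK
  have hmain := card_ti_lines_mul hK k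
  rw [← hN, ← hi4, ← hi2] at hmain
  have h1i4 : 1 ≤ i4 := by
    rw [hi4]
    have : Nonempty {v : Fin (k + 2) → K // hform (Fin (k + 2)) K q v v = 0} :=
      ⟨⟨0, hform_zero_left _⟩⟩
    exact Nat.card_pos
  have h1i2 : 1 ≤ i2 := by
    rw [hi2]
    have : Nonempty {v : Fin k → K // hform (Fin k) K q v v = 0} :=
      ⟨⟨0, hform_zero_left _⟩⟩
    exact Nat.card_pos
  have h3 : q ^ 2 ≤ q ^ 2 * i2 := by nlinarith
  have h1 : 1 ≤ (q ^ 2) ^ 2 := Nat.one_le_pow _ _ (by positivity)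
  have h2 : q ^ 2 ≤ (q ^ 2) ^ 2 := by nlinarith [Nat.one_le_pow 2 q (by omega)]
  have := congr_arg (Nat.cast : ℕ → ℤ) hmain
  push_cast [h1, h2, h1i4, h3] at this
  rw [← this]
  ring

end herm4

end Cfsg.Agent.Lib.Helper51
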