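import Mathlib
import Cfsg.Agent.Lib.Helper51.QuadExt
import Cfsg.Agent.Lib.Helper51.Hyper

set_option autoImplicit false

namespace Cfsg.Agent.Lib.Helper51

section
variable {F K : Type*} [Field F] [Fintype F] [Field K] [Fintype K] [Algebra F K] {q : ℕ}
variable {I : Type*}

def HypData.pvec (d : HypData F K q) (x : Fin 2 × I → F) (i : I) : K :=
  algebraMap F K (x (0, i)) * d.b 0 + algebraMap F K (x (1, i)) * d.b 1

def HypData.pvec' (d : HypData F K q) (y : Fin 2 × I → F) (i : I) : K :=
  algebraMap F K (y (0, i)) * d.w 0 + algebraMap F K (y (1, i)) * d.w 1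

/-- the vector of `K ^ (2 × I)` attached to coordinates `x, y` over the small field -/
def HypData.pairFun (d : HypData F K q) (x y : Fin 2 × I → F) : Fin 2 × I → K := fun k =>
  if k.1 = 0 then d.pvec x k.2 + d.pvec' y k.2 else d.ε * d.pvec x k.2 + d.ε' * d.pvec' y k.2

theorem HypData.pairFun_add (d : HypData F K q) (x y x' y' : Fin 2 × I → F) :
    d.pairFun (x + x') (y + y') = d.pairFun x y + d.pairFun x' y' := by
  funext k
  simp only [HypData.pairFun, HypData.pvec, HypData.pvec', Pi.add_apply, map_add]
  split_ifs <;> ring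

theorem HypData.pairFun_smul (d : HypData F K q) (c : F) (x y : Fin 2 × I → F) :
    d.pairFun (c • x) (c • y) = c • d.pairFun x y := by
  funext k
  simp only [HypData.pairFun, HypData.pvec, HypData.pvec', Pi.smul_apply, smul_eq_mul, map_mul,
    Algebra.smul_def]
  split_ifs <;> ring

theorem HypData.pairFun_value [Fintype I] (hF : Fintype.card F = q) (hK : Fintype.card K = q ^ 2)
    (d : HypData F K q) (x y : Fin 2 × I → F) :
    ∑ k, d.pairFun x y k * (d.pairFun x y k) ^ q = algebraMap F K (∑ k, x k * y k) := by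
  rw [Fintype.sum_prod_type, Fintype.sum_prod_type, Fin.sum_univ_two, Fin.sum_univ_two,
    ← Finset.sum_add_distrib, ← Finset.sum_add_distrib, map_sum]
  apply Finset.sum_congr rfl
  intro i _
  have := d.value hF hK (x (0, i)) (x (1, i)) (y (0, i)) (y (1, i))
  simp only [HypData.pairFun, HypData.pvec, HypData.pvec']
  simpa using this

theorem HypData.pairFun_eq_zero (hF : Fintype.card F = q)
    (d : HypData F K q) (x y : Fin 2 × I → F) (h : d.pairFun x y = 0) : x = 0 ∧ y = 0 := by
  have hp : ∀ i, d.pvec x i = 0 ∧ d.pvec' y i = 0 := by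
    intro i
    have h0 := congrFun h (0, i)
    have h1 := congrFun h (1, i)
    simp only [HypData.pairFun, if_pos, Pi.zero_apply] at h0
    simp only [HypData.pairFun, Fin.isValue, one_ne_zero, if_false, Pi.zero_apply] at h1
    have hne : d.ε' - d.ε ≠ 0 := sub_ne_zero.2 (Ne.symm d.hne)
    have h2 : (d.ε' - d.ε) * d.pvec' y i = 0 := by linear_combination h1 - d.ε * h0
    have h3 : d.pvec' y i = 0 := (mul_eq_zero.1 h2).resolve_left hne
    refine ⟨?_, h3⟩
    rw [h3, add_zero] at h0
    exact h0
  constructor
  · funext k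
    obtain ⟨s, i⟩ := k
    have := d.hli _ _ (hp i).1
    fin_cases s
    · exact this.1
    · exact this.2
  · funext k
    obtain ⟨s, i⟩ := k
    have hp' := (hp i).2
    simp only [HypData.pvec'] at hp'
    have hpq : algebraMap F K (y (0, i)) * d.w 0 ^ q + algebraMap F K (y (1, i)) * d.w 1 ^ q = 0 := by
      have := congrArg (fun z => z ^ q) hp'
      simp only [add_pow_q hF, mul_pow, algebraMap_pow_q hF] at this
      rw [this]
      exact zero_pow (by rw [← hF]; exact Fintype.card_ne_zero)
    have key0 : algebraMap F K (y (0, i)) = 0 := by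
      have D0 := d.hD 0 0
      have D1 := d.hD 0 1
      simp only [Fin.isValue, if_true, zero_ne_one, if_false] at D0 D1
      linear_combination (-(algebraMap F K) (y (0, i))) * D0 - (algebraMap F K) (y (1, i)) * D1
        + (1 + d.ε * d.ε' ^ q) * d.b 0 * hpq + (1 + d.ε ^ q * d.ε') * d.b 0 ^ q * hp'
    have key1 : algebraMap F K (y (1, i)) = 0 := by
      have D0 := d.hD 1 0
      have D1 := d.hD 1 1
      simp only [Fin.isValue, one_ne_zero, if_false, if_true] at D0 D1
      linear_combination (-(algebraMap F K) (y (0, i))) * D0 - (algebraMap F K) (y (1, i)) * D1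
        + (1 + d.ε * d.ε' ^ q) * d.b 1 * hpq + (1 + d.ε ^ q * d.ε') * d.b 1 ^ q * hp'
    fin_cases s
    · exact (map_eq_zero (algebraMap F K)).1 key0
    · exact (map_eq_zero (algebraMap F K)).1 key1

end

end Cfsg.Agent.Lib.Helper51
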