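import Mathlib
import Cfsg.Prelude.Def_EvenTechniques
import Cfsg.Agent.Lib.Helper29.KBalance

/-!
# K-HALF-B : the `G`-level lift for the weakly `k`-balanced half of S1864
(clone of `Cfsg.Agent.Lib.Helper29.kbalance_of_local`)
-/

set_option autoImplicit false
universe u
namespace Cfsg.Agent.Lib.Helper51.KHalf
open Cfsg Cfsg.Agent.Lib.Helper29
open scoped commutatorElement

variable {G : Type u} [Group G] [Finite G] {p : ℕ} [hp : Fact p.Prime]

theorem weak_lift (k : ℕ) (hk : 1 ≤ k) (A B : Subgroup G)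
    (hA : IsElementaryAbelian p A) (hB : IsElementaryAbelian p B) (hBA : B ≤ A)
    (hBk : Nat.card B = p ^ k) (a : G) (haA : a ∈ A)
    (hXL : ∀ (B' W' E' : Subgroup (↥(Subgroup.centralizer ({a} : Set G)) ⧸
        pPrimeCore p ↥(Subgroup.centralizer ({a} : Set G)))),
      IsElementaryAbelian p B' → Nat.card B' = p ^ k → IsElementaryAbelian p E' → B' ≤ E' →
      (∀ b ∈ B', b ≠ 1 → W' ≤ centralizerPPrimeCore p b) →
      (∀ e ∈ E', ∃ b : ↥(Subgroup.centralizer ({a} : Set G)), (b : G) ∈ A ∧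
        (QuotientGroup.mk b : ↥(Subgroup.centralizer ({a} : Set G)) ⧸
          pPrimeCore p ↥(Subgroup.centralizer ({a} : Set G))) = e) →
      ⁅W', E'⁆ = ⊥) :
    ⁅signalizerDelta p B ⊓ Subgroup.centralizer ({a} : Set G), A⁆ ≤ centralizerPPrimeCore p a := by
  classical
  set C : Subgroup G := Subgroup.centralizer ({a} : Set G) with hC
  set OC : Subgroup ↥C := pPrimeCore p ↥C with hOC
  set π := QuotientGroup.mk' OC with hπ
  have hOCc : (Nat.card OC).Coprime p := pPrimeCore_coprime p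
  have hAC : A ≤ C := by
    intro x hx
    rw [hC, Subgroup.mem_centralizer_iff]
    intro y hy
    rw [Set.mem_singleton_iff] at hy
    rw [hy]
    exact comm_of_mem_elementaryAbelian hA haA hx
  have hBC : B ≤ C := hBA.trans hAC
  -- the image of `A`
  set ψA : ↥A →* (↥C ⧸ OC) := π.comp (Subgroup.inclusion hAC) with hψA
  set EX : Subgroup (↥C ⧸ OC) := ψA.range with hEX
  have hEE : IsElementaryAbelian p EX := by
    refine ⟨⟨⟨?_⟩⟩, ?_⟩
    · rintro ⟨_, ⟨x, rfl⟩⟩ ⟨_, ⟨y, rfl⟩⟩
      apply Subtype.ext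
      show ψA x * ψA y = ψA y * ψA x
      rw [← map_mul, ← map_mul]
      congr 1
      exact hA.1.is_comm.comm x y
    · rintro _ ⟨x, rfl⟩
      rw [← map_pow]
      have : x ^ p = 1 := by
        apply Subtype.ext
        rw [Subgroup.coe_pow]
        exact hA.2 _ x.2
      rw [this, map_one]
  -- the image of `B`
  set ψ : ↥B →* (↥C ⧸ OC) := π.comp (Subgroup.inclusion hBC) with hψ
  have hψinj : Function.Injective ψ := by
    rw [injective_iff_map_eq_one]
    intro x hx
    have h1 : Subgroup.inclusion hBC x ∈ OC := (QuotientGroup.eq_one_iff _).mp hx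
    have h2 : (Subgroup.inclusion hBC x) ^ Nat.card OC = 1 := pow_card_eq_one_of_mem h1
    have h3 : (x : G) ^ Nat.card OC = 1 := by
      have := congrArg (fun c : ↥C => (c : G)) h2
      simpa using this
    have h4 : (x : G) ^ p ^ 1 = 1 := by rw [pow_one]; exact hB.2 _ x.2
    obtain ⟨m, hm⟩ := exists_pow_pow_eq_self h4 hOCc
    apply Subtype.ext
    rw [← hm, h3, one_pow]
    rfl
  set AX : Subgroup (↥C ⧸ OC) := ψ.range with hAX
  have hEA : IsElementaryAbelian p AX := by
    refine ⟨⟨⟨?_⟩⟩, ?_⟩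
    · rintro ⟨_, ⟨x, rfl⟩⟩ ⟨_, ⟨y, rfl⟩⟩
      apply Subtype.ext
      show ψ x * ψ y = ψ y * ψ x
      rw [← map_mul, ← map_mul]
      congr 1
      exact hB.1.is_comm.comm x y
    · rintro _ ⟨x, rfl⟩
      rw [← map_pow]
      have : x ^ p = 1 := by
        apply Subtype.ext
        rw [Subgroup.coe_pow]
        exact hB.2 _ x.2
      rw [this, map_one]
  have hcard : Nat.card AX = p ^ k := by
    rw [← hBk]
    exact (Nat.card_congr (MonoidHom.ofInjective hψinj).toEquiv).symm
  have hAXEX : AX ≤ EX := by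
    rintro _ ⟨x, rfl⟩
    exact ⟨Subgroup.inclusion hBA x, rfl⟩
  set WG : Subgroup G := signalizerDelta p B ⊓ C with hWG
  set WX : Subgroup (↥C ⧸ OC) := (WG.subgroupOf C).map π with hWX
  have hW : ∀ t ∈ AX, t ≠ 1 → WX ≤ centralizerPPrimeCore p t := by
    rintro _ ⟨a', rfl⟩ htne
    have ha'ne : ((a' : ↥B) : G) ≠ 1 := by
      intro h
      apply htne
      have : a' = 1 := Subtype.ext h
      rw [this, map_one]
    set aC : ↥C := ⟨(a' : G), hBC a'.2⟩ with haC
    set M : Subgroup G := centralizerPPrimeCore p (a' : G) ⊓ C with hM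
    have hMa : M ≤ Subgroup.centralizer ({(aC : G)} : Set G) :=
      inf_le_left.trans (centralizerCore_le_centralizer p _)
    have hMc : (Nat.card M).Coprime p :=
      Nat.Coprime.coprime_dvd_left (Subgroup.card_dvd_of_le inf_le_left)
        (card_centralizerCore_coprime p _)
    have h1 := image_le_centralizerCore' (p := p) C π aC M inf_le_right hMa hMc (by
      intro c hc
      -- coprime lifting of centralizers
      have hzp : IsPGroup p (Subgroup.zpowers aC) := by
        apply isPGroup_zpowers_of_pow_eq_one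
        apply Subtype.ext
        rw [Subgroup.coe_pow]
        exact hB.2 _ a'.2
      have hlift := Cfsg.Agent.Lib.Helper15.centralizer_map_mk_of_coprime OC hOCc
        (Subgroup.zpowers aC) hzp
      have hc' : c ∈ Subgroup.centralizer
          (((Subgroup.zpowers aC).map π : Subgroup (↥C ⧸ OC)) : Set (↥C ⧸ OC)) := by
        rw [MonoidHom.map_zpowers, centralizer_zpowers_eq, Subgroup.mem_centralizer_iff]
        intro x hx
        rw [Set.mem_singleton_iff] at hx
        rw [hx]; exact hc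
      rw [hlift] at hc'
      obtain ⟨h, hh, rfl⟩ := hc'
      refine ⟨h, rfl, ?_⟩
      rw [centralizer_zpowers_eq] at hh
      have hcomm : aC * h = h * aC := Subgroup.mem_centralizer_iff.mp hh aC rfl
      have hcomm' : (a' : G) * (h : G) = (h : G) * (a' : G) := congrArg Subtype.val hcomm
      have h2 : (h : G) ∈ Subgroup.centralizer ({(a' : G)} : Set G) := by
        rw [Subgroup.mem_centralizer_iff]
        intro x hx
        rw [Set.mem_singleton_iff] at hx
        rw [hx]; exact hcomm'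
      exact Subgroup.inf_normalizer_le_normalizer_inf
        ⟨centralizer_le_normalizer_centralizerCore p _ h2, Subgroup.le_normalizer h.2⟩)
    refine le_trans ?_ h1
    rintro _ ⟨w, hw, rfl⟩
    refine ⟨w, ?_, rfl⟩
    have hw' : (w : G) ∈ WG := Subgroup.mem_subgroupOf.mp hw
    show w ∈ M.subgroupOf C
    rw [Subgroup.mem_subgroupOf]
    refine ⟨?_, w.2⟩
    have h3 : signalizerDelta p B ≤ centralizerPPrimeCore p (a' : G) := by
      unfold signalizerDelta
      exact iInf_le (fun a : {a : G // a ∈ B ∧ a ≠ 1} => centralizerPPrimeCore p (a : G))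
        ⟨(a' : G), a'.2, ha'ne⟩
    exact h3 hw'.1
  have hlift : ∀ e ∈ EX, ∃ b : ↥C, (b : G) ∈ A ∧ (QuotientGroup.mk b : ↥C ⧸ OC) = e := by
    rintro _ ⟨x, rfl⟩
    exact ⟨Subgroup.inclusion hAC x, x.2, rfl⟩
  have hbot : ⁅WX, EX⁆ = ⊥ := hXL AX WX EX hEA hcard hEE hAXEX hW hlift
  rw [Subgroup.commutator_le]
  intro w hw e he
  have hwC : w ∈ C := hw.2
  have heC : e ∈ C := hAC he
  have h1 : π ⟨w, hwC⟩ ∈ WX :=
    Subgroup.mem_map_of_mem π (Subgroup.mem_subgroupOf.mpr hw)
  have h2 : π ⟨e, heC⟩ ∈ EX := ⟨⟨e, he⟩, rfl⟩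
  have h3 : ⁅π ⟨w, hwC⟩, π ⟨e, heC⟩⁆ ∈ ⁅WX, EX⁆ := Subgroup.commutator_mem_commutator h1 h2
  rw [hbot, Subgroup.mem_bot, ← map_commutatorElement] at h3
  have h4 : (⁅(⟨w, hwC⟩ : ↥C), ⟨e, heC⟩⁆ : ↥C) ∈ OC := (QuotientGroup.eq_one_iff _).mp h3
  exact ⟨⁅(⟨w, hwC⟩ : ↥C), ⟨e, heC⟩⁆, h4, rfl⟩

end Cfsg.Agent.Lib.Helper51.KHalf
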