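import Cfsg.Agent.Lib.Helper94.LCDefs

/-!
# S0406 pack K-LC, LEAF A2 (640606): a doubly even binary code of length 24 is self-orthogonal,
and a self-orthogonal code has dimension at most 12.
-/

set_option autoImplicit false
open Matrix

namespace Cfsg.Agent.Lib.Helper51.LC

open Cfsg.Agent.Lib.Helper94.LC

/-- the Hamming weight of a binary word is the sum of its entries (as naturals) -/
theorem hammingNorm_eq_sum_val (v : Fin 24 → ZMod 2) : hammingNorm v = ∑ i, (v i).val := by
  have key : ∀ a : ZMod 2, (if a ≠ 0 then 1 else 0) = a.val := by decide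
  unfold hammingNorm
  rw [Finset.card_filter]
  refine Finset.sum_congr rfl fun i _ => ?_
  exact key (v i)

theorem val_add_two_mul (a b : ZMod 2) : (a + b).val + 2 * (a * b).val = a.val + b.val := by
  revert a b
  decide

theorem weight_add (v w : Fin 24 → ZMod 2) :
    hammingNorm (v + w) + 2 * ∑ i, (v i * w i).val = hammingNorm v + hammingNorm w := by
  rw [hammingNorm_eq_sum_val, hammingNorm_eq_sum_val, hammingNorm_eq_sum_val, Finset.mul_sum,
    ← Finset.sum_add_distrib, ← Finset.sum_add_distrib]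
  refine Finset.sum_congr rfl fun i _ => ?_
  rw [Pi.add_apply]
  exact val_add_two_mul (v i) (w i)

/-- LEAF A2, first half -/
theorem orth_of_doubly_even (C : Submodule (ZMod 2) (Fin 24 → ZMod 2)) (h4 : ∀ w ∈ C, 4 ∣ hammingNorm w) :
    ∀ v ∈ C, ∀ w ∈ C, ∑ i, v i * w i = 0 := by
  intro v hv w hw
  have h1 := h4 v hv
  have h2 := h4 w hw
  have h3 := h4 (v + w) (C.add_mem hv hw)
  have hk := weight_add v w
  have hev : 2 ∣ ∑ i, (v i * w i).val := by omega
  have hcast : ((∑ i, (v i * w i).val : ℕ) : ZMod 2) = ∑ i, v i * w i := by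
    rw [Nat.cast_sum]
    refine Finset.sum_congr rfl fun i _ => ?_
    exact ZMod.natCast_zmod_val _
  rw [← hcast]
  exact (ZMod.natCast_eq_zero_iff _ 2).mpr hev

/-- LEAF A2, second half -/
theorem finrank_le_of_orth (C : Submodule (ZMod 2) (Fin 24 → ZMod 2))
    (horth : ∀ v ∈ C, ∀ w ∈ C, ∑ i, v i * w i = 0) : Module.finrank (ZMod 2) C ≤ 12 := by
  classical
  set B : LinearMap.BilinForm (ZMod 2) (Fin 24 → ZMod 2) :=
    Matrix.toBilin' (1 : Matrix (Fin 24) (Fin 24) (ZMod 2)) with hB
  have hBapp : ∀ v w : Fin 24 → ZMod 2, B v w = ∑ i, v i * w i := by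
    intro v w
    rw [hB, Matrix.toBilin'_apply', Matrix.one_mulVec]
    rfl
  have hnd : B.Nondegenerate := by
    rw [hB]
    apply LinearMap.BilinForm.nondegenerate_toBilin'_of_det_ne_zero'
    rw [Matrix.det_one]
    exact one_ne_zero
  have hle : C ≤ B.orthogonal C := by
    intro w hw v hv
    show B v w = 0
    rw [hBapp]
    exact horth v hv w hw
  have h1 := Submodule.finrank_mono hle
  have h2 := LinearMap.BilinForm.finrank_orthogonal hnd C
  have h3 : Module.finrank (ZMod 2) (Fin 24 → ZMod 2) = 24 := by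
    rw [Module.finrank_fin_fun]
  rw [h3] at h2
  omega

end Cfsg.Agent.Lib.Helper51.LC
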