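import Mathlib

set_option autoImplicit false

namespace Cfsg.Agent.Lib.Helper51

open Polynomial


section
variable {K : Type*} [Field K]

/-- in a finite dimensional space some iterate lies in the span of the earlier ones -/
theorem exists_mem_span_prev {V : Type*} [AddCommGroup V] [Module K V] [FiniteDimensional K V]
    (u : ℕ → V) : ∃ k : ℕ, u k ∈ Submodule.span K (Set.range (fun i : Fin k => u i)) := by
  by_contra hcon
  have hall : ∀ k : ℕ, u k ∉ Submodule.span K (Set.range (fun i : Fin k => u i)) := fun k hk =>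
    hcon ⟨k, hk⟩
  have hli : ∀ n : ℕ, LinearIndependent K (fun i : Fin n => u i) := by
    intro n
    induction n with
    | zero => exact linearIndependent_empty_type
    | succ n ih =>
      have h1 : (fun i : Fin (n + 1) => u i) = Fin.snoc (α := fun _ => V) (fun i : Fin n => u i) (u n) := by
        funext i
        refine Fin.lastCases ?_ (fun i => ?_) i
        · simp
        · simp
      rw [h1, linearIndependent_finSnoc]
      exact ⟨ih, hall n⟩
  have := (hli (Module.finrank K V + 1)).fintype_card_le_finrank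
  simp at this

end



section
variable {K : Type*} [Field K]

/-- the polynomials giving the coefficients of a fixed vector -/
noncomputable def lsPoly (a : ℕ → K) (q : ℕ) : ℕ → K[X]
  | 0 => C (a 0) * X ^ q
  | (i + 1) => (lsPoly a q i) ^ q + C (a (i + 1)) * X ^ q

theorem lsPoly_dvd (a : ℕ → K) (q : ℕ) (hq : 1 ≤ q) (i : ℕ) : (X : K[X]) ^ q ∣ lsPoly a q i := by
  induction i with
  | zero => exact Dvd.intro_left _ rfl
  | succ i ih =>
    show X ^ q ∣ (lsPoly a q i) ^ q + C (a (i + 1)) * X ^ q
    apply dvd_add
    · exact dvd_trans ih (dvd_pow_self _ (by omega))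
    · exact Dvd.intro_left _ rfl

theorem lsPoly_eq_zero (a : ℕ → K) (q : ℕ) (hq : 2 ≤ q) (i : ℕ) (h : lsPoly a q i = 0) :
    ∀ j ≤ i, a j = 0 := by
  induction i with
  | zero =>
    intro j hj
    have hj0 : j = 0 := by omega
    subst hj0
    have h' : C (a 0) * X ^ q = 0 := h
    rcases mul_eq_zero.1 h' with h1 | h1
    · exact C_eq_zero.1 h1
    · exact absurd h1 (pow_ne_zero _ X_ne_zero)
  | succ i ih =>
    have h' : (lsPoly a q i) ^ q + C (a (i + 1)) * X ^ q = 0 := h
    by_cases h0 : lsPoly a q i = 0
    · rw [h0, zero_pow (by omega), zero_add] at h'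
      have ha : a (i + 1) = 0 := by
        rcases mul_eq_zero.1 h' with h1 | h1
        · exact C_eq_zero.1 h1
        · exact absurd h1 (pow_ne_zero _ X_ne_zero)
      intro j hj
      rcases Nat.lt_or_ge j (i + 1) with hlt | hge
      · exact ih h0 j (by omega)
      · have : j = i + 1 := by omega
        rw [this]; exact ha
    · exfalso
      have hdeg : q ≤ (lsPoly a q i).natDegree := by
        obtain ⟨R, hR⟩ := lsPoly_dvd a q (by omega) i
        have hR0 : R ≠ 0 := by
          rintro rfl
          rw [mul_zero] at hR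
          exact h0 hR
        rw [hR, natDegree_mul (pow_ne_zero _ X_ne_zero) hR0, natDegree_X_pow]
        omega
      have h1 : ((lsPoly a q i) ^ q).natDegree = q * (lsPoly a q i).natDegree := natDegree_pow _ _
      have h2 : (C (a (i + 1)) * X ^ q : K[X]).natDegree ≤ q := by
        calc (C (a (i + 1)) * X ^ q : K[X]).natDegree ≤ (C (a (i + 1)) : K[X]).natDegree + (X ^ q : K[X]).natDegree := natDegree_mul_le
          _ = q := by simp
      have h3 : (lsPoly a q i) ^ q = -(C (a (i + 1)) * X ^ q) := eq_neg_of_add_eq_zero_left h'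
      rw [h3, natDegree_neg] at h1
      have : q * q ≤ q * (lsPoly a q i).natDegree := Nat.mul_le_mul_left q hdeg
      nlinarith

/-- the polynomial `lsPoly a q k - X` has a nonzero root -/
theorem lsPoly_root [IsAlgClosed K] (a : ℕ → K) (q : ℕ) (hq : 2 ≤ q) (k : ℕ)
    (hk : lsPoly a q k ≠ 0) : ∃ y : K, y ≠ 0 ∧ (lsPoly a q k).eval y = y := by
  obtain ⟨R, hR⟩ := lsPoly_dvd a q (by omega) k
  have hR0 : R ≠ 0 := by
    rintro rfl
    rw [mul_zero] at hR
    exact hk hR
  let S : K[X] := X ^ (q - 1) * R - 1
  have hdeg : S.degree ≠ 0 := by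
    have h1 : (X ^ (q - 1) * R : K[X]).natDegree = (q - 1) + R.natDegree := by
      rw [natDegree_mul (pow_ne_zero _ X_ne_zero) hR0, natDegree_X_pow]
    have h2 : (1 : K[X]).degree < (X ^ (q - 1) * R : K[X]).degree := by
      rw [degree_one, degree_eq_natDegree (mul_ne_zero (pow_ne_zero _ X_ne_zero) hR0), h1]
      exact_mod_cast (by omega : 0 < q - 1 + R.natDegree)
    rw [degree_sub_eq_left_of_degree_lt h2,
      degree_eq_natDegree (mul_ne_zero (pow_ne_zero _ X_ne_zero) hR0), h1]
    exact_mod_cast (by omega : q - 1 + R.natDegree ≠ 0)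
  obtain ⟨y, hy⟩ := IsAlgClosed.exists_root S hdeg
  have hy' : y ^ (q - 1) * R.eval y = 1 := by
    have : S.eval y = 0 := hy
    simp only [S, eval_sub, eval_mul, eval_pow, eval_X, eval_one] at this
    exact sub_eq_zero.1 this
  refine ⟨y, ?_, ?_⟩
  · rintro rfl
    rw [zero_pow (by omega), zero_mul] at hy'
    exact zero_ne_one hy'
  · rw [hR, eval_mul, eval_pow, eval_X]
    have : y ^ q = y * y ^ (q - 1) := by
      rw [← pow_succ']
      congr 1
      omega
    rw [this, mul_assoc, hy', mul_one]

end

end Cfsg.Agent.Lib.Helper51
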