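import Mathlib
import Cfsg.Agent.Lib.Helper51.Lang1

set_option autoImplicit false

namespace Cfsg.Agent.Lib.Helper51

open Polynomial Matrix


section
variable {K : Type*} [Field K] [IsAlgClosed K] (p : ℕ) [Fact p.Prime] [CharP K p] (f : ℕ)

/-- Key lemma: an injective Frobenius-semilinear map of a nonzero finite-dimensional space
over an algebraically closed field has a nonzero fixed vector. -/
theorem exists_fixed_ne_zero (hf : 1 ≤ f)
    {V : Type*} [AddCommGroup V] [Module K V] [FiniteDimensional K V]
    (φ : V →ₛₗ[iterateFrobenius K p f] V) (hinj : Function.Injective φ)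
    (v₀ : V) (hv₀ : v₀ ≠ 0) : ∃ v : V, v ≠ 0 ∧ φ v = v := by
  classical
  set q := p ^ f with hqdef
  have hq : 2 ≤ q := by
    have hp := (Fact.out : p.Prime).two_le
    calc 2 ≤ p := hp
      _ = p ^ 1 := (pow_one p).symm
      _ ≤ p ^ f := Nat.pow_le_pow_right (by omega) hf
  have hφs : ∀ (c : K) (v : V), φ (c • v) = (c ^ q) • φ v := by
    intro c v
    rw [map_smulₛₗ, iterateFrobenius_def]
  let u : ℕ → V := fun i => φ^[i] v₀
  have hu0 : u 0 = v₀ := rfl
  have husucc : ∀ i, u (i + 1) = φ (u i) := fun i => Function.iterate_succ_apply' φ i v₀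
  have hune : ∀ i, u i ≠ 0 := by
    intro i
    induction i with
    | zero => exact hv₀
    | succ i ih =>
      rw [husucc]
      intro h
      apply ih
      apply hinj
      rw [h, map_zero]
  have hex := exists_mem_span_prev (K := K) u
  let k := Nat.find hex
  have hk : u k ∈ Submodule.span K (Set.range (fun i : Fin k => u i)) := Nat.find_spec hex
  have hkmin : ∀ j < k, u j ∉ Submodule.span K (Set.range (fun i : Fin j => u i)) :=
    fun j hj => Nat.find_min hex hj
  have hk0 : k ≠ 0 := by
    intro h0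
    rw [h0] at hk
    have : Set.range (fun i : Fin 0 => u i) = ∅ := Set.range_eq_empty _
    rw [this, Submodule.span_empty, Submodule.mem_bot] at hk
    exact hune 0 hk
  obtain ⟨k', hk'⟩ : ∃ k', k = k' + 1 := ⟨k - 1, by omega⟩
  rw [hk'] at hk
  obtain ⟨a₀, ha₀⟩ := (Submodule.mem_span_range_iff_exists_fun K).1 hk
  let a : ℕ → K := fun i => if h : i < k' + 1 then a₀ ⟨i, h⟩ else 0
  have ha : ∑ i ∈ Finset.range (k' + 1), a i • u i = u (k' + 1) := by
    rw [← ha₀, ← Fin.sum_univ_eq_sum_range (fun i => a i • u i) (k' + 1)]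
    apply Finset.sum_congr rfl
    intro i _
    have hi : (i : ℕ) < k' + 1 := i.2
    simp only [a, dif_pos hi]
  -- the polynomial is nonzero
  have hPne : lsPoly a q k' ≠ 0 := by
    intro h0
    have hall := lsPoly_eq_zero a q hq k' h0
    have : u (k' + 1) = 0 := by
      rw [← ha]
      apply Finset.sum_eq_zero
      intro i hi
      rw [hall i (by have := Finset.mem_range.1 hi; omega), zero_smul]
    exact hune _ this
  obtain ⟨y, hy0, hy⟩ := lsPoly_root a q hq k' hPne
  let x : ℕ → K := fun i => (lsPoly a q i).eval y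
  have hx0 : x 0 = a 0 * y ^ q := by
    simp [x, lsPoly]
  have hxs : ∀ i, x (i + 1) = (x i) ^ q + a (i + 1) * y ^ q := by
    intro i
    simp [x, lsPoly]
  have hxk : x k' = y := hy
  let w : V := ∑ i ∈ Finset.range (k' + 1), x i • u i
  refine ⟨w, ?_, ?_⟩
  · -- nonzero
    intro hw
    have h1 : ∑ i ∈ Finset.range k', x i • u i + y • u k' = 0 := by
      have := hw
      simp only [w] at this
      rw [Finset.sum_range_succ, hxk] at this
      exact this
    have h2 : u k' = -(y⁻¹ • ∑ i ∈ Finset.range k', x i • u i) := by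
      have h3 : y • u k' = -(∑ i ∈ Finset.range k', x i • u i) := by
        rw [eq_neg_iff_add_eq_zero, add_comm]; exact h1
      calc u k' = y⁻¹ • (y • u k') := by rw [smul_smul, inv_mul_cancel₀ hy0, one_smul]
        _ = _ := by rw [h3, smul_neg]
    apply hkmin k' (by omega)
    rw [h2]
    apply Submodule.neg_mem
    apply Submodule.smul_mem
    apply Submodule.sum_mem
    intro i hi
    apply Submodule.smul_mem
    apply Submodule.subset_span
    exact ⟨⟨i, Finset.mem_range.1 hi⟩, rfl⟩
  · -- fixed
    have hL : φ w = ∑ i ∈ Finset.range k', (x i) ^ q • u (i + 1)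
        + (y ^ q) • (∑ i ∈ Finset.range k', a (i + 1) • u (i + 1) + a 0 • u 0) := by
      simp only [w]
      rw [map_sum, Finset.sum_range_succ]
      simp only [hφs, ← husucc]
      rw [hxk, ← ha, Finset.sum_range_succ' (fun i => a i • u i)]
    have hR : w = ∑ i ∈ Finset.range k', (x i) ^ q • u (i + 1)
        + (y ^ q) • (∑ i ∈ Finset.range k', a (i + 1) • u (i + 1)) + (a 0 * y ^ q) • u 0 := by
      simp only [w]
      rw [Finset.sum_range_succ' (fun i => x i • u i), hx0]
      congr 1
      rw [Finset.smul_sum, ← Finset.sum_add_distrib]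
      apply Finset.sum_congr rfl
      intro i _
      rw [hxs, add_smul, smul_smul, mul_comm]
    rw [hL]
    conv_rhs => rw [hR]
    module

end



section
variable {K : Type*} [Field K] [IsAlgClosed K] (p : ℕ) [Fact p.Prime] [CharP K p] (f : ℕ)

/-- The fixed vectors of an injective Frobenius-semilinear map span the space. -/
theorem span_fixed_eq_top (hf : 1 ≤ f)
    {V : Type*} [AddCommGroup V] [Module K V] [FiniteDimensional K V]
    (φ : V →ₛₗ[iterateFrobenius K p f] V) (hinj : Function.Injective φ) :
    Submodule.span K {v : V | φ v = v} = ⊤ := by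
  classical
  set q := p ^ f with hqdef
  have hq : 2 ≤ q := by
    have hp := (Fact.out : p.Prime).two_le
    calc 2 ≤ p := hp
      _ = p ^ 1 := (pow_one p).symm
      _ ≤ p ^ f := Nat.pow_le_pow_right (by omega) hf
  have hφs : ∀ (c : K) (v : V), φ (c • v) = (c ^ q) • φ v := by
    intro c v
    rw [map_smulₛₗ, iterateFrobenius_def]
  set U : Submodule K V := Submodule.span K {v : V | φ v = v} with hUdef
  have hWU : ∀ w : V, φ w = w → w ∈ U := fun w hw => Submodule.subset_span hw
  have hstable : U ≤ U.comap φ := by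
    apply Submodule.span_le.2
    intro w hw
    show φ w ∈ U
    rw [hw]
    exact hWU w hw
  -- every element of U is the image of an element of U
  have hsurjU : ∀ z ∈ U, ∃ v' ∈ U, φ v' = z := by
    intro z hz
    induction hz using Submodule.span_induction with
    | mem w hw => exact ⟨w, hWU w hw, hw⟩
    | zero => exact ⟨0, U.zero_mem, map_zero φ⟩
    | add a b _ _ iha ihb =>
      obtain ⟨a', ha', ha''⟩ := iha
      obtain ⟨b', hb', hb''⟩ := ihb
      exact ⟨a' + b', U.add_mem ha' hb', by rw [map_add, ha'', hb'']⟩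
    | smul c a _ iha =>
      obtain ⟨a', ha', ha''⟩ := iha
      obtain ⟨c', hc'⟩ := IsAlgClosed.exists_pow_nat_eq c (by omega : 0 < q)
      exact ⟨c' • a', U.smul_mem _ ha', by rw [hφs, hc', ha'']⟩
  have hpre : ∀ v : V, φ v ∈ U → v ∈ U := by
    intro v hv
    obtain ⟨v', hv', hv''⟩ := hsurjU _ hv
    rw [← hinj hv'']
    exact hv'
  -- Artin-Schreier on U
  have hAS : ∀ z ∈ U, ∀ c : K, ∃ t ∈ U, φ t - t = c • z := by
    intro z hz
    induction hz using Submodule.span_induction with
    | mem w hw =>
      intro c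
      have hdeg : (X ^ q - X - C c : K[X]).degree ≠ 0 := by
        have h1 : (X ^ q - X - C c : K[X]) = X ^ q - (X + C c) := by ring
        have h2 : (X ^ q - (X + C c) : K[X]).natDegree = q := by
          rw [natDegree_sub_eq_left_of_natDegree_lt]
          · simp
          · rw [natDegree_X_add_C, natDegree_X_pow]
            omega
        intro h
        have h3 := natDegree_eq_of_degree_eq_some h
        rw [h1, h2] at h3
        have h4 : q = 0 := h3
        omega
      obtain ⟨s, hs⟩ := IsAlgClosed.exists_root (X ^ q - X - C c : K[X]) hdeg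
      have hs' : s ^ q - s = c := by
        have : (X ^ q - X - C c : K[X]).eval s = 0 := hs
        simp only [eval_sub, eval_pow, eval_X, eval_C] at this
        exact sub_eq_zero.1 this
      have hw' : φ w = w := hw
      refine ⟨s • w, U.smul_mem _ (hWU w hw), ?_⟩
      rw [hφs, hw', ← sub_smul, hs']
    | zero =>
      intro c
      exact ⟨0, U.zero_mem, by simp⟩
    | add a b _ _ iha ihb =>
      intro c
      obtain ⟨a', ha', ha''⟩ := iha c
      obtain ⟨b', hb', hb''⟩ := ihb c
      refine ⟨a' + b', U.add_mem ha' hb', ?_⟩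
      rw [map_add, smul_add, ← ha'', ← hb'']
      abel
    | smul d a _ iha =>
      intro c
      obtain ⟨a', ha', ha''⟩ := iha (c * d)
      exact ⟨a', ha', by rw [ha'', mul_smul]⟩
  by_contra hU
  obtain ⟨v, hv⟩ : ∃ v : V, v ∉ U := by
    by_contra hcon
    apply hU
    rw [eq_top_iff]
    intro v _
    by_contra hv
    exact hcon ⟨v, hv⟩
  let φq : (V ⧸ U) →ₛₗ[iterateFrobenius K p f] (V ⧸ U) := U.mapQ U φ hstable
  have hφq : ∀ v : V, φq (Submodule.Quotient.mk v) = Submodule.Quotient.mk (φ v) := fun v => rfl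
  have hinjq : Function.Injective φq := by
    rw [injective_iff_map_eq_zero]
    intro x hx
    obtain ⟨v, rfl⟩ := Submodule.Quotient.mk_surjective U x
    rw [hφq, Submodule.Quotient.mk_eq_zero] at hx
    rw [Submodule.Quotient.mk_eq_zero]
    exact hpre v hx
  have hv0 : (Submodule.Quotient.mk v : V ⧸ U) ≠ 0 := by
    rw [Ne, Submodule.Quotient.mk_eq_zero]
    exact hv
  obtain ⟨x, hx0, hx⟩ := exists_fixed_ne_zero p f hf φq hinjq _ hv0
  obtain ⟨v₁, rfl⟩ := Submodule.Quotient.mk_surjective U x
  apply hx0
  rw [Submodule.Quotient.mk_eq_zero]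
  rw [hφq, Submodule.Quotient.eq] at hx
  obtain ⟨t, ht, ht'⟩ := hAS _ hx (-1)
  have hfix : φ (v₁ + t) = v₁ + t := by
    rw [map_add]
    have : φ t = t + (-1 : K) • (φ v₁ - v₁) := by rw [← ht']; abel
    rw [this]
    module
  have h1 : v₁ + t ∈ U := hWU _ hfix
  have : v₁ = (v₁ + t) - t := by abel
  rw [this]
  exact U.sub_mem h1 ht

end



section
variable {K : Type*} [Field K] [IsAlgClosed K] (p : ℕ) [Fact p.Prime] [CharP K p] (f : ℕ)

/-- the twisted action of a matrix -/
noncomputable def twistedMulVec (n : ℕ) (g : Matrix (Fin n) (Fin n) K) :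
    (Fin n → K) →ₛₗ[iterateFrobenius K p f] (Fin n → K) where
  toFun v := g *ᵥ (fun i => iterateFrobenius K p f (v i))
  map_add' v w := by
    rw [← mulVec_add]
    congr 1
    funext i
    simp
  map_smul' c v := by
    rw [← mulVec_smul]
    congr 1
    funext i
    simp

/-- The Lang-Steinberg theorem for the general linear group. -/
theorem lang_GL (hf : 1 ≤ f) (n : ℕ) (g : GL (Fin n) K) :
    ∃ x : GL (Fin n) K, g = x * (Matrix.GeneralLinearGroup.map (iterateFrobenius K p f) x)⁻¹ := by
  classical
  let φ := twistedMulVec (K := K) p f n (g : Matrix (Fin n) (Fin n) K)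
  have hφ : ∀ v, φ v = (g : Matrix (Fin n) (Fin n) K) *ᵥ (fun i => iterateFrobenius K p f (v i)) :=
    fun v => rfl
  have hinj : Function.Injective φ := by
    rw [injective_iff_map_eq_zero]
    intro v hv
    rw [hφ] at hv
    have h1 : ((g⁻¹ : GL (Fin n) K) : Matrix (Fin n) (Fin n) K) *ᵥ
        ((g : Matrix (Fin n) (Fin n) K) *ᵥ (fun i => iterateFrobenius K p f (v i))) = 0 := by
      rw [hv, mulVec_zero]
    rw [mulVec_mulVec, ← Units.val_mul, inv_mul_cancel, Units.val_one, one_mulVec] at h1
    funext i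
    have := congrFun h1 i
    simpa using this
  have hspan := span_fixed_eq_top p f hf φ hinj
  let B := Module.Basis.ofSpan (K := K) (le_of_eq hspan.symm)
  have hB : ∀ i, φ (B i) = B i := by
    intro i
    exact Module.Basis.ofSpan_subset (le_of_eq hspan.symm) ⟨i, rfl⟩
  let b' : Module.Basis (Fin n) K (Fin n → K) :=
    B.reindex (B.indexEquiv (Pi.basisFun K (Fin n)))
  have hb' : ∀ j, φ (b' j) = b' j := by
    intro j
    simp only [b', Module.Basis.reindex_apply]
    exact hB _
  let x : Matrix (Fin n) (Fin n) K := (Pi.basisFun K (Fin n)).toMatrix b'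
  let x' : Matrix (Fin n) (Fin n) K := b'.toMatrix (Pi.basisFun K (Fin n))
  have hxx' : x * x' = 1 := Module.Basis.toMatrix_mul_toMatrix_flip _ _
  have hx'x : x' * x = 1 := Module.Basis.toMatrix_mul_toMatrix_flip _ _
  let xu : GL (Fin n) K := ⟨x, x', hxx', hx'x⟩
  have hxij : ∀ i j, x i j = b' j i := by
    intro i j
    simp [x, Module.Basis.toMatrix_apply]
  refine ⟨xu, ?_⟩
  rw [eq_mul_inv_iff_mul_eq]
  apply Units.ext
  ext i j
  have h1 := congrFun (hb' j) i
  rw [hφ] at h1
  simp only [Units.val_mul, Matrix.mul_apply]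
  rw [← hxij i j] at h1
  show _ = x i j
  rw [← h1]
  simp only [mulVec, dotProduct]
  apply Finset.sum_congr rfl
  intro k _
  rw [Matrix.GeneralLinearGroup.map_apply]
  congr 1

end

end Cfsg.Agent.Lib.Helper51
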