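import Mathlib
import Cfsg.Prelude.Def_ClassicalGeometry
import Cfsg.Agent.Lib.Helper51.Lines2
import Cfsg.Agent.Lib.Helper51.Cent5
set_option autoImplicit false
set_option linter.unusedSectionVars false

namespace Cfsg.Agent.Lib.Helper51

open Matrix

section symp
variable {F : Type*} [Field F] {m : ℕ}

theorem sympForm_eq_jform (u v : (Fin m ⊕ Fin m) → F) :
    Cfsg.sympForm m F u v = jform m F u v := (jform_apply u v).symm

theorem sympForm_self (u : (Fin m ⊕ Fin m) → F) : Cfsg.sympForm m F u u = 0 := by
  unfold Cfsg.sympForm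
  rw [Matrix.J, dotProduct, Fintype.sum_sum_type]
  simp only [Matrix.mulVec, dotProduct, Fintype.sum_sum_type, Matrix.fromBlocks_apply₁₁,
    Matrix.fromBlocks_apply₁₂, Matrix.fromBlocks_apply₂₁, Matrix.fromBlocks_apply₂₂,
    Matrix.zero_apply, zero_mul, Finset.sum_const_zero, zero_add, add_zero, Matrix.neg_apply,
    Matrix.one_apply, neg_mul, ite_mul, one_mul, Finset.sum_neg_distrib, Finset.sum_ite_eq,
    Finset.mem_univ, if_true, mul_neg]
  rw [neg_add_eq_zero]
  apply Finset.sum_congr rfl
  intro i _
  ring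

/-- a pair spans a totally isotropic subspace iff it is orthogonal -/
theorem sympForm_span_pair (v w : (Fin m ⊕ Fin m) → F) :
    (∀ u ∈ Submodule.span F {v, w}, ∀ u' ∈ Submodule.span F {v, w},
      Cfsg.sympForm m F u u' = 0) ↔ Cfsg.sympForm m F v w = 0 := by
  constructor
  · intro h
    exact h v (Submodule.subset_span (Set.mem_insert _ _)) w
      (Submodule.subset_span (Set.mem_insert_of_mem _ rfl))
  · intro h u hu u' hu'
    rw [Submodule.mem_span_pair] at hu hu'
    obtain ⟨a, b, rfl⟩ := hu
    obtain ⟨a', b', rfl⟩ := hu'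
    have hwv : Cfsg.sympForm m F w v = 0 := by
      rw [sympForm_eq_jform, jform_alt, ← sympForm_eq_jform, h, neg_zero]
    have hvv := sympForm_self v
    have hww := sympForm_self w
    rw [sympForm_eq_jform] at h hwv hvv hww ⊢
    simp only [map_add, map_smul, LinearMap.add_apply, LinearMap.smul_apply, smul_eq_mul, h, hwv,
      hvv, hww, mul_zero, add_zero]

variable [Fintype F]

/-- the perpendicular space of a nonzero vector has `q ^ (2m-1)` elements -/
theorem card_symp_perp {q : ℕ} (hF : Fintype.card F = q) (v : (Fin m ⊕ Fin m) → F) (hv : v ≠ 0) :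
    Nat.card {w : (Fin m ⊕ Fin m) → F // Cfsg.sympForm m F v w = 0} = q ^ (2 * m - 1) := by
  classical
  have hne : jform m F v ≠ 0 := by
    intro h0
    apply hv
    apply jform_nondeg
    intro w
    rw [h0]; rfl
  have hsurj : LinearMap.range (jform m F v) = ⊤ := by
    rw [LinearMap.range_eq_top]
    exact LinearMap.surjective_of_ne_zero hne
  have h1 := LinearMap.finrank_range_add_finrank_ker (jform m F v)
  rw [hsurj, finrank_top, Module.finrank_self, Module.finrank_fintype_fun_eq_card,
    Fintype.card_sum, Fintype.card_fin] at h1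
  have h2 : Module.finrank F (LinearMap.ker (jform m F v)) = 2 * m - 1 := by omega
  have h3 : Nat.card {w : (Fin m ⊕ Fin m) → F // Cfsg.sympForm m F v w = 0} =
      Nat.card (LinearMap.ker (jform m F v)) := by
    apply Nat.card_congr
    apply Equiv.subtypeEquivRight
    intro w
    rw [LinearMap.mem_ker, sympForm_eq_jform]
  rw [h3, Module.natCard_eq_pow_finrank (K := F), h2, Nat.card_eq_fintype_card, hF]

theorem card_symp_perp_diff {q : ℕ} (hF : Fintype.card F = q) (v : (Fin m ⊕ Fin m) → F)
    (hv : v ≠ 0) :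
    Nat.card {w : (Fin m ⊕ Fin m) → F // w ∉ Submodule.span F {v} ∧ Cfsg.sympForm m F v w = 0} =
      q ^ (2 * m - 1) - q := by
  classical
  have hsub : ((Submodule.span F {v} : Submodule F ((Fin m ⊕ Fin m) → F)) : Set _) ⊆
      {w | Cfsg.sympForm m F v w = 0} := by
    intro x hx
    rw [SetLike.mem_coe, Submodule.mem_span_singleton] at hx
    obtain ⟨a, rfl⟩ := hx
    show Cfsg.sympForm m F v (a • v) = 0
    rw [sympForm_eq_jform, map_smul, ← sympForm_eq_jform, sympForm_self, smul_zero]
  have h1 : Nat.card {w : (Fin m ⊕ Fin m) → F // w ∉ Submodule.span F {v} ∧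
      Cfsg.sympForm m F v w = 0} =
      ({w | Cfsg.sympForm m F v w = 0} \
        ((Submodule.span F {v} : Submodule F ((Fin m ⊕ Fin m) → F)) : Set _)).ncard := by
    rw [← Nat.card_coe_set_eq]
    apply Nat.card_congr
    apply Equiv.subtypeEquivRight
    intro w
    simp only [Set.mem_sdiff, Set.mem_ofPred_eq, SetLike.mem_coe]
    exact and_comm
  rw [h1, Set.ncard_sdiff hsub (Set.toFinite _)]
  have h2 : {w | Cfsg.sympForm m F v w = 0}.ncard = q ^ (2 * m - 1) := by
    rw [← Nat.card_coe_set_eq]
    exact card_symp_perp hF v hv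
  have h3 : (((Submodule.span F {v} : Submodule F ((Fin m ⊕ Fin m) → F))) :
      Set ((Fin m ⊕ Fin m) → F)).ncard = q := by
    rw [← Nat.card_coe_set_eq]
    show Nat.card (Submodule.span F {v} : Submodule F ((Fin m ⊕ Fin m) → F)) = _
    rw [Module.natCard_eq_pow_finrank (K := F)
      (V := (Submodule.span F {v} : Submodule F ((Fin m ⊕ Fin m) → F))),
      finrank_span_singleton hv, pow_one, Nat.card_eq_fintype_card, hF]
  rw [h2, h3]

end symp

end Cfsg.Agent.Lib.Helper51
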