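import Mathlib
import Cfsg.Agent.Lib.Helper05.N3Defs

set_option autoImplicit false

namespace Cfsg.Agent.Lib.Helper51.N3

open Cfsg.Agent.Lib.Helper05.N3 Cfsg.Agent.Lib.Helper22.Nse

/-- the number of elements of order one is one. -/
theorem card_order_one {G : Type*} [Group G] :
    Nat.card {g : G // orderOf g = 1} = 1 := by
  have : Unique {g : G // orderOf g = 1} :=
    { default := ⟨1, orderOf_one⟩
      uniq := fun g => Subtype.ext (orderOf_eq_one_iff.mp g.2) }
  exact Nat.card_unique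

/-- LEAF L0 (EASY). `1` is in the set (order 1); `Set.ncard_eq_three`. -/
theorem exists_values {G : Type*} [Group G] [Finite G]
    (h : (((fun m : ℕ => Nat.card {g : G // orderOf g = m}) '' Set.range (orderOf : G → ℕ))).ncard = 3) :
    ∃ m n : ℕ, m ≠ 1 ∧ n ≠ 1 ∧ m ≠ n ∧
      ((fun m : ℕ => Nat.card {g : G // orderOf g = m}) '' Set.range (orderOf : G → ℕ)) =
        (↑({1, m, n} : Finset ℕ) : Set ℕ) := by
  have h1 : (1 : ℕ) ∈ ((fun m : ℕ => Nat.card {g : G // orderOf g = m}) ''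
      Set.range (orderOf : G → ℕ)) :=
    ⟨1, ⟨1, orderOf_one⟩, card_order_one⟩
  obtain ⟨x, y, z, hxy, hxz, hyz, hT⟩ := Set.ncard_eq_three.mp h
  rw [hT] at h1 ⊢
  simp only [Set.mem_insert_iff, Set.mem_singleton_iff] at h1
  rcases h1 with rfl | rfl | rfl
  · refine ⟨y, z, hxy.symm, hxz.symm, hyz, ?_⟩
    simp [Finset.coe_insert]
  · refine ⟨x, z, hxy, hyz.symm, hxz, ?_⟩
    rw [Set.insert_comm]
    simp [Finset.coe_insert]
  · refine ⟨x, y, hxz, hyz, hxy, ?_⟩
    ext w
    simp only [Set.mem_insert_iff, Set.mem_singleton_iff, Finset.coe_insert, Finset.coe_singleton]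
    tauto

end Cfsg.Agent.Lib.Helper51.N3
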