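import Mathlib
import Cfsg.Agent.Lib.Helper56.NSE3Defs

set_option autoImplicit false

namespace Cfsg.Agent.Lib.Helper51.NSE3

open Cfsg.Agent.S3995 (s)
open Cfsg.Agent.Lib.Helper56.NSE3 (Hyp)

variable {G : Type*} [Group G] [Finite G]

/-- splitting off the full `p`-part. -/
theorem ar_split (N : ℕ) (hN : N ≠ 0) (p : ℕ) (hp : p.Prime) :
    ∃ a M : ℕ, N = p ^ a * M ∧ M ≠ 0 ∧ M ∣ N ∧ ¬ p ∣ M := by
  refine ⟨N.factorization p, N / p ^ N.factorization p, ?_, ?_, ?_, ?_⟩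
  · exact (Nat.ordProj_mul_ordCompl_eq_self N p).symm
  · exact (Nat.ordCompl_pos p hN).ne'
  · exact Nat.ordCompl_dvd N p
  · exact Nat.not_dvd_ordCompl hp hN

/-- L11 arithmetic: at most two primes. -/
theorem ar_two (N : ℕ) (hN : N ≠ 0)
    (h : ∀ p q r : ℕ, p.Prime → q.Prime → r.Prime → p ∣ N → q ∣ N → r ∣ N →
      p ≠ q → p ≠ r → q ≠ r → False) :
    ∃ p q a b : ℕ, p.Prime ∧ q.Prime ∧ N = p ^ a * q ^ b := by
  by_cases hN1 : N = 1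
  · exact ⟨2, 2, 0, 0, Nat.prime_two, Nat.prime_two, by simp [hN1]⟩
  obtain ⟨p, hp, hpN⟩ := Nat.exists_prime_and_dvd hN1
  obtain ⟨a, M, hNM, hM0, hMN, hpM⟩ := ar_split N hN p hp
  by_cases hM1 : M = 1
  · exact ⟨p, 2, a, 0, hp, Nat.prime_two, by rw [hNM, hM1]; simp⟩
  obtain ⟨q, hq, hqM⟩ := Nat.exists_prime_and_dvd hM1
  obtain ⟨b, M', hMM', hM'0, hM'M, hqM'⟩ := ar_split M hM0 q hq
  by_cases hM'1 : M' = 1
  · exact ⟨p, q, a, b, hp, hq, by rw [hNM, hMM', hM'1]; simp⟩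
  obtain ⟨r, hr, hrM'⟩ := Nat.exists_prime_and_dvd hM'1
  exfalso
  refine h p q r hp hq hr hpN (hqM.trans hMN) ((hrM'.trans hM'M).trans hMN)
    ?_ ?_ ?_
  · intro e
    exact hpM (e ▸ hqM)
  · intro e
    exact hpM (e ▸ (hrM'.trans hM'M))
  · intro e
    exact hqM' (e ▸ hrM')

/-- L12 arithmetic: at most one odd prime. -/
theorem ar_one_odd (N : ℕ) (hN : N ≠ 0)
    (h : ∀ p q : ℕ, p.Prime → q.Prime → p ≠ 2 → q ≠ 2 → p ∣ N → q ∣ N → p ≠ q → False) :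
    ∃ q a b : ℕ, q.Prime ∧ N = 2 ^ a * q ^ b := by
  obtain ⟨a, M, hNM, hM0, hMN, h2M⟩ := ar_split N hN 2 Nat.prime_two
  by_cases hM1 : M = 1
  · exact ⟨2, a, 0, Nat.prime_two, by rw [hNM, hM1]; simp⟩
  obtain ⟨q, hq, hqM⟩ := Nat.exists_prime_and_dvd hM1
  obtain ⟨b, M', hMM', hM'0, hM'M, hqM'⟩ := ar_split M hM0 q hq
  by_cases hM'1 : M' = 1
  · exact ⟨q, a, b, hq, by rw [hNM, hMM', hM'1]; simp⟩
  obtain ⟨r, hr, hrM'⟩ := Nat.exists_prime_and_dvd hM'1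
  exfalso
  refine h q r hq hr ?_ ?_ (hqM.trans hMN) ((hrM'.trans hM'M).trans hMN) ?_
  · intro e
    exact h2M (e ▸ hqM)
  · intro e
    exact h2M (e ▸ (hrM'.trans hM'M))
  · intro e
    exact hqM' (e ▸ hrM')

/-- L13 arithmetic: `N = 2 * odd`, at most two odd primes. -/
theorem ar_two_odd (N : ℕ) (hN : N ≠ 0) (h2 : 2 ∣ N) (h4 : ¬ 4 ∣ N)
    (h : ∀ p q r : ℕ, p.Prime → q.Prime → r.Prime → p ≠ 2 → q ≠ 2 → r ≠ 2 →
      p ∣ N → q ∣ N → r ∣ N → p ≠ q → p ≠ r → q ≠ r → False) :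
    ∃ p q a b : ℕ, p.Prime ∧ q.Prime ∧ N = 2 * (p ^ a * q ^ b) ∧ ¬ 2 ∣ p ^ a * q ^ b := by
  obtain ⟨M, rfl⟩ := h2
  have hM0 : M ≠ 0 := by
    rintro rfl
    exact hN (by simp)
  have hMN : M ∣ 2 * M := Dvd.intro_left 2 rfl
  have h2M : ¬ 2 ∣ M := by
    rintro ⟨K, rfl⟩
    exact h4 ⟨K, by ring⟩
  have hodd : ∀ p : ℕ, p ∣ M → p ≠ 2 := by
    rintro p hpM rfl
    exact h2M hpM
  obtain ⟨p, q, a, b, hp, hq, hM⟩ := ar_two M hM0 (by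
    intro p q r hp hq hr hpM hqM hrM hpq hpr hqr
    exact h p q r hp hq hr (hodd p hpM) (hodd q hqM) (hodd r hrM) (hpM.trans hMN)
      (hqM.trans hMN) (hrM.trans hMN) hpq hpr hqr)
  exact ⟨p, q, a, b, hp, hq, by rw [← hM], by rw [← hM]; exact h2M⟩

end Cfsg.Agent.Lib.Helper51.NSE3
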