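import Mathlib

/-!
# K-NSE-B4 : `nse (A₄) = {1, 3, 8}`
-/

set_option autoImplicit false

namespace Cfsg.Agent.Lib.Helper51.Nse

open Equiv

/-- number of elements of prime order `p` of `A₄`, as a filter over `Perm (Fin 4)`. -/
theorem card_orderOf_prime_A4 (p : ℕ) (hp : p.Prime) :
    Nat.card {g : ↥(alternatingGroup (Fin 4)) // orderOf g = p} =
      (Finset.univ.filter
        (fun g : Perm (Fin 4) => Perm.sign g = 1 ∧ g ^ p = 1 ∧ g ≠ 1)).card := by
  have hP : Fact p.Prime := ⟨hp⟩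
  rw [← Fintype.card_subtype, ← Nat.card_eq_fintype_card]
  apply Nat.card_congr
  refine ⟨fun g => ⟨g.1.1, ?_⟩, fun g => ⟨⟨g.1, ?_⟩, ?_⟩, ?_, ?_⟩
  · have hg : Perm.sign (g.1 : Perm (Fin 4)) = 1 := Perm.mem_alternatingGroup.mp g.1.2
    have ho : orderOf (g.1 : Perm (Fin 4)) = p := by
      rw [Subgroup.orderOf_coe]; exact g.2
    refine ⟨hg, ?_, ?_⟩
    · have h := pow_orderOf_eq_one (g.1 : Perm (Fin 4))
      rwa [ho] at h
    · intro h1
      rw [h1, orderOf_one] at ho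
      exact hp.one_lt.ne ho
  · exact Perm.mem_alternatingGroup.mpr g.2.1
  · rw [← Subgroup.orderOf_coe]
    exact orderOf_eq_prime g.2.2.1 g.2.2.2
  · intro g; rfl
  · intro g; rfl

theorem card_orderOf_one_A4 :
    Nat.card {g : ↥(alternatingGroup (Fin 4)) // orderOf g = 1} = 1 := by
  have : Unique {g : ↥(alternatingGroup (Fin 4)) // orderOf g = 1} :=
    { default := ⟨1, orderOf_one⟩
      uniq := fun g => Subtype.ext (orderOf_eq_one_iff.mp g.2) }
  exact Nat.card_unique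

theorem cnt2_A4 : (Finset.univ.filter
    (fun g : Perm (Fin 4) => Perm.sign g = 1 ∧ g ^ 2 = 1 ∧ g ≠ 1)).card = 3 := by
  decide

theorem cnt3_A4 : (Finset.univ.filter
    (fun g : Perm (Fin 4) => Perm.sign g = 1 ∧ g ^ 3 = 1 ∧ g ≠ 1)).card = 8 := by
  decide

theorem pow_A4 : ∀ g : Perm (Fin 4), Perm.sign g = 1 → g ^ 2 = 1 ∨ g ^ 3 = 1 := by
  decide

theorem orderOf_A4 (g : ↥(alternatingGroup (Fin 4))) :
    orderOf g = 1 ∨ orderOf g = 2 ∨ orderOf g = 3 := by
  have hg : Perm.sign (g : Perm (Fin 4)) = 1 := Perm.mem_alternatingGroup.mp g.2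
  rcases pow_A4 _ hg with h | h
  · have h' : g ^ 2 = 1 := Subtype.ext (by simpa using h)
    have := orderOf_dvd_of_pow_eq_one h'
    rcases (Nat.dvd_prime Nat.prime_two).1 this with h1 | h1
    · exact Or.inl h1
    · exact Or.inr (Or.inl h1)
  · have h' : g ^ 3 = 1 := Subtype.ext (by simpa using h)
    have := orderOf_dvd_of_pow_eq_one h'
    rcases (Nat.dvd_prime Nat.prime_three).1 this with h1 | h1
    · exact Or.inl h1
    · exact Or.inr (Or.inr h1)

theorem nse_A4 : ((fun m : ℕ => Nat.card {g : ↥(alternatingGroup (Fin 4)) // orderOf g = m}) ''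
    Set.range (orderOf : ↥(alternatingGroup (Fin 4)) → ℕ)) = (↑({1, 3, 8} : Finset ℕ) : Set ℕ) := by
  have c1 := card_orderOf_one_A4
  have c2 := (card_orderOf_prime_A4 2 Nat.prime_two).trans cnt2_A4
  have c3 := (card_orderOf_prime_A4 3 Nat.prime_three).trans cnt3_A4
  have e2 : ∃ g : ↥(alternatingGroup (Fin 4)), orderOf g = 2 := by
    have h : Nat.card {g : ↥(alternatingGroup (Fin 4)) // orderOf g = 2} ≠ 0 := by
      rw [c2]; norm_num
    obtain ⟨⟨g, hg⟩, _⟩ := Nat.card_ne_zero.1 h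
    exact ⟨g, hg⟩
  have e3 : ∃ g : ↥(alternatingGroup (Fin 4)), orderOf g = 3 := by
    have h : Nat.card {g : ↥(alternatingGroup (Fin 4)) // orderOf g = 3} ≠ 0 := by
      rw [c3]; norm_num
    obtain ⟨⟨g, hg⟩, _⟩ := Nat.card_ne_zero.1 h
    exact ⟨g, hg⟩
  ext x
  simp only [Set.mem_image, Set.mem_range, Set.mem_insert_iff, Set.mem_singleton_iff,
    Finset.coe_insert, Finset.coe_singleton]
  constructor
  · rintro ⟨m, ⟨g, rfl⟩, rfl⟩
    rcases orderOf_A4 g with h | h | h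
    · left; rw [h]; exact c1
    · right; left; rw [h]; exact c2
    · right; right; rw [h]; exact c3
  · rintro (rfl | rfl | rfl)
    · exact ⟨1, ⟨1, orderOf_one⟩, c1⟩
    · obtain ⟨g, hg⟩ := e2
      exact ⟨2, ⟨g, hg⟩, c2⟩
    · obtain ⟨g, hg⟩ := e3
      exact ⟨3, ⟨g, hg⟩, c3⟩

end Cfsg.Agent.Lib.Helper51.Nse
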