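import Mathlib
import Cfsg.Agent.S0228
import Cfsg.Agent.S3995

/-!
# K-NSE-D4 : a group of order 12 with 8 elements of order 3 is `A₄`
-/

set_option autoImplicit false

namespace Cfsg.Agent.Lib.Helper51.Nse

theorem recog_A4 {G : Type*} [Group G] [Finite G] (hN : Nat.card G = 12) (h3 : Cfsg.Agent.S3995.s G 3 = 8) :
    Nonempty (G ≃* ↥(alternatingGroup (Fin 4))) := by
  classical
  apply Cfsg.Agent.S0228.result hN
  intro z hz hzc
  have : Fintype G := Fintype.ofFinite G
  set A : Finset G := Finset.univ.filter (fun g => orderOf g = 3) with hA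
  have hAc : A.card = 8 := by
    rw [← h3]
    unfold Cfsg.Agent.S3995.s
    rw [Nat.card_eq_fintype_card, Fintype.card_subtype]
  set B : Finset G := A.image (fun g => z * g) with hB
  have hBc : B.card = 8 := by
    rw [hB, Finset.card_image_of_injective _ (mul_right_injective z), hAc]
  have hdis : Disjoint A B := by
    rw [Finset.disjoint_left]
    intro g hgA hgB
    rw [hB, Finset.mem_image] at hgB
    obtain ⟨g', hg'A, rfl⟩ := hgB
    rw [hA, Finset.mem_filter] at hgA hg'A
    have hcomm : Commute z g' := by
      rw [Subgroup.mem_center_iff] at hzc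
      exact (hzc g').symm
    have hcop : Nat.Coprime (orderOf z) (orderOf g') := by
      rw [hz, hg'A.2]; norm_num
    have := hcomm.orderOf_mul_eq_mul_orderOf_of_coprime hcop
    rw [hz, hg'A.2, hgA.2] at this
    omega
  have hle : (A ∪ B).card ≤ Fintype.card G := Finset.card_le_univ _
  rw [Finset.card_union_of_disjoint hdis, hAc, hBc, ← Nat.card_eq_fintype_card, hN] at hle
  omega

end Cfsg.Agent.Lib.Helper51.Nse
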