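import Mathlib
import Cfsg.Prelude.Def_Classical

set_option autoImplicit false
set_option linter.unusedSectionVars false

namespace Cfsg.Agent.Lib.Helper51

open Matrix

section o4

/-- index type of the 4-dimensional space -/
abbrev J4 : Type := Fin 2 ⊕ Fin 2

/-- two by two matrices -/
abbrev M2 (F : Type*) : Type _ := Matrix (Fin 2) (Fin 2) F

variable {F : Type*} [Field F]

/-- coordinates as a two by two matrix -/
def theta (F : Type*) [Field F] : (J4 → F) ≃ₗ[F] M2 F where
  toFun v := !![v (.inl 0), v (.inl 1); v (.inr 1), v (.inr 0)]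
  invFun M := Sum.elim ![M 0 0, M 0 1] ![M 1 1, M 1 0]
  map_add' u v := by
    ext i j
    fin_cases i <;> fin_cases j <;> simp
  map_smul' c v := by
    ext i j
    fin_cases i <;> fin_cases j <;> simp
  left_inv v := by
    funext x
    rcases x with i | i <;> fin_cases i <;> simp
  right_inv M := by
    ext i j
    fin_cases i <;> fin_cases j <;> simp

theorem det_theta (v : J4 → F) :
    (theta F v).det = v (.inl 0) * v (.inr 0) - v (.inl 1) * v (.inr 1) := by
  simp [theta, Matrix.det_fin_two]

/-- the matrix of a linear automorphism of the two by two matrices in the coordinates `theta` -/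
noncomputable def xi0 (F : Type*) [Field F] : (M2 F ≃ₗ[F] M2 F) →* Matrix J4 J4 F where
  toFun T := LinearMap.toMatrix'
    ((theta F).symm.toLinearMap.comp (T.toLinearMap.comp (theta F).toLinearMap))
  map_one' := by
    rw [← LinearMap.toMatrix'_id]
    congr 1
    apply LinearMap.ext
    intro v
    simp
  map_mul' S T := by
    rw [← LinearMap.toMatrix'_comp]
    congr 1
    apply LinearMap.ext
    intro v
    simp

theorem xi0_mulVec (T : M2 F ≃ₗ[F] M2 F) (v : J4 → F) :
    xi0 F T *ᵥ v = (theta F).symm (T (theta F v)) := by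
  show LinearMap.toMatrix' _ *ᵥ v = _
  rw [LinearMap.toMatrix'_mulVec]
  rfl

theorem xi0_injective : Function.Injective (xi0 F) := by
  intro S T h
  apply LinearEquiv.ext
  intro M
  have h1 := congrArg (fun X : Matrix J4 J4 F => X *ᵥ ((theta F).symm M)) h
  simp only [xi0_mulVec, LinearEquiv.apply_symm_apply] at h1
  exact (theta F).symm.injective h1

/-- left multiplication by an element of `SL₂` -/
def lmulSL (g : Matrix.SpecialLinearGroup (Fin 2) F) : M2 F ≃ₗ[F] M2 F where
  toFun M := g.1 * M
  invFun M := (g⁻¹).1 * M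
  map_add' M N := mul_add _ _ _
  map_smul' c M := by simp
  left_inv M := by
    show (g⁻¹).1 * (g.1 * M) = M
    rw [← mul_assoc, ← Matrix.SpecialLinearGroup.coe_mul, inv_mul_cancel,
      Matrix.SpecialLinearGroup.coe_one, one_mul]
  right_inv M := by
    show g.1 * ((g⁻¹).1 * M) = M
    rw [← mul_assoc, ← Matrix.SpecialLinearGroup.coe_mul, mul_inv_cancel,
      Matrix.SpecialLinearGroup.coe_one, one_mul]

/-- right multiplication by the inverse of an element of `SL₂` -/
def rmulSL (h : Matrix.SpecialLinearGroup (Fin 2) F) : M2 F ≃ₗ[F] M2 F where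
  toFun M := M * (h⁻¹).1
  invFun M := M * h.1
  map_add' M N := add_mul _ _ _
  map_smul' c M := by simp
  left_inv M := by
    show M * (h⁻¹).1 * h.1 = M
    rw [mul_assoc, ← Matrix.SpecialLinearGroup.coe_mul, inv_mul_cancel,
      Matrix.SpecialLinearGroup.coe_one, mul_one]
  right_inv M := by
    show M * h.1 * (h⁻¹).1 = M
    rw [mul_assoc, ← Matrix.SpecialLinearGroup.coe_mul, mul_inv_cancel,
      Matrix.SpecialLinearGroup.coe_one, mul_one]

theorem lmulSL_apply (g : Matrix.SpecialLinearGroup (Fin 2) F) (M : M2 F) :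
    lmulSL g M = g.1 * M := rfl

theorem rmulSL_apply (h : Matrix.SpecialLinearGroup (Fin 2) F) (M : M2 F) :
    rmulSL h M = M * (h⁻¹).1 := rfl

/-- left multiplication as a homomorphism -/
def lmulHom (F : Type*) [Field F] : Matrix.SpecialLinearGroup (Fin 2) F →* (M2 F ≃ₗ[F] M2 F) where
  toFun := lmulSL
  map_one' := by
    apply LinearEquiv.ext
    intro M
    simp [lmulSL_apply]
  map_mul' g g' := by
    apply LinearEquiv.ext
    intro M
    simp [lmulSL_apply, mul_assoc]

/-- right multiplication as a homomorphism -/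
def rmulHom (F : Type*) [Field F] : Matrix.SpecialLinearGroup (Fin 2) F →* (M2 F ≃ₗ[F] M2 F) where
  toFun := rmulSL
  map_one' := by
    apply LinearEquiv.ext
    intro M
    simp [rmulSL_apply]
  map_mul' h h' := by
    apply LinearEquiv.ext
    intro M
    simp [rmulSL_apply, mul_assoc]

/-- transposition -/
def transL (F : Type*) [Field F] : M2 F ≃ₗ[F] M2 F := Matrix.transposeLinearEquiv (Fin 2) (Fin 2) F F

theorem transL_apply (M : M2 F) : transL F M = Mᵀ := rfl

theorem transL_inv_apply (M : M2 F) : (transL F)⁻¹ M = Mᵀ := rfl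

theorem trans_conj (g : Matrix.SpecialLinearGroup (Fin 2) F) :
    transL F * lmulHom F g * (transL F)⁻¹ = rmulHom F (g.transpose)⁻¹ := by
  apply LinearEquiv.ext
  intro M
  show (g.1 * Mᵀ)ᵀ = M * (((g.transpose)⁻¹)⁻¹).1
  rw [inv_inv, Matrix.transpose_mul, Matrix.transpose_transpose]
  rfl

theorem lmul_rmul_comm (g h : Matrix.SpecialLinearGroup (Fin 2) F) :
    lmulHom F g * rmulHom F h = rmulHom F h * lmulHom F g := by
  apply LinearEquiv.ext
  intro M
  show g.1 * (M * (h⁻¹).1) = g.1 * M * (h⁻¹).1
  rw [mul_assoc]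

end o4

end Cfsg.Agent.Lib.Helper51
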