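import Mathlib
import Cfsg.Agent.Lib.Helper51.O4a

set_option autoImplicit false
set_option linter.unusedSectionVars false

namespace Cfsg.Agent.Lib.Helper51

open Matrix

section o4b

/-- `SL₂(2)` -/
abbrev SL2 : Type := Matrix.SpecialLinearGroup (Fin 2) (ZMod 2)

/-- `O⁺₄(2)` -/
abbrev G4 : Type := ↥(Cfsg.isometryGroup (ZMod 2) (Cfsg.quadFormPlus 2 (ZMod 2)))

/-- nonzero vectors of the plane over the field of two elements -/
abbrev NZ2 : Type := {v : Fin 2 → ZMod 2 // v ≠ 0}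

theorem sl2_mulVec_ne : ∀ (g : SL2) (v : NZ2), g.1 *ᵥ v.1 ≠ 0 := by decide

instance : MulAction SL2 NZ2 where
  smul g v := ⟨g.1 *ᵥ v.1, sl2_mulVec_ne g v⟩
  one_smul v := Subtype.ext (by
    show (1 : SL2).1 *ᵥ v.1 = v.1
    simp)
  mul_smul g h v := Subtype.ext (by
    show (g * h).1 *ᵥ v.1 = g.1 *ᵥ (h.1 *ᵥ v.1)
    rw [Matrix.SpecialLinearGroup.coe_mul, Matrix.mulVec_mulVec])

theorem sl2_smul_val (g : SL2) (v : NZ2) : ((g • v : NZ2) : Fin 2 → ZMod 2) = g.1 *ᵥ v.1 := rfl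

theorem sl2_faithful : ∀ g : SL2, (∀ v : NZ2, g.1 *ᵥ v.1 = v.1) → g = 1 := by decide

/-- `SL₂(2) ≃ S₃` -/
noncomputable def sl2EquivPerm : SL2 ≃* Equiv.Perm (Fin 3) := by
  have hinj : Function.Injective (MulAction.toPermHom SL2 NZ2) := by
    rw [injective_iff_map_eq_one]
    intro g hg
    apply sl2_faithful
    intro v
    have := congrArg (fun p : Equiv.Perm NZ2 => ((p v : NZ2) : Fin 2 → ZMod 2)) hg
    simpa [sl2_smul_val] using this
  have hcard : Fintype.card NZ2 = 3 := by decide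
  have hbij : Function.Bijective (MulAction.toPermHom SL2 NZ2) := by
    rw [Fintype.bijective_iff_injective_and_card]
    refine ⟨hinj, ?_⟩
    rw [Fintype.card_perm, hcard]
    decide
  exact (MulEquiv.ofBijective _ hbij).trans (Equiv.permCongrHom (Fintype.equivFinOfCardEq hcard))

theorem Q_eq_det (v : J4 → ZMod 2) :
    Cfsg.quadFormPlus 2 (ZMod 2) v = (theta (ZMod 2) v).det := by
  rw [det_theta, CharTwo.sub_eq_add]
  simp [Cfsg.quadFormPlus, Fin.sum_univ_two]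

/-- matrices of linear automorphisms, as invertible matrices -/
noncomputable def Xi : (M2 (ZMod 2) ≃ₗ[ZMod 2] M2 (ZMod 2)) →* GL J4 (ZMod 2) :=
  (xi0 (ZMod 2)).toHomUnits

theorem Xi_val (T : M2 (ZMod 2) ≃ₗ[ZMod 2] M2 (ZMod 2)) :
    ((Xi T : GL J4 (ZMod 2)) : Matrix J4 J4 (ZMod 2)) = xi0 (ZMod 2) T :=
  MonoidHom.coe_toHomUnits _ _

theorem Xi_injective : Function.Injective Xi := by
  intro S T h
  apply xi0_injective
  rw [← Xi_val, ← Xi_val, h]

theorem Xi_mem (T : M2 (ZMod 2) ≃ₗ[ZMod 2] M2 (ZMod 2)) (hT : ∀ M, (T M).det = M.det) :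
    Xi T ∈ Cfsg.isometryGroup (ZMod 2) (Cfsg.quadFormPlus 2 (ZMod 2)) := by
  intro u _
  show Cfsg.quadFormPlus 2 (ZMod 2) (((Xi T : GL J4 (ZMod 2)) : Matrix J4 J4 (ZMod 2)) *ᵥ u) =
    Cfsg.quadFormPlus 2 (ZMod 2) u
  rw [Xi_val, xi0_mulVec, Q_eq_det, Q_eq_det, LinearEquiv.apply_symm_apply, hT]

/-- left multiplications inside `O⁺₄(2)` -/
noncomputable def phiA : SL2 →* G4 :=
  (Xi.comp (lmulHom (ZMod 2))).codRestrict _ (fun g => Xi_mem _ (fun M => by
    show (g.1 * M).det = M.det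
    rw [Matrix.det_mul, g.2, one_mul]))

/-- right multiplications inside `O⁺₄(2)` -/
noncomputable def phiB : SL2 →* G4 :=
  (Xi.comp (rmulHom (ZMod 2))).codRestrict _ (fun h => Xi_mem _ (fun M => by
    show (M * (h⁻¹).1).det = M.det
    rw [Matrix.det_mul, (h⁻¹).2, mul_one]))

/-- the transposition inside `O⁺₄(2)` -/
noncomputable def gT : G4 := ⟨Xi (transL (ZMod 2)), Xi_mem _ (fun M => Matrix.det_transpose M)⟩

theorem phiA_val (g : SL2) : ((phiA g : G4) : GL J4 (ZMod 2)) = Xi (lmulHom (ZMod 2) g) := rfl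

theorem phiB_val (g : SL2) : ((phiB g : G4) : GL J4 (ZMod 2)) = Xi (rmulHom (ZMod 2) g) := rfl

theorem phiA_injective : Function.Injective phiA := by
  intro g g' h
  have h1 : Xi (lmulHom (ZMod 2) g) = Xi (lmulHom (ZMod 2) g') := congrArg Subtype.val h
  have h2 := Xi_injective h1
  have h3 := LinearEquiv.congr_fun h2 1
  apply Subtype.ext
  simpa [lmulHom, lmulSL_apply] using h3

theorem phiB_injective : Function.Injective phiB := by
  intro g g' h
  have h1 : Xi (rmulHom (ZMod 2) g) = Xi (rmulHom (ZMod 2) g') := congrArg Subtype.val h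
  have h2 := Xi_injective h1
  have h3 := LinearEquiv.congr_fun h2 1
  have h4 : (g⁻¹).1 = (g'⁻¹).1 := by simpa [rmulHom, rmulSL_apply] using h3
  exact inv_injective (Subtype.ext h4)

theorem phiA_phiB_comm (g h : SL2) : phiA g * phiB h = phiB h * phiA g := by
  apply Subtype.ext
  show Xi (lmulHom (ZMod 2) g) * Xi (rmulHom (ZMod 2) h) = Xi (rmulHom (ZMod 2) h) * Xi (lmulHom (ZMod 2) g)
  rw [← map_mul, ← map_mul, lmul_rmul_comm]

theorem conj_phiA (g : SL2) : gT * phiA g * gT⁻¹ = phiB (g.transpose)⁻¹ := by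
  apply Subtype.ext
  show Xi (transL (ZMod 2)) * Xi (lmulHom (ZMod 2) g) * (Xi (transL (ZMod 2)))⁻¹ = Xi (rmulHom (ZMod 2) (g.transpose)⁻¹)
  rw [← map_inv, ← map_mul, ← map_mul, trans_conj]

theorem sl2_central : ∀ g : SL2, (∀ M : M2 (ZMod 2), g.1 * M = M * g.1) → g = 1 := by decide

theorem phiA_eq_phiB (g h : SL2) (hgh : phiA g = phiB h) : g = 1 ∧ h = 1 := by
  have h1 : Xi (lmulHom (ZMod 2) g) = Xi (rmulHom (ZMod 2) h) := congrArg Subtype.val hgh
  have h2 := Xi_injective h1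
  have h3 : ∀ M : M2 (ZMod 2), g.1 * M = M * (h⁻¹).1 := fun M => LinearEquiv.congr_fun h2 M
  have h4 : g.1 = (h⁻¹).1 := by simpa using h3 1
  have h5 : g = 1 := by
    apply sl2_central
    intro M
    rw [h3 M, h4]
  refine ⟨h5, ?_⟩
  have h6 : h⁻¹ = 1 := by
    apply Subtype.ext
    rw [← h4, h5]
  exact inv_eq_one.1 h6

end o4b

end Cfsg.Agent.Lib.Helper51
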