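import Mathlib
import Cfsg.Prelude.Def_Classical

set_option autoImplicit false
set_option linter.unusedSectionVars false

namespace Cfsg.Agent.Lib.Helper51

section o6

variable {F : Type*} [Field F]

/-- index type of the 6-dimensional space -/
abbrev I6 : Type := Fin 3 ⊕ Fin 3

/-- the embedding of the 6-space into the even-weight vectors of the 8-space -/
def beta (u : I6 → F) : Fin 8 → F :=
  ![u (.inl 0) + u (.inl 1) + u (.inl 2) + u (.inr 0) + u (.inr 1) + u (.inr 2),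
    u (.inl 0) + u (.inl 1) + u (.inr 0) + u (.inr 1),
    u (.inl 0) + u (.inl 2) + u (.inr 0),
    u (.inl 0) + u (.inr 2),
    u (.inr 0) + u (.inr 2),
    u (.inl 1) + u (.inr 1) + u (.inr 2),
    u (.inl 1) + u (.inl 2),
    u (.inl 2) + u (.inr 1)]

/-- the coordinate map on the 8-space -/
def rr (v : Fin 8 → F) : I6 → F :=
  Sum.elim ![v 0 + v 1 + v 2 + v 4, v 0 + v 1 + v 5 + v 7, v 0 + v 3 + v 4 + v 5]
    ![v 0 + v 1 + v 2 + v 3, v 0 + v 1 + v 5 + v 6, v 0 + v 2 + v 6 + v 7]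

/-- second elementary symmetric function -/
def q8 (v : Fin 8 → F) : F := ∑ i : Fin 8, ∑ j : Fin 8, if i < j then v i * v j else 0

theorem q8_expand (v : Fin 8 → F) : q8 v =
    v 0 * v 1 + v 0 * v 2 + v 0 * v 3 + v 0 * v 4 + v 0 * v 5 + v 0 * v 6 + v 0 * v 7 +
    (v 1 * v 2 + v 1 * v 3 + v 1 * v 4 + v 1 * v 5 + v 1 * v 6 + v 1 * v 7) +
    (v 2 * v 3 + v 2 * v 4 + v 2 * v 5 + v 2 * v 6 + v 2 * v 7) +
    (v 3 * v 4 + v 3 * v 5 + v 3 * v 6 + v 3 * v 7) +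
    (v 4 * v 5 + v 4 * v 6 + v 4 * v 7) + (v 5 * v 6 + v 5 * v 7) + v 6 * v 7 := by
  simp [q8, Fin.sum_univ_eight]

theorem rr_beta (h2 : (2 : F) = 0) (u : I6 → F) : rr (beta u) = u := by
  funext a
  rcases a with k | k <;> fin_cases k
  · simp [rr, beta]
    linear_combination (1 * u (.inl 0) + 1 * u (.inl 1) + 1 * u (.inl 2) + 2 * u (.inr 0) + 1 * u (.inr 1) + 1 * u (.inr 2)) * h2
  · simp [rr, beta]
    linear_combination (1 * u (.inl 0) + 1 * u (.inl 1) + 1 * u (.inl 2) + 1 * u (.inr 0) + 2 * u (.inr 1) + 1 * u (.inr 2)) * h2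
  · simp [rr, beta]
    linear_combination (1 * u (.inl 0) + 1 * u (.inl 1) + 1 * u (.inr 0) + 1 * u (.inr 1) + 2 * u (.inr 2)) * h2
  · simp [rr, beta]
    linear_combination (2 * u (.inl 0) + 1 * u (.inl 1) + 1 * u (.inl 2) + 1 * u (.inr 0) + 1 * u (.inr 1) + 1 * u (.inr 2)) * h2
  · simp [rr, beta]
    linear_combination (1 * u (.inl 0) + 2 * u (.inl 1) + 1 * u (.inl 2) + 1 * u (.inr 0) + 1 * u (.inr 1) + 1 * u (.inr 2)) * h2
  · simp [rr, beta]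
    linear_combination (1 * u (.inl 0) + 1 * u (.inl 1) + 2 * u (.inl 2) + 1 * u (.inr 0) + 1 * u (.inr 1)) * h2

theorem sum_beta (h2 : (2 : F) = 0) (u : I6 → F) : ∑ i, beta u i = 0 := by
  simp [Fin.sum_univ_eight, beta]
  linear_combination (2 * u (.inl 0) + 2 * u (.inl 1) + 2 * u (.inl 2) + 2 * u (.inr 0) + 2 * u (.inr 1) + 2 * u (.inr 2)) * h2

theorem rr_one (h2 : (2 : F) = 0) : rr (fun _ => (1 : F)) = 0 := by
  funext a
  rcases a with k | k <;> fin_cases k <;> simp [rr] <;> linear_combination 2 * h2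

theorem q8_beta (h2 : (2 : F) = 0) (u : I6 → F) : q8 (beta u) = Cfsg.quadFormPlus 3 F u := by
  rw [q8_expand]
  simp [beta, Cfsg.quadFormPlus, Fin.sum_univ_three]
  linear_combination (3 * u (.inl 0) * u (.inl 0) + 7 * u (.inl 0) * u (.inl 1) + 7 * u (.inl 0) * u (.inl 2) + 6 * u (.inl 0) * u (.inr 0) + 7 * u (.inl 0) * u (.inr 1) + 7 * u (.inl 0) * u (.inr 2) + 3 * u (.inl 1) * u (.inl 1) + 7 * u (.inl 1) * u (.inl 2) + 7 * u (.inl 1) * u (.inr 0) + 6 * u (.inl 1) * u (.inr 1) + 7 * u (.inl 1) * u (.inr 2) + 3 * u (.inl 2) * u (.inl 2) + 7 * u (.inl 2) * u (.inr 0) + 7 * u (.inl 2) * u (.inr 1) + 7 * u (.inl 2) * u (.inr 2) + 3 * u (.inr 0) * u (.inr 0) + 7 * u (.inr 0) * u (.inr 1) + 7 * u (.inr 0) * u (.inr 2) + 3 * u (.inr 1) * u (.inr 1) + 7 * u (.inr 1) * u (.inr 2) + 3 * u (.inr 2) * u (.inr 2)) * h2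

theorem ker_rr (h2 : (2 : F) = 0) (v : Fin 8 → F) (hE : ∑ i, v i = 0) (hr : rr v = 0) :
    ∀ j, v j = v 0 := by
  rw [Fin.sum_univ_eight] at hE
  have hl0 : v 0 + v 1 + v 2 + v 4 = 0 := congrFun hr (.inl 0)
  have hl1 : v 0 + v 1 + v 5 + v 7 = 0 := congrFun hr (.inl 1)
  have hl2 : v 0 + v 3 + v 4 + v 5 = 0 := congrFun hr (.inl 2)
  have hr0 : v 0 + v 1 + v 2 + v 3 = 0 := congrFun hr (.inr 0)
  have hr1 : v 0 + v 1 + v 5 + v 6 = 0 := congrFun hr (.inr 1)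
  have hr2 : v 0 + v 2 + v 6 + v 7 = 0 := congrFun hr (.inr 2)
  intro j
  fin_cases j
  · rfl
  · show v 1 = v 0
    linear_combination hE + hl2 + hr2 - ( 2 * v 0 + 1 * v 2 + 1 * v 3 + 1 * v 4 + 1 * v 5 + 1 * v 6 + 1 * v 7 ) * h2
  · show v 2 = v 0
    linear_combination hl1 + hr1 + hr2 - ( 2 * v 0 + 1 * v 1 + 1 * v 5 + 1 * v 6 + 1 * v 7 ) * h2
  · show v 3 = v 0
    linear_combination hE + hl1 + hl2 + hr0 + hr1 - ( 3 * v 0 + 2 * v 1 + 1 * v 2 + 1 * v 3 + 1 * v 4 + 2 * v 5 + 1 * v 6 + 1 * v 7 ) * h2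
  · show v 4 = v 0
    linear_combination hE + hl0 + hl1 + hl2 + hr1 - ( 3 * v 0 + 2 * v 1 + 1 * v 2 + 1 * v 3 + 1 * v 4 + 2 * v 5 + 1 * v 6 + 1 * v 7 ) * h2
  · show v 5 = v 0
    linear_combination hl0 + hl2 + hr0 - ( 2 * v 0 + 1 * v 1 + 1 * v 2 + 1 * v 3 + 1 * v 4 ) * h2
  · show v 6 = v 0
    linear_combination hE + hl0 + hr0 + hr1 + hr2 - ( 3 * v 0 + 2 * v 1 + 2 * v 2 + 1 * v 3 + 1 * v 4 + 1 * v 5 + 1 * v 6 + 1 * v 7 ) * h2
  · show v 7 = v 0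
    linear_combination hE + hl0 + hl1 + hr0 + hr2 - ( 3 * v 0 + 2 * v 1 + 2 * v 2 + 1 * v 3 + 1 * v 4 + 1 * v 5 + 1 * v 6 + 1 * v 7 ) * h2

theorem q8_add_const (h2 : (2 : F) = 0) (v : Fin 8 → F) (hE : ∑ i, v i = 0) (c : F) :
    q8 (v + fun _ => c) = q8 v := by
  rw [Fin.sum_univ_eight] at hE
  rw [q8_expand, q8_expand]
  simp only [Pi.add_apply]
  linear_combination (7 * c) * hE + (14 * c ^ 2) * h2

end o6

end Cfsg.Agent.Lib.Helper51
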