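import Mathlib
import Cfsg.Agent.Lib.Helper51.O6a

set_option autoImplicit false
set_option linter.unusedSectionVars false

namespace Cfsg.Agent.Lib.Helper51

section o6b

variable {F : Type*} [Field F]

theorem q8_eq_sum_filter (v : Fin 8 → F) :
    q8 v = ∑ p ∈ (Finset.univ : Finset (Fin 8 × Fin 8)).filter (fun p => p.1 < p.2),
      v p.1 * v p.2 := by
  unfold q8
  rw [Finset.sum_filter, Fintype.sum_prod_type]

theorem q8_perm (π : Equiv.Perm (Fin 8)) (v : Fin 8 → F) : q8 (v ∘ π) = q8 v := by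
  rw [q8_eq_sum_filter, q8_eq_sum_filter]
  refine Finset.sum_bij'
    (fun p _ => if π p.1 < π p.2 then (π p.1, π p.2) else (π p.2, π p.1))
    (fun p _ => if π.symm p.1 < π.symm p.2 then (π.symm p.1, π.symm p.2)
      else (π.symm p.2, π.symm p.1)) ?_ ?_ ?_ ?_ ?_
  · intro p hp
    rw [Finset.mem_filter] at hp ⊢
    refine ⟨Finset.mem_univ _, ?_⟩
    split_ifs with h
    · exact h
    · have hne : π p.1 ≠ π p.2 := fun h' => hp.2.ne (π.injective h')
      exact lt_of_le_of_ne (not_lt.1 h) hne.symm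
  · intro p hp
    rw [Finset.mem_filter] at hp ⊢
    refine ⟨Finset.mem_univ _, ?_⟩
    split_ifs with h
    · exact h
    · have hne : π.symm p.1 ≠ π.symm p.2 := fun h' => hp.2.ne (π.symm.injective h')
      exact lt_of_le_of_ne (not_lt.1 h) hne.symm
  · intro p hp
    rw [Finset.mem_filter] at hp
    by_cases h : π p.1 < π p.2
    · simp [h, hp.2]
    · have h' : ¬ p.2 < p.1 := not_lt.2 hp.2.le
      simp [h, h']
  · intro p hp
    rw [Finset.mem_filter] at hp
    by_cases h : π.symm p.1 < π.symm p.2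
    · simp [h, hp.2]
    · have h' : ¬ p.2 < p.1 := not_lt.2 hp.2.le
      simp [h, h']
  · intro p hp
    by_cases h : π p.1 < π p.2
    · simp [h]
    · simp [h, mul_comm]

/-- `beta` as a linear map -/
def betaL (F : Type*) [Field F] : (I6 → F) →ₗ[F] (Fin 8 → F) where
  toFun := beta
  map_add' u u' := by
    funext i
    fin_cases i <;> simp [beta] <;> ring
  map_smul' c u := by
    funext i
    fin_cases i <;> simp [beta] <;> ring

/-- `rr` as a linear map -/
def rrL (F : Type*) [Field F] : (Fin 8 → F) →ₗ[F] (I6 → F) where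
  toFun := rr
  map_add' v v' := by
    funext a
    rcases a with k | k <;> fin_cases k <;> simp [rr] <;> ring
  map_smul' c v := by
    funext a
    rcases a with k | k <;> fin_cases k <;> simp [rr] <;> ring

theorem betaL_apply (u : I6 → F) : betaL F u = beta u := rfl

theorem rrL_apply (v : Fin 8 → F) : rrL F v = rr v := rfl

/-- `beta (rr v)` differs from an even-weight vector `v` by a constant vector -/
theorem beta_rr (h2 : (2 : F) = 0) (v : Fin 8 → F) (hE : ∑ i, v i = 0) :
    ∃ c : F, beta (rr v) = v + fun _ => c := by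
  set w : Fin 8 → F := beta (rr v) - v with hw
  have hwE : ∑ i, w i = 0 := by
    simp only [hw, Pi.sub_apply, Finset.sum_sub_distrib, sum_beta h2, hE, sub_zero]
  have hwr : rr w = 0 := by
    have : rr w = rrL F (betaL F (rrL F v)) - rrL F v := by
      rw [← map_sub]; rfl
    rw [this, betaL_apply, rrL_apply, rrL_apply, rr_beta h2, sub_self]
  have hconst := ker_rr h2 w hwE hwr
  refine ⟨w 0, ?_⟩
  funext j
  have := hconst j
  simp only [hw, Pi.sub_apply, Pi.add_apply] at this ⊢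
  linear_combination this

/-- the endomorphism attached to a permutation -/
def rhoL (F : Type*) [Field F] (σ : Equiv.Perm (Fin 8)) : (I6 → F) →ₗ[F] (I6 → F) :=
  (rrL F).comp ((LinearMap.funLeft F F (σ⁻¹ : Equiv.Perm (Fin 8))).comp (betaL F))

theorem rhoL_apply (σ : Equiv.Perm (Fin 8)) (u : I6 → F) :
    rhoL F σ u = rr (beta u ∘ (σ⁻¹ : Equiv.Perm (Fin 8))) := rfl

theorem sum_comp_perm (π : Equiv.Perm (Fin 8)) (v : Fin 8 → F) :
    ∑ i, (v ∘ π) i = ∑ i, v i := Equiv.sum_comp π v

theorem rhoL_one (h2 : (2 : F) = 0) : rhoL F 1 = LinearMap.id := by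
  apply LinearMap.ext
  intro u
  rw [rhoL_apply]
  simp only [inv_one, Equiv.Perm.coe_one, Function.comp_id, LinearMap.id_apply]
  exact rr_beta h2 u

theorem rr_add_const (h2 : (2 : F) = 0) (v : Fin 8 → F) (c : F) :
    rr (v + fun _ => c) = rr v := by
  have h1 : rr (v + fun _ => c) = rrL F v + rrL F (c • fun _ => (1 : F)) := by
    rw [← map_add]
    congr 1
    funext i
    simp
  rw [h1, map_smul, rrL_apply, rrL_apply, rr_one h2, smul_zero, add_zero]

theorem rhoL_mul (h2 : (2 : F) = 0) (σ τ : Equiv.Perm (Fin 8)) :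
    rhoL F (σ * τ) = (rhoL F σ).comp (rhoL F τ) := by
  apply LinearMap.ext
  intro u
  rw [LinearMap.comp_apply, rhoL_apply, rhoL_apply, rhoL_apply]
  set v : Fin 8 → F := beta u ∘ (τ⁻¹ : Equiv.Perm (Fin 8)) with hv
  have hvE : ∑ i, v i = 0 := by
    rw [hv, sum_comp_perm]
    exact sum_beta h2 u
  obtain ⟨c, hc⟩ := beta_rr h2 v hvE
  rw [hc]
  have h3 : (v + fun _ => c) ∘ (σ⁻¹ : Equiv.Perm (Fin 8)) =
      (v ∘ (σ⁻¹ : Equiv.Perm (Fin 8))) + fun _ => c := by
    funext i
    simp
  rw [h3, rr_add_const h2]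
  congr 1

theorem rhoL_iso (h2 : (2 : F) = 0) (σ : Equiv.Perm (Fin 8)) (u : I6 → F) :
    Cfsg.quadFormPlus 3 F (rhoL F σ u) = Cfsg.quadFormPlus 3 F u := by
  rw [← q8_beta h2, ← q8_beta h2, rhoL_apply]
  set v : Fin 8 → F := beta u ∘ (σ⁻¹ : Equiv.Perm (Fin 8)) with hv
  have hvE : ∑ i, v i = 0 := by
    rw [hv, sum_comp_perm]
    exact sum_beta h2 u
  obtain ⟨c, hc⟩ := beta_rr h2 v hvE
  rw [hc, q8_add_const h2 v hvE, hv, q8_perm]

end o6b

end Cfsg.Agent.Lib.Helper51
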