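import Mathlib
import Cfsg.Agent.Lib.Helper51.O6b

set_option autoImplicit false
set_option linter.unusedSectionVars false

namespace Cfsg.Agent.Lib.Helper51

open Matrix

section o6c

variable {F : Type*} [Field F]

theorem perm_eq_one_of_const (π : Equiv.Perm (Fin 8))
    (h : ∀ v : Fin 8 → F, ∑ i, v i = 0 → ∃ c : F, v ∘ π = v + fun _ => c)
    (h2 : (2 : F) = 0) : π = 1 := by
  classical
  by_contra hne
  obtain ⟨a, ha⟩ : ∃ a, π a ≠ a := by
    by_contra hcon
    push Not at hcon
    exact hne (Equiv.ext hcon)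
  set b := π a with hb
  have hcard : 2 < ((Finset.univ : Finset (Fin 8)) \ {a, b}).card := by
    have h1 : ({a, b} : Finset (Fin 8)).card = 2 := Finset.card_pair (Ne.symm ha)
    rw [Finset.card_sdiff_of_subset (Finset.subset_univ _), h1, Finset.card_univ, Fintype.card_fin]
    norm_num
  obtain ⟨j, x₁, x₂, hj, hx₁, hx₂, hjx₁, hjx₂, hx₁x₂⟩ := Finset.two_lt_card_iff.1 hcard
  simp only [Finset.mem_sdiff, Finset.mem_univ, Finset.mem_insert, Finset.mem_singleton, true_and,
    not_or] at hj hx₁ hx₂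
  set v : Fin 8 → F := Pi.single b 1 + Pi.single j 1 with hv
  have hvE : ∑ i, v i = 0 := by
    simp only [hv, Pi.add_apply, Finset.sum_add_distrib, Finset.sum_pi_single', Finset.mem_univ,
      if_true]
    linear_combination h2
  obtain ⟨c, hc⟩ := h v hvE
  have hvb : v b = 1 := by
    simp [hv, Ne.symm hj.2]
  have hva : v a = 0 := by
    simp [hv, Ne.symm ha, Ne.symm hj.1]
  have hc1 : c = 1 := by
    have := congrFun hc a
    simp only [Function.comp_apply, Pi.add_apply, ← hb, hvb, hva, zero_add] at this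
    exact this.symm
  have key : ∀ x, x ≠ a → x ≠ b → x ≠ j → π x = j := by
    intro x hxa hxb hxj
    have hvx : v x = 0 := by
      simp [hv, hxb, hxj]
    have := congrFun hc x
    simp only [Function.comp_apply, Pi.add_apply, hvx, zero_add, hc1] at this
    have hv1 : v (π x) = 1 := this
    have hπx : π x ≠ b := fun h' => hxa (π.injective (h'.trans hb))
    by_contra hπj
    have hv0 : v (π x) = 0 := by simp [hv, hπx, hπj]
    rw [hv0] at hv1
    exact zero_ne_one hv1
  have e1 := key x₁ hx₁.1 hx₁.2 (Ne.symm hjx₁)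
  have e2 := key x₂ hx₂.1 hx₂.2 (Ne.symm hjx₂)
  exact hx₁x₂ (π.injective (e1.trans e2.symm))

/-- the matrix representation -/
noncomputable def rhoM (h2 : (2 : F) = 0) : Equiv.Perm (Fin 8) →* Matrix I6 I6 F where
  toFun σ := LinearMap.toMatrix' (rhoL F σ)
  map_one' := by rw [rhoL_one h2, LinearMap.toMatrix'_id]
  map_mul' σ τ := by rw [rhoL_mul h2, LinearMap.toMatrix'_comp]

theorem rhoM_mulVec (h2 : (2 : F) = 0) (σ : Equiv.Perm (Fin 8)) (u : I6 → F) :
    rhoM h2 σ *ᵥ u = rhoL F σ u := LinearMap.toMatrix'_mulVec _ _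

/-- the representation into the isometry group -/
noncomputable def rhoG (h2 : (2 : F) = 0) :
    Equiv.Perm (Fin 8) →* ↥(Cfsg.isometryGroup F (Cfsg.quadFormPlus 3 F)) :=
  (rhoM h2).toHomUnits.codRestrict _ (fun σ u _ => by
    show Cfsg.quadFormPlus 3 F ((((rhoM h2).toHomUnits σ : GL I6 F) : Matrix I6 I6 F) *ᵥ u) = _
    rw [MonoidHom.coe_toHomUnits, rhoM_mulVec, rhoL_iso h2])

theorem rhoG_injective (h2 : (2 : F) = 0) : Function.Injective (rhoG (F := F) h2) := by
  rw [injective_iff_map_eq_one]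
  intro σ hσ
  have h1 : rhoM h2 σ = 1 := by
    have e : ((rhoG h2 σ : ↥(Cfsg.isometryGroup F (Cfsg.quadFormPlus 3 F))) : GL I6 F) =
        (rhoM h2).toHomUnits σ := rfl
    have h0 := congrArg Subtype.val hσ
    rw [e] at h0
    have h0' := congrArg Units.val h0
    rw [MonoidHom.coe_toHomUnits] at h0'
    exact h0'
  have h3 : ∀ u : I6 → F, rhoL F σ u = u := by
    intro u
    rw [← rhoM_mulVec h2, h1, one_mulVec]
  have h4 : (σ⁻¹ : Equiv.Perm (Fin 8)) = 1 := by
    apply perm_eq_one_of_const (F := F) _ _ h2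
    intro v hvE
    obtain ⟨c, hc⟩ := beta_rr h2 v hvE
    have h5 := h3 (rr v)
    rw [rhoL_apply, hc] at h5
    have h6 : (v + fun _ => c) ∘ (σ⁻¹ : Equiv.Perm (Fin 8)) =
        (v ∘ (σ⁻¹ : Equiv.Perm (Fin 8))) + fun _ => c := by
      funext i
      simp
    rw [h6, rr_add_const h2] at h5
    set w : Fin 8 → F := v ∘ (σ⁻¹ : Equiv.Perm (Fin 8)) - v with hw
    have hwE : ∑ i, w i = 0 := by
      simp only [hw, Pi.sub_apply, Finset.sum_sub_distrib]
      rw [sum_comp_perm, sub_self]
    have hwr : rr w = 0 := by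
      have : rr w = rrL F (v ∘ (σ⁻¹ : Equiv.Perm (Fin 8))) - rrL F v := by
        rw [← map_sub]; rfl
      rw [this, rrL_apply, rrL_apply, h5, sub_self]
    have hconst := ker_rr h2 w hwE hwr
    refine ⟨w 0, ?_⟩
    funext j
    have := hconst j
    simp only [hw, Pi.sub_apply, Pi.add_apply, Function.comp_apply] at this ⊢
    linear_combination this
  exact inv_eq_one.1 h4

theorem two_eq_zero_of_card [Fintype F] (hF : Fintype.card F = 2) : (2 : F) = 0 := by
  have := Nat.cast_card_eq_zero F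
  rw [hF] at this
  exact_mod_cast this

end o6c

end Cfsg.Agent.Lib.Helper51
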