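import Cfsg.Agent.Lib.Helper49.OElDefs
import Cfsg.Agent.Lib.Helper79.OTsO3
import Cfsg.Agent.Lib.Helper16.OhPK1b

/-!
# K-OEl pack (S5988 + S5990, architect helper49), LEAF K0 (598812): the number of anisotropic pairs of a
nondegenerate even-dimensional quadratic space of given type, any characteristic.

Route: for `u` nonsingular, `w` is NOT an anisotropic partner iff the affine line `w + F u` carries a singular vector;
pointwise `2 [∃ root] = #roots + #double roots` for the quadratic polynomial `s ↦ Q (w + s u)`; summed over `w` and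
re-indexed by `w ↦ w + s u` this gives `2 #{w bad} = q (Z + Z_u)`; `Σ_u Z_u` is computed by swapping the sum and the
counts of `Helper72.Nd.card_pair_fiber`, `Helper16.OhP.card_singQ_fiber` (with scaling); `Z` is `Helper79.OTs.card_singular`.
-/

set_option autoImplicit false
set_option linter.unusedSectionVars false
set_option linter.unusedVariables false
set_option linter.unusedSimpArgs false
set_option linter.style.haveILetI false
set_option maxHeartbeats 800000

namespace Cfsg.Agent.Lib.Helper51.OEl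

open Module Cfsg.Agent.Lib.Helper98.Elus Cfsg.Agent.Lib.Helper98.Sy Cfsg.Agent.Lib.Helper38.OhP
  Cfsg.Agent.Lib.Helper49.OEl
open Classical

universe u

/-! ## a quadratic polynomial over a finite field -/

theorem quad_root_count {K : Type*} [Field K] [Fintype K] (a b c : K) (ha : a ≠ 0) :
    2 * (if ∃ s : K, a * s * s + b * s + c = 0 then 1 else 0) =
      (Finset.univ.filter fun s : K => a * s * s + b * s + c = 0).card +
      (Finset.univ.filter fun s : K => a * s * s + b * s + c = 0 ∧ 2 * a * s + b = 0).card := by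
  by_cases h : ∃ s : K, a * s * s + b * s + c = 0
  · rw [if_pos h]
    obtain ⟨s₀, hs₀⟩ := h
    obtain ⟨s₁, hs₁⟩ : ∃ s₁ : K, a * s₁ = -b - a * s₀ := ⟨(-b - a * s₀) / a, by field_simp⟩
    have hfac : ∀ s : K, a * s * s + b * s + c = a * ((s - s₀) * (s - s₁)) := by
      intro s
      linear_combination hs₀ + (s - s₀) * hs₁
    have hroot : ∀ s : K, a * s * s + b * s + c = 0 ↔ s = s₀ ∨ s = s₁ := by
      intro s
      rw [hfac, mul_eq_zero, mul_eq_zero, sub_eq_zero, sub_eq_zero]
      simp [ha]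
    have hder0 : 2 * a * s₀ + b = a * (s₀ - s₁) := by linear_combination hs₁
    have hder1 : 2 * a * s₁ + b = a * (s₁ - s₀) := by linear_combination hs₁
    by_cases h01 : s₀ = s₁
    · have e1 : (Finset.univ.filter fun s : K => a * s * s + b * s + c = 0) = {s₀} := by
        ext s
        simp only [Finset.mem_filter, Finset.mem_univ, true_and, Finset.mem_singleton, hroot, ← h01,
          or_self]
      have e2 : (Finset.univ.filter fun s : K => a * s * s + b * s + c = 0 ∧ 2 * a * s + b = 0) =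
          {s₀} := by
        ext s
        simp only [Finset.mem_filter, Finset.mem_univ, true_and, Finset.mem_singleton]
        constructor
        · rintro ⟨h1, -⟩
          rcases (hroot s).mp h1 with h | h
          · exact h
          · rw [h, ← h01]
        · rintro rfl
          exact ⟨hs₀, by rw [hder0, ← h01, sub_self, mul_zero]⟩
      rw [e1, e2]
      simp
    · have e1 : (Finset.univ.filter fun s : K => a * s * s + b * s + c = 0) = {s₀, s₁} := by
        ext s
        simp only [Finset.mem_filter, Finset.mem_univ, true_and, Finset.mem_insert,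
          Finset.mem_singleton, hroot]
      have e2 : (Finset.univ.filter fun s : K => a * s * s + b * s + c = 0 ∧ 2 * a * s + b = 0) =
          ∅ := by
        rw [Finset.filter_eq_empty_iff]
        rintro s - ⟨h1, h2⟩
        rcases (hroot s).mp h1 with rfl | rfl
        · rw [hder0] at h2
          rcases mul_eq_zero.mp h2 with h | h
          · exact ha h
          · exact h01 (sub_eq_zero.mp h)
        · rw [hder1] at h2
          rcases mul_eq_zero.mp h2 with h | h
          · exact ha h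
          · exact h01 (sub_eq_zero.mp h).symm
      rw [e1, e2, Finset.card_pair h01]
      simp
  · rw [if_neg h]
    have h' : ∀ s : K, ¬ (a * s * s + b * s + c = 0) := fun s hs => h ⟨s, hs⟩
    simp [h']

/-! ## generic counting helpers -/

theorem card_pairs_left {A B : Type*} [Fintype A] [Fintype B] (P : A → B → Prop)
    [∀ a b, Decidable (P a b)] [DecidablePred fun p : A × B => P p.1 p.2] :
    (Finset.univ.filter fun p : A × B => P p.1 p.2).card =
      ∑ a, (Finset.univ.filter fun b => P a b).card := by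
  rw [Finset.card_filter, Fintype.sum_prod_type]
  simp only [Finset.card_filter]
  refine Finset.sum_congr rfl fun x _ => Finset.sum_congr rfl fun y _ => ?_
  by_cases h : P x y <;> simp [h]

theorem sum_card_swap {A B : Type*} [Fintype A] [Fintype B] (P : A → B → Prop)
    [∀ a b, Decidable (P a b)] :
    ∑ a, (Finset.univ.filter fun b => P a b).card = ∑ b, (Finset.univ.filter fun a => P a b).card := by
  simp only [Finset.card_filter]
  exact Finset.sum_comm

theorem natCard_eq_filter {A : Type*} [Fintype A] (P : A → Prop) [DecidablePred P] :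
    Nat.card {a : A // P a} = (Finset.univ.filter fun a => P a).card := by
  rw [Nat.card_eq_fintype_card, Fintype.card_subtype]


variable {F : Type u} [Field F] {V : Type u} [AddCommGroup V] [Module F V]

/-! ## anisotropic partners of a nonsingular vector -/

theorem q_line (Q : QuadraticForm F V) (w u : V) (s : F) :
    Q (w + s • u) = Q u * s * s + pB Q w u * s + Q w := by
  rw [Cfsg.Agent.Lib.Helper16.OhP.q_add_smul]
  ring

theorem pB_line (Q : QuadraticForm F V) (w u : V) (s : F) :
    pB Q (w + s • u) u = 2 * Q u * s + pB Q w u := by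
  rw [map_add, map_smul, LinearMap.add_apply, LinearMap.smul_apply, pB_self, smul_eq_mul]
  ring

theorem ap_iff (Q : QuadraticForm F V) (u w : V) (hu : Q u ≠ 0) :
    (∀ s t : F, Q (s • u + t • w) = 0 → s = 0 ∧ t = 0) ↔ ¬ ∃ s : F, Q (w + s • u) = 0 := by
  constructor
  · rintro h ⟨s, hs⟩
    have h1 := h s 1 (by rw [one_smul, add_comm]; exact hs)
    exact one_ne_zero h1.2
  · intro h s t hst
    by_cases ht : t = 0
    · subst ht
      rw [zero_smul, add_zero, QuadraticMap.map_smul, smul_eq_mul] at hst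
      rcases mul_eq_zero.mp hst with h1 | h1
      · exact ⟨mul_self_eq_zero.mp h1, rfl⟩
      · exact absurd h1 hu
    · exfalso
      apply h
      refine ⟨t⁻¹ * s, ?_⟩
      have e : s • u + t • w = t • (w + (t⁻¹ * s) • u) := by
        rw [smul_add, smul_smul, ← mul_assoc, mul_inv_cancel₀ ht, one_mul, add_comm]
      rw [e, QuadraticMap.map_smul, smul_eq_mul] at hst
      rcases mul_eq_zero.mp hst with h1 | h1
      · exact absurd (mul_self_eq_zero.mp h1) ht
      · exact h1

theorem ap_ne (Q : QuadraticForm F V) (u w : V)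
    (h : ∀ s t : F, Q (s • u + t • w) = 0 → s = 0 ∧ t = 0) : Q u ≠ 0 := by
  intro h0
  have := h 1 0 (by rw [one_smul, zero_smul, add_zero]; exact h0)
  exact one_ne_zero this.1

section Fin

variable [Fintype F] [Fintype V]

theorem card_shift (P : V → Prop) [DecidablePred P] (v : V) [DecidablePred fun w : V => P (w + v)] :
    (Finset.univ.filter fun w : V => P (w + v)).card = (Finset.univ.filter fun z : V => P z).card :=
  Finset.card_bijective (fun w => w + v) (Equiv.addRight v).bijective (by intro w; simp)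

/-- the lines parallel to a nonsingular `u` that carry a singular vector -/
theorem line_count (Q : QuadraticForm F V) (O : Submodule F V) (u : V) (huO : u ∈ O) (hu : Q u ≠ 0) :
    2 * (Finset.univ.filter fun w : V => w ∈ O ∧ ∃ s : F, Q (w + s • u) = 0).card =
      Fintype.card F * (Finset.univ.filter fun z : V => z ∈ O ∧ Q z = 0).card +
      Fintype.card F * (Finset.univ.filter fun z : V => z ∈ O ∧ Q z = 0 ∧ pB Q z u = 0).card := by
  have hpt : ∀ w : V, 2 * (if (w ∈ O ∧ ∃ s : F, Q (w + s • u) = 0) then 1 else 0) =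
      (Finset.univ.filter fun s : F => w + s • u ∈ O ∧ Q (w + s • u) = 0).card +
      (Finset.univ.filter fun s : F => w + s • u ∈ O ∧ Q (w + s • u) = 0 ∧
        pB Q (w + s • u) u = 0).card := by
    intro w
    have hmem : ∀ s : F, w + s • u ∈ O ↔ w ∈ O := fun s =>
      Submodule.add_mem_iff_left O (O.smul_mem s huO)
    by_cases hw : w ∈ O
    · have h1 := quad_root_count (Q u) (pB Q w u) (Q w) hu
      simp only [hmem, hw, true_and, q_line, pB_line]
      exact h1
    · simp only [hmem, hw, false_and, if_false, Finset.filter_false, Finset.card_empty]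
  have hsum1 : ∑ w : V, (Finset.univ.filter fun s : F => w + s • u ∈ O ∧ Q (w + s • u) = 0).card =
      Fintype.card F * (Finset.univ.filter fun z : V => z ∈ O ∧ Q z = 0).card := by
    rw [sum_card_swap (fun (w : V) (s : F) => w + s • u ∈ O ∧ Q (w + s • u) = 0)]
    rw [Finset.sum_congr rfl (fun s _ => card_shift (fun z : V => z ∈ O ∧ Q z = 0) (s • u))]
    rw [Finset.sum_const, Finset.card_univ, smul_eq_mul]
  have hsum2 : ∑ w : V, (Finset.univ.filter fun s : F => w + s • u ∈ O ∧ Q (w + s • u) = 0 ∧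
        pB Q (w + s • u) u = 0).card =
      Fintype.card F * (Finset.univ.filter fun z : V => z ∈ O ∧ Q z = 0 ∧ pB Q z u = 0).card := by
    rw [sum_card_swap (fun (w : V) (s : F) => w + s • u ∈ O ∧ Q (w + s • u) = 0 ∧
        pB Q (w + s • u) u = 0)]
    rw [Finset.sum_congr rfl (fun s _ =>
      card_shift (fun z : V => z ∈ O ∧ Q z = 0 ∧ pB Q z u = 0) (s • u))]
    rw [Finset.sum_const, Finset.card_univ, smul_eq_mul]
  rw [Finset.card_filter, Finset.mul_sum, Finset.sum_congr rfl (fun w _ => hpt w),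
    Finset.sum_add_distrib, hsum1, hsum2]

/-- fibres of a linear functional on a set closed under nonzero scalars -/
theorem fibre_scale (X : V → Prop) [DecidablePred X]
    (hX : ∀ c : F, c ≠ 0 → ∀ v, X v → X (c • v)) (φ : V →ₗ[F] F) :
    (Finset.univ.filter fun v : V => X v).card =
      (Finset.univ.filter fun v : V => X v ∧ φ v = 0).card +
        (Fintype.card F - 1) * (Finset.univ.filter fun v : V => X v ∧ φ v = 1).card := by
  have h1 := Finset.card_eq_sum_card_fiberwise (f := fun v : V => φ v)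
    (s := Finset.univ.filter fun v : V => X v) (t := Finset.univ) (fun v _ => Finset.mem_coe.mpr (Finset.mem_univ _))
  rw [h1, ← Finset.add_sum_erase Finset.univ _ (Finset.mem_univ (0 : F))]
  congr 1
  · rw [Finset.filter_filter]
  · have h2 : ∀ c ∈ Finset.univ.erase (0 : F),
        ((Finset.univ.filter fun v : V => X v).filter fun v => φ v = c).card =
          (Finset.univ.filter fun v : V => X v ∧ φ v = 1).card := by
      intro c hc
      have hc0 : c ≠ 0 := (Finset.mem_erase.mp hc).1
      rw [Finset.filter_filter]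
      refine Finset.card_bijective (fun v => c⁻¹ • v)
        (MulAction.bijective₀ (inv_ne_zero hc0)) ?_
      intro v
      simp only [Finset.mem_filter, Finset.mem_univ, true_and, map_smul, smul_eq_mul]
      constructor
      · rintro ⟨h3, h4⟩
        exact ⟨hX _ (inv_ne_zero hc0) v h3, by rw [h4, inv_mul_cancel₀ hc0]⟩
      · rintro ⟨h3, h4⟩
        refine ⟨?_, ?_⟩
        · have := hX c hc0 _ h3
          rwa [smul_smul, mul_inv_cancel₀ hc0, one_smul] at this
        · field_simp at h4
          exact h4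
    rw [Finset.sum_congr rfl h2, Finset.sum_const, Finset.card_erase_of_mem (Finset.mem_univ _),
      Finset.card_univ, smul_eq_mul]

theorem card_split {A : Type*} [Fintype A] (P R : A → Prop) [DecidablePred P] [DecidablePred R] :
    (Finset.univ.filter fun a => P a ∧ R a).card + (Finset.univ.filter fun a => P a ∧ ¬ R a).card =
      (Finset.univ.filter fun a => P a).card := by
  rw [← Finset.filter_filter, ← Finset.filter_filter]
  exact Finset.card_filter_add_card_filter_not _

theorem card_O [FiniteDimensional F V] (O : Submodule F V) :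
    (Finset.univ.filter fun v : V => v ∈ O).card = Fintype.card F ^ finrank F O := by
  rw [← Fintype.card_subtype]
  exact Module.card_eq_pow_finrank

/-- anisotropic partners of a nonsingular `u`, additive form -/
theorem partner_count (Q : QuadraticForm F V) (O : Submodule F V) (u : V) (huO : u ∈ O) (hu : Q u ≠ 0) :
    2 * (Finset.univ.filter fun w : V => w ∈ O ∧
        ∀ s t : F, Q (s • u + t • w) = 0 → s = 0 ∧ t = 0).card +
      (Fintype.card F * (Finset.univ.filter fun z : V => z ∈ O ∧ Q z = 0).card +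
      Fintype.card F * (Finset.univ.filter fun z : V => z ∈ O ∧ Q z = 0 ∧ pB Q z u = 0).card) =
      2 * (Finset.univ.filter fun v : V => v ∈ O).card := by
  have h1 := card_split (fun w : V => w ∈ O) (fun w : V => ∃ s : F, Q (w + s • u) = 0)
  have h2 := line_count Q O u huO hu
  have h3 : (Finset.univ.filter fun w : V => w ∈ O ∧
        ∀ s t : F, Q (s • u + t • w) = 0 → s = 0 ∧ t = 0) =
      (Finset.univ.filter fun w : V => w ∈ O ∧ ¬ ∃ s : F, Q (w + s • u) = 0) := by
    apply Finset.filter_congr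
    intro w _
    rw [ap_iff Q u w hu]
  rw [h3, ← h2, ← h1]
  ring

/-- the pairs, summed over the nonsingular `u` -/
theorem pairs_count (Q : QuadraticForm F V) (O : Submodule F V) :
    2 * (Finset.univ.filter fun p : V × V => p.1 ∈ O ∧ p.2 ∈ O ∧
        ∀ s t : F, Q (s • p.1 + t • p.2) = 0 → s = 0 ∧ t = 0).card +
      ((Finset.univ.filter fun u : V => u ∈ O ∧ Q u ≠ 0).card *
          (Fintype.card F * (Finset.univ.filter fun z : V => z ∈ O ∧ Q z = 0).card) +
        Fintype.card F * ∑ u ∈ Finset.univ.filter (fun u : V => u ∈ O ∧ Q u ≠ 0),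
          (Finset.univ.filter fun z : V => z ∈ O ∧ Q z = 0 ∧ pB Q z u = 0).card) =
      (Finset.univ.filter fun u : V => u ∈ O ∧ Q u ≠ 0).card *
        (2 * (Finset.univ.filter fun v : V => v ∈ O).card) := by
  have h1 : (Finset.univ.filter fun p : V × V => p.1 ∈ O ∧ p.2 ∈ O ∧
        ∀ s t : F, Q (s • p.1 + t • p.2) = 0 → s = 0 ∧ t = 0).card =
      ∑ u ∈ Finset.univ.filter (fun u : V => u ∈ O ∧ Q u ≠ 0),
        (Finset.univ.filter fun w : V => w ∈ O ∧
          ∀ s t : F, Q (s • u + t • w) = 0 → s = 0 ∧ t = 0).card := by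
    rw [card_pairs_left (fun (u w : V) => u ∈ O ∧ w ∈ O ∧
        ∀ s t : F, Q (s • u + t • w) = 0 → s = 0 ∧ t = 0), Finset.sum_filter]
    refine Finset.sum_congr rfl fun u _ => ?_
    by_cases hu : u ∈ O ∧ Q u ≠ 0
    · rw [if_pos hu]
      congr 1
      apply Finset.filter_congr
      intro w _
      simp only [hu.1, true_and]
    · rw [if_neg hu, Finset.card_eq_zero, Finset.filter_eq_empty_iff]
      rintro w - ⟨h2, -, h3⟩
      exact hu ⟨h2, ap_ne Q u w h3⟩
  have h2 : ∀ u ∈ Finset.univ.filter (fun u : V => u ∈ O ∧ Q u ≠ 0),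
      2 * (Finset.univ.filter fun w : V => w ∈ O ∧
        ∀ s t : F, Q (s • u + t • w) = 0 → s = 0 ∧ t = 0).card +
      (Fintype.card F * (Finset.univ.filter fun z : V => z ∈ O ∧ Q z = 0).card +
      Fintype.card F * (Finset.univ.filter fun z : V => z ∈ O ∧ Q z = 0 ∧ pB Q z u = 0).card) =
      2 * (Finset.univ.filter fun v : V => v ∈ O).card := by
    intro u hu
    have hu' := (Finset.mem_filter.mp hu).2
    exact partner_count Q O u hu'.1 hu'.2
  have h3 := Finset.sum_congr rfl h2
  rw [Finset.sum_add_distrib, Finset.sum_add_distrib, ← Finset.mul_sum, ← Finset.mul_sum,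
    Finset.sum_const, Finset.sum_const, smul_eq_mul, smul_eq_mul, ← h1] at h3
  rw [Finset.mul_sum]
  linarith [h3]

/-- swapping the sum of the `Z_u` -/
theorem sum_Zu (Q : QuadraticForm F V) (O : Submodule F V) :
    ∑ u ∈ Finset.univ.filter (fun u : V => u ∈ O ∧ Q u ≠ 0),
        (Finset.univ.filter fun z : V => z ∈ O ∧ Q z = 0 ∧ pB Q z u = 0).card =
      ∑ z ∈ Finset.univ.filter (fun z : V => z ∈ O ∧ Q z = 0),
        (Finset.univ.filter fun u : V => u ∈ O ∧ Q u ≠ 0 ∧ pB Q z u = 0).card := by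
  rw [Finset.sum_filter, Finset.sum_filter]
  have e1 : ∀ u : V, (if u ∈ O ∧ Q u ≠ 0 then
      (Finset.univ.filter fun z : V => z ∈ O ∧ Q z = 0 ∧ pB Q z u = 0).card else 0) =
      (Finset.univ.filter fun z : V => (u ∈ O ∧ Q u ≠ 0) ∧ (z ∈ O ∧ Q z = 0) ∧ pB Q z u = 0).card := by
    intro u
    by_cases hu : u ∈ O ∧ Q u ≠ 0
    · rw [if_pos hu]
      congr 1
      apply Finset.filter_congr
      intro z _
      simp only [hu, true_and, and_true, and_assoc, ne_eq, not_false_eq_true]
    · rw [if_neg hu]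
      symm
      rw [Finset.card_eq_zero, Finset.filter_eq_empty_iff]
      rintro z - ⟨h2, -⟩
      exact hu h2
  have e2 : ∀ z : V, (if z ∈ O ∧ Q z = 0 then
      (Finset.univ.filter fun u : V => u ∈ O ∧ Q u ≠ 0 ∧ pB Q z u = 0).card else 0) =
      (Finset.univ.filter fun u : V => (u ∈ O ∧ Q u ≠ 0) ∧ (z ∈ O ∧ Q z = 0) ∧ pB Q z u = 0).card := by
    intro z
    by_cases hz : z ∈ O ∧ Q z = 0
    · rw [if_pos hz]
      congr 1
      apply Finset.filter_congr
      intro u _
      simp only [hz, true_and, and_true, and_assoc]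
    · rw [if_neg hz]
      symm
      rw [Finset.card_eq_zero, Finset.filter_eq_empty_iff]
      rintro u - ⟨-, h2, -⟩
      exact hz h2
  rw [Finset.sum_congr rfl (fun u _ => e1 u), Finset.sum_congr rfl (fun z _ => e2 z)]
  exact sum_card_swap (fun (u z : V) => (u ∈ O ∧ Q u ≠ 0) ∧ (z ∈ O ∧ Q z = 0) ∧ pB Q z u = 0)

/-- nonsingular vectors orthogonal to a nonzero singular vector -/
theorem T_count [FiniteDimensional F V] (Q : QuadraticForm F V) (O : Submodule F V)
    (hO : NonDeg (pB Q) O) (n : ℕ) (hn : finrank F O = n + 1)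
    (z : V) (hzO : z ∈ O) (hz0 : z ≠ 0) (hz : Q z = 0) (K : ℕ)
    (hK : K * Fintype.card F = Fintype.card F ^ n) :
    (Finset.univ.filter fun u : V => u ∈ O ∧ Q u ≠ 0 ∧ pB Q z u = 0).card +
        (Finset.univ.filter fun z : V => z ∈ O ∧ Q z = 0).card =
      Fintype.card F ^ n + (Fintype.card F - 1) * K := by
  have hq : 1 ≤ Fintype.card F := Fintype.card_pos
  have hP : (Finset.univ.filter fun u : V => u ∈ O ∧ pB Q z u = 1).card = Fintype.card F ^ n := by
    have h1 := Cfsg.Agent.Lib.Helper72.Nd.card_pair_fiber (B := pB Q) O hO z hzO hz0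
    rw [hn, Nat.add_sub_cancel, natCard_eq_filter] at h1
    rw [← h1]
    congr 1
    apply Finset.filter_congr
    intro u _
    exact and_comm
  have hKz : (Finset.univ.filter fun u : V => (u ∈ O ∧ Q u = 0) ∧ pB Q z u = 1).card = K := by
    have h1 := Cfsg.Agent.Lib.Helper16.OhP.card_singQ_fiber Q O hO z hzO hz0 hz
    rw [hn, Nat.add_sub_cancel, natCard_eq_filter, ← hK] at h1
    have h2 := Nat.eq_of_mul_eq_mul_right (by omega) h1
    rw [← h2]
    congr 1
    apply Finset.filter_congr
    intro u _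
    constructor
    · rintro ⟨⟨h3, h4⟩, h5⟩
      exact ⟨h5, h3, h4⟩
    · rintro ⟨h5, h3, h4⟩
      exact ⟨⟨h3, h4⟩, h5⟩
  have f1 := fibre_scale (F := F) (fun u : V => u ∈ O) (fun c _ v hv => O.smul_mem c hv) (pB Q z)
  have f2 := fibre_scale (F := F) (fun u : V => u ∈ O ∧ Q u = 0)
    (fun c _ v hv => ⟨O.smul_mem c hv.1, by
      rw [QuadraticMap.map_smul, hv.2, smul_zero]⟩) (pB Q z)
  have c1 := card_split (fun u : V => u ∈ O ∧ pB Q z u = 0) (fun u : V => Q u = 0)
  have hM := card_O (F := F) O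
  rw [hn, pow_succ] at hM
  rw [hP, hM] at f1
  rw [hKz] at f2
  have e1 : (Finset.univ.filter fun u : V => (u ∈ O ∧ pB Q z u = 0) ∧ Q u = 0) =
      (Finset.univ.filter fun u : V => (u ∈ O ∧ Q u = 0) ∧ pB Q z u = 0) := by
    apply Finset.filter_congr
    intro u _
    constructor
    · rintro ⟨⟨h3, h4⟩, h5⟩
      exact ⟨⟨h3, h5⟩, h4⟩
    · rintro ⟨⟨h3, h5⟩, h4⟩
      exact ⟨⟨h3, h4⟩, h5⟩
  have e2 : (Finset.univ.filter fun u : V => (u ∈ O ∧ pB Q z u = 0) ∧ ¬ Q u = 0) =
      (Finset.univ.filter fun u : V => u ∈ O ∧ Q u ≠ 0 ∧ pB Q z u = 0) := by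
    apply Finset.filter_congr
    intro u _
    constructor
    · rintro ⟨⟨h3, h4⟩, h5⟩
      exact ⟨h3, h5, h4⟩
    · rintro ⟨h3, h5, h4⟩
      exact ⟨⟨h3, h4⟩, h5⟩
  rw [e1, e2] at c1
  generalize (Finset.univ.filter fun u : V => u ∈ O ∧ Q u ≠ 0 ∧ pB Q z u = 0).card = T at *
  generalize (Finset.univ.filter fun u : V => (u ∈ O ∧ Q u = 0) ∧ pB Q z u = 0).card = S at *
  generalize (Finset.univ.filter fun u : V => u ∈ O ∧ pB Q z u = 0).card = H at *
  generalize (Finset.univ.filter fun u : V => u ∈ O ∧ Q u = 0).card = Z at *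
  generalize Fintype.card F ^ n = P at *
  obtain ⟨t, ht⟩ : ∃ t, Fintype.card F = t + 1 := ⟨Fintype.card F - 1, by omega⟩
  rw [ht] at f1 f2 ⊢
  simp only [Nat.add_sub_cancel] at f1 f2 ⊢
  nlinarith [f1, f2, c1]

theorem sum_T [FiniteDimensional F V] (Q : QuadraticForm F V) (O : Submodule F V)
    (hO : NonDeg (pB Q) O) (n : ℕ) (hn : finrank F O = n + 1) (K : ℕ)
    (hK : K * Fintype.card F = Fintype.card F ^ n) :
    ((∑ z ∈ Finset.univ.filter (fun z : V => z ∈ O ∧ Q z = 0),
        (Finset.univ.filter fun u : V => u ∈ O ∧ Q u ≠ 0 ∧ pB Q z u = 0).card : ℕ) : ℤ) =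
      ((Finset.univ.filter fun u : V => u ∈ O ∧ Q u ≠ 0).card : ℤ) +
        ((Finset.univ.filter fun z : V => z ∈ O ∧ z ≠ 0 ∧ Q z = 0).card : ℤ) *
          ((Fintype.card F : ℤ) ^ n + ((Fintype.card F : ℤ) - 1) * K -
            ((Finset.univ.filter fun z : V => z ∈ O ∧ Q z = 0).card : ℤ)) := by
  have hq : 1 ≤ Fintype.card F := Fintype.card_pos
  have hS : (Finset.univ.filter fun z : V => z ∈ O ∧ Q z = 0) =
      insert 0 (Finset.univ.filter fun z : V => z ∈ O ∧ z ≠ 0 ∧ Q z = 0) := by
    ext z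
    simp only [Finset.mem_filter, Finset.mem_univ, true_and, Finset.mem_insert]
    constructor
    · rintro ⟨h1, h2⟩
      by_cases h0 : z = 0
      · exact Or.inl h0
      · exact Or.inr ⟨h1, h0, h2⟩
    · rintro (rfl | ⟨h1, -, h2⟩)
      · exact ⟨O.zero_mem, map_zero Q⟩
      · exact ⟨h1, h2⟩
  have h0 : (0 : V) ∉ (Finset.univ.filter fun z : V => z ∈ O ∧ z ≠ 0 ∧ Q z = 0) := by
    simp
  have hT0 : (Finset.univ.filter fun u : V => u ∈ O ∧ Q u ≠ 0 ∧ pB Q (0 : V) u = 0) =
      (Finset.univ.filter fun u : V => u ∈ O ∧ Q u ≠ 0) := by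
    apply Finset.filter_congr
    intro u _
    simp only [map_zero, LinearMap.zero_apply, and_true]
  have h1 : ∀ z ∈ (Finset.univ.filter fun z : V => z ∈ O ∧ z ≠ 0 ∧ Q z = 0),
      (((Finset.univ.filter fun u : V => u ∈ O ∧ Q u ≠ 0 ∧ pB Q z u = 0).card : ℕ) : ℤ) =
        (Fintype.card F : ℤ) ^ n + ((Fintype.card F : ℤ) - 1) * K -
            ((Finset.univ.filter fun z : V => z ∈ O ∧ Q z = 0).card : ℤ) := by
    intro z hz
    obtain ⟨h2, h3, h4⟩ := (Finset.mem_filter.mp hz).2
    have h5 := T_count Q O hO n hn z h2 h3 h4 K hK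
    have h6 := congrArg (Nat.cast : ℕ → ℤ) h5
    push_cast [Nat.cast_sub hq] at h6
    linarith
  conv_lhs => rw [hS]
  rw [Finset.sum_insert h0, hT0]
  push_cast
  rw [Finset.sum_congr rfl h1, Finset.sum_const, nsmul_eq_mul]

end Fin

/-! ## the leaf -/

/-- an anisotropic pair (same body as `AP` of the spec) -/
def AP (Q : QuadraticForm F V) (u w : V) : Prop := ∀ s t : F, Q (s • u + t • w) = 0 → s = 0 ∧ t = 0

/-- the arithmetic core, with the number `Z'` of nonzero singular vectors as a parameter -/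
theorem card_aniso_pairs_of_Z [Fintype F] [FiniteDimensional F V] (Q : QuadraticForm F V)
    (O : Submodule F V) (hO : NonDeg (pB Q) O) (D' : ℕ) (hD : finrank F O = 2 * (D' + 1))
    (ε : ℤ) (hε : ε = 1 ∨ ε = -1)
    (hZ : (Nat.card {x : V // x ∈ O ∧ x ≠ 0 ∧ Q x = 0} : ℤ) =
      ((Fintype.card F : ℤ) ^ (D' + 1) - ε) * ((Fintype.card F : ℤ) ^ D' + ε)) :
    (2 * (Nat.card {p : V × V // p.1 ∈ O ∧ p.2 ∈ O ∧
        ∀ s t : F, Q (s • p.1 + t • p.2) = 0 → s = 0 ∧ t = 0} : ℤ)) =
      (Fintype.card F : ℤ) ^ (2 * D' + 1) * (((Fintype.card F : ℤ) ^ (D' + 1) - ε) *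
        ((Fintype.card F : ℤ) ^ D' - ε)) * (((Fintype.card F : ℤ) - 1) * ((Fintype.card F : ℤ) - 1)) := by
  haveI : Finite V := Module.finite_of_finite F
  haveI : Fintype V := Fintype.ofFinite V
  have hq : 1 ≤ Fintype.card F := Fintype.card_pos
  have hn : finrank F O = (2 * D' + 1) + 1 := by rw [hD]; ring
  have hK : (Fintype.card F ^ (2 * D')) * Fintype.card F = Fintype.card F ^ (2 * D' + 1) := by
    rw [pow_succ]
  have a1 := pairs_count Q O
  have a2 := sum_Zu Q O
  have a3 := sum_T Q O hO (2 * D' + 1) hn _ hK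
  have a4 := card_split (fun v : V => v ∈ O) (fun v : V => Q v = 0)
  have a5 := card_split (fun v : V => v ∈ O ∧ Q v = 0) (fun v : V => v = 0)
  have a6 := card_O (F := F) O
  rw [hn] at a6
  have e5 : (Finset.univ.filter fun v : V => (v ∈ O ∧ Q v = 0) ∧ v = 0) = {0} := by
    ext v
    simp only [Finset.mem_filter, Finset.mem_univ, true_and, Finset.mem_singleton]
    constructor
    · rintro ⟨-, h⟩
      exact h
    · rintro rfl
      exact ⟨⟨O.zero_mem, map_zero Q⟩, rfl⟩
  have e5' : (Finset.univ.filter fun v : V => (v ∈ O ∧ Q v = 0) ∧ ¬ v = 0) =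
      (Finset.univ.filter fun z : V => z ∈ O ∧ z ≠ 0 ∧ Q z = 0) := by
    apply Finset.filter_congr
    intro v _
    constructor
    · rintro ⟨⟨h1, h2⟩, h3⟩
      exact ⟨h1, h3, h2⟩
    · rintro ⟨h1, h3, h2⟩
      exact ⟨⟨h1, h2⟩, h3⟩
  have e4 : (Finset.univ.filter fun v : V => v ∈ O ∧ ¬ Q v = 0) =
      (Finset.univ.filter fun u : V => u ∈ O ∧ Q u ≠ 0) := rfl
  rw [e5, e5', Finset.card_singleton] at a5
  rw [e4] at a4
  rw [natCard_eq_filter] at hZ
  rw [natCard_eq_filter]
  rw [a2] at a1
  have b1 := congrArg (Nat.cast : ℕ → ℤ) a1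
  have b4 := congrArg (Nat.cast : ℕ → ℤ) a4
  have b5 := congrArg (Nat.cast : ℕ → ℤ) a5
  have b6 := congrArg (Nat.cast : ℕ → ℤ) a6
  push_cast at b1 b4 b5 b6 a3
  rw [a3] at b1
  generalize ((Finset.univ.filter fun p : V × V => p.1 ∈ O ∧ p.2 ∈ O ∧
        ∀ s t : F, Q (s • p.1 + t • p.2) = 0 → s = 0 ∧ t = 0).card : ℤ) = A at *
  generalize ((Finset.univ.filter fun u : V => u ∈ O ∧ Q u ≠ 0).card : ℤ) = N at *
  generalize ((Finset.univ.filter fun z : V => z ∈ O ∧ Q z = 0).card : ℤ) = Z at *
  generalize ((Finset.univ.filter fun z : V => z ∈ O ∧ z ≠ 0 ∧ Q z = 0).card : ℤ) = Z' at *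
  generalize ((Finset.univ.filter fun v : V => v ∈ O).card : ℤ) = M at *
  have p1 : (Fintype.card F : ℤ) ^ (D' + 1) = (Fintype.card F : ℤ) * (Fintype.card F : ℤ) ^ D' := by
    rw [pow_succ]; ring
  have p2 : (Fintype.card F : ℤ) ^ (2 * D' + 1) =
      (Fintype.card F : ℤ) * ((Fintype.card F : ℤ) ^ D' * (Fintype.card F : ℤ) ^ D') := by
    rw [pow_succ, two_mul, pow_add]; ring
  have p3 : (Fintype.card F : ℤ) ^ (2 * D') = (Fintype.card F : ℤ) ^ D' * (Fintype.card F : ℤ) ^ D' := by
    rw [two_mul, pow_add]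
  have p4 : (Fintype.card F : ℤ) ^ (2 * D' + 1 + 1) = (Fintype.card F : ℤ) * (Fintype.card F : ℤ) *
      ((Fintype.card F : ℤ) ^ D' * (Fintype.card F : ℤ) ^ D') := by
    rw [pow_succ, pow_succ, two_mul, pow_add]; ring
  rw [p4] at b6
  rw [p2, p3] at b1
  rw [p1] at hZ
  rw [p1, p2]
  generalize (Fintype.card F : ℤ) ^ D' = x at *
  generalize (Fintype.card F : ℤ) = q at *
  have hZ1 : Z = Z' + 1 := by linarith
  have hN : N = M - Z := by linarith
  subst hZ1 hN
  subst b6
  rcases hε with rfl | rfl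
  · subst hZ
    linear_combination b1
  · subst hZ
    linear_combination b1

/-- **LEAF K0 (598812)**, with the definition of an anisotropic pair written out -/
theorem card_aniso_pairs' [Fintype F] [FiniteDimensional F V] (Q : QuadraticForm F V)
    (O : Submodule F V) (hO : NonDeg (pB Q) O) (D : ℕ) (hD1 : 1 ≤ D) (hD : finrank F O = 2 * D) :
    (PlusQ Q O → 2 * Nat.card {p : V × V // p.1 ∈ O ∧ p.2 ∈ O ∧
        ∀ s t : F, Q (s • p.1 + t • p.2) = 0 → s = 0 ∧ t = 0} =
      Fintype.card F ^ (2 * D - 1) * ((Fintype.card F ^ D - 1) * (Fintype.card F ^ (D - 1) - 1)) *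
        ((Fintype.card F - 1) * (Fintype.card F - 1))) ∧
    (¬ PlusQ Q O → 2 * Nat.card {p : V × V // p.1 ∈ O ∧ p.2 ∈ O ∧
        ∀ s t : F, Q (s • p.1 + t • p.2) = 0 → s = 0 ∧ t = 0} =
      Fintype.card F ^ (2 * D - 1) * ((Fintype.card F ^ D + 1) * (Fintype.card F ^ (D - 1) + 1)) *
        ((Fintype.card F - 1) * (Fintype.card F - 1))) := by
  obtain ⟨D', rfl⟩ : ∃ D', D = D' + 1 := ⟨D - 1, by omega⟩
  have hq : 1 ≤ Fintype.card F := Fintype.card_pos
  have hs := Cfsg.Agent.Lib.Helper79.OTs.card_singular Q O hO (D' + 1) hD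
  have hp1 : ∀ k : ℕ, 1 ≤ Fintype.card F ^ k := fun k => Nat.one_le_pow _ _ hq
  have e1 : 2 * (D' + 1) - 1 = 2 * D' + 1 := by omega
  simp only [Nat.add_sub_cancel] at hs ⊢
  rw [e1]
  constructor
  · intro hpl
    have h1 := hs.1 hpl
    have h2 := card_aniso_pairs_of_Z Q O hO D' hD 1 (Or.inl rfl) (by
      rw [h1]; push_cast [Nat.cast_sub (hp1 (D' + 1))]; ring)
    apply Nat.cast_injective (R := ℤ)
    push_cast [Nat.cast_sub (hp1 (D' + 1)), Nat.cast_sub (hp1 D'), Nat.cast_sub hq]
    rw [h2]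
  · intro hpl
    have h1 := hs.2 hpl
    have h2 := card_aniso_pairs_of_Z Q O hO D' hD (-1) (Or.inr rfl) (by
      rw [h1]; push_cast [Nat.cast_sub (hp1 D')]; ring)
    apply Nat.cast_injective (R := ℤ)
    push_cast [Nat.cast_sub hq]
    rw [h2]
    ring

/-- **LEAF K0 (598812)**, exact spec signature (with the local copy `AP` of the spec's definition) -/
theorem card_aniso_pairs [Fintype F] [FiniteDimensional F V] (Q : QuadraticForm F V)
    (O : Submodule F V) (hO : NonDeg (pB Q) O) (D : ℕ) (hD1 : 1 ≤ D) (hD : finrank F O = 2 * D) :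
    (PlusQ Q O → 2 * Nat.card {p : V × V // p.1 ∈ O ∧ p.2 ∈ O ∧ AP Q p.1 p.2} =
      Fintype.card F ^ (2 * D - 1) * ((Fintype.card F ^ D - 1) * (Fintype.card F ^ (D - 1) - 1)) *
        ((Fintype.card F - 1) * (Fintype.card F - 1))) ∧
    (¬ PlusQ Q O → 2 * Nat.card {p : V × V // p.1 ∈ O ∧ p.2 ∈ O ∧ AP Q p.1 p.2} =
      Fintype.card F ^ (2 * D - 1) * ((Fintype.card F ^ D + 1) * (Fintype.card F ^ (D - 1) + 1)) *
        ((Fintype.card F - 1) * (Fintype.card F - 1))) :=
  card_aniso_pairs' Q O hO D hD1 hD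

end Cfsg.Agent.Lib.Helper51.OEl
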