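import Cfsg.Agent.Lib.Helper07.OrthB
import Cfsg.Agent.Lib.Helper46.AOLinB
import Cfsg.Agent.Lib.Helper43.OmegaNonsingGeo
import Cfsg.Agent.Lib.Helper43.OmegaSimple6

set_option autoImplicit false
set_option linter.unusedSectionVars false
set_option linter.unusedVariables false
set_option linter.unusedSimpArgs false
set_option linter.style.haveILetI false

/-! Generic non-containment lemmas for `Ω(Q)`, `Q` any non-degenerate quadratic form in at least
seven variables over a finite field (any characteristic): `Ω(Q)` stabilises no proper non-zero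
subspace and normalises no field subalgebra of degree at least two. -/

namespace Cfsg.Agent.Lib.Helper51.OEvenN

open Cfsg Cfsg.Geo Cfsg.Agent.Lib.Helper43 Cfsg.Agent.Lib.Helper07.OG
open scoped Matrix

variable {F : Type*} [Field F] [Fintype F] {ι : Type} [Fintype ι] [DecidableEq ι]

section bundled

variable {Q : QuadraticForm F (ι → F)}

local notation "Bf" => QuadraticMap.polarBilin Q

/-- the matrix of an element of `Ω` -/
noncomputable abbrev matΩ (g : ↥(Cfsg.Omega F ⇑Q)) : Matrix ι ι F :=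
  (((g : ↥(Cfsg.isometryGroup F ⇑Q)) : GL ι F) : Matrix ι ι F)

theorem matΩ_mulVec (g : ↥(Cfsg.Omega F ⇑Q)) (x : ι → F) : matΩ g *ᵥ x = lo Q g x := by
  unfold lo
  rw [linOf_apply]

theorem matΩ_mul_inv (g : ↥(Cfsg.Omega F ⇑Q)) : matΩ g * matΩ g⁻¹ = 1 := by
  unfold matΩ
  rw [Subgroup.coe_inv, Subgroup.coe_inv, ← Units.val_mul, mul_inv_cancel, Units.val_one]

theorem matΩ_inv_mul (g : ↥(Cfsg.Omega F ⇑Q)) : matΩ g⁻¹ * matΩ g = 1 := by
  unfold matΩ
  rw [Subgroup.coe_inv, Subgroup.coe_inv, ← Units.val_mul, inv_mul_cancel, Units.val_one]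

theorem mem_omegaGL_of (g : ↥(Cfsg.Omega F ⇑Q)) :
    ((g : ↥(Cfsg.isometryGroup F ⇑Q)) : GL ι F) ∈ omegaGL (⇑Q) := by
  rw [mem_omegaGL_iff43]
  exact ⟨(g : ↥(Cfsg.isometryGroup F ⇑Q)).2, g.2⟩

/-- `Ω(Q)` stabilises no proper non-zero subspace (bundled form) -/
theorem not_le_subspaceStabilizer_aux (C : OC Q) (W : Submodule F (ι → F)) (h0 : W ≠ ⊥)
    (h1 : W ≠ ⊤) : ¬ omegaGL (⇑Q) ≤ subspaceStabilizer W := by
  intro h
  apply h1
  have hd : Disjoint (⊤ : Submodule F (ι → F)) (orthC Q ⊤) := by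
    rw [disjoint_iff, top_inf_eq, eq_bot_iff]
    intro v hv
    rw [Submodule.mem_bot]
    rw [mem_orthC] at hv
    apply C.hQ.2
    intro w
    exact hv w Submodule.mem_top
  refine Cfsg.Agent.Lib.Helper46.AO.irr Q C.hQ ⊤ hd ?_ W le_top h0 ?_
  · rw [finrank_top, Module.finrank_pi]
    have := C.hn
    omega
  · intro u w _ _ hu huw x hx
    rw [← lo_sg C hu huw, ← matΩ_mulVec]
    exact ((h (mem_omegaGL_of (sg C u w))) x).mp hx

/-- the normaliser condition for an element of `Ω` -/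
theorem mem_iff_conj_mem (K : Subalgebra F (Matrix ι ι F))
    (h : omegaGL (⇑Q) ≤ subalgebraNormalizer K) (g : ↥(Cfsg.Omega F ⇑Q)) (k : Matrix ι ι F) :
    k ∈ K ↔ matΩ g * k * matΩ g⁻¹ ∈ K := by
  have := h (mem_omegaGL_of g) k
  rw [this]
  unfold matΩ
  rw [Subgroup.coe_inv, Subgroup.coe_inv]

/-- a non-zero vector killed by four functionals -/
theorem exists_common_kernel (C : OC Q) (u z : ι → F) (k : Matrix ι ι F) :
    ∃ w : ι → F, w ≠ 0 ∧ Bf w u = 0 ∧ Bf w z = 0 ∧ Bf (k *ᵥ w) u = 0 ∧ Bf (k *ᵥ w) z = 0 := by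
  let φ : (ι → F) →ₗ[F] (Fin 4 → F) :=
    LinearMap.pi ![(QuadraticMap.polarBilin Q).flip u, (QuadraticMap.polarBilin Q).flip z,
      ((QuadraticMap.polarBilin Q).flip u) ∘ₗ Matrix.toLin' k,
      ((QuadraticMap.polarBilin Q).flip z) ∘ₗ Matrix.toLin' k]
  have hlt : Module.finrank F (Fin 4 → F) < Module.finrank F (ι → F) := by
    rw [Module.finrank_pi, Module.finrank_pi, Fintype.card_fin]
    have := C.hn
    omega
  have hker := LinearMap.ker_ne_bot_of_finrank_lt (f := φ) hlt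
  obtain ⟨w, hw, hw0⟩ := (Submodule.ne_bot_iff _).mp hker
  rw [LinearMap.mem_ker] at hw
  have e0 : Bf w u = 0 := by simpa [φ] using congrFun hw 0
  have e1 : Bf w z = 0 := by simpa [φ] using congrFun hw 1
  have e2 : Bf (k *ᵥ w) u = 0 := by simpa [φ] using congrFun hw 2
  have e3 : Bf (k *ᵥ w) z = 0 := by simpa [φ] using congrFun hw 3
  exact ⟨w, hw0, e0, e1, e2, e3⟩

/-- elements of a normalised field subalgebra commute with the Siegel elements -/
theorem commute_sg (C : OC Q) {r : ℕ} (K : Subalgebra F (Matrix ι ι F))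
    (hK : IsFieldSubalgebra r K) (h : omegaGL (⇑Q) ≤ subalgebraNormalizer K)
    (u z : ι → F) (hu : Q u = 0) (huz : Bf u z = 0) (k : Matrix ι ι F) (hk : k ∈ K) :
    matΩ (sg C u z) * k = k * matΩ (sg C u z) := by
  set g := sg C u z with hg
  have hx : matΩ g * k * matΩ g⁻¹ - k ∈ K :=
    K.sub_mem ((mem_iff_conj_mem K h g k).mp hk) hk
  have hx0 : matΩ g * k * matΩ g⁻¹ - k = 0 := by
    by_contra hne
    obtain ⟨y, -, hy⟩ := hK.inv _ hx hne
    have hy' := (mul_eq_one_comm).mp hy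
    obtain ⟨w, hw0, h1, h3, h4, h5⟩ := exists_common_kernel C u z k
    have hfix : ∀ v : ι → F, Bf v u = 0 → Bf v z = 0 → matΩ g *ᵥ v = v := by
      intro v hvu hvz
      rw [matΩ_mulVec, hg, sg_apply C hu huz, hvu, hvz]
      simp
    have hgw : matΩ g *ᵥ w = w := hfix w h1 h3
    have hgkw : matΩ g *ᵥ (k *ᵥ w) = k *ᵥ w := hfix _ h4 h5
    have hinvw : matΩ g⁻¹ *ᵥ w = w := by
      have := congrArg (fun v => matΩ g⁻¹ *ᵥ v) hgw
      simp only [Matrix.mulVec_mulVec, matΩ_inv_mul, Matrix.one_mulVec] at this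
      exact this.symm
    have hxw : (matΩ g * k * matΩ g⁻¹ - k) *ᵥ w = 0 := by
      rw [Matrix.sub_mulVec, ← Matrix.mulVec_mulVec, ← Matrix.mulVec_mulVec, hinvw, hgkw, sub_self]
    have : w = 0 := by
      have h6 := congrArg (fun v => y *ᵥ v) hxw
      simp only [Matrix.mulVec_mulVec, hy', Matrix.one_mulVec, Matrix.mulVec_zero] at h6
      exact h6
    exact hw0 this
  have h7 : matΩ g * k * matΩ g⁻¹ = k := sub_eq_zero.mp hx0
  calc matΩ g * k = matΩ g * k * (matΩ g⁻¹ * matΩ g) := by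
        rw [matΩ_inv_mul, mul_one]
    _ = (matΩ g * k * matΩ g⁻¹) * matΩ g := by simp only [mul_assoc]
    _ = k * matΩ g := by rw [h7]

/-- `Ω(Q)` normalises no field subalgebra of degree at least two (bundled form) -/
theorem not_le_subalgebraNormalizer_aux (C : OC Q) {r : ℕ} (hr : 2 ≤ r)
    (K : Subalgebra F (Matrix ι ι F)) (hK : IsFieldSubalgebra r K) :
    ¬ omegaGL (⇑Q) ≤ subalgebraNormalizer K := by
  intro h
  have hscal : ∀ k ∈ K, ∃ c : F, k = c • (1 : Matrix ι ι F) := by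
    intro k hk
    have hline : ∀ x : ι → F, x ≠ 0 → Q x = 0 → ∃ c : F, (Matrix.toLin' k) x = c • x := by
      intro x hx0 hx
      have hfix : ∀ v, Bf x v = 0 → lo Q (sg C x v) (k *ᵥ x) = k *ᵥ x := by
        intro v hv
        have hc := commute_sg C K hK h x v hx hv k hk
        have h1 := congrArg (fun M : Matrix ι ι F => M *ᵥ x) hc
        simp only [← Matrix.mulVec_mulVec] at h1
        rw [matΩ_mulVec, matΩ_mulVec] at h1
        rw [h1]
        congr 1
        rw [sg_apply C hx hv, polar_self0 hx, hv]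
        simp
      obtain ⟨t, ht⟩ := fixed_of_siegelGrp C hx0 hx hfix
      exact ⟨t, by rw [Matrix.toLin'_apply]; exact ht⟩
    obtain ⟨c, hc⟩ := scalar_of_fix_lines Q C.hQ C.hn (Matrix.toLin' k) hline
    refine ⟨c, ?_⟩
    apply Matrix.toLin'.injective
    apply LinearMap.ext
    intro v
    rw [hc v, Matrix.toLin'_apply, Matrix.smul_mulVec, Matrix.one_mulVec]
  have hle : K ≤ ⊥ := by
    intro k hk
    obtain ⟨c, rfl⟩ := hscal k hk
    rw [Algebra.mem_bot]
    exact ⟨c, by rw [Algebra.algebraMap_eq_smul_one]⟩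
  have hbot : K = ⊥ := le_bot_iff.mp hle
  have h1 := hK.finrank_eq
  haveI : Nonempty ι := by
    rw [← Fintype.card_pos_iff]
    have := C.hn
    omega
  rw [hbot, Subalgebra.finrank_bot] at h1
  omega

end bundled

/-- the standing hypotheses for a function satisfying `IsNondegenerateQuadraticForm` -/
theorem oc_geoQF (hn : 7 ≤ Fintype.card ι) (Q : (ι → F) → F) (hQ : IsNondegenerateQuadraticForm Q) :
    OC (geoQF Q hQ) :=
  ⟨geoQF_nondegenerate Q hQ, hn⟩

/-- **N1 (generic)**: `Ω(Q)` stabilises no proper non-zero subspace. -/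
theorem omegaGL_not_le_subspaceStabilizer {n : ℕ} (hn : 7 ≤ n) (Q : (Fin n → F) → F)
    (hQ : IsNondegenerateQuadraticForm Q) (W : Submodule F (Fin n → F)) (h0 : W ≠ ⊥)
    (h1 : W ≠ ⊤) : ¬ omegaGL Q ≤ subspaceStabilizer W := by
  have C := oc_geoQF (by rw [Fintype.card_fin]; exact hn) Q hQ
  exact not_le_subspaceStabilizer_aux C W h0 h1

/-- **N3 (generic)**: `Ω(Q)` normalises no field subalgebra of degree at least two. -/
theorem omegaGL_not_le_subalgebraNormalizer {n : ℕ} (hn : 7 ≤ n) (Q : (Fin n → F) → F)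
    (hQ : IsNondegenerateQuadraticForm Q) {r : ℕ} (hr : 2 ≤ r)
    (K : Subalgebra F (Matrix (Fin n) (Fin n) F)) (hK : IsFieldSubalgebra r K) :
    ¬ omegaGL Q ≤ subalgebraNormalizer K := by
  have C := oc_geoQF (by rw [Fintype.card_fin]; exact hn) Q hQ
  exact not_le_subalgebraNormalizer_aux C hr K hK

end Cfsg.Agent.Lib.Helper51.OEvenN
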