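import Cfsg.Agent.Lib.Helper51.OEvenN5

set_option autoImplicit false
set_option linter.unusedSectionVars false
set_option linter.unusedVariables false

/-! Generic non-containment in subfield subgroups, stated with `F₀ ≠ ⊤`. -/

namespace Cfsg.Agent.Lib.Helper51.OEvenN

open Cfsg Cfsg.Geo

variable {F : Type*} [Field F] [Fintype F]

/-- **N5 (generic)**, stated with `F₀ ≠ ⊤` and any change of basis `P`. -/
theorem omegaGL_not_le_subfieldSubgroup_of_ne_top {n : ℕ} (hn : 7 ≤ n) (Q : (Fin n → F) → F)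
    (hQ : IsNondegenerateQuadraticForm Q) (F₀ : Subfield F) (hF₀ : F₀ ≠ ⊤)
    (P : GL (Fin n) F) : ¬ omegaGL Q ≤ subfieldSubgroup F₀ P := by
  apply omegaGL_not_le_subfieldSubgroup_of_exists hn Q hQ F₀ _ P
  by_contra hcon
  push Not at hcon
  apply hF₀
  rw [eq_top_iff]
  intro a _
  exact hcon a

end Cfsg.Agent.Lib.Helper51.OEvenN
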