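/-
K-OMb-13 (keystone 599113, S5991 pack of helper32): Witt: isometric subspaces of a nondegenerate
symmetric space (`2 ≠ 0`) have isometric orthogonal complements.
-/
import Cfsg.Agent.Lib.Helper69.OPbDefs
import Cfsg.Agent.Lib.Helper43.WittQuad

set_option autoImplicit false
set_option linter.unusedSectionVars false
set_option linter.unusedVariables false

namespace Cfsg.Agent.Lib.Helper51.OMb

open Module Cfsg.Agent.Lib.Helper98.Elus Cfsg.Agent.Lib.Helper98.Sy Cfsg.Agent.Lib.Helper98.Oh
  Cfsg.Agent.Lib.Helper69.OPb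

universe u
variable {F : Type u} [Field F] {V : Type u} [AddCommGroup V] [Module F V]

/-- the quadratic form `v ↦ B v v / 2` -/
noncomputable def qHalf (B : LinearMap.BilinForm F V) : QuadraticForm F V :=
  (2⁻¹ : F) • LinearMap.BilinMap.toQuadraticMap B

theorem qHalf_apply (B : LinearMap.BilinForm F V) (v : V) : qHalf B v = 2⁻¹ * B v v := by
  change (2⁻¹ : F) • (LinearMap.BilinMap.toQuadraticMap B) v = _
  rw [LinearMap.BilinMap.toQuadraticMap_apply, smul_eq_mul]

theorem polarBilin_qHalf (h2 : (2 : F) ≠ 0) (B : LinearMap.BilinForm F V)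
    (hS : ∀ a b, B a b = B b a) (x y : V) :
    QuadraticMap.polarBilin (qHalf B) x y = B x y := by
  rw [QuadraticMap.polarBilin_apply_apply]
  unfold QuadraticMap.polar
  rw [qHalf_apply, qHalf_apply, qHalf_apply, map_add, map_add, LinearMap.add_apply,
    LinearMap.add_apply, hS y x]
  field_simp
  ring

/-- **K-OMb-13 (599113)** -/
theorem isoCls_orthogonal (h2 : (2 : F) ≠ 0) [FiniteDimensional F V] (B : LinearMap.BilinForm F V)
    (hS : ∀ a b, B a b = B b a) (hV : NonDeg B ⊤) (W W' : Submodule F V) (h : IsoCls B W W') :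
    IsoCls B (B.orthogonal W) (B.orthogonal W') := by
  obtain ⟨e, he⟩ := h
  have hpol := polarBilin_qHalf h2 B hS
  have hnd : (QuadraticMap.polarBilin (qHalf B)).Nondegenerate := by
    constructor
    · intro x hx
      apply hV x Submodule.mem_top
      intro v _
      rw [← hpol]
      exact hx v
    · intro x hx
      apply hV x Submodule.mem_top
      intro v _
      rw [hS, ← hpol]
      exact hx v
  obtain ⟨g, hg1, hg2⟩ := Cfsg.Agent.Lib.Helper43.witt_quad (qHalf B) hnd W W' e (by
    intro x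
    rw [qHalf_apply, qHalf_apply, he])
  have hgB : ∀ x y, B (g x) (g y) = B x y := by
    intro x y
    rw [← hpol, ← hpol]
    exact Cfsg.Agent.Lib.Helper43.polar_of_isometry (qHalf B) (g : V →ₗ[F] V) hg1 x y
  have hmap : (B.orthogonal W).map (g : V →ₗ[F] V) = B.orthogonal W' := by
    apply le_antisymm
    · rintro _ ⟨v, hv, rfl⟩
      rw [LinearMap.BilinForm.mem_orthogonal_iff]
      intro n' hn'
      have hv' := LinearMap.BilinForm.mem_orthogonal_iff.mp hv
      obtain ⟨n, hn⟩ : ∃ n : W, (e n : V) = n' := ⟨e.symm ⟨n', hn'⟩, by simp⟩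
      show B n' (g v) = 0
      rw [← hn, ← hg2 n]
      show B (g (n : V)) (g v) = 0
      rw [hgB]
      exact hv' n n.2
    · intro v' hv'
      have hv'' := LinearMap.BilinForm.mem_orthogonal_iff.mp hv'
      refine ⟨g.symm v', ?_, by simp⟩
      rw [SetLike.mem_coe, LinearMap.BilinForm.mem_orthogonal_iff]
      intro n hn
      show B n (g.symm v') = 0
      have h1 : B n (g.symm v') = B (g n) (g (g.symm v')) := (hgB _ _).symm
      rw [h1, LinearEquiv.apply_symm_apply]
      have h3 : g n = (e ⟨n, hn⟩ : V) := hg2 ⟨n, hn⟩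
      rw [h3]
      exact hv'' _ (e ⟨n, hn⟩).2
  refine ⟨g.ofSubmodules (B.orthogonal W) (B.orthogonal W') hmap, ?_⟩
  intro w
  rw [LinearEquiv.ofSubmodules_apply]
  exact hgB _ _

end Cfsg.Agent.Lib.Helper51.OMb
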