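import Mathlib
import Cfsg.Agent.Lib.Helper43.MaxSingularGroup
import Cfsg.Agent.Lib.Helper43.WittIndex
import Cfsg.Agent.Lib.Helper43.OmegaParabolic
import Cfsg.Agent.Lib.Helper50.SpinorCrit
import Cfsg.Agent.Lib.Helper08.AutOmega

set_option autoImplicit false
set_option linter.unusedSectionVars false

/-! Parity classes of maximal totally singular subspaces under similarities (odd characteristic). -/

namespace Cfsg.Agent.Lib.Helper51.OPar

open Module Matrix Cfsg.Agent.Lib.Helper43

variable {F : Type*} [Field F] {ι : Type} [Fintype ι] [DecidableEq ι]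

/-- action of an invertible matrix on subspaces -/
def act (g : GL ι F) (U : Submodule F (ι → F)) : Submodule F (ι → F) :=
  U.map (Matrix.toLin' (g : Matrix ι ι F))

theorem act_eq_image (g : GL ι F) (U : Submodule F (ι → F)) :
    act g U = Cfsg.imageSubmodule (g : Matrix ι ι F) U := rfl

theorem mem_act {g : GL ι F} {U : Submodule F (ι → F)} {x : ι → F} :
    x ∈ act g U ↔ ∃ u ∈ U, (g : Matrix ι ι F) *ᵥ u = x := by
  unfold act
  rw [Submodule.mem_map]
  simp only [Matrix.toLin'_apply]

theorem act_mul (g h : GL ι F) (U : Submodule F (ι → F)) : act (g * h) U = act g (act h U) := by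
  unfold act
  rw [Units.val_mul, Matrix.toLin'_mul, Submodule.map_comp]

theorem act_one (U : Submodule F (ι → F)) : act (1 : GL ι F) U = U := by
  unfold act
  rw [Units.val_one, Matrix.toLin'_one, Submodule.map_id]

theorem act_inv_act (g : GL ι F) (U : Submodule F (ι → F)) : act g⁻¹ (act g U) = U := by
  rw [← act_mul, inv_mul_cancel, act_one]

theorem act_act_inv (g : GL ι F) (U : Submodule F (ι → F)) : act g (act g⁻¹ U) = U := by
  rw [← act_mul, mul_inv_cancel, act_one]

theorem toLin_injective (g : GL ι F) : Function.Injective (Matrix.toLin' (g : Matrix ι ι F)) := by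
  intro x y hxy
  have h := congrArg (Matrix.toLin' ((g⁻¹ : GL ι F) : Matrix ι ι F)) hxy
  rw [← LinearMap.comp_apply, ← LinearMap.comp_apply, ← Matrix.toLin'_mul, ← Units.val_mul,
    inv_mul_cancel, Units.val_one, Matrix.toLin'_one] at h
  exact h

theorem finrank_act (g : GL ι F) (U : Submodule F (ι → F)) :
    finrank F (act g U) = finrank F U :=
  (Submodule.equivMapOfInjective _ (toLin_injective g) U).finrank_eq.symm

theorem act_inf (g : GL ι F) (U W : Submodule F (ι → F)) :
    act g (U ⊓ W) = act g U ⊓ act g W :=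
  Submodule.map_inf _ (toLin_injective g)

/-- parity relation between two subspaces -/
def par (U W : Submodule F (ι → F)) : Prop :=
  Even (finrank F U + finrank F ↥(U ⊓ W))

theorem par_act (g : GL ι F) (U W : Submodule F (ι → F)) :
    par (act g U) (act g W) ↔ par U W := by
  unfold par
  rw [← act_inf, finrank_act, finrank_act]

theorem par_iff_sameParity (U W : Submodule F (ι → F)) :
    par U W ↔ Cfsg.SameParityClass U W := by
  unfold par Cfsg.SameParityClass
  have hle : finrank F ↥(U ⊓ W) ≤ finrank F U := Submodule.finrank_mono inf_le_left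
  rw [Nat.even_add, Nat.even_sub hle]

variable (Q : QuadraticForm F (ι → F))

theorem isMaxTS_act {g : GL ι F} (hg : g ∈ Cfsg.Geo.quadSimilarityGroup (F := F) ⇑Q)
    {U : Submodule F (ι → F)} (hU : IsMaxTS Q U) : IsMaxTS Q (act g U) := by
  obtain ⟨c, hc⟩ := hg
  refine ⟨?_, ?_⟩
  · intro x hx
    obtain ⟨u, hu, rfl⟩ := mem_act.1 hx
    rw [hc, hU.1 u hu, mul_zero]
  · rw [finrank_act]
    exact hU.2

theorem isometry_le_similarity : Cfsg.isometryGroup F ⇑Q ≤ Cfsg.Geo.quadSimilarityGroup (F := F) ⇑Q :=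
  Cfsg.Agent.Lib.Helper08.isometryGroup_le_similarity ⇑Q

/-- for isometries in odd characteristic the Dickson invariant is the determinant -/
theorem even_rank_iff_det (h2 : (2 : F) ≠ 0) (hQ : (QuadraticMap.polarBilin Q).Nondegenerate)
    (g : ↥(Cfsg.isometryGroup F ⇑Q)) :
    Even (((g : GL ι F) : Matrix ι ι F) - 1).rank ↔ ((g : GL ι F) : Matrix ι ι F).det = 1 := by
  have hgen := reflGenerated_of_two_ne_zero Q h2 hQ
  obtain ⟨l, hl, rfl⟩ := exists_list_reflO Q hgen g
  have h1 := rank_parity_prod_reflO Q hQ l hl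
  have h3 := Cfsg.Agent.Lib.Helper50.det_prod_reflection Q l hl
  rw [val_prod_reflO Q l hl] at h1 ⊢
  have h3' : ((l.map (Cfsg.reflectionMatrix ⇑Q)).prod).det = (-1) ^ l.length := h3
  rw [h3']
  have hne : (-1 : F) ≠ 1 := by
    intro h
    apply h2
    linear_combination (-1 : F) * h
  rw [neg_one_pow_eq_one_iff_even hne, Nat.even_iff, Nat.even_iff, h1]

theorem act_coe_eq_map_linOf (g : ↥(Cfsg.isometryGroup F ⇑Q)) (U : Submodule F (ι → F)) :
    act (g : GL ι F) U = U.map (linOf Q g) := rfl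

/-- parity of `U` and its image under an isometry -/
theorem par_iso (h2 : (2 : F) ≠ 0) (hQ : (QuadraticMap.polarBilin Q).Nondegenerate)
    {U : Submodule F (ι → F)} (hU : IsMaxTS Q U) {h : GL ι F} (hh : h ∈ Cfsg.isometryGroup F ⇑Q) :
    par U (act h U) ↔ (h : Matrix ι ι F).det = 1 := by
  have hgen := reflGenerated_of_two_ne_zero Q h2 hQ
  have h1 := parity_inf_map_linOf Q hQ hgen hU ⟨h, hh⟩
  have h3 := even_rank_iff_det Q h2 hQ ⟨h, hh⟩
  unfold par
  rw [act_coe_eq_map_linOf Q ⟨h, hh⟩ U] at *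
  rw [h1]
  exact h3

/-- Witt: the isometry group is transitive on the maximal totally singular subspaces -/
theorem exists_iso_act (hQ : (QuadraticMap.polarBilin Q).Nondegenerate)
    {U W : Submodule F (ι → F)} (hU : IsMaxTS Q U) (hW : IsMaxTS Q W) :
    ∃ a : GL ι F, a ∈ Cfsg.isometryGroup F ⇑Q ∧ act a U = W := by
  have hfr : finrank F U = finrank F W := by
    have h1 := hU.2
    have h2 := hW.2
    omega
  obtain φ : U ≃ₗ[F] W := LinearEquiv.ofFinrankEq U W hfr
  have hφ : ∀ x : U, Q (φ x : ι → F) = Q (x : ι → F) := by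
    intro x
    rw [hW.1 _ (φ x).2, hU.1 _ x.2]
  obtain ⟨g, hg1, hg2⟩ := witt_quad Q hQ U W φ hφ
  obtain ⟨a, ha⟩ := exists_ofLin Q hQ (g : (ι → F) →ₗ[F] (ι → F)) hg1
  refine ⟨a.1, a.2, ?_⟩
  rw [act_coe_eq_map_linOf Q a U, ha]
  ext x
  constructor
  · rintro ⟨u, hu, rfl⟩
    have := hg2 ⟨u, hu⟩
    simp only [LinearEquiv.coe_coe] at this ⊢
    rw [this]
    exact (φ ⟨u, hu⟩).2
  · intro hx
    refine ⟨(φ.symm ⟨x, hx⟩ : ι → F), (φ.symm ⟨x, hx⟩).2, ?_⟩
    have := hg2 (φ.symm ⟨x, hx⟩)
    simp only [LinearEquiv.coe_coe] at this ⊢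
    rw [this, LinearEquiv.apply_symm_apply]

theorem det_conj (s a : GL ι F) :
    ((s * a * s⁻¹ : GL ι F) : Matrix ι ι F).det = (a : Matrix ι ι F).det := by
  rw [Units.val_mul, Units.val_mul, Matrix.det_mul, Matrix.det_mul, mul_comm, ← mul_assoc,
    ← Matrix.det_mul, ← Units.val_mul, inv_mul_cancel, Units.val_one, Matrix.det_one, one_mul]

theorem det_inv_mul (a b : GL ι F) :
    ((a⁻¹ * b : GL ι F) : Matrix ι ι F).det = ((a : Matrix ι ι F).det)⁻¹ * (b : Matrix ι ι F).det := by
  rw [Units.val_mul, Matrix.det_mul]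
  congr 1
  have h : ((a⁻¹ : GL ι F) : Matrix ι ι F).det * (a : Matrix ι ι F).det = 1 := by
    rw [← Matrix.det_mul, ← Units.val_mul, inv_mul_cancel, Units.val_one, Matrix.det_one]
  exact eq_inv_of_mul_eq_one_left h

/-- a similarity fixing one maximal totally singular subspace preserves the classes -/
theorem par_sim_fix (h2 : (2 : F) ≠ 0) (hQ : (QuadraticMap.polarBilin Q).Nondegenerate)
    {s : GL ι F} (hs : s ∈ Cfsg.Geo.quadSimilarityGroup (F := F) ⇑Q)
    {U₀ : Submodule F (ι → F)} (hU₀ : IsMaxTS Q U₀) (hs0 : act s U₀ = U₀)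
    {U : Submodule F (ι → F)} (hU : IsMaxTS Q U) : par U (act s U) := by
  obtain ⟨a, ha, haU⟩ := exists_iso_act Q hQ hU₀ hU
  have ha' : s * a * s⁻¹ ∈ Cfsg.isometryGroup F ⇑Q :=
    Cfsg.Agent.Lib.Helper08.conj_mem_isometryGroup ⇑Q hs ha
  have h1 : act s U = act (s * a * s⁻¹) U₀ := by
    rw [← haU, ← act_mul]
    conv_rhs => rw [← hs0]
    rw [← act_mul]
    congr 1
    group
  rw [h1, ← haU, ← par_act a⁻¹, act_inv_act, ← act_mul]
  have hmem : a⁻¹ * (s * a * s⁻¹) ∈ Cfsg.isometryGroup F ⇑Q :=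
    Subgroup.mul_mem _ (Subgroup.inv_mem _ ha) ha'
  rw [par_iso Q h2 hQ hU₀ hmem, det_inv_mul, det_conj]
  have hne : (a : Matrix ι ι F).det ≠ 0 := by
    have := (Matrix.isUnit_iff_isUnit_det _).1 a.isUnit
    exact this.ne_zero
  exact inv_mul_cancel₀ hne

/-- the parity of `U` and `g U` for a similarity `g`, computed through a similarity `d` with the
same multiplier fixing a maximal totally singular subspace -/
theorem par_sim (h2 : (2 : F) ≠ 0) (hQ : (QuadraticMap.polarBilin Q).Nondegenerate)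
    {g d : GL ι F} (hd : d ∈ Cfsg.Geo.quadSimilarityGroup (F := F) ⇑Q)
    (hgd : g * d⁻¹ ∈ Cfsg.isometryGroup F ⇑Q)
    {U₀ : Submodule F (ι → F)} (hU₀ : IsMaxTS Q U₀) (hd0 : act d U₀ = U₀)
    {U : Submodule F (ι → F)} (hU : IsMaxTS Q U) :
    par U (act g U) ↔ ((g * d⁻¹ : GL ι F) : Matrix ι ι F).det = 1 := by
  have hW : IsMaxTS Q (act d U) := isMaxTS_act Q hd hU
  obtain ⟨a, ha, haW⟩ := exists_iso_act Q hQ hW hU
  have hpar := par_sim_fix Q h2 hQ hd hU₀ hd0 hU
  -- det a = 1
  have hdet : (a : Matrix ι ι F).det = 1 := by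
    have h1 : par (act a (act d U)) (act d U) := by rw [haW]; exact hpar
    rw [← par_act a⁻¹, act_inv_act] at h1
    have h3 := (par_iso Q h2 hQ hW (Subgroup.inv_mem _ ha)).1 h1
    have h4 : ((a⁻¹ : GL ι F) : Matrix ι ι F).det * (a : Matrix ι ι F).det = 1 := by
      rw [← Matrix.det_mul, ← Units.val_mul, inv_mul_cancel, Units.val_one, Matrix.det_one]
    rw [h3, one_mul] at h4
    exact h4
  have h5 : act g U = act (g * d⁻¹) (act d U) := by
    rw [← act_mul]
    congr 1
    group
  have h6 : par U (act g U) ↔ par (act a (act d U)) (act (g * d⁻¹) (act d U)) := by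
    rw [haW, ← h5]
  rw [h6, ← par_act a⁻¹, act_inv_act, ← act_mul]
  have hmem : a⁻¹ * (g * d⁻¹) ∈ Cfsg.isometryGroup F ⇑Q :=
    Subgroup.mul_mem _ (Subgroup.inv_mem _ ha) hgd
  rw [par_iso Q h2 hQ hW hmem, det_inv_mul, hdet, inv_one, one_mul]

/-- a totally singular subspace has dimension at most `n / 2` (no finiteness of the field) -/
theorem ts_finrank_le' (hQ : (QuadraticMap.polarBilin Q).Nondegenerate)
    (T : Submodule F (ι → F)) (hT : ∀ t ∈ T, Q t = 0) : 2 * finrank F T ≤ Fintype.card ι := by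
  have h1 : finrank F (LinearMap.BilinForm.orthogonal (QuadraticMap.polarBilin Q) T) =
      finrank F (ι → F) - finrank F T := LinearMap.BilinForm.finrank_orthogonal hQ T
  have h2 : T ≤ LinearMap.BilinForm.orthogonal (QuadraticMap.polarBilin Q) T := by
    intro t ht
    rw [LinearMap.BilinForm.mem_orthogonal_iff]
    intro u hu
    exact polar_eq_zero_of_totallySingular Q T hT u t hu ht
  have h3 := Submodule.finrank_mono h2
  have h4 : finrank F T ≤ finrank F (ι → F) := Submodule.finrank_le T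
  have hcard : finrank F (ι → F) = Fintype.card ι := Module.finrank_fintype_fun_eq_card F
  omega

/-- a maximal (by inclusion) totally singular subspace has half the dimension, as soon as some
totally singular subspace of half the dimension exists -/
theorem isMaxTS_of_maximal (hQ : (QuadraticMap.polarBilin Q).Nondegenerate)
    {U₀ : Submodule F (ι → F)} (hU₀ : IsMaxTS Q U₀)
    {U : Submodule F (ι → F)} (hU : Cfsg.IsMaxTotallySingular ⇑Q U) : IsMaxTS Q U := by
  obtain ⟨hts, hmax⟩ := hU
  refine ⟨hts, ?_⟩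
  have h1 : finrank F U₀ ≤ finrank F U := by
    apply finrank_le_of_totallySingular Q hQ U U₀ hU₀.1 _ hts
    intro v hv hQv
    have hext : Cfsg.Geo.IsTotallySingularQuad ⇑Q (U ⊔ Submodule.span F {v}) := by
      intro w hw
      obtain ⟨u, hu, z, hz, rfl⟩ := Submodule.mem_sup.1 hw
      obtain ⟨c, rfl⟩ := Submodule.mem_span_singleton.1 hz
      have := Q_add Q u (c • v)
      rw [this, hts u hu, Q_smul, hQv, map_smul, smul_eq_mul]
      have h3 : QuadraticMap.polarBilin Q u v = 0 := by
        rw [polar_symm]; exact hv u hu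
      rw [h3]; ring
    have h4 := hmax _ hext le_sup_left
    have : v ∈ U ⊔ Submodule.span F {v} :=
      Submodule.mem_sup_right (Submodule.mem_span_singleton_self v)
    rw [h4] at this
    exact this
  have h2 := ts_finrank_le' Q hQ U hts
  have h3 := hU₀.2
  rw [Module.finrank_fintype_fun_eq_card] at h3 ⊢
  omega

/-- a totally singular subspace of half the dimension is maximal by inclusion -/
theorem maximal_of_isMaxTS (hQ : (QuadraticMap.polarBilin Q).Nondegenerate)
    {U : Submodule F (ι → F)} (hU : IsMaxTS Q U) : Cfsg.IsMaxTotallySingular ⇑Q U := by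
  refine ⟨hU.1, ?_⟩
  intro W hW hUW
  symm
  apply Submodule.eq_of_le_of_finrank_le hUW
  have h2 := ts_finrank_le' Q hQ W hW
  have h3 := hU.2
  rw [Module.finrank_fintype_fun_eq_card] at h3
  omega

/-- **class preservation criterion**: a similarity `g` preserves the two classes of maximal
totally singular subspaces iff `g d⁻¹` has determinant one, `d` being a similarity with the same
multiplier fixing a maximal totally singular subspace. -/
theorem preserves_iff (h2 : (2 : F) ≠ 0) (hQ : (QuadraticMap.polarBilin Q).Nondegenerate)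
    {g d : GL ι F} (hd : d ∈ Cfsg.Geo.quadSimilarityGroup (F := F) ⇑Q)
    (hgd : g * d⁻¹ ∈ Cfsg.isometryGroup F ⇑Q)
    {U₀ : Submodule F (ι → F)} (hU₀ : IsMaxTS Q U₀) (hd0 : act d U₀ = U₀) :
    Cfsg.PreservesSingularClasses ⇑Q (g : Matrix ι ι F) ↔
      ((g * d⁻¹ : GL ι F) : Matrix ι ι F).det = 1 := by
  unfold Cfsg.PreservesSingularClasses
  constructor
  · intro h
    have h1 := h U₀ (maximal_of_isMaxTS Q hQ hU₀)
    rw [← act_eq_image, ← par_iff_sameParity] at h1
    exact (par_sim Q h2 hQ hd hgd hU₀ hd0 hU₀).1 h1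
  · intro h U hU
    rw [← act_eq_image, ← par_iff_sameParity]
    exact (par_sim Q h2 hQ hd hgd hU₀ hd0 (isMaxTS_of_maximal Q hQ hU₀ hU)).2 h

end Cfsg.Agent.Lib.Helper51.OPar
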