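import Mathlib

set_option autoImplicit false

/-! Small quotients: homs onto `Z2`, `Z4`, `Z2 × Z2` with prescribed kernel. -/

namespace Cfsg.Agent.Lib.Helper51.OPar

section grp

variable {G : Type*} [Group G]

/-- a cyclic quotient of order `n` gives a hom onto `Multiplicative (ZMod n)` -/
theorem exists_hom_zmod_of_cyclic (N : Subgroup G) [N.Normal] (n : ℕ) (hidx : N.index = n)
    (hcyc : IsCyclic (G ⧸ N)) :
    ∃ ψ : G →* Multiplicative (ZMod n), Function.Surjective ψ ∧ ψ.ker = N := by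
  have hcard : Nat.card (G ⧸ N) = n := by rw [← Subgroup.index_eq_card, hidx]
  have e0 : Multiplicative (ZMod (Nat.card (G ⧸ N))) ≃* (G ⧸ N) := zmodCyclicMulEquiv hcyc
  have e : (G ⧸ N) ≃* Multiplicative (ZMod n) := by
    rw [hcard] at e0
    exact e0.symm
  refine ⟨e.toMonoidHom.comp (QuotientGroup.mk' N), ?_, ?_⟩
  · exact e.surjective.comp (QuotientGroup.mk'_surjective N)
  · ext g
    simp only [MonoidHom.mem_ker, MonoidHom.comp_apply, MulEquiv.coe_toMonoidHom,
      EmbeddingLike.map_eq_one_iff, QuotientGroup.mk'_apply, QuotientGroup.eq_one_iff]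

/-- index two: quotient `Z2` -/
theorem exists_hom_zmod_two (N : Subgroup G) [N.Normal] (hidx : N.index = 2) :
    ∃ ψ : G →* Multiplicative (ZMod 2), Function.Surjective ψ ∧ ψ.ker = N := by
  have hcard : Nat.card (G ⧸ N) = 2 := by rw [← Subgroup.index_eq_card, hidx]
  have : Fact (Nat.Prime 2) := ⟨Nat.prime_two⟩
  exact exists_hom_zmod_of_cyclic N 2 hidx (isCyclic_of_prime_card hcard)

/-- index four and an element whose square is outside: quotient `Z4` -/
theorem exists_hom_zmod_four (N : Subgroup G) [N.Normal] (hidx : N.index = 4) (x : G)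
    (hx : x * x ∉ N) :
    ∃ ψ : G →* Multiplicative (ZMod 4), Function.Surjective ψ ∧ ψ.ker = N := by
  have hcard : Nat.card (G ⧸ N) = 4 := by rw [← Subgroup.index_eq_card, hidx]
  have : Finite (G ⧸ N) := Nat.finite_of_card_ne_zero (by rw [hcard]; norm_num)
  set X : G ⧸ N := QuotientGroup.mk x with hX
  have hX2 : X ^ 2 ≠ 1 := by
    rw [pow_two, hX, ← QuotientGroup.mk_mul, Ne, QuotientGroup.eq_one_iff]
    exact hx
  have hdvd : orderOf X ∣ 4 := by
    rw [← hcard]; exact orderOf_dvd_natCard X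
  have ho4 : orderOf X = 4 := by
    have h2 : ¬ orderOf X ∣ 2 := fun h => hX2 (orderOf_dvd_iff_pow_eq_one.mp h)
    have h3 : orderOf X ≤ 4 := Nat.le_of_dvd (by norm_num) hdvd
    interval_cases h : orderOf X <;> simp_all
  have hcyc : IsCyclic (G ⧸ N) := isCyclic_of_orderOf_eq_card X (by rw [ho4, hcard])
  exact exists_hom_zmod_of_cyclic N 4 hidx hcyc

/-- index four and two independent elements with squares inside: quotient `Z2 × Z2` -/
theorem exists_hom_klein (N : Subgroup G) [N.Normal] (hidx : N.index = 4) (x y : G)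
    (hx : x * x ∈ N) (hy : y * y ∈ N) (hx1 : x ∉ N) (hy1 : y ∉ N) (hxy : x * y⁻¹ ∉ N) :
    ∃ ψ : G →* Multiplicative (ZMod 2 × ZMod 2), Function.Surjective ψ ∧ ψ.ker = N := by
  have hcard : Nat.card (G ⧸ N) = 4 := by rw [← Subgroup.index_eq_card, hidx]
  have : Finite (G ⧸ N) := Nat.finite_of_card_ne_zero (by rw [hcard]; norm_num)
  set X : G ⧸ N := QuotientGroup.mk x with hX
  set Y : G ⧸ N := QuotientGroup.mk y with hY
  have hXX : X ^ 2 = 1 := by
    rw [pow_two, hX, ← QuotientGroup.mk_mul, QuotientGroup.eq_one_iff]; exact hx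
  have hYY : Y ^ 2 = 1 := by
    rw [pow_two, hY, ← QuotientGroup.mk_mul, QuotientGroup.eq_one_iff]; exact hy
  have hX1 : X ≠ 1 := by
    rw [hX, Ne, QuotientGroup.eq_one_iff]; exact hx1
  have hY1 : Y ≠ 1 := by
    rw [hY, Ne, QuotientGroup.eq_one_iff]; exact hy1
  have hXY : X ≠ Y := by
    intro h
    apply hxy
    rw [← QuotientGroup.eq_one_iff, QuotientGroup.mk_mul, QuotientGroup.mk_inv, ← hX, ← hY, h,
      mul_inv_cancel]
  have hoX : orderOf X = 2 := orderOf_eq_prime hXX hX1
  have hoY : orderOf Y = 2 := orderOf_eq_prime hYY hY1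
  have key : ∀ z : G ⧸ N, z ^ 2 = 1 := by
    by_contra hcon
    obtain ⟨z, hz⟩ := not_forall.mp hcon
    have hdvd : orderOf z ∣ 4 := by
      rw [← hcard]; exact orderOf_dvd_natCard z
    have ho4 : orderOf z = 4 := by
      have h2 : ¬ orderOf z ∣ 2 := fun h => hz (orderOf_dvd_iff_pow_eq_one.mp h)
      have h3 : orderOf z ≤ 4 := Nat.le_of_dvd (by norm_num) hdvd
      interval_cases h : orderOf z <;> simp_all
    have hz4 : z ^ 4 = 1 := by rw [← ho4]; exact pow_orderOf_eq_one z
    have htop : ∀ W : G ⧸ N, W ^ 2 = 1 → W ≠ 1 → W = z ^ 2 := by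
      intro W hW2 hW1
      have hmem : W ∈ Subgroup.zpowers z := by
        have : Subgroup.zpowers z = ⊤ := by
          apply Subgroup.eq_top_of_card_eq
          rw [Nat.card_zpowers, ho4, hcard]
        rw [this]; trivial
      rw [← mem_powers_iff_mem_zpowers] at hmem
      obtain ⟨n, hn⟩ := hmem
      have hn' : W = z ^ (n % 4) := by rw [← hn, ← ho4, pow_mod_orderOf]
      have hlt : n % 4 < 4 := Nat.mod_lt _ (by norm_num)
      interval_cases hj : n % 4
      · rw [pow_zero] at hn'; exact absurd hn' hW1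
      · rw [pow_one] at hn'; rw [hn'] at hW2; exact absurd hW2 hz
      · exact hn'
      · rw [hn'] at hW2
        exfalso
        apply hz
        have h6 : (z ^ 3) ^ 2 = z ^ 4 * z ^ 2 := by group
        rw [h6, hz4, one_mul] at hW2
        exact hW2
    exact hXY ((htop X hXX hX1).trans (htop Y hYY hY1).symm)
  have hK : IsKleinFour (G ⧸ N) := by
    refine ⟨hcard, ?_⟩
    have h1 : Monoid.exponent (G ⧸ N) ∣ 2 := Monoid.exponent_dvd_of_forall_pow_eq_one key
    have h3 : Monoid.exponent (G ⧸ N) ≠ 1 := by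
      intro h
      have h5 := Monoid.pow_exponent_eq_one X
      rw [h, pow_one] at h5
      exact hX1 h5
    rcases (Nat.dvd_prime Nat.prime_two).mp h1 with h | h
    · exact absurd h h3
    · exact h
  have hK2 : IsKleinFour (Multiplicative (ZMod 2 × ZMod 2)) := inferInstance
  obtain ⟨e⟩ : Nonempty ((G ⧸ N) ≃* Multiplicative (ZMod 2 × ZMod 2)) :=
    IsKleinFour.nonempty_mulEquiv
  refine ⟨e.toMonoidHom.comp (QuotientGroup.mk' N), ?_, ?_⟩
  · exact e.surjective.comp (QuotientGroup.mk'_surjective N)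
  · ext g
    simp only [MonoidHom.mem_ker, MonoidHom.comp_apply, MulEquiv.coe_toMonoidHom,
      EmbeddingLike.map_eq_one_iff, QuotientGroup.mk'_apply, QuotientGroup.eq_one_iff]

end grp

end Cfsg.Agent.Lib.Helper51.OPar
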