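import Cfsg.Agent.Lib.Helper08.PgoModInn
import Cfsg.Agent.Lib.Helper51.OPar2

set_option autoImplicit false

/-! The image of the similarities with `det = μ^m` in `Aut(PΩ)` modulo `Inn(PΩ)`
(even dimension `2m`, `q` odd): `Z2`, `Z4` or `Z2 × Z2`. -/

namespace Cfsg.Agent.Lib.Helper51.OPar

open Matrix Cfsg.Agent.Lib.Helper19 Cfsg.Agent.Lib.Helper43 Cfsg.Agent.Lib.Helper08

universe u

variable {F : Type u} [Field F] [Fintype F] [DecidableEq F] {ι : Type} [Fintype ι] [DecidableEq ι]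
variable (Q : QuadraticForm F (ι → F))

set_option maxHeartbeats 1000000 in
/-- the image of `{g : det g = μ(g)^m}` modulo the inner automorphisms -/
theorem inndiag_mod_inn (m : ℕ) (h2 : (2 : F) ≠ 0)
    (hQ : (QuadraticMap.polarBilin Q).Nondegenerate)
    (hcard : Fintype.card ι = 2 * m) (e f : Fin 3 → ι → F) (HT : HypTriple Q e f)
    (g0 : ↥(Cfsg.Geo.quadSimilarityGroup (F := F) ⇑Q)) (hg0 : ¬ IsSquare (multFun Q g0 : F))
    (hsq : ∃ a : F, ((g0 : GL ι F) : Matrix ι ι F) * ((g0 : GL ι F) : Matrix ι ι F) = a • 1)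
    (D : Subgroup ↥(Cfsg.Geo.quadSimilarityGroup (F := F) ⇑Q))
    (hD : ∀ g, g ∈ D ↔ ((g : GL ι F) : Matrix ι ι F).det = (multFun Q g : F) ^ m)
    (P : Subgroup (MulAut (Cfsg.POmega F ⇑Q))) (hP : P = D.map (autPO ⇑Q)) :
    ((¬ ∃ g : ↥(Cfsg.isometryGroup F ⇑Q), g ∈ Cfsg.Omega F ⇑Q ∧
        ((g : GL ι F) : Matrix ι ι F) = -1) →
      ∃ φ : ↥P →* Multiplicative (ZMod 2), Function.Surjective φ ∧
        φ.ker = (Cfsg.Inn (Cfsg.POmega F ⇑Q)).subgroupOf P) ∧
    ((∃ g : ↥(Cfsg.isometryGroup F ⇑Q), g ∈ Cfsg.Omega F ⇑Q ∧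
        ((g : GL ι F) : Matrix ι ι F) = -1) →
      ((g0 : GL ι F) : Matrix ι ι F).det = -(multFun Q g0 : F) ^ m →
      ∃ φ : ↥P →* Multiplicative (ZMod 4), Function.Surjective φ ∧
        φ.ker = (Cfsg.Inn (Cfsg.POmega F ⇑Q)).subgroupOf P) ∧
    ((∃ g : ↥(Cfsg.isometryGroup F ⇑Q), g ∈ Cfsg.Omega F ⇑Q ∧
        ((g : GL ι F) : Matrix ι ι F) = -1) →
      ((g0 : GL ι F) : Matrix ι ι F).det = (multFun Q g0 : F) ^ m →
      ∃ φ : ↥P →* Multiplicative (ZMod 2 × ZMod 2), Function.Surjective φ ∧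
        φ.ker = (Cfsg.Inn (Cfsg.POmega F ⇑Q)).subgroupOf P) := by
  have heven : Even (Fintype.card ι) := ⟨m, by rw [hcard]; ring⟩
  have hle : Cfsg.Inn (Cfsg.POmega F ⇑Q) ≤ Cfsg.psoAut F ⇑Q := by
    rw [inn_eq, psoAut_eq]; exact Subgroup.map_mono (Omega_le_SO Q)
  have RP := reflPairs_of_two_ne_zero Q h2
  have hu : Q (e 0 + f 0) = 1 := by
    rw [QuadraticMap.map_add (⇑Q), HT.qe, HT.qf, HT.ef]; simp
  obtain ⟨v, hv⟩ : ∃ v, v = e 0 + f 0 := ⟨_, rfl⟩
  rw [← hv] at hu
  obtain ⟨c, hc⟩ : ∃ c, c = autPO (⇑Q) := ⟨_, rfl⟩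
  obtain ⟨N, hN⟩ : ∃ N, N = (Cfsg.Inn (Cfsg.POmega F ⇑Q)).comap c := ⟨_, rfl⟩
  obtain ⟨B, hB⟩ : ∃ B, B = (Cfsg.Omega F ⇑Q).map (inclGO Q) := ⟨_, rfl⟩
  have hBc : B.map c = Cfsg.Inn (Cfsg.POmega F ⇑Q) := by
    rw [hB, Subgroup.map_map, inn_eq, hc]; rfl
  have hNeq : N = B ⊔ c.ker := by rw [hN, ← hBc, Subgroup.comap_map_eq]
  have hNn : N.Normal := by rw [hN]; infer_instance
  obtain ⟨ψ₀, hψ₀⟩ : ∃ ψ₀, ψ₀ = psiGO Q hu m h2 hQ hcard := ⟨_, rfl⟩
  have hK : ψ₀.ker = (Cfsg.specialIsometryGroup F ⇑Q).map (inclGO Q) ⊔ c.ker := by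
    rw [hψ₀, hc]; exact psiGO_ker_le Q hu m h2 hQ hcard e f HT
  have hNK : N ≤ ψ₀.ker := by
    rw [hNeq, hK, hB]; exact sup_le_sup_right (Subgroup.map_mono (Omega_le_SO Q)) _
  have hKmap : ψ₀.ker.map c = Cfsg.psoAut F ⇑Q := by
    rw [hK, Subgroup.map_sup, Subgroup.map_map, psoAut_eq,
      (Subgroup.map_eq_bot_iff _).mpr (le_refl c.ker), sup_bot_eq, hc]
    rfl
  have hsurj : Function.Surjective ψ₀ := by
    rw [hψ₀]; exact psiGO_surjective Q hu m h2 hQ hcard g0 hg0
  have hKidx : ψ₀.ker.index = 4 := by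
    rw [Subgroup.index_ker, MonoidHom.range_eq_top.mpr hsurj,
      Nat.card_congr (Subgroup.topEquiv (G := ℤˣ × ℤˣ)).toEquiv, Nat.card_prod]
    simp
  -- the subgroup `D`
  have hDdelta : ∀ g, g ∈ D ↔ delta Q hu m g = 1 := by
    intro g
    rw [hD, delta_apply]
    have hμ : (multFun Q g : F) ≠ 0 := Units.ne_zero _
    constructor
    · intro h
      apply Units.ext
      simp only [Units.val_mul, Units.val_pow_eq_pow_val, Units.val_inv_eq_inv_val, detGO_val,
        Units.val_one]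
      rw [h, inv_pow, mul_inv_cancel₀ (pow_ne_zero _ hμ)]
    · intro h
      have h1 := congrArg (fun x : Fˣ => (x : F)) h
      simp only [Units.val_mul, Units.val_pow_eq_pow_val, Units.val_inv_eq_inv_val, detGO_val,
        Units.val_one] at h1
      rw [inv_pow] at h1
      field_simp at h1
      exact h1
  have hKD : ψ₀.ker ≤ D := by
    intro g hg
    rw [MonoidHom.mem_ker, hψ₀, psiGO_eq_one_iff] at hg
    exact (hDdelta g).2 hg.2
  obtain ⟨sgn, hsgn⟩ : ∃ sgn, sgn = signHom (delta Q hu m) (delta_cases Q hu m hQ hcard)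
      (one_ne_neg_one_units h2) := ⟨_, rfl⟩
  have hDker : D = sgn.ker := by
    ext g
    rw [MonoidHom.mem_ker, hsgn, signHom_eq_one_iff, hDdelta]
  have hsgnsurj : Function.Surjective sgn := by
    intro y
    obtain ⟨g, hg⟩ := hsurj (1, y)
    refine ⟨g, ?_⟩
    have h1 := congrArg Prod.snd hg
    rw [hψ₀] at h1
    unfold psiGO at h1
    rw [MonoidHom.prod_apply] at h1
    rw [hsgn]
    exact h1
  have hDidx : D.index = 2 := by
    rw [hDker, Subgroup.index_ker, MonoidHom.range_eq_top.mpr hsgnsurj,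
      Nat.card_congr (Subgroup.topEquiv (G := ℤˣ)).toEquiv]
    simp
  have hND : N ≤ D := hNK.trans hKD
  -- transfer to `P`
  rw [← hc] at hP
  subst hP
  have hIn : ((Cfsg.Inn (Cfsg.POmega F ⇑Q)).subgroupOf (D.map c)).Normal := inferInstance
  have hIidx : ((Cfsg.Inn (Cfsg.POmega F ⇑Q)).subgroupOf (D.map c)).index = N.relIndex D := by
    rw [hN, Subgroup.relIndex_comap]; rfl
  have hmemI : ∀ (z : ↥(Cfsg.Geo.quadSimilarityGroup (F := F) ⇑Q)) (hz : z ∈ D),
      ((⟨c z, Subgroup.mem_map_of_mem c hz⟩ : ↥(D.map c)) ∈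
        (Cfsg.Inn (Cfsg.POmega F ⇑Q)).subgroupOf (D.map c)) ↔ z ∈ N := by
    intro z hz
    rw [Subgroup.mem_subgroupOf, hN, Subgroup.mem_comap]
  have hkerN : c.ker ≤ N := by rw [hNeq]; exact le_sup_right
  have hv0 : Q v ≠ 0 := by rw [hu]; exact one_ne_zero
  obtain ⟨r, hr⟩ : ∃ r, r = Cfsg.Agent.Lib.Helper50.reflO Q v := ⟨_, rfl⟩
  have hrv : ((r : GL ι F) : Matrix ι ι F) = Cfsg.reflectionMatrix (⇑Q) v := by
    rw [hr]; exact Cfsg.Agent.Lib.Helper50.reflO_val Q v hv0
  obtain ⟨w, hw⟩ : ∃ w, w = ((g0 : GL ι F) : Matrix ι ι F) *ᵥ v := ⟨_, rfl⟩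
  have hQw : Q w = (multFun Q g0 : F) := by rw [hw, multFun_spec, hu, mul_one]
  have hw0 : Q w ≠ 0 := by rw [hQw]; exact Units.ne_zero _
  obtain ⟨r', hr'⟩ : ∃ r', r' = Cfsg.Agent.Lib.Helper50.reflO Q w := ⟨_, rfl⟩
  have hrw : ((r' : GL ι F) : Matrix ι ι F) = Cfsg.reflectionMatrix (⇑Q) w := by
    rw [hr']; exact Cfsg.Agent.Lib.Helper50.reflO_val Q w hw0
  have hcomm : g0 * inclGO Q r = inclGO Q r' * g0 := by
    apply Subtype.ext; apply Units.ext
    simp only [Subgroup.coe_mul, Units.val_mul, inclGO_val]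
    rw [hrv, hrw, hw]
    exact similarity_mul_reflection Q g0 v
  have hz : g0 * g0 ∈ c.ker := by
    rw [MonoidHom.mem_ker, hc, autPO_eq_one_iff Q hQ h2 e f HT RP]
    obtain ⟨a, ha⟩ := hsq
    exact ⟨a, by rw [Subgroup.coe_mul, Units.val_mul]; exact ha⟩
  have hx : g0 * g0 ∈ N := hkerN hz
  have hmultincl : ∀ s : ↥(Cfsg.isometryGroup F ⇑Q), multFun Q (inclGO Q s) = 1 :=
    fun s => multFun_inclGO Q hu s
  have hmultmul : ∀ a b : ↥(Cfsg.Geo.quadSimilarityGroup (F := F) ⇑Q),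
      multFun Q (a * b) = multFun Q a * multFun Q b := fun a b => map_mul (mult Q hu) a b
  have hnotsq : ∀ s : ↥(Cfsg.isometryGroup F ⇑Q), ¬ IsSquare (multFun Q (g0 * inclGO Q s) : F) := by
    intro s
    rw [hmultmul, hmultincl, mul_one]
    exact hg0
  refine ⟨?_, ?_, ?_⟩
  · intro hno
    have hrel1 := (relIndex_inn_psoAut Q h2 hQ e f HT heven).2 hno
    have hrel : N.relIndex ψ₀.ker = 1 := by
      rw [hN, Subgroup.relIndex_comap, hKmap]; exact hrel1
    have hidx : N.index = 4 := by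
      rw [← Subgroup.relIndex_mul_index hNK, hrel, hKidx]
    have hrelD : N.relIndex D = 2 := by
      have := Subgroup.relIndex_mul_index hND
      rw [hDidx, hidx] at this
      omega
    exact exists_hom_zmod_two _ (hIidx.trans hrelD)
  · rintro ⟨gm, hgmΩ, hgmv⟩ hdet0
    have hrel : N.relIndex ψ₀.ker = 2 := by
      rw [hN, Subgroup.relIndex_comap, hKmap]
      exact (relIndex_inn_psoAut Q h2 hQ e f HT heven).1 ⟨gm, hgmΩ, hgmv⟩
    have hidx : N.index = 8 := by
      rw [← Subgroup.relIndex_mul_index hNK, hrel, hKidx]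
    have hrelD : N.relIndex D = 4 := by
      have := Subgroup.relIndex_mul_index hND
      rw [hDidx, hidx] at this
      omega
    have hkerΩ : (autO (⇑Q)).ker ≤ Cfsg.Omega F ⇑Q := by
      intro k hk
      rw [MonoidHom.mem_ker, autO_eq_one_iff Q hQ h2 e f HT RP] at hk
      rcases hk with h1 | h1
      · have : k = 1 := Subtype.ext (Units.ext h1)
        rw [this]; exact one_mem _
      · have : k = gm := Subtype.ext (Units.ext (h1.trans hgmv.symm))
        rw [this]; exact hgmΩ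
    have hmemN : ∀ h : ↥(Cfsg.isometryGroup F ⇑Q), inclGO Q h ∈ N ↔ h ∈ Cfsg.Omega F ⇑Q := by
      intro h
      rw [hN, Subgroup.mem_comap, hc]
      change autO (⇑Q) h ∈ Cfsg.Inn _ ↔ _
      rw [inn_eq, ← Subgroup.mem_comap, Subgroup.comap_map_eq, sup_eq_left.mpr hkerΩ]
    have hxD : g0 * inclGO Q r ∈ D := by
      rw [hD, hmultmul, hmultincl, mul_one, Subgroup.coe_mul, Units.val_mul, Matrix.det_mul,
        hdet0, inclGO_val, hrv, reflectionMatrix_det Q v hv0]
      ring
    have hxy : (g0 * inclGO Q r) * (g0 * inclGO Q r) ∉ N := by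
      intro h
      have e1 : (g0 * inclGO Q r) * (g0 * inclGO Q r) =
          (inclGO Q r' * (g0 * g0) * (inclGO Q r')⁻¹) * inclGO Q (r' * r) := by
        rw [map_mul]
        nth_rewrite 1 [hcomm]
        group
      rw [e1] at h
      have h5 : inclGO Q r' * (g0 * g0) * (inclGO Q r')⁻¹ ∈ N := hNn.conj_mem _ hx _
      have h6 := (Subgroup.mul_mem_cancel_left N h5).mp h
      rw [hmemN] at h6
      have h7 := (Cfsg.Agent.Lib.Helper50.spinor_criterion h2 Q (r' * r) [w, v]
        (by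
          intro z hz
          simp only [List.mem_cons, List.not_mem_nil, or_false] at hz
          rcases hz with rfl | rfl
          · exact hw0
          · exact hv0)
        (by
          rw [Subgroup.coe_mul, Units.val_mul, hrv, hrw]
          simp)).mp h6
      apply hg0
      have h8 := h7.2
      simp only [List.map_cons, List.map_nil, List.prod_cons, List.prod_nil, hQw, hu,
        mul_one] at h8
      exact h8
    refine exists_hom_zmod_four _ (hIidx.trans hrelD)
      ⟨c (g0 * inclGO Q r), Subgroup.mem_map_of_mem c hxD⟩ ?_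
    intro hcon
    apply hxy
    rw [← hmemI _ (D.mul_mem hxD hxD)]
    convert hcon using 1
    apply Subtype.ext
    simp [map_mul]
  · rintro ⟨gm, hgmΩ, hgmv⟩ hdet0
    have hrel : N.relIndex ψ₀.ker = 2 := by
      rw [hN, Subgroup.relIndex_comap, hKmap]
      exact (relIndex_inn_psoAut Q h2 hQ e f HT heven).1 ⟨gm, hgmΩ, hgmv⟩
    have hidx : N.index = 8 := by
      rw [← Subgroup.relIndex_mul_index hNK, hrel, hKidx]
    have hrelD : N.relIndex D = 4 := by
      have := Subgroup.relIndex_mul_index hND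
      rw [hDidx, hidx] at this
      omega
    have hkerΩ : (autO (⇑Q)).ker ≤ Cfsg.Omega F ⇑Q := by
      intro k hk
      rw [MonoidHom.mem_ker, autO_eq_one_iff Q hQ h2 e f HT RP] at hk
      rcases hk with h1 | h1
      · have : k = 1 := Subtype.ext (Units.ext h1)
        rw [this]; exact one_mem _
      · have : k = gm := Subtype.ext (Units.ext (h1.trans hgmv.symm))
        rw [this]; exact hgmΩ
    have hmemN : ∀ h : ↥(Cfsg.isometryGroup F ⇑Q), inclGO Q h ∈ N ↔ h ∈ Cfsg.Omega F ⇑Q := by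
      intro h
      rw [hN, Subgroup.mem_comap, hc]
      change autO (⇑Q) h ∈ Cfsg.Inn _ ↔ _
      rw [inn_eq, ← Subgroup.mem_comap, Subgroup.comap_map_eq, sup_eq_left.mpr hkerΩ]
    have hg0D : g0 ∈ D := (hD g0).2 hdet0
    -- the element `y = r' r` of `SO` outside `Ω`
    have hyD : inclGO Q (r' * r) ∈ D := by
      rw [hD, hmultincl, Units.val_one, one_pow, inclGO_val, Subgroup.coe_mul, Units.val_mul,
        Matrix.det_mul, hrv, hrw, reflectionMatrix_det Q v hv0, reflectionMatrix_det Q w hw0]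
      ring
    have hy1 : inclGO Q (r' * r) ∉ N := by
      rw [hmemN]
      intro h6
      have h7 := (Cfsg.Agent.Lib.Helper50.spinor_criterion h2 Q (r' * r) [w, v]
        (by
          intro z hz
          simp only [List.mem_cons, List.not_mem_nil, or_false] at hz
          rcases hz with rfl | rfl
          · exact hw0
          · exact hv0)
        (by
          rw [Subgroup.coe_mul, Units.val_mul, hrv, hrw]
          simp)).mp h6
      apply hg0
      have h8 := h7.2
      simp only [List.map_cons, List.map_nil, List.prod_cons, List.prod_nil, hQw, hu,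
        mul_one] at h8
      exact h8
    have hyy : inclGO Q (r' * r) * inclGO Q (r' * r) ∈ N := by
      rw [← map_mul, hmemN]
      apply (Cfsg.Agent.Lib.Helper50.spinor_criterion h2 Q ((r' * r) * (r' * r)) [w, v, w, v]
        (by
          intro z hz
          simp only [List.mem_cons, List.not_mem_nil, or_false] at hz
          rcases hz with rfl | rfl | rfl | rfl
          · exact hw0
          · exact hv0
          · exact hw0
          · exact hv0)
        (by
          simp only [Subgroup.coe_mul, Units.val_mul, hrv, hrw]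
          simp [Matrix.mul_assoc])).mpr
      refine ⟨⟨2, rfl⟩, ?_⟩
      simp only [List.map_cons, List.map_nil, List.prod_cons, List.prod_nil, hQw, hu, mul_one]
      exact ⟨(multFun Q g0 : F), by ring⟩
    have hxy : g0 * (inclGO Q (r' * r))⁻¹ ∉ N := by
      intro h
      have h3 := hNK h
      rw [MonoidHom.mem_ker, hψ₀, psiGO_eq_one_iff] at h3
      apply hg0
      have h4 := h3.1
      rw [← map_inv, hmultmul, hmultincl, mul_one] at h4
      exact h4
    have hx1 : g0 ∉ N := fun h => by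
      have h3 := hNK h
      rw [MonoidHom.mem_ker, hψ₀, psiGO_eq_one_iff] at h3
      exact hg0 h3.1
    refine exists_hom_klein _ (hIidx.trans hrelD)
      ⟨c g0, Subgroup.mem_map_of_mem c hg0D⟩
      ⟨c (inclGO Q (r' * r)), Subgroup.mem_map_of_mem c hyD⟩ ?_ ?_ ?_ ?_ ?_
    · have h1 := (hmemI _ (D.mul_mem hg0D hg0D)).2 hx
      convert h1 using 1
      apply Subtype.ext
      simp [map_mul]
    · have h1 := (hmemI _ (D.mul_mem hyD hyD)).2 hyy
      convert h1 using 1
      apply Subtype.ext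
      simp [map_mul]
    · intro hcon
      exact hx1 ((hmemI _ hg0D).1 hcon)
    · intro hcon
      exact hy1 ((hmemI _ hyD).1 hcon)
    · intro hcon
      apply hxy
      rw [← hmemI _ (D.mul_mem hg0D (D.inv_mem hyD))]
      convert hcon using 1
      apply Subtype.ext
      simp [map_mul]

/-- the similarities with `det = μ^m` form a subgroup -/
theorem exists_detSubgroup {u0 : ι → F} (hu0 : Q u0 = 1) (m : ℕ) :
    ∃ D : Subgroup ↥(Cfsg.Geo.quadSimilarityGroup (F := F) ⇑Q),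
      ∀ g, g ∈ D ↔ ((g : GL ι F) : Matrix ι ι F).det = (multFun Q g : F) ^ m := by
  refine ⟨(delta Q hu0 m).ker, fun g => ?_⟩
  rw [MonoidHom.mem_ker, delta_apply]
  have hμ : (multFun Q g : F) ≠ 0 := Units.ne_zero _
  constructor
  · intro h
    have h1 := congrArg (fun x : Fˣ => (x : F)) h
    simp only [Units.val_mul, Units.val_pow_eq_pow_val, Units.val_inv_eq_inv_val, detGO_val,
      Units.val_one] at h1
    rw [inv_pow] at h1
    field_simp at h1
    exact h1
  · intro h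
    apply Units.ext
    simp only [Units.val_mul, Units.val_pow_eq_pow_val, Units.val_inv_eq_inv_val, detGO_val,
      Units.val_one]
    rw [h, inv_pow, mul_inv_cancel₀ (pow_ne_zero _ hμ)]

end Cfsg.Agent.Lib.Helper51.OPar
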