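import Cfsg.Agent.Lib.Helper51.OPar4

set_option autoImplicit false
set_option linter.unusedSectionVars false

/-! Class preservation for similarities of the minus-type form, read over a quadratic extension:
`g` preserves the classes iff `det g = μ^(k+1)`. -/

namespace Cfsg.Agent.Lib.Helper51.OPar

open Matrix Cfsg.Agent.Lib.Helper08 Cfsg.Agent.Lib.Helper43

section maxts

variable {K : Type*} [Field K] (k : ℕ) (a b θ : K)

/-- the linear map whose kernel is the standard maximal totally singular subspace -/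
def cutMap : (((Fin k ⊕ Fin k) ⊕ Fin 2) → K) →ₗ[K] (Fin k ⊕ Fin 1 → K) where
  toFun v := Sum.elim (fun i => v (Sum.inl (Sum.inr i)))
    (fun _ => v (Sum.inr 0) - θ * v (Sum.inr 1))
  map_add' x y := by
    ext (i | i)
    · simp
    · simp only [Pi.add_apply, Sum.elim_inr]
      ring
  map_smul' c x := by
    ext (i | i)
    · simp
    · simp only [Pi.smul_apply, smul_eq_mul, Sum.elim_inr, RingHom.id_apply]
      ring

theorem cutMap_surjective : Function.Surjective (cutMap k θ) := by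
  intro y
  refine ⟨Sum.elim (Sum.elim 0 (fun i => y (Sum.inl i))) ![y (Sum.inr 0), 0], ?_⟩
  ext (i | i)
  · simp [cutMap]
  · have : i = 0 := Subsingleton.elim _ _
    subst this
    simp [cutMap]

theorem isMaxTS_ker (hd : a ^ 2 - 4 * b ≠ 0) (hθ : θ ^ 2 + a * θ + b = 0) :
    IsMaxTS (qdataMinusDisc k a b hd).qf (LinearMap.ker (cutMap k θ)) := by
  constructor
  · intro x hx
    rw [LinearMap.mem_ker] at hx
    have h1 : ∀ i, x (Sum.inl (Sum.inr i)) = 0 := fun i => by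
      have := congrFun hx (Sum.inl i)
      simpa [cutMap] using this
    have h2 : x (Sum.inr 0) = θ * x (Sum.inr 1) := by
      have := congrFun hx (Sum.inr 0)
      simp only [cutMap, LinearMap.coe_mk, AddHom.coe_mk, Sum.elim_inr, Pi.zero_apply] at this
      linear_combination this
    change Cfsg.quadFormMinus k K a b x = 0
    unfold Cfsg.quadFormMinus
    rw [Finset.sum_eq_zero (fun i _ => by rw [h1 i, mul_zero]), h2]
    linear_combination (x (Sum.inr 1)) ^ 2 * hθ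
  · have h1 := LinearMap.finrank_range_add_finrank_ker (cutMap k θ)
    rw [LinearMap.range_eq_top.2 (cutMap_surjective k θ), finrank_top,
      Module.finrank_fintype_fun_eq_card, Module.finrank_fintype_fun_eq_card] at h1
    rw [Module.finrank_fintype_fun_eq_card]
    simp only [Fintype.card_sum, Fintype.card_fin] at h1 ⊢
    omega

end maxts

section main

variable {F K : Type*} [Field F] [Fintype F] [Field K] [Algebra F K]

/-- scalar matrices in `GL` -/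
def scalGL {ι : Type} [Fintype ι] [DecidableEq ι] (c : K) (hc : c ≠ 0) : GL ι K :=
  ⟨c • 1, c⁻¹ • 1, by simp [hc], by simp [hc]⟩

theorem act_scalGL {ι : Type} [Fintype ι] [DecidableEq ι] (c : K) (hc : c ≠ 0)
    (U : Submodule K (ι → K)) : act (scalGL c hc) U = U := by
  ext x
  rw [mem_act]
  constructor
  · rintro ⟨u, hu, rfl⟩
    change (c • (1 : Matrix ι ι K)) *ᵥ u ∈ U
    rw [Matrix.smul_mulVec, Matrix.one_mulVec]
    exact U.smul_mem c hu
  · intro hx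
    refine ⟨c⁻¹ • x, U.smul_mem _ hx, ?_⟩
    change (c • (1 : Matrix ι ι K)) *ᵥ (c⁻¹ • x) = x
    rw [Matrix.smul_mulVec, Matrix.one_mulVec, smul_smul, mul_inv_cancel₀ hc, one_smul]

set_option maxHeartbeats 800000 in
/-- over a quadratic extension `K`: class preservation iff `det g = μ^(k+1)` -/
theorem preservesK_iff (hfr : Module.finrank F K = 2) (h2 : (2 : F) ≠ 0) (k : ℕ) (a b : F)
    (hab : ∀ z₁ z₂ : F, z₁ ^ 2 + a * z₁ * z₂ + b * z₂ ^ 2 = 0 → z₁ = 0 ∧ z₂ = 0)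
    (g : GL ((Fin k ⊕ Fin k) ⊕ Fin 2) F) (μ : F) (hμ : μ ≠ 0)
    (hg : ∀ v, Cfsg.quadFormMinus k F a b
      ((g : Matrix ((Fin k ⊕ Fin k) ⊕ Fin 2) ((Fin k ⊕ Fin k) ⊕ Fin 2) F) *ᵥ v) =
        μ * Cfsg.quadFormMinus k F a b v) :
    Cfsg.PreservesSingularClasses
        (Cfsg.quadFormMinus k K (algebraMap F K a) (algebraMap F K b))
        ((g : Matrix ((Fin k ⊕ Fin k) ⊕ Fin 2) ((Fin k ⊕ Fin k) ⊕ Fin 2) F).map
          (algebraMap F K)) ↔
      (g : Matrix ((Fin k ⊕ Fin k) ⊕ Fin 2) ((Fin k ⊕ Fin k) ⊕ Fin 2) F).det = μ ^ (k + 1) := by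
  obtain ⟨φ, hφ⟩ : ∃ φ : F →+* K, φ = algebraMap F K := ⟨_, rfl⟩
  rw [← hφ]
  have hφinj : Function.Injective φ := φ.injective
  have h2K : (2 : K) ≠ 0 := by
    have : (2 : K) = φ 2 := (map_ofNat φ 2).symm
    rw [this]
    exact (map_ne_zero φ).2 h2
  have hdK : (φ a) ^ 2 - 4 * φ b ≠ 0 := by
    have h1 := disc_ne_zero a b hab
    have h3 : (φ a) ^ 2 - 4 * φ b = φ (a ^ 2 - 4 * b) := by
      rw [map_sub, map_pow, map_mul, map_ofNat]
    rw [h3]
    exact (map_ne_zero φ).2 h1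
  obtain ⟨QK, hQKdef⟩ : ∃ QK : QuadraticForm K ((Fin k ⊕ Fin k) ⊕ Fin 2 → K),
      QK = (qdataMinusDisc k (φ a) (φ b) hdK).qf := ⟨_, rfl⟩
  have hcoe : ⇑QK = Cfsg.quadFormMinus k K (φ a) (φ b) := by rw [hQKdef]; rfl
  have hQK : (QuadraticMap.polarBilin QK).Nondegenerate := by
    rw [hQKdef]; exact (qdataMinusDisc k (φ a) (φ b) hdK).qf_nondeg
  obtain ⟨θ, hθ⟩ := exists_root_in_ext (F := F) (K := K) hfr a b hab
  rw [← hφ] at hθ
  have hU₀ : IsMaxTS QK (LinearMap.ker (cutMap k θ)) := by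
    rw [hQKdef]; exact isMaxTS_ker k (φ a) (φ b) θ hdK hθ
  obtain ⟨l, hl⟩ := exists_sqrt_in_ext (F := F) (K := K) hfr μ
  rw [← hφ] at hl
  have hφμ : φ μ ≠ 0 := (map_ne_zero φ).2 hμ
  have hl0 : l ≠ 0 := by
    intro h0
    rw [h0] at hl
    exact hφμ (by rw [← hl]; ring)
  obtain ⟨gK, hgK⟩ : ∃ gK : GL ((Fin k ⊕ Fin k) ⊕ Fin 2) K,
      gK = Matrix.GeneralLinearGroup.map φ g := ⟨_, rfl⟩
  have hgKv : (gK : Matrix ((Fin k ⊕ Fin k) ⊕ Fin 2) ((Fin k ⊕ Fin k) ⊕ Fin 2) K) =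
      (g : Matrix ((Fin k ⊕ Fin k) ⊕ Fin 2) ((Fin k ⊕ Fin k) ⊕ Fin 2) F).map φ := by
    rw [hgK]; rfl
  have hsim : ∀ w, QK ((gK : Matrix ((Fin k ⊕ Fin k) ⊕ Fin 2) ((Fin k ⊕ Fin k) ⊕ Fin 2) K) *ᵥ w)
      = φ μ * QK w := by
    intro w
    rw [hgKv]
    have := similar_map φ h2K k a b _ μ hg w
    rw [← hcoe] at this
    exact this
  obtain ⟨d, hd⟩ : ∃ d : GL ((Fin k ⊕ Fin k) ⊕ Fin 2) K, d = scalGL l hl0 := ⟨_, rfl⟩
  have hdv : (d : Matrix ((Fin k ⊕ Fin k) ⊕ Fin 2) ((Fin k ⊕ Fin k) ⊕ Fin 2) K) = l • 1 := by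
    rw [hd]; rfl
  have hdiv : ((d⁻¹ : GL ((Fin k ⊕ Fin k) ⊕ Fin 2) K) :
      Matrix ((Fin k ⊕ Fin k) ⊕ Fin 2) ((Fin k ⊕ Fin k) ⊕ Fin 2) K) = l⁻¹ • 1 := by
    rw [hd]; rfl
  have hdsim : d ∈ Cfsg.Geo.quadSimilarityGroup (F := K) ⇑QK := by
    refine ⟨Units.mk0 (l * l) (mul_ne_zero hl0 hl0), fun v => ?_⟩
    rw [hdv, Matrix.smul_mulVec, Matrix.one_mulVec, QuadraticMap.map_smul, smul_eq_mul]
    rfl
  have hgd : gK * d⁻¹ ∈ Cfsg.isometryGroup K ⇑QK := by
    rw [Cfsg.Agent.Lib.Helper19.mem_isometryGroup_iff]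
    intro u
    rw [Units.val_mul, ← Matrix.mulVec_mulVec, hsim, hdiv, Matrix.smul_mulVec,
      Matrix.one_mulVec, QuadraticMap.map_smul, smul_eq_mul, ← hl]
    field_simp
  have hd0 : act d (LinearMap.ker (cutMap k θ)) = LinearMap.ker (cutMap k θ) := by
    rw [hd]; exact act_scalGL l hl0 _
  have key := preserves_iff QK h2K hQK hdsim hgd hU₀ hd0
  rw [hcoe, hgKv] at key
  rw [key, Units.val_mul, Matrix.det_mul, hgKv, hdiv, Matrix.det_smul, Matrix.det_one, mul_one,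
    ← RingHom.mapMatrix_apply, ← RingHom.map_det]
  have hcard : Fintype.card ((Fin k ⊕ Fin k) ⊕ Fin 2) = 2 * (k + 1) := by
    simp only [Fintype.card_sum, Fintype.card_fin]; ring
  rw [hcard, inv_pow, pow_mul, hl, ← map_pow]
  have hne : φ (μ ^ (k + 1)) ≠ 0 := (map_ne_zero φ).2 (pow_ne_zero _ hμ)
  constructor
  · intro h
    apply hφinj
    field_simp at h
    exact h
  · intro h
    rw [h]
    field_simp

end main

end Cfsg.Agent.Lib.Helper51.OPar
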