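import Cfsg.Agent.Lib.Helper51.OPar5

set_option autoImplicit false
set_option linter.unusedSectionVars false

/-! The class-preservation predicate of the minus-type form (via a quadratic extension) is the
determinant condition `det g = μ^(k+1)`. -/

namespace Cfsg.Agent.Lib.Helper51.OPar

open Matrix Polynomial

universe u

/-- a quadratic extension in the same universe -/
theorem exists_quadExt {F : Type u} [Field F] (a b : F)
    (hab : ∀ z₁ z₂ : F, z₁ ^ 2 + a * z₁ * z₂ + b * z₂ ^ 2 = 0 → z₁ = 0 ∧ z₂ = 0) :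
    ∃ (K : Type u) (_ : Field K) (_ : Algebra F K), Module.finrank F K = 2 := by
  classical
  let P : F[X] := X ^ 2 + C a * X + C b
  have hPdeg : P.natDegree = 2 := by
    simp only [P]
    compute_degree!
  have hPmonic : P.Monic := by
    simp only [P]
    monicity!
  have hnoroot : ∀ x : F, ¬ P.IsRoot x := by
    intro x hx
    have h1 : x ^ 2 + a * x * 1 + b * 1 ^ 2 = 0 := by
      simpa [P, IsRoot] using hx
    exact one_ne_zero (hab x 1 h1).2
  have hirr : Irreducible P := by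
    apply irreducible_of_degree_le_three_of_not_isRoot _ hnoroot
    rw [hPdeg]; simp
  have : Fact (Irreducible P) := ⟨hirr⟩
  refine ⟨AdjoinRoot P, inferInstance, inferInstance, ?_⟩
  rw [(AdjoinRoot.powerBasis hPmonic.ne_zero).finrank, AdjoinRoot.powerBasis_dim, hPdeg]

/-- class preservation (read over a quadratic extension) iff `det g = μ^(k+1)` -/
theorem preservesMinus_iff {F : Type u} [Field F] [Fintype F] (h2 : (2 : F) ≠ 0) (k : ℕ) (a b : F)
    (hab : ∀ z₁ z₂ : F, z₁ ^ 2 + a * z₁ * z₂ + b * z₂ ^ 2 = 0 → z₁ = 0 ∧ z₂ = 0)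
    (g : GL ((Fin k ⊕ Fin k) ⊕ Fin 2) F) (μ : F) (hμ : μ ≠ 0)
    (hg : ∀ v, Cfsg.quadFormMinus k F a b
      ((g : Matrix ((Fin k ⊕ Fin k) ⊕ Fin 2) ((Fin k ⊕ Fin k) ⊕ Fin 2) F) *ᵥ v) =
        μ * Cfsg.quadFormMinus k F a b v) :
    Cfsg.PreservesSingularClassesMinus k a b
        (g : Matrix ((Fin k ⊕ Fin k) ⊕ Fin 2) ((Fin k ⊕ Fin k) ⊕ Fin 2) F) ↔
      (g : Matrix ((Fin k ⊕ Fin k) ⊕ Fin 2) ((Fin k ⊕ Fin k) ⊕ Fin 2) F).det = μ ^ (k + 1) := by
  constructor
  · rintro ⟨K, instF, instA, hfr, hP⟩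
    exact (preservesK_iff hfr h2 k a b hab g μ hμ hg).1 hP
  · intro h
    obtain ⟨K, instF, instA, hfr⟩ := exists_quadExt a b hab
    exact ⟨K, instF, instA, hfr, (preservesK_iff hfr h2 k a b hab g μ hμ hg).2 h⟩

end Cfsg.Agent.Lib.Helper51.OPar
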