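import Cfsg.Agent.Lib.Helper08.SimStd
import Cfsg.Agent.Lib.Helper50.Gram

set_option autoImplicit false

/-! Determinants of the standard similarities with non-square multiplier. -/

namespace Cfsg.Agent.Lib.Helper51.OPar

open Matrix Cfsg.Agent.Lib.Helper08

variable {F : Type*} [Field F]

theorem det_swapMat (m : ℕ) (ζ : F) : (swapMat m ζ).det = (-1) ^ m * ζ ^ m := by
  have h : swapMat m ζ = Matrix.fromBlocks (ζ • (1 : Matrix (Fin m) (Fin m) F)) 0 0 1 *
      Matrix.fromBlocks (0 : Matrix (Fin m) (Fin m) F) 1 1 0 := by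
    unfold swapMat
    rw [Matrix.fromBlocks_multiply]
    simp
  rw [h, Matrix.det_mul, Matrix.det_fromBlocks_zero₂₁, Cfsg.Agent.Lib.Helper50.det_hyp,
    Matrix.det_smul, Matrix.det_one, Fintype.card_fin]
  ring

theorem det_minusMat (m : ℕ) (a b ζ c₁ c₂ : F) (hc : c₁ ^ 2 + a * c₁ * c₂ + b * c₂ ^ 2 = ζ) :
    (minusMat m a b ζ c₁ c₂).det = (-1) ^ (m + 1) * ζ ^ (m + 1) := by
  unfold minusMat
  rw [Matrix.det_fromBlocks_zero₂₁, det_swapMat]
  unfold normMat
  rw [Matrix.det_fin_two_of, ← hc]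
  ring

end Cfsg.Agent.Lib.Helper51.OPar
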