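import Mathlib
import Cfsg.Agent.Lib.Helper51.OT1
import Cfsg.Agent.S3997

/-!
# Order types and Sylow towers (for S3998), part 2

A group with the order type of a supersolvable group has a Sylow tower, hence is solvable.
-/

set_option autoImplicit false

namespace Cfsg.Agent.Lib.Helper51.OT

/-- the set of elements whose order has only prime divisors `≥ t` -/
def bigElts (t : ℕ) (X : Type*) [Group X] : Set X := {x | Big t (orderOf x)}

theorem HallBig.coe_eq {X : Type*} [Group X] [Finite X] {t : ℕ} {M : Subgroup X}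
    (hM : HallBig t M) : (M : Set X) = bigElts t X := by
  ext x
  exact hM.mem_iff x

theorem ncard_bigElts_eq {G H : Type*} [Group G] [Group H] (e : G ≃ H)
    (he : ∀ g, orderOf (e g) = orderOf g) (t : ℕ) :
    (bigElts t H).ncard = (bigElts t G).ncard := by
  have : bigElts t H = e '' bigElts t G := by
    ext h
    constructor
    · intro hh
      refine ⟨e.symm h, ?_, by simp⟩
      show Big t (orderOf (e.symm h))
      rw [← he, Equiv.apply_symm_apply]
      exact hh
    · rintro ⟨g, hg, rfl⟩
      show Big t (orderOf (e g))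
      rw [he]
      exact hg
  rw [this, Set.ncard_image_of_injective _ e.injective]

section step

variable {G H : Type*} [Group G] [Finite G] [Group H] [Finite H]

/-- the preimage of any Sylow `p`-subgroup of `H ⧸ M` is the set of "big" elements -/
theorem comap_sylow_eq (e : G ≃ H) (he : ∀ g, orderOf (e g) = orderOf g)
    (hG : Cfsg.IsSupersolvable G) (p : ℕ) [hp : Fact p.Prime] (M : Subgroup H) [M.Normal]
    (hM : HallBig (p + 1) M) (Q : Sylow p (H ⧸ M)) :
    (((Q : Subgroup (H ⧸ M)).comap (QuotientGroup.mk' M) : Subgroup H) : Set H) = bigElts p H ∧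
    Nat.card ((Q : Subgroup (H ⧸ M)).comap (QuotientGroup.mk' M) : Subgroup H) =
      Nat.card M * Nat.card (Q : Subgroup (H ⧸ M)) ∧
    Small p (Q : Subgroup (H ⧸ M)).index := by
  set π := QuotientGroup.mk' M with hπ
  set N : Subgroup H := (Q : Subgroup (H ⧸ M)).comap π with hN
  have hidx : N.index = (Q : Subgroup (H ⧸ M)).index :=
    Subgroup.index_comap_of_surjective _ (QuotientGroup.mk'_surjective M)
  have hY : Nat.card (H ⧸ M) = M.index := (Subgroup.index_eq_card M).symm
  have hQne : (Q : Subgroup (H ⧸ M)).index ≠ 0 := Subgroup.index_ne_zero_of_finite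
  have hcardN : Nat.card N = Nat.card M * Nat.card (Q : Subgroup (H ⧸ M)) := by
    have h1 := Subgroup.card_mul_index N
    have h2 := Subgroup.card_mul_index M
    have h3 := Subgroup.card_mul_index (Q : Subgroup (H ⧸ M))
    rw [hidx] at h1
    rw [hY] at h3
    have : Nat.card N * (Q : Subgroup (H ⧸ M)).index =
        Nat.card M * Nat.card (Q : Subgroup (H ⧸ M)) * (Q : Subgroup (H ⧸ M)).index := by
      rw [h1, mul_assoc, h3, h2]
    exact Nat.eq_of_mul_eq_mul_right (Nat.pos_of_ne_zero hQne) this
  have hQcard : Big p (Nat.card (Q : Subgroup (H ⧸ M))) := by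
    rw [Sylow.card_eq_multiplicity]
    exact big_prime_pow hp.out _
  have hMbig : Big p (Nat.card M) := hM.big.mono (Nat.le_succ p)
  have hQsmall : Small p (Q : Subgroup (H ⧸ M)).index := by
    intro q hq hqd
    have h1 : q ∣ M.index := by
      rw [← hY, ← Subgroup.card_mul_index (Q : Subgroup (H ⧸ M))]
      exact Dvd.dvd.mul_left hqd _
    have h2 := hM.small q hq h1
    rcases lt_or_eq_of_le (Nat.lt_succ_iff.1 h2) with h | h
    · exact h
    · exfalso
      rw [h] at hqd
      exact Q.not_dvd_index hqd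
  -- `N ⊆ bigElts`
  have hsub : (N : Set H) ⊆ bigElts p H := by
    intro x hx
    have hxQ : π x ∈ (Q : Subgroup (H ⧸ M)) := hx
    obtain ⟨k, hk⟩ := (IsPGroup.iff_orderOf.mp Q.isPGroup') ⟨π x, hxQ⟩
    have hk' : (π x) ^ (p ^ k) = 1 := by
      have := pow_orderOf_eq_one (⟨π x, hxQ⟩ : (Q : Subgroup (H ⧸ M)))
      rw [hk] at this
      exact congrArg Subtype.val this
    have hxM : x ^ (p ^ k) ∈ M := by
      rw [← map_pow] at hk'
      exact (QuotientGroup.eq_one_iff _).1 hk'
    have hx1 : (x ^ (p ^ k)) ^ Nat.card M = 1 := by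
      have := pow_card_eq_one' (G := M) (x := ⟨x ^ (p ^ k), hxM⟩)
      exact congrArg Subtype.val this
    have hdvd : orderOf x ∣ p ^ k * Nat.card M := by
      apply orderOf_dvd_of_pow_eq_one
      rw [pow_mul]
      exact hx1
    exact (Big.mul (big_prime_pow hp.out k) hMbig).of_dvd hdvd
  -- count
  obtain ⟨MG, hMG⟩ := exists_hallBig_of_supersolvable hG p
  have hcount : (bigElts p H).ncard = Nat.card M * Nat.card (Q : Subgroup (H ⧸ M)) := by
    rw [ncard_bigElts_eq e he p, ← hMG.coe_eq]
    change Nat.card MG = _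
    apply eq_of_big_small hMG.big hMG.small (Big.mul hMbig hQcard) hQsmall
    rw [Subgroup.card_mul_index, Nat.card_congr e, mul_assoc,
      Subgroup.card_mul_index (Q : Subgroup (H ⧸ M)), hY, Subgroup.card_mul_index]
  refine ⟨?_, hcardN, hQsmall⟩
  apply Set.eq_of_subset_of_ncard_le hsub _ (Set.toFinite _)
  rw [hcount, ← hcardN]
  exact le_of_eq rfl

theorem step (e : G ≃ H) (he : ∀ g, orderOf (e g) = orderOf g)
    (hG : Cfsg.IsSupersolvable G) (t : ℕ) (M : Subgroup H) (hM : HallBig (t + 1) M)
    (hsol : Group.IsSolvable M) : ∃ N : Subgroup H, HallBig t N ∧ Group.IsSolvable N := by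
  by_cases hp : t.Prime ∧ t ∣ M.index
  · obtain ⟨hpt, _⟩ := hp
    have : Fact t.Prime := ⟨hpt⟩
    have := hM.normal
    obtain ⟨Q⟩ : Nonempty (Sylow t (H ⧸ M)) := inferInstance
    obtain ⟨hQ1, hQ2, hQ3⟩ := comap_sylow_eq e he hG t M hM Q
    have : Subsingleton (Sylow t (H ⧸ M)) := by
      constructor
      intro Q1 Q2
      apply Sylow.ext
      apply Subgroup.comap_injective (QuotientGroup.mk'_surjective M)
      apply SetLike.coe_injective
      rw [(comap_sylow_eq e he hG t M hM Q1).1, (comap_sylow_eq e he hG t M hM Q2).1]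
    have hQn : (Q : Subgroup (H ⧸ M)).Normal := Sylow.normal_of_subsingleton Q
    set N : Subgroup H := (Q : Subgroup (H ⧸ M)).comap (QuotientGroup.mk' M) with hN
    have hMN : M ≤ N := by
      intro x hx
      show QuotientGroup.mk' M x ∈ (Q : Subgroup (H ⧸ M))
      have h1 : QuotientGroup.mk' M x = 1 := (QuotientGroup.eq_one_iff x).2 hx
      rw [h1]
      exact Subgroup.one_mem _
    refine ⟨N, ⟨hQn.comap _, ?_, ?_⟩, ?_⟩
    · rw [hQ2]
      apply Big.mul (hM.big.mono (Nat.le_succ t))
      rw [Sylow.card_eq_multiplicity]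
      exact big_prime_pow hpt _
    · rw [hN, Subgroup.index_comap_of_surjective _ (QuotientGroup.mk'_surjective M)]
      exact hQ3
    · -- solvable
      have : Group.IsSolvable ↥(Q : Subgroup (H ⧸ M)) := by
        have := Q.isPGroup'.isNilpotent
        infer_instance
      let g : ↥N →* ↥(Q : Subgroup (H ⧸ M)) :=
        ((QuotientGroup.mk' M).comp N.subtype).codRestrict (Q : Subgroup (H ⧸ M)) (fun x => x.2)
      apply Group.isSolvable_of_ker_le_range (Subgroup.inclusion hMN) g
      intro x hx
      have h1 : g x = 1 := hx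
      have h2 : QuotientGroup.mk' M (x : H) = 1 := congrArg Subtype.val h1
      have h3 : (x : H) ∈ M := (QuotientGroup.eq_one_iff _).1 h2
      exact ⟨⟨(x : H), h3⟩, Subtype.ext rfl⟩
  · refine ⟨M, ⟨hM.normal, hM.big.mono (Nat.le_succ t), ?_⟩, hsol⟩
    intro q hq hqd
    have h2 := hM.small q hq hqd
    rcases lt_or_eq_of_le (Nat.lt_succ_iff.1 h2) with h | h
    · exact h
    · exfalso
      apply hp
      rw [← h]
      exact ⟨hq, hqd⟩

end step

/-- **S3998**: a group with the order type of a supersolvable group is solvable. -/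
theorem solvable_of_orderType {G H : Type*} [Group G] [Finite G] [Group H] [Finite H]
    (hT : ∀ m : ℕ, Nat.card {g : G // orderOf g = m} = Nat.card {h : H // orderOf h = m})
    (hG : Cfsg.IsSupersolvable G) : Group.IsSolvable H := by
  obtain ⟨e, he⟩ := Cfsg.Agent.S3997.exists_equiv hT
  have key : ∀ k : ℕ, ∃ N : Subgroup H, HallBig (Nat.card H + 1 - k) N ∧ Group.IsSolvable N := by
    intro k
    induction k with
    | zero =>
      refine ⟨⊥, ⟨inferInstance, ?_, ?_⟩, inferInstance⟩
      · rw [Subgroup.card_bot]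
        exact big_one _
      · rw [Subgroup.index_bot]
        intro q _ hqd
        exact Nat.lt_succ_of_le (Nat.le_of_dvd Nat.card_pos hqd)
    | succ k ih =>
      obtain ⟨M, hM, hsol⟩ := ih
      by_cases h : Nat.card H + 1 - k = 0
      · have h' : Nat.card H + 1 - (k + 1) = 0 := by omega
        rw [h] at hM
        rw [h']
        exact ⟨M, hM, hsol⟩
      · have h' : Nat.card H + 1 - k = (Nat.card H + 1 - (k + 1)) + 1 := by omega
        rw [h'] at hM
        exact step e he hG _ M hM hsol
  obtain ⟨N, hN, hsol⟩ := key (Nat.card H + 1)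
  rw [Nat.sub_self] at hN
  have h1 : N.index = 1 := by
    by_contra h
    obtain ⟨q, hq, hqd⟩ := Nat.exists_prime_and_dvd h
    exact absurd (hN.small q hq hqd) (Nat.not_lt_zero q)
  have h2 : N = ⊤ := Subgroup.index_eq_one.1 h1
  subst h2
  exact Group.isSolvable_of_surjective (f := (⊤ : Subgroup H).subtype)
    (fun x => ⟨⟨x, Subgroup.mem_top x⟩, rfl⟩)

end Cfsg.Agent.Lib.Helper51.OT
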