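import Mathlib
import Cfsg.Agent.Lib.Helper51.PGU2
set_option autoImplicit false
set_option linter.unusedSectionVars false
set_option linter.unusedVariables false

/-! The number of classes of elements of odd prime order `r ∣ q + 1` in `PGU_n(q)`. -/

namespace Cfsg.Agent.Lib.Helper51.PGU

open Matrix Polynomial Cfsg.Agent.Lib.Helper49 Cfsg.Agent.Lib.Helper19 Cfsg.Agent.Lib.Helper51.URU
  Cfsg.Agent.Lib.Helper51.UPrime

theorem card_classes_PGU {K : Type*} [Field K] [Fintype K] {q n r : ℕ}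
    (hK : Fintype.card K = q ^ 2) (hn : 3 ≤ n) (hr : r.Prime) (hr2 : r ≠ 2) (hrq : r ∣ q + 1) :
    Nat.card {C : ConjClasses (↥(Cfsg.GU n K q) ⧸ Subgroup.center ↥(Cfsg.GU n K q)) //
      ∃ g : ↥(Cfsg.GU n K q) ⧸ Subgroup.center ↥(Cfsg.GU n K q),
        ConjClasses.mk g = C ∧ orderOf g = r} =
      (Nat.choose (n + r - 1) (r - 1) - r - (if r ∣ n then 1 else 0)) / r +
        r * (if r ∣ n then 1 else 0) := by
  classical
  have hn0 : 0 < n := by omega
  let _ : Fintype (RU K q r) := Fintype.ofFinite _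
  have hcardH : Fintype.card (RU K q r) = r := by
    rw [← Nat.card_eq_fintype_card, card_RU hK hrq]
  -- type A representatives
  have hA := fun a : Prof (RU K q r) n => exists_GU_of_prof hK hr hrq a.1 a.2.1
  choose gA hgA1 hgA2 using hA
  have hAz : ∀ a, gA a ∉ Subgroup.center ↥(Cfsg.GU n K q) :=
    fun a => not_mem_center_of_prof hn0 (gA a) (hgA1 a) a (hgA2 a) hK
  have hAord : ∀ a, orderOf (QuotientGroup.mk (gA a) :
      ↥(Cfsg.GU n K q) ⧸ Subgroup.center ↥(Cfsg.GU n K q)) = r :=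
    fun a => (orderOf_mk_center_eq_prime_iff hr _).mpr
      ⟨by rw [hgA1]; exact Subgroup.one_mem _, hAz a⟩
  have hgA1' : ∀ a, gA a ^ r = usc n (1 : ↥(normOne K q)) := fun a => by rw [hgA1, map_one]
  let S := {C : ConjClasses (↥(Cfsg.GU n K q) ⧸ Subgroup.center ↥(Cfsg.GU n K q)) //
    ∃ g : ↥(Cfsg.GU n K q) ⧸ Subgroup.center ↥(Cfsg.GU n K q),
      ConjClasses.mk g = C ∧ orderOf g = r}
  let ΨA₀ : Prof (RU K q r) n → S := fun a =>
    ⟨ConjClasses.mk (QuotientGroup.mk (gA a)), QuotientGroup.mk (gA a), rfl, hAord a⟩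
  have hΨA : ∀ a b : Prof (RU K q r) n,
      (MulAction.orbitRel (RU K q r) (Prof (RU K q r) n)) a b → ΨA₀ a = ΨA₀ b := by
    intro a b hab
    rw [MulAction.orbitRel_apply, MulAction.mem_orbit_iff] at hab
    obtain ⟨c, rfl⟩ := hab
    apply Subtype.ext
    change ConjClasses.mk (QuotientGroup.mk (gA (c • b))) =
      ConjClasses.mk (QuotientGroup.mk (gA b))
    rw [ConjClasses.mk_eq_mk_iff_isConj]
    have hcr : (c : ↥(normOne K q)) ^ r = 1 := (mem_RU _).mp c.2
    have h0 : (usc n (c : ↥(normOne K q)) * gA b) ^ r = 1 := by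
      rw [usc_mul_pow, hcr, map_one, one_mul, hgA1]
    have h1 : IsConj (gA (c • b)) (usc n (c : ↥(normOne K q)) * gA b) := by
      apply isConj_of_prof_eq hK hr hrq _ _ (hgA1 _) h0
      intro ω
      rw [hgA2, prof_usc_mul, hgA2]
      rfl
    have h2 := (QuotientGroup.mk' (Subgroup.center ↥(Cfsg.GU n K q))).map_isConj h1
    rw [QuotientGroup.mk'_apply, QuotientGroup.mk'_apply, mk_usc_mul] at h2
    exact h2
  let ΨA : MulAction.orbitRel.Quotient (RU K q r) (Prof (RU K q r) n) → S :=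
    Quotient.lift ΨA₀ hΨA
  -- type B representatives
  let B := {x : ↥(normOne K q) ⧸ RP K q r // x ≠ 1 ∧ r ∣ n}
  have hB : ∀ x : B, ∃ (g : ↥(Cfsg.GU n K q)) (u : ↥(normOne K q)),
      (QuotientGroup.mk u : ↥(normOne K q) ⧸ RP K q r) = x.1 ∧ g ^ r = usc n u := by
    intro x
    obtain ⟨u, hu⟩ := QuotientGroup.mk_surjective x.1
    have hunot : u ∉ RP K q r := by
      intro h
      apply x.2.1
      rw [← hu]
      exact (QuotientGroup.eq_one_iff u).mpr h
    obtain ⟨g, hg⟩ := exists_GU_of_lam hK hr.pos u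
      (irreducible_of_not_mem_RP hK hr hr2 hrq u hunot) x.2.2
    exact ⟨g, u, hu, hg⟩
  choose gB uB hqB hgB using hB
  have hBq : ∀ x : B, uB x ∉ RP K q r := fun x h => by
    apply x.2.1
    rw [← hqB x]
    exact (QuotientGroup.eq_one_iff _).mpr h
  have hBz : ∀ x, gB x ∉ Subgroup.center ↥(Cfsg.GU n K q) :=
    fun x => not_mem_center_of_lam hn0 hK _ _ (hBq x) (hgB x)
  have hBord : ∀ x, orderOf (QuotientGroup.mk (gB x) :
      ↥(Cfsg.GU n K q) ⧸ Subgroup.center ↥(Cfsg.GU n K q)) = r :=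
    fun x => (orderOf_mk_center_eq_prime_iff hr _).mpr
      ⟨by rw [hgB]; exact usc_mem_center _ _, hBz x⟩
  let ΨB : B → S := fun x =>
    ⟨ConjClasses.mk (QuotientGroup.mk (gB x)), QuotientGroup.mk (gB x), rfl, hBord x⟩
  let Ψ : MulAction.orbitRel.Quotient (RU K q r) (Prof (RU K q r) n) ⊕ B → S := Sum.elim ΨA ΨB
  -- the class of `u` modulo `r`-th powers under multiplication by an `r`-th power
  have hmkpow : ∀ μ u : ↥(normOne K q),
      (QuotientGroup.mk (μ ^ r * u) : ↥(normOne K q) ⧸ RP K q r) = QuotientGroup.mk u := by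
    intro μ u
    rw [QuotientGroup.mk_mul, (QuotientGroup.eq_one_iff _).mpr ((mem_RP _).mpr ⟨μ, rfl⟩), one_mul]
  -- injectivity pieces
  have hAA : ∀ a b : Prof (RU K q r) n, ΨA₀ a = ΨA₀ b →
      (MulAction.orbitRel (RU K q r) (Prof (RU K q r) n)) a b := by
    intro a b h
    have h1 : IsConj (QuotientGroup.mk (gA a) :
        ↥(Cfsg.GU n K q) ⧸ Subgroup.center ↥(Cfsg.GU n K q)) (QuotientGroup.mk (gA b)) :=
      ConjClasses.mk_eq_mk_iff_isConj.mp (congrArg Subtype.val h)
    obtain ⟨μ, hμr, c, hc⟩ := lam_rel hK hn0 _ _ h1 1 1 (hgA1' a) (hgA1' b)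
    rw [mul_one] at hμr
    let ω₀ : RU K q r := ⟨μ, (mem_RU _).mpr hμr.symm⟩
    have hb : b = ω₀ • a := by
      apply Prof.ext
      intro ω
      rw [← hgA2 b ω, hc]
      change prof r (usc n (ω₀ : ↥(normOne K q)) * (c * gA a * c⁻¹)) ω = _
      rw [prof_usc_mul, prof_conj, hgA2]
      rfl
    rw [MulAction.orbitRel_apply, MulAction.mem_orbit_iff]
    exact ⟨ω₀⁻¹, by rw [hb, inv_smul_smul]⟩
  have hAB : ∀ (a : Prof (RU K q r) n) (x : B), ΨA₀ a ≠ ΨB x := by
    intro a x h
    have h1 : IsConj (QuotientGroup.mk (gA a) :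
        ↥(Cfsg.GU n K q) ⧸ Subgroup.center ↥(Cfsg.GU n K q)) (QuotientGroup.mk (gB x)) :=
      ConjClasses.mk_eq_mk_iff_isConj.mp (congrArg Subtype.val h)
    obtain ⟨μ, hμr, -⟩ := lam_rel hK hn0 _ _ h1 1 (uB x) (hgA1' a) (hgB x)
    apply hBq x
    rw [hμr, mul_one]
    exact (mem_RP _).mpr ⟨μ, rfl⟩
  have hBB : ∀ x y : B, ΨB x = ΨB y → x = y := by
    intro x y h
    have h1 : IsConj (QuotientGroup.mk (gB x) :
        ↥(Cfsg.GU n K q) ⧸ Subgroup.center ↥(Cfsg.GU n K q)) (QuotientGroup.mk (gB y)) :=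
      ConjClasses.mk_eq_mk_iff_isConj.mp (congrArg Subtype.val h)
    obtain ⟨μ, hμr, -⟩ := lam_rel hK hn0 _ _ h1 (uB x) (uB y) (hgB x) (hgB y)
    apply Subtype.ext
    rw [← hqB x, ← hqB y, hμr, hmkpow]
  have hbij : Function.Bijective Ψ := by
    constructor
    · rintro (qa | x) (qb | y) h
      · induction qa using Quotient.inductionOn with
        | h a =>
          induction qb using Quotient.inductionOn with
          | h b =>
            congr 1
            exact Quotient.sound (hAA a b h)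
      · induction qa using Quotient.inductionOn with
        | h a => exact absurd h (hAB a y)
      · induction qb using Quotient.inductionOn with
        | h b => exact absurd h.symm (hAB b x)
      · congr 1
        exact hBB x y h
    · rintro ⟨C, gbar, hC, hord⟩
      obtain ⟨g, rfl⟩ := QuotientGroup.mk_surjective gbar
      obtain ⟨hgr, hgz⟩ := (orderOf_mk_center_eq_prime_iff hr g).mp hord
      obtain ⟨u, hg⟩ := exists_usc_of_mem_center hK hn0 (g ^ r) hgr
      by_cases hq : u ∈ RP K q r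
      · obtain ⟨c, hc⟩ := (mem_RP u).mp hq
        have hg₁ : (usc n c⁻¹ * g) ^ r = 1 := by
          rw [usc_mul_pow, hg, ← map_mul, ← hc, inv_pow, inv_mul_cancel, map_one]
        have hg₁z : usc n c⁻¹ * g ∉ Subgroup.center ↥(Cfsg.GU n K q) := by
          intro hz
          apply hgz
          have := Subgroup.mul_mem _ (Subgroup.inv_mem _ (usc_mem_center n c⁻¹)) hz
          rwa [inv_mul_cancel_left] at this
        let a : Prof (RU K q r) n := ⟨prof r (usc n c⁻¹ * g),
          prof_sum hK hr hrq _ hg₁, prof_ne hn0 _ hg₁z⟩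
        refine ⟨Sum.inl (Quotient.mk _ a), ?_⟩
        apply Subtype.ext
        change ConjClasses.mk (QuotientGroup.mk (gA a)) = C
        rw [← hC, ConjClasses.mk_eq_mk_iff_isConj]
        have h1 : IsConj (gA a) (usc n c⁻¹ * g) :=
          isConj_of_prof_eq hK hr hrq _ _ (hgA1 a) hg₁ (hgA2 a)
        have h2 := (QuotientGroup.mk' (Subgroup.center ↥(Cfsg.GU n K q))).map_isConj h1
        rw [QuotientGroup.mk'_apply, QuotientGroup.mk'_apply, mk_usc_mul] at h2
        exact h2
      · have hirr := irreducible_of_not_mem_RP hK hr hr2 hrq u hq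
        have hdvd := dvd_of_irreducible g u hirr hg
        have hx1 : (QuotientGroup.mk u : ↥(normOne K q) ⧸ RP K q r) ≠ 1 := by
          intro h
          exact hq ((QuotientGroup.eq_one_iff u).mp h)
        let x : B := ⟨QuotientGroup.mk u, hx1, hdvd⟩
        refine ⟨Sum.inr x, ?_⟩
        have hxq : (QuotientGroup.mk (uB x) : ↥(normOne K q) ⧸ RP K q r) = QuotientGroup.mk u :=
          hqB x
        rw [QuotientGroup.eq, mem_RP] at hxq
        obtain ⟨c, hc⟩ := hxq
        -- `c ^ r = (uB x)⁻¹ * u`, so `(usc c⁻¹ * g) ^ r = usc (uB x)`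
        have hg₁ : (usc n c⁻¹ * g) ^ r = usc n (uB x) := by
          rw [usc_mul_pow, hg, ← map_mul, inv_pow, hc]
          congr 1
          rw [_root_.mul_inv_rev, inv_inv, mul_comm, mul_inv_cancel_left]
        apply Subtype.ext
        change ConjClasses.mk (QuotientGroup.mk (gB x)) = C
        rw [← hC, ConjClasses.mk_eq_mk_iff_isConj]
        have h1 : IsConj (gB x) (usc n c⁻¹ * g) :=
          isConj_of_lam hK _ _ (uB x) (irreducible_of_not_mem_RP hK hr hr2 hrq _ (hBq x))
            (hgB x) hg₁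
        have h2 := (QuotientGroup.mk' (Subgroup.center ↥(Cfsg.GU n K q))).map_isConj h1
        rw [QuotientGroup.mk'_apply, QuotientGroup.mk'_apply, mk_usc_mul] at h2
        exact h2
  -- counting
  have hcardB : Nat.card B = if r ∣ n then r - 1 else 0 := by
    split_ifs with hdvd
    · have e : B ≃ {x : ↥(normOne K q) ⧸ RP K q r // x ≠ 1} :=
        { toFun := fun x => ⟨x.1, x.2.1⟩
          invFun := fun x => ⟨x.1, x.2, hdvd⟩
          left_inv := fun x => rfl
          right_inv := fun x => rfl }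
      have h1 := Nat.card_congr (Equiv.optionSubtypeNe (1 : ↥(normOne K q) ⧸ RP K q r))
      rw [Finite.card_option] at h1
      have h2 : Nat.card (↥(normOne K q) ⧸ RP K q r) = r := index_RP hK hrq
      rw [Nat.card_congr e]
      omega
    · rw [Nat.card_eq_zero]
      left
      exact ⟨fun x => hdvd x.2.2⟩
  rw [← Nat.card_congr (Equiv.ofBijective Ψ hbij), Nat.card_sum,
    card_orbits (by rw [hcardH]; exact hr) (by omega), hcardH, hcardB]
  have hr1 := hr.one_lt
  split_ifs with hdvd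
  · have : r * 1 = 1 + (r - 1) := by omega
    rw [this]
    ring
  · simp

end Cfsg.Agent.Lib.Helper51.PGU
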