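import Cfsg.Agent.Lib.Helper51.POAut1
import Cfsg.Agent.Lib.Helper51.OPar4
import Cfsg.Agent.Lib.Helper51.QuadExt
import Cfsg.Agent.Lib.Helper07.H90B
import Cfsg.Agent.Lib.Helper50.SpinorCrit
import Cfsg.Agent.Lib.Helper43.ReflParity
import Cfsg.Agent.Lib.Helper43.Dickson

set_option autoImplicit false
set_option linter.unusedSectionVars false

/-! Reflections and the spinor norm under base change along a subfield; squares in extensions of
finite fields. -/

namespace Cfsg.Agent.Lib.Helper51.POAut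

open Matrix Cfsg.Agent.Lib.Helper08 Cfsg.Agent.Lib.Helper07

section squares

variable {F₀ F : Type*} [Field F₀] [Field F]

/-- in a quadratic extension of finite fields every element of the small field is a square -/
theorem isSquare_of_ext_two [Fintype F₀] [Fintype F] (j : F₀ →+* F)
    (hcard : Fintype.card F = Fintype.card F₀ ^ 2) (ν : F₀) : IsSquare (j ν) := by
  let _ : Algebra F₀ F := j.toAlgebra
  have hfr : Module.finrank F₀ F = 2 := Cfsg.Agent.Lib.Helper51.finrank_eq_two rfl hcard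
  obtain ⟨θ, hθ⟩ := Cfsg.Agent.Lib.Helper51.OPar.exists_sqrt_in_ext (F := F₀) (K := F) hfr ν
  exact ⟨θ, by rw [sq] at hθ; exact hθ.symm⟩

theorem nrmF_fixed_pow (σ : RingAut F) (r : ℕ) {μ : F} (hμ : σ μ = μ) : nrmF σ r μ = μ ^ r := by
  induction r with
  | zero => unfold nrmF; simp
  | succ r ih => rw [nrmF_succ, ih, map_pow, hμ, pow_succ, mul_comm]

/-- in an extension of odd degree, squares descend -/
theorem isSquare_descent_odd (σ : RingAut F) {r : ℕ} (hr : orderOf σ = r) (hodd : Odd r)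
    (j : F₀ →+* F) (hfix : ∀ a, σ (j a) = j a) (hsurj : ∀ b : F, σ b = b → ∃ a, j a = b)
    (ν : F₀) (h : IsSquare (j ν)) : IsSquare ν := by
  by_cases hν : ν = 0
  · rw [hν]; exact ⟨0, by ring⟩
  obtain ⟨y, hy⟩ := h
  have hσ : σ ^ r = 1 := by rw [← hr]; exact pow_orderOf_eq_one σ
  obtain ⟨n₀, hn₀⟩ := hsurj _ (nrmF_fixed σ hσ y)
  have h1 : n₀ * n₀ = ν ^ r := by
    apply j.injective
    rw [map_mul, hn₀, ← nrmF_mul, ← hy, nrmF_fixed_pow σ r (hfix ν), map_pow]
  obtain ⟨k, hk⟩ := hodd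
  refine ⟨n₀ / ν ^ k, ?_⟩
  have hνk : ν ^ k ≠ 0 := pow_ne_zero _ hν
  field_simp
  rw [hk] at h1
  rw [← sq] at h1
  rw [h1]
  ring

end squares

section refl

variable {F₀ F : Type*} [Field F₀] [Field F] [Fintype F] {ι : Type} [Fintype ι] [DecidableEq ι]
variable {Q₀ : QuadraticForm F₀ (ι → F₀)} {Q : QuadraticForm F (ι → F)} {j : F₀ →+* F}

/-- base change of a reflection matrix -/
theorem refl_map (hc : Compat Q₀ Q j) (u : ι → F₀) :
    (Cfsg.reflectionMatrix (⇑Q₀) u).map j = Cfsg.reflectionMatrix (⇑Q) (fun k => j (u k)) := by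
  unfold Cfsg.reflectionMatrix
  ext a b
  simp only [Matrix.map_apply, Matrix.sub_apply, Matrix.smul_apply, Matrix.vecMulVec_apply,
    Cfsg.polarVec, smul_eq_mul, map_sub, map_mul, map_inv₀]
  rw [← comp_single (j := j) b, hc.polar, hc, Matrix.one_apply, Matrix.one_apply]
  split_ifs <;> simp

/-- base change of a product of reflections -/
theorem bcO_prod_val (h2 : (2 : F) ≠ 0) (hc : Compat Q₀ Q j) (l : List (ι → F₀))
    (hl : ∀ u ∈ l, Q₀ u ≠ 0) :
    ((bcO h2 hc ((l.map (Cfsg.Agent.Lib.Helper43.reflO Q₀)).prod) : GL ι F) : Matrix ι ι F) =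
      ((l.map (fun u => (fun k => j (u k)))).map
        (fun v => Cfsg.reflectionMatrix (⇑Q) v)).prod := by
  rw [bcO_val, Cfsg.Agent.Lib.Helper43.val_prod_reflO Q₀ l hl]
  clear hl
  induction l with
  | nil => simp
  | cons a t ih =>
    rw [List.map_cons, List.prod_cons, Matrix.map_mul, ih, refl_map hc]
    simp

/-- membership in `Ω` after base change, for a product of reflections -/
theorem bcO_mem_Omega_iff (h2 : (2 : F) ≠ 0) (hc : Compat Q₀ Q j) (l : List (ι → F₀))
    (hl : ∀ u ∈ l, Q₀ u ≠ 0) :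
    bcO h2 hc ((l.map (Cfsg.Agent.Lib.Helper43.reflO Q₀)).prod) ∈ Cfsg.Omega F ⇑Q ↔
      (Even l.length ∧ IsSquare (j (l.map (fun u => Q₀ u)).prod)) := by
  have h := Cfsg.Agent.Lib.Helper50.spinor_criterion h2 Q
    (bcO h2 hc ((l.map (Cfsg.Agent.Lib.Helper43.reflO Q₀)).prod))
    (l.map (fun u => (fun k => j (u k))))
    (by
      intro v hv
      rw [List.mem_map] at hv
      obtain ⟨u, hu, rfl⟩ := hv
      rw [hc]
      exact (map_ne_zero j).2 (hl u hu))
    (bcO_prod_val h2 hc l hl)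
  have e1 : ((l.map (fun u => (fun k => j (u k)))).map (fun v => Q v)).prod =
      j (l.map (fun u => Q₀ u)).prod := by
    rw [map_list_prod, List.map_map, List.map_map]
    congr 1
    apply List.map_congr_left
    intro u _
    exact hc u
  rw [List.length_map, e1] at h
  exact h

end refl

end Cfsg.Agent.Lib.Helper51.POAut
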