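import Cfsg.Agent.Lib.Helper08.AutOmega

set_option autoImplicit false
set_option linter.unusedSectionVars false

/-! Field automorphisms acting entrywise on the isometry group of a form with invariant
coefficients, and the induced automorphisms of `PΩ`. -/

namespace Cfsg.Agent.Lib.Helper51.POAut

open Matrix Cfsg.Agent.Lib.Helper08 Cfsg.Agent.Lib.Helper19

universe u

variable {F : Type u} [Field F] {ι : Type} [Fintype ι] [DecidableEq ι] (Q : (ι → F) → F)

/-- the field automorphisms commuting with `Q` -/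
def SInv : Subgroup (RingAut F) where
  carrier := {σ | ∀ v : ι → F, Q (fun i => σ (v i)) = σ (Q v)}
  one_mem' := fun v => rfl
  mul_mem' := by
    intro a b ha hb v
    have h1 := ha (fun i => b (v i))
    rw [hb v] at h1
    exact h1
  inv_mem' := by
    intro a ha v
    have h1 := ha (fun i => a⁻¹ (v i))
    have h2 : (fun i => a (a⁻¹ (v i))) = v := by
      ext i
      exact a.apply_symm_apply (v i)
    rw [h2] at h1
    rw [h1]
    exact (a.symm_apply_apply _).symm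

theorem mem_SInv (σ : RingAut F) :
    σ ∈ SInv Q ↔ ∀ v : ι → F, Q (fun i => σ (v i)) = σ (Q v) := Iff.rfl

/-- entrywise action on `GL` -/
def mapGL (σ : RingAut F) : GL ι F →* GL ι F := Matrix.GeneralLinearGroup.map (σ : F ≃+* F).toRingHom

theorem mapGL_val (σ : RingAut F) (g : GL ι F) :
    ((mapGL σ g : GL ι F) : Matrix ι ι F) = (g : Matrix ι ι F).map σ := rfl

theorem mapGL_mul (σ τ : RingAut F) (g : GL ι F) : mapGL (σ * τ) g = mapGL σ (mapGL τ g) := by
  apply Units.ext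
  ext i k
  rfl

theorem mapGL_one (g : GL ι F) : mapGL (1 : RingAut F) g = g := by
  apply Units.ext
  ext i k
  rfl

theorem mapGL_inv_cancel (σ : RingAut F) (g : GL ι F) : mapGL σ⁻¹ (mapGL σ g) = g := by
  rw [← mapGL_mul, inv_mul_cancel, mapGL_one]

theorem mapGL_cancel_inv (σ : RingAut F) (g : GL ι F) : mapGL σ (mapGL σ⁻¹ g) = g := by
  rw [← mapGL_mul, mul_inv_cancel, mapGL_one]

theorem map_mulVec_comp (σ : RingAut F) (M : Matrix ι ι F) (v : ι → F) :
    M.map σ *ᵥ (fun i => σ (v i)) = fun i => σ ((M *ᵥ v) i) := by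
  ext k
  exact (RingHom.map_mulVec (σ : F ≃+* F).toRingHom M v k).symm

theorem map_mulVec_eq (σ : RingAut F) (M : Matrix ι ι F) (u : ι → F) :
    M.map σ *ᵥ u = fun i => σ ((M *ᵥ (fun k => σ⁻¹ (u k))) i) := by
  rw [← map_mulVec_comp]
  congr 1
  ext i
  exact (σ.apply_symm_apply (u i)).symm

variable {Q}

theorem mapGL_mem_sim {σ : RingAut F} (hσ : σ ∈ SInv Q) {g : GL ι F}
    (hg : g ∈ Cfsg.Geo.quadSimilarityGroup (F := F) Q) :
    mapGL σ g ∈ Cfsg.Geo.quadSimilarityGroup (F := F) Q := by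
  obtain ⟨c, hc⟩ := hg
  refine ⟨Units.map (σ : F ≃+* F).toRingHom.toMonoidHom c, fun u => ?_⟩
  rw [mapGL_val, map_mulVec_eq, hσ, hc, map_mul]
  have h1 := hσ (fun k => σ⁻¹ (u k))
  have h2 : (fun i => σ (σ⁻¹ (u i))) = u := by
    ext i
    exact σ.apply_symm_apply (u i)
  rw [h2] at h1
  rw [← h1]
  rfl

theorem mapGL_mem_iso {σ : RingAut F} (hσ : σ ∈ SInv Q) {g : GL ι F}
    (hg : g ∈ Cfsg.isometryGroup F Q) : mapGL σ g ∈ Cfsg.isometryGroup F Q := by
  rw [mem_isometryGroup_iff] at hg ⊢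
  intro u
  rw [mapGL_val, map_mulVec_eq, hσ, hg]
  have h1 := hσ (fun k => σ⁻¹ (u k))
  have h2 : (fun i => σ (σ⁻¹ (u i))) = u := by
    ext i
    exact σ.apply_symm_apply (u i)
  rw [h2] at h1
  exact h1.symm

variable (Q)

/-- entrywise action on the similarity group -/
def mapGO (σ : ↥(SInv Q)) : ↥(Cfsg.Geo.quadSimilarityGroup (F := F) Q) →*
    ↥(Cfsg.Geo.quadSimilarityGroup (F := F) Q) :=
  ((mapGL σ.1).comp (Subgroup.subtype _)).codRestrict _ (fun g => mapGL_mem_sim σ.2 g.2)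

theorem mapGO_val (σ : ↥(SInv Q)) (g : ↥(Cfsg.Geo.quadSimilarityGroup (F := F) Q)) :
    ((mapGO Q σ g : GL ι F) : Matrix ι ι F) = ((g : GL ι F) : Matrix ι ι F).map σ.1 := rfl

/-- entrywise action on the isometry group -/
def mapO (σ : ↥(SInv Q)) : MulAut ↥(Cfsg.isometryGroup F Q) where
  toFun s := ⟨mapGL σ.1 s.1, mapGL_mem_iso σ.2 s.2⟩
  invFun s := ⟨mapGL σ.1⁻¹ s.1, mapGL_mem_iso (inv_mem σ.2) s.2⟩
  left_inv s := by
    apply Subtype.ext
    exact mapGL_inv_cancel σ.1 s.1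
  right_inv s := by
    apply Subtype.ext
    exact mapGL_cancel_inv σ.1 s.1
  map_mul' s t := by
    apply Subtype.ext
    exact map_mul (mapGL σ.1) s.1 t.1

theorem mapO_val (σ : ↥(SInv Q)) (s : ↥(Cfsg.isometryGroup F Q)) :
    ((mapO Q σ s : ↥(Cfsg.isometryGroup F Q)) : GL ι F) = mapGL σ.1 s.1 := rfl

/-- the entrywise action as a homomorphism -/
def mapOHom : ↥(SInv Q) →* MulAut ↥(Cfsg.isometryGroup F Q) where
  toFun := mapO Q
  map_one' := by
    ext s
    rfl
  map_mul' a b := by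
    ext s
    rfl

/-- the field automorphisms of `PΩ` -/
def fieldAutPO : ↥(SInv Q) →* MulAut (Cfsg.POmega F Q) :=
  (autQuot (Subgroup.center ↥(Cfsg.Omega F Q))).comp
    ((MulAut.characteristic (Cfsg.Omega F Q)).comp (mapOHom Q))

theorem fieldAutPO_mk_val (σ : ↥(SInv Q)) (s : ↥(Cfsg.Omega F Q)) :
    ∃ s' : ↥(Cfsg.Omega F Q), fieldAutPO Q σ (QuotientGroup.mk s) = QuotientGroup.mk s' ∧
      (((s' : ↥(Cfsg.isometryGroup F Q)) : GL ι F) : Matrix ι ι F) =
        (((s : ↥(Cfsg.isometryGroup F Q)) : GL ι F) : Matrix ι ι F).map σ.1 :=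
  ⟨MulAut.characteristic (Cfsg.Omega F Q) (mapOHom Q σ) s, rfl, rfl⟩

/-- the predicate of the definitions is the graph of `fieldAutPO` -/
theorem isFieldAut_iff (σ : ↥(SInv Q)) (φ : Cfsg.POmega F Q ≃* Cfsg.POmega F Q) :
    Cfsg.IsFieldAutPOmegaOf Q σ.1 φ ↔ φ = fieldAutPO Q σ := by
  constructor
  · intro h
    ext x
    induction x using QuotientGroup.induction_on with
    | H s =>
      obtain ⟨s', hs', hv⟩ := fieldAutPO_mk_val Q σ s
      rw [hs']
      exact h s s' hv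
  · rintro rfl s s' hss'
    obtain ⟨s'', hs'', hv⟩ := fieldAutPO_mk_val Q σ s
    rw [hs'']
    congr 1
    apply Omega_ext
    rw [hss', hv]

/-- field automorphisms normalise the image of the similarity group -/
theorem fieldAut_mul_autPO (σ : ↥(SInv Q)) (g : ↥(Cfsg.Geo.quadSimilarityGroup (F := F) Q)) :
    fieldAutPO Q σ * autPO Q g = autPO Q (mapGO Q σ g) * fieldAutPO Q σ := by
  ext x
  induction x using QuotientGroup.induction_on with
  | H s =>
    rw [MulAut.mul_apply, MulAut.mul_apply]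
    obtain ⟨s₁, h1, v1⟩ := autPO_mk_val Q g s
    obtain ⟨s₂, h2, v2⟩ := fieldAutPO_mk_val Q σ s₁
    obtain ⟨s₃, h3, v3⟩ := fieldAutPO_mk_val Q σ s
    obtain ⟨s₄, h4, v4⟩ := autPO_mk_val Q (mapGO Q σ g) s₃
    rw [h1, h2, h3, h4]
    congr 1
    apply Omega_ext
    rw [v2, v1, v4, Units.val_mul, Units.val_mul, Units.val_mul, Units.val_mul, v3,
      Matrix.map_mul, Matrix.map_mul]
    congr 1

theorem fieldAut_conj_autPO (σ : ↥(SInv Q)) (g : ↥(Cfsg.Geo.quadSimilarityGroup (F := F) Q)) :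
    fieldAutPO Q σ * autPO Q g * (fieldAutPO Q σ)⁻¹ = autPO Q (mapGO Q σ g) := by
  rw [fieldAut_mul_autPO, mul_inv_cancel_right]

end Cfsg.Agent.Lib.Helper51.POAut
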