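import Cfsg.Agent.Lib.Helper51.POAut3
import Cfsg.Agent.Lib.Helper51.POAut2
import Cfsg.Agent.Lib.Helper08.OmegaCenterCard

set_option autoImplicit false
set_option linter.unusedSectionVars false

/-! Faithfulness of the field automorphisms of `PΩ` (odd characteristic). -/

namespace Cfsg.Agent.Lib.Helper51.POAut

open Matrix Cfsg.Agent.Lib.Helper08 Cfsg.Agent.Lib.Helper19 Cfsg.Agent.Lib.Helper43

universe u

variable {F : Type u} [Field F] [Fintype F] {ι : Type} [Fintype ι] [DecidableEq ι]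
variable (Q : QuadraticForm F (ι → F))

/-- invariance under `σ` as compatibility of `Q` with itself along `σ` -/
theorem compat_of_mem {σ : RingAut F} (hσ : σ ∈ SInv ⇑Q) :
    Compat Q Q (σ : F ≃+* F).toRingHom := fun v => hσ v

/-- elements of `Ω` with the same image in `PΩ` differ by a sign -/
theorem val_eq_or_neg_of_mk_eq (hQ : (QuadraticMap.polarBilin Q).Nondegenerate) (h2 : (2 : F) ≠ 0)
    (e f : Fin 3 → ι → F) (HT : HypTriple Q e f) (s s' : ↥(Cfsg.Omega F ⇑Q))
    (h : (QuotientGroup.mk s' : Cfsg.POmega F ⇑Q) = QuotientGroup.mk s) :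
    (((s' : ↥(Cfsg.isometryGroup F ⇑Q)) : GL ι F) : Matrix ι ι F) =
        (((s : ↥(Cfsg.isometryGroup F ⇑Q)) : GL ι F) : Matrix ι ι F) ∨
      (((s' : ↥(Cfsg.isometryGroup F ⇑Q)) : GL ι F) : Matrix ι ι F) =
        -(((s : ↥(Cfsg.isometryGroup F ⇑Q)) : GL ι F) : Matrix ι ι F) := by
  have RP := reflPairs_of_two_ne_zero Q h2
  have hz : s⁻¹ * s' ∈ Subgroup.center ↥(Cfsg.Omega F ⇑Q) := by
    have := (QuotientGroup.eq (s := Subgroup.center ↥(Cfsg.Omega F ⇑Q)) (a := s) (b := s')).mp h.symm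
    exact this
  have hcent : CentOmega Q ((s⁻¹ * s' : ↥(Cfsg.Omega F ⇑Q)) : ↥(Cfsg.isometryGroup F ⇑Q)) := by
    intro g hg
    have := Subgroup.mem_center_iff.mp hz ⟨g, hg⟩
    exact congrArg Subtype.val this
  have hs' : s' = s * (s⁻¹ * s') := by group
  rcases cent_val hQ e f HT RP _ hcent with h1 | h1
  · left
    rw [hs']
    simp only [Subgroup.coe_mul, Units.val_mul] at h1 ⊢
    rw [h1, mul_one]
  · right
    rw [hs']
    simp only [Subgroup.coe_mul, Units.val_mul] at h1 ⊢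
    rw [h1, mul_neg, mul_one]

set_option maxHeartbeats 800000 in
/-- a field automorphism acting trivially on `PΩ` is trivial -/
theorem eq_one_of_fieldAutPO_eq_one (hQ : (QuadraticMap.polarBilin Q).Nondegenerate)
    (h2 : (2 : F) ≠ 0) (e f : Fin 3 → ι → F) (HT : HypTriple Q e f)
    (u w : ι → F) (hu : Q u ≠ 0) (hw : Q w = 0) (huw : QuadraticMap.polar (⇑Q) u w = 0)
    (hw0 : w ≠ 0) (σ : ↥(SInv ⇑Q)) (hσu : ∀ i, σ.1 (u i) = u i) (hσw : ∀ i, σ.1 (w i) = w i)
    (h : fieldAutPO (⇑Q) σ = 1) : σ = 1 := by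
  apply Subtype.ext
  apply RingEquiv.ext
  intro t
  change σ.1 t = t
  have hc := compat_of_mem Q σ.2
  have hwu : QuadraticMap.polar (⇑Q) w u = 0 := by rw [QuadraticMap.polar_comm]; exact huw
  have hww : QuadraticMap.polar (⇑Q) w w = 0 := by rw [QuadraticMap.polar_self, hw]; simp
  have hb : ∀ c : F, Q (u + c • w) = Q u := by
    intro c
    rw [QuadraticMap.map_add (⇑Q), QuadraticMap.map_smul, hw, QuadraticMap.polar_smul_right, huw]
    simp
  have hpol : ∀ c d : F, QuadraticMap.polar (⇑Q) (u + c • w) (u + d • w) = 2 * Q u := by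
    intro c d
    rw [QuadraticMap.polar_add_left, QuadraticMap.polar_add_right, QuadraticMap.polar_add_right,
      QuadraticMap.polar_smul_left, QuadraticMap.polar_smul_left, QuadraticMap.polar_smul_right,
      QuadraticMap.polar_smul_right, QuadraticMap.polar_self, huw, hwu, hww]
    simp
  have hpolw : ∀ c : F, QuadraticMap.polar (⇑Q) (u + c • w) w = 0 := by
    intro c
    rw [QuadraticMap.polar_add_left, QuadraticMap.polar_smul_left, huw, hww]
    simp
  obtain ⟨b, hbdef⟩ : ∃ b, b = u + t • w := ⟨_, rfl⟩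
  obtain ⟨b', hb'def⟩ : ∃ b', b' = u + σ.1 t • w := ⟨_, rfl⟩
  have hQb : Q b ≠ 0 := by rw [hbdef, hb]; exact hu
  have hQb' : Q b' ≠ 0 := by rw [hb'def, hb]; exact hu
  have hσb : (fun k => (σ.1 : F ≃+* F).toRingHom (b k)) = b' := by
    ext k
    rw [hbdef, hb'def]
    simp only [Pi.add_apply, Pi.smul_apply, smul_eq_mul, RingEquiv.toRingHom_eq_coe,
      RingHom.coe_coe, map_add, map_mul, hσu, hσw]
  have hσu' : (fun k => (σ.1 : F ≃+* F).toRingHom (u k)) = u := by
    ext k
    exact hσu k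
  have hmem : Cfsg.Agent.Lib.Helper50.reflO Q u * Cfsg.Agent.Lib.Helper50.reflO Q b ∈
      Cfsg.Omega F ⇑Q :=
    Cfsg.Agent.Lib.Helper50.reflO_mul_mem_commutator h2 Q u b hu hQb
      ⟨Q u, by rw [hbdef, hb]⟩
  obtain ⟨s, hs⟩ : ∃ s : ↥(Cfsg.Omega F ⇑Q), s = ⟨_, hmem⟩ := ⟨_, rfl⟩
  have hsv : (((s : ↥(Cfsg.isometryGroup F ⇑Q)) : GL ι F) : Matrix ι ι F) =
      Cfsg.reflectionMatrix (⇑Q) u * Cfsg.reflectionMatrix (⇑Q) b := by
    rw [hs]
    simp only [Subgroup.coe_mul, Units.val_mul]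
    rw [Cfsg.Agent.Lib.Helper50.reflO_val Q u hu, Cfsg.Agent.Lib.Helper50.reflO_val Q b hQb]
  obtain ⟨s', hs', hv⟩ := fieldAutPO_mk_val (⇑Q) σ s
  rw [h, MulAut.one_apply] at hs'
  have hmap : (((s : ↥(Cfsg.isometryGroup F ⇑Q)) : GL ι F) : Matrix ι ι F).map σ.1 =
      Cfsg.reflectionMatrix (⇑Q) u * Cfsg.reflectionMatrix (⇑Q) b' := by
    rw [hsv]
    have h1 := refl_map hc u
    have h3 := refl_map hc b
    rw [hσu'] at h1
    rw [hσb] at h3
    have h4 : (Cfsg.reflectionMatrix (⇑Q) u * Cfsg.reflectionMatrix (⇑Q) b).map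
        ((σ.1 : F ≃+* F).toRingHom) =
        (Cfsg.reflectionMatrix (⇑Q) u).map ((σ.1 : F ≃+* F).toRingHom) *
          (Cfsg.reflectionMatrix (⇑Q) b).map ((σ.1 : F ≃+* F).toRingHom) := Matrix.map_mul
    rw [h1, h3] at h4
    exact h4
  have huu : Cfsg.reflectionMatrix (⇑Q) u * Cfsg.reflectionMatrix (⇑Q) u = 1 :=
    Cfsg.Agent.Lib.Helper50.reflectionMatrix_mul_self Q u hu
  have hcancel : ∀ A B : Matrix ι ι F,
      Cfsg.reflectionMatrix (⇑Q) u * A = Cfsg.reflectionMatrix (⇑Q) u * B → A = B := by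
    intro A B hAB
    have := congrArg (fun M => Cfsg.reflectionMatrix (⇑Q) u * M) hAB
    simp only [← Matrix.mul_assoc, huu, Matrix.one_mul] at this
    exact this
  rcases val_eq_or_neg_of_mk_eq Q hQ h2 e f HT s s' hs'.symm with h1 | h1
  · rw [hv, hmap, hsv] at h1
    have h3 := hcancel _ _ h1
    have h4 := congrArg (fun M => M *ᵥ b) h3
    simp only [reflectionMatrix_mulVec] at h4
    have h5 : QuadraticMap.polar (⇑Q) b' b = 2 * Q u := by rw [hb'def, hbdef]; exact hpol _ _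
    have h5' : QuadraticMap.polar (⇑Q) b b = 2 * Q u := by rw [hbdef]; exact hpol _ _
    have h6 : Q b' = Q u := by rw [hb'def]; exact hb _
    have h7 : Q b = Q u := by rw [hbdef]; exact hb _
    have k1 : (Q b')⁻¹ * QuadraticMap.polar (⇑Q) b' b = 2 := by rw [h5, h6]; field_simp
    have k2 : (Q b)⁻¹ * QuadraticMap.polar (⇑Q) b b = 2 := by rw [h5', h7]; field_simp
    rw [k1, k2] at h4
    have h9 : (2 : F) • b' = (2 : F) • b := by
      have := congrArg (fun x => b - x) h4
      simpa using this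
    have h10 : b' = b := by
      have := congrArg (fun x => (2 : F)⁻¹ • x) h9
      simpa [smul_smul, h2] using this
    rw [hb'def, hbdef] at h10
    have h11 : (σ.1 t - t) • w = 0 := by
      rw [sub_smul]
      have := congrArg (fun x => x - u) h10
      simp only [add_sub_cancel_left] at this
      rw [this, sub_self]
    rcases smul_eq_zero.mp h11 with h12 | h12
    · exact sub_eq_zero.mp h12
    · exact absurd h12 hw0
  · exfalso
    rw [hv, hmap, hsv, ← Matrix.mul_neg] at h1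
    have h3 := hcancel _ _ h1
    have h4 := congrArg (fun M => M *ᵥ w) h3
    simp only [Matrix.neg_mulVec, reflectionMatrix_mulVec] at h4
    have h5 : QuadraticMap.polar (⇑Q) b' w = 0 := by rw [hb'def]; exact hpolw _
    have h6 : QuadraticMap.polar (⇑Q) b w = 0 := by rw [hbdef]; exact hpolw _
    rw [h5, h6] at h4
    simp only [mul_zero, zero_smul, sub_zero] at h4
    apply hw0
    have h7 : (2 : F) • w = 0 := by
      rw [two_smul]
      nth_rewrite 1 [h4]
      simp
    rcases smul_eq_zero.mp h7 with h8 | h8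
    · exact absurd h8 h2
    · exact h8

end Cfsg.Agent.Lib.Helper51.POAut
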