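import Cfsg.Agent.Lib.Helper51.POAut4
import Cfsg.Agent.Lib.Helper51.PSpAut4
import Cfsg.Agent.Lib.Helper08.AutOmegaKer

set_option autoImplicit false
set_option linter.unusedSectionVars false

/-! The centraliser of a field automorphism in the image of the similarity group:
isomorphic to the image of the similarity group over the fixed field. -/

namespace Cfsg.Agent.Lib.Helper51.POAut

open Matrix Cfsg.Agent.Lib.Helper08 Cfsg.Agent.Lib.Helper19 Cfsg.Agent.Lib.Helper43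

universe u v

section ker

variable {F : Type u} [Field F] [Fintype F] [DecidableEq F] {ι : Type} [Fintype ι] [DecidableEq ι]
variable (Q : QuadraticForm F (ι → F))

/-- similarities differing by a scalar induce the same automorphism -/
theorem autPO_eq_of_smul (hQ : (QuadraticMap.polarBilin Q).Nondegenerate) (h2 : (2 : F) ≠ 0)
    (e f : Fin 3 → ι → F) (HT : HypTriple Q e f)
    {g h : ↥(Cfsg.Geo.quadSimilarityGroup (F := F) ⇑Q)} {c : F}
    (he : ((h : GL ι F) : Matrix ι ι F) = c • ((g : GL ι F) : Matrix ι ι F)) :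
    autPO (⇑Q) h = autPO (⇑Q) g := by
  have RP := reflPairs_of_two_ne_zero Q h2
  have h1 : autPO (⇑Q) (g⁻¹ * h) = 1 := by
    rw [autPO_eq_one_iff Q hQ h2 e f HT RP]
    refine ⟨c, ?_⟩
    rw [Subgroup.coe_mul, Units.val_mul, he, Matrix.mul_smul, ← Units.val_mul]
    simp
  rw [map_mul, map_inv, inv_mul_eq_one] at h1
  exact h1.symm

/-- similarities inducing the same automorphism differ by a scalar -/
theorem exists_smul_of_autPO_eq (hQ : (QuadraticMap.polarBilin Q).Nondegenerate) (h2 : (2 : F) ≠ 0)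
    (e f : Fin 3 → ι → F) (HT : HypTriple Q e f)
    {g h : ↥(Cfsg.Geo.quadSimilarityGroup (F := F) ⇑Q)} (he : autPO (⇑Q) h = autPO (⇑Q) g) :
    ∃ c : F, ((h : GL ι F) : Matrix ι ι F) = c • ((g : GL ι F) : Matrix ι ι F) := by
  have RP := reflPairs_of_two_ne_zero Q h2
  have h1 : autPO (⇑Q) (g⁻¹ * h) = 1 := by
    rw [map_mul, map_inv, he, inv_mul_cancel]
  rw [autPO_eq_one_iff Q hQ h2 e f HT RP] at h1
  obtain ⟨c, hc⟩ := h1
  refine ⟨c, ?_⟩
  rw [Subgroup.coe_mul, Units.val_mul] at hc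
  have h3 : ((g : GL ι F) : Matrix ι ι F) * ((((g⁻¹ : ↥(Cfsg.Geo.quadSimilarityGroup (F := F) ⇑Q)) :
      GL ι F) : Matrix ι ι F) * ((h : GL ι F) : Matrix ι ι F)) = ((h : GL ι F) : Matrix ι ι F) := by
    rw [← Matrix.mul_assoc, ← Units.val_mul]
    simp
  rw [← h3, hc, Matrix.mul_smul, Matrix.mul_one]

theorem gl_val_ne_zero [Nonempty ι] (g : GL ι F) : (g : Matrix ι ι F) ≠ 0 := by
  intro h
  have h1 : (g : Matrix ι ι F) * ((g⁻¹ : GL ι F) : Matrix ι ι F) = 1 := by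
    rw [← Units.val_mul]; simp
  rw [h, Matrix.zero_mul] at h1
  obtain ⟨i⟩ := ‹Nonempty ι›
  have := congrFun (congrFun h1 i) i
  simp at this

/-- the induced automorphism commutes with the field automorphism iff `σ(g)` is a scalar multiple
of `g` -/
theorem autPO_mem_centralizer_iff (hQ : (QuadraticMap.polarBilin Q).Nondegenerate)
    (h2 : (2 : F) ≠ 0) (e f : Fin 3 → ι → F) (HT : HypTriple Q e f) (σ : ↥(SInv ⇑Q))
    (g : ↥(Cfsg.Geo.quadSimilarityGroup (F := F) ⇑Q)) :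
    autPO (⇑Q) g ∈ Subgroup.centralizer {fieldAutPO (⇑Q) σ} ↔
      ∃ l : F, ((g : GL ι F) : Matrix ι ι F).map σ.1 = l • ((g : GL ι F) : Matrix ι ι F) := by
  rw [Subgroup.mem_centralizer_iff]
  constructor
  · intro h
    have h1 := h (fieldAutPO (⇑Q) σ) rfl
    rw [fieldAut_mul_autPO] at h1
    have h3 : autPO (⇑Q) (mapGO (⇑Q) σ g) = autPO (⇑Q) g := mul_right_cancel h1
    obtain ⟨l, hl⟩ := exists_smul_of_autPO_eq Q hQ h2 e f HT h3
    exact ⟨l, hl⟩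
  · rintro ⟨l, hl⟩ y hy
    rw [Set.mem_singleton_iff] at hy
    subst hy
    rw [fieldAut_mul_autPO]
    congr 1
    exact autPO_eq_of_smul Q hQ h2 e f HT hl

end ker

section iso

variable {F₀ : Type v} {F : Type u} [Field F₀] [Fintype F₀] [DecidableEq F₀] [Field F] [Fintype F]
  [DecidableEq F] {ι : Type} [Fintype ι] [DecidableEq ι]
variable (Q₀ : QuadraticForm F₀ (ι → F₀)) (Q : QuadraticForm F (ι → F)) {j : F₀ →+* F}

/-- the action of the similarities over the subfield -/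
def subAut (h2 : (2 : F) ≠ 0) (hc : Compat Q₀ Q j) :
    ↥(Cfsg.Geo.quadSimilarityGroup (F := F₀) ⇑Q₀) →* MulAut (Cfsg.POmega F ⇑Q) :=
  (autPO (⇑Q)).comp (bcGO h2 hc)

theorem subAut_ker (h2 : (2 : F) ≠ 0) (hc : Compat Q₀ Q j)
    (hQ : (QuadraticMap.polarBilin Q).Nondegenerate)
    (e f : Fin 3 → ι → F) (HT : HypTriple Q e f)
    (hQ₀ : (QuadraticMap.polarBilin Q₀).Nondegenerate) (h2₀ : (2 : F₀) ≠ 0)
    (e₀ f₀ : Fin 3 → ι → F₀) (HT₀ : HypTriple Q₀ e₀ f₀) [Nonempty ι] :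
    (subAut Q₀ Q h2 hc).ker = (autPO (⇑Q₀)).ker := by
  have RP := reflPairs_of_two_ne_zero Q h2
  have RP₀ := reflPairs_of_two_ne_zero Q₀ h2₀
  ext g₀
  rw [MonoidHom.mem_ker, MonoidHom.mem_ker, autPO_eq_one_iff Q₀ hQ₀ h2₀ e₀ f₀ HT₀ RP₀]
  unfold subAut
  rw [MonoidHom.comp_apply, autPO_eq_one_iff Q hQ h2 e f HT RP]
  constructor
  · rintro ⟨c, hcv⟩
    rw [bcGO_val] at hcv
    obtain ⟨i⟩ := ‹Nonempty ι›
    refine ⟨((g₀ : GL ι F₀) : Matrix ι ι F₀) i i, ?_⟩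
    ext a b
    apply j.injective
    have h1 := congrFun (congrFun hcv a) b
    have h3 := congrFun (congrFun hcv i) i
    rw [Matrix.map_apply, Matrix.smul_apply, Matrix.one_apply, smul_eq_mul] at h1 h3
    rw [if_pos rfl, mul_one] at h3
    rw [h1, Matrix.smul_apply, Matrix.one_apply, smul_eq_mul, map_mul, h3]
    split_ifs <;> simp
  · rintro ⟨c₀, hcv⟩
    refine ⟨j c₀, ?_⟩
    rw [bcGO_val, hcv]
    ext a b
    rw [Matrix.map_apply, Matrix.smul_apply, Matrix.smul_apply, Matrix.one_apply, Matrix.one_apply,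
      smul_eq_mul, smul_eq_mul, map_mul]
    split_ifs <;> simp

theorem subAut_range (h2 : (2 : F) ≠ 0) (hc : Compat Q₀ Q j)
    (hQ : (QuadraticMap.polarBilin Q).Nondegenerate)
    (e f : Fin 3 → ι → F) (HT : HypTriple Q e f) [Nonempty ι]
    {u₀ : ι → F₀} (hu₀ : Q₀ u₀ = 1)
    (σ : ↥(SInv ⇑Q)) {r : ℕ} (hr : orderOf σ.1 = r) (hr0 : 0 < r)
    (hj : ∀ a, σ.1 (j a) = j a) (hj' : ∀ b : F, σ.1 b = b → ∃ a, j a = b) :
    (subAut Q₀ Q h2 hc).range =
      (autPO (⇑Q)).range ⊓ Subgroup.centralizer {fieldAutPO (⇑Q) σ} := by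
  apply le_antisymm
  · rintro _ ⟨g₀, rfl⟩
    refine ⟨⟨_, rfl⟩, ?_⟩
    show autPO (⇑Q) (bcGO h2 hc g₀) ∈ Subgroup.centralizer {fieldAutPO (⇑Q) σ}
    rw [autPO_mem_centralizer_iff Q hQ h2 e f HT]
    refine ⟨1, ?_⟩
    rw [one_smul, bcGO_val]
    ext a b
    rw [Matrix.map_apply, Matrix.map_apply]
    exact hj _
  · rintro y ⟨⟨g, rfl⟩, hcen⟩
    have hc' : autPO (⇑Q) g ∈ Subgroup.centralizer {fieldAutPO (⇑Q) σ} := hcen
    rw [autPO_mem_centralizer_iff Q hQ h2 e f HT] at hc'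
    obtain ⟨l, hl⟩ := hc'
    obtain ⟨y, hy0, hy⟩ := Cfsg.Agent.Lib.Helper51.PSpAut.exists_fixed_rep' σ.1 hr hr0
      ((g : GL ι F) : Matrix ι ι F) (gl_val_ne_zero (g : GL ι F)) hl
    have hfix : ∀ a b, σ.1 ((y • ((g : GL ι F) : Matrix ι ι F)) a b) =
        (y • ((g : GL ι F) : Matrix ι ι F)) a b := by
      intro a b
      have := congrFun (congrFun hy a) b
      rwa [Matrix.map_apply] at this
    choose m₀ hm₀ using fun a b => hj' _ (hfix a b)
    -- the scalar multiple as a similarity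
    obtain ⟨g', hg'⟩ : ∃ g' : ↥(Cfsg.Geo.quadSimilarityGroup (F := F) ⇑Q),
        ((g' : GL ι F) : Matrix ι ι F) = y • ((g : GL ι F) : Matrix ι ι F) := by
      refine ⟨scalGO Q (Units.mk0 y hy0) * g, ?_⟩
      rw [Subgroup.coe_mul, Units.val_mul, scalGO_val, Units.val_mk0, Matrix.smul_mul,
        Matrix.one_mul]
    obtain ⟨g₀, hg₀⟩ := exists_bcGO_eq h2 hc hu₀ g' (Matrix.of m₀) (by
      rw [hg']
      ext a b
      rw [Matrix.map_apply]
      exact hm₀ a b)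
    refine ⟨g₀, ?_⟩
    show autPO (⇑Q) (bcGO h2 hc g₀) = autPO (⇑Q) g
    rw [hg₀]
    exact autPO_eq_of_smul Q hQ h2 e f HT hg'

/-- `C_{PGO}(φ_σ) ≅ PGO` over the fixed field (as subgroups of the automorphism groups) -/
theorem centralizer_fieldAut_equiv (h2 : (2 : F) ≠ 0) (hc : Compat Q₀ Q j)
    (hQ : (QuadraticMap.polarBilin Q).Nondegenerate)
    (e f : Fin 3 → ι → F) (HT : HypTriple Q e f) [Nonempty ι]
    (hQ₀ : (QuadraticMap.polarBilin Q₀).Nondegenerate) (h2₀ : (2 : F₀) ≠ 0)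
    (e₀ f₀ : Fin 3 → ι → F₀) (HT₀ : HypTriple Q₀ e₀ f₀)
    {u₀ : ι → F₀} (hu₀ : Q₀ u₀ = 1)
    (σ : ↥(SInv ⇑Q)) {r : ℕ} (hr : orderOf σ.1 = r) (hr0 : 0 < r)
    (hj : ∀ a, σ.1 (j a) = j a) (hj' : ∀ b : F, σ.1 b = b → ∃ a, j a = b) :
    Nonempty (↥((autPO (⇑Q)).range ⊓ Subgroup.centralizer {fieldAutPO (⇑Q) σ}) ≃*
      ↥(autPO (⇑Q₀)).range) := by
  have e1 := QuotientGroup.quotientKerEquivRange (subAut Q₀ Q h2 hc)
  have e2 := QuotientGroup.quotientMulEquivOfEq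
    (subAut_ker Q₀ Q h2 hc hQ e f HT hQ₀ h2₀ e₀ f₀ HT₀)
  have e3 := MulEquiv.subgroupCongr (subAut_range Q₀ Q h2 hc hQ e f HT hu₀ σ hr hr0 hj hj')
  have e4 := QuotientGroup.quotientKerEquivRange (autPO (⇑Q₀))
  exact ⟨(e3.symm.trans (e1.symm.trans (e2.trans e4)))⟩

end iso

end Cfsg.Agent.Lib.Helper51.POAut
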