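import Cfsg.Agent.Lib.Helper51.POAut5
import Cfsg.Agent.Lib.Helper50.SpinorIndex
import Cfsg.Agent.Lib.Helper50.SpinorHom

set_option autoImplicit false
set_option linter.unusedSectionVars false

/-! Odd dimension: similarities are scalars times special isometries; the image of the
similarity group modulo the inner automorphisms has order two. -/

namespace Cfsg.Agent.Lib.Helper51.POAut

open Matrix Cfsg.Agent.Lib.Helper08 Cfsg.Agent.Lib.Helper19 Cfsg.Agent.Lib.Helper43

universe u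

variable {F : Type u} [Field F] [Fintype F] [DecidableEq F] {ι : Type} [Fintype ι] [DecidableEq ι]
variable (Q : QuadraticForm F (ι → F))

/-- in odd dimension a similarity is a scalar times a special isometry -/
theorem exists_smul_SO (hQ : (QuadraticMap.polarBilin Q).Nondegenerate) (h2 : (2 : F) ≠ 0)
    (hodd : Odd (Fintype.card ι)) (g : ↥(Cfsg.Geo.quadSimilarityGroup (F := F) ⇑Q)) :
    ∃ (c : F) (h : ↥(Cfsg.isometryGroup F ⇑Q)), c ≠ 0 ∧ h ∈ Cfsg.specialIsometryGroup F ⇑Q ∧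
      ((g : GL ι F) : Matrix ι ι F) = c • ((h : GL ι F) : Matrix ι ι F) := by
  obtain ⟨k, hk⟩ := hodd
  have hμ : (multFun Q g : F) ≠ 0 := Units.ne_zero _
  have hdet := det_sq_eq_mult_pow Q hQ g
  rw [hk] at hdet
  obtain ⟨l, hl⟩ : ∃ l : F, l = ((g : GL ι F) : Matrix ι ι F).det / (multFun Q g : F) ^ k := ⟨_, rfl⟩
  have hll : l * l = (multFun Q g : F) := by
    rw [hl, div_mul_div_comm, hdet]
    field_simp
    ring
  have hl0 : l ≠ 0 := by
    intro h0
    rw [h0, mul_zero] at hll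
    exact hμ hll.symm
  -- the isometry `l⁻¹ g`
  obtain ⟨h₁, hh₁⟩ : ∃ h₁ : ↥(Cfsg.isometryGroup F ⇑Q),
      ((h₁ : GL ι F) : Matrix ι ι F) = l⁻¹ • ((g : GL ι F) : Matrix ι ι F) := by
    have hmem : ((scalGO Q (Units.mk0 l⁻¹ (inv_ne_zero hl0)) * g :
        ↥(Cfsg.Geo.quadSimilarityGroup (F := F) ⇑Q)) : GL ι F) ∈ Cfsg.isometryGroup F ⇑Q := by
      rw [mem_isometryGroup_iff]
      intro v
      rw [Subgroup.coe_mul, Units.val_mul, scalGO_val, Units.val_mk0, Matrix.smul_mul,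
        Matrix.one_mul, Matrix.smul_mulVec, QuadraticMap.map_smul, multFun_spec, smul_eq_mul,
        ← hll]
      field_simp
    refine ⟨⟨_, hmem⟩, ?_⟩
    show ((scalGO Q (Units.mk0 l⁻¹ (inv_ne_zero hl0)) * g :
        ↥(Cfsg.Geo.quadSimilarityGroup (F := F) ⇑Q)) : GL ι F).1 = _
    rw [Subgroup.coe_mul, Units.val_mul, scalGO_val, Units.val_mk0, Matrix.smul_mul,
      Matrix.one_mul]
  have hg : ((g : GL ι F) : Matrix ι ι F) = l • ((h₁ : GL ι F) : Matrix ι ι F) := by
    rw [hh₁, smul_smul, mul_inv_cancel₀ hl0, one_smul]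
  have hd1 := det_sq_eq_one Q h2 hQ h₁
  rcases mul_self_eq_one_iff.mp hd1 with h1 | h1
  · exact ⟨l, h₁, hl0, (mem_SO_iff_det Q h₁).mpr h1, hg⟩
  · refine ⟨-l, Cfsg.Agent.Lib.Helper50.negO Q * h₁, neg_ne_zero.mpr hl0, ?_, ?_⟩
    · rw [mem_SO_iff_det, Subgroup.coe_mul, Units.val_mul, Matrix.det_mul,
        Cfsg.Agent.Lib.Helper50.negO_val, Matrix.det_neg, Matrix.det_one, h1, hk,
        Odd.neg_one_pow ⟨k, rfl⟩]
      ring
    · rw [Subgroup.coe_mul, Units.val_mul, Cfsg.Agent.Lib.Helper50.negO_val, hg]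
      simp

/-- odd dimension: the image of the similarity group is the image of `SO` -/
theorem autPO_range_eq (hQ : (QuadraticMap.polarBilin Q).Nondegenerate) (h2 : (2 : F) ≠ 0)
    (hodd : Odd (Fintype.card ι)) (e f : Fin 3 → ι → F) (HT : HypTriple Q e f) :
    (autPO (⇑Q)).range = (Cfsg.specialIsometryGroup F ⇑Q).map (autO (⇑Q)) := by
  apply le_antisymm
  · rintro _ ⟨g, rfl⟩
    obtain ⟨c, h, hc0, hSO, hgh⟩ := exists_smul_SO Q hQ h2 hodd g
    refine ⟨h, hSO, ?_⟩
    rw [autO_apply]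
    exact (autPO_eq_of_smul Q hQ h2 e f HT (g := inclGO Q h) (h := g) hgh).symm
  · rintro _ ⟨h, -, rfl⟩
    exact ⟨inclGO Q h, rfl⟩

/-- odd dimension: an element of `SO` induces an inner automorphism iff it lies in `Ω` -/
theorem autO_mem_inn_iff (hQ : (QuadraticMap.polarBilin Q).Nondegenerate) (h2 : (2 : F) ≠ 0)
    (hodd : Odd (Fintype.card ι)) (e f : Fin 3 → ι → F) (HT : HypTriple Q e f)
    (h : ↥(Cfsg.isometryGroup F ⇑Q)) (hSO : h ∈ Cfsg.specialIsometryGroup F ⇑Q) :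
    autO (⇑Q) h ∈ Cfsg.Inn (Cfsg.POmega F ⇑Q) ↔ h ∈ Cfsg.Omega F ⇑Q := by
  have RP := reflPairs_of_two_ne_zero Q h2
  rw [inn_eq]
  constructor
  · rintro ⟨ω, hω, he⟩
    have h1 : autO (⇑Q) (ω⁻¹ * h) = 1 := by rw [map_mul, map_inv, he, inv_mul_cancel]
    rw [autO_eq_one_iff Q hQ h2 e f HT RP] at h1
    rcases h1 with h1 | h1
    · have : ω⁻¹ * h = 1 := Subtype.ext (Units.ext h1)
      have h3 : h = ω := by
        rw [inv_mul_eq_one] at this
        exact this.symm
      rw [h3]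
      exact hω
    · exfalso
      have hd : ((ω⁻¹ * h : ↥(Cfsg.isometryGroup F ⇑Q)) : GL ι F).1.det = 1 := by
        have h3 : ω⁻¹ * h ∈ Cfsg.specialIsometryGroup F ⇑Q :=
          Subgroup.mul_mem _ (Subgroup.inv_mem _ (Omega_le_SO Q hω)) hSO
        exact (mem_SO_iff_det Q _).mp h3
      rw [h1, Matrix.det_neg, Matrix.det_one, hodd.neg_one_pow] at hd
      apply h2
      linear_combination -hd
  · intro hΩ
    exact ⟨h, hΩ, rfl⟩

/-- odd dimension: `|PGO : Inn| = 2` -/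
theorem relIndex_inn_range (hQ : (QuadraticMap.polarBilin Q).Nondegenerate) (h2 : (2 : F) ≠ 0)
    (hodd : Odd (Fintype.card ι)) (e f : Fin 3 → ι → F) (HT : HypTriple Q e f) :
    (Cfsg.Inn (Cfsg.POmega F ⇑Q)).relIndex (autPO (⇑Q)).range = 2 := by
  have hu : Q (e 0 + f 0) = 1 := by
    rw [QuadraticMap.map_add (⇑Q), HT.qe, HT.qf, HT.ef]; simp
  have hdim : 2 ≤ Fintype.card ι := by
    obtain ⟨k, hk⟩ := hodd
    have : 0 < Fintype.card ι := Fintype.card_pos_iff.mpr ⟨(Classical.choice (by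
      by_contra hne
      rw [not_nonempty_iff] at hne
      have : e 0 + f 0 = 0 := Subsingleton.elim _ _
      rw [this, map_zero] at hu
      exact zero_ne_one hu))⟩
    by_contra hlt
    have h1 : Fintype.card ι = 1 := by omega
    -- a one-dimensional space has no singular vector pairing to one
    have hcard := Fintype.card_eq_one_iff.mp h1
    obtain ⟨i, hi⟩ := hcard
    have he : e 0 = (e 0 i) • (Pi.single i (1 : F)) := by
      ext k
      rw [hi k]
      simp
    have hf : f 0 = (f 0 i) • (Pi.single i (1 : F)) := by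
      ext k
      rw [hi k]
      simp
    have h3 := HT.ef 0 0
    have h4 := HT.qe 0
    have h5 := HT.qf 0
    rw [he, QuadraticMap.map_smul] at h4
    rw [hf, QuadraticMap.map_smul] at h5
    rw [he, hf, QuadraticMap.polar_smul_left, QuadraticMap.polar_smul_right,
      QuadraticMap.polar_self, if_pos rfl] at h3
    rcases mul_eq_zero.mp h4 with h6 | h6
    · rcases mul_self_eq_zero.mp h6 with h7
      rw [h7] at h3
      simp at h3
    · rw [h6] at h3
      simp at h3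
  have hSOidx := index_SO Q h2 hQ (e 0 + f 0) (by rw [hu]; exact one_ne_zero)
  have hΩidx : (Cfsg.Omega F ⇑Q).index = 4 :=
    Cfsg.Agent.Lib.Helper50.index_commutator h2 Q hQ hdim
  have hle := Omega_le_SO Q
  have hrel : (Cfsg.Omega F ⇑Q).relIndex (Cfsg.specialIsometryGroup F ⇑Q) = 2 := by
    have := Subgroup.relIndex_mul_index hle
    rw [hSOidx, hΩidx] at this
    omega
  rw [autPO_range_eq Q hQ h2 hodd e f HT, ← Subgroup.relIndex_comap,
    ← Subgroup.inf_relIndex_right]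
  have : (Cfsg.Inn (Cfsg.POmega F ⇑Q)).comap (autO (⇑Q)) ⊓ Cfsg.specialIsometryGroup F ⇑Q =
      Cfsg.Omega F ⇑Q := by
    ext h
    rw [Subgroup.mem_inf, Subgroup.mem_comap]
    constructor
    · rintro ⟨h1, h3⟩
      exact (autO_mem_inn_iff Q hQ h2 hodd e f HT h h3).mp h1
    · intro hΩ
      exact ⟨(autO_mem_inn_iff Q hQ h2 hodd e f HT h (hle hΩ)).mpr hΩ, hle hΩ⟩
  rw [this, hrel]

end Cfsg.Agent.Lib.Helper51.POAut
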