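import Cfsg.Agent.Lib.Helper51.POAut6

set_option autoImplicit false
set_option linter.unusedSectionVars false

/-! Normality of the image of the similarity group in `Aut(PΩ)` once all automorphisms are
semilinear, and the splitting of the class of a field automorphism in odd dimension. -/

namespace Cfsg.Agent.Lib.Helper51.POAut

open Matrix Cfsg.Agent.Lib.Helper08 Cfsg.Agent.Lib.Helper19 Cfsg.Agent.Lib.Helper43

universe u v

section semi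

variable {F : Type u} [Field F] {ι : Type} [Fintype ι] [DecidableEq ι] (Q : (ι → F) → F)

theorem sim_of_semisim {σ : RingAut F} (hσ : σ ∈ SInv Q) {g : GL ι F}
    (h : Cfsg.IsSemisimilarityPair Q g σ) : g ∈ Cfsg.Geo.quadSimilarityGroup (F := F) Q := by
  obtain ⟨c, hc⟩ := h
  refine ⟨c, fun w => ?_⟩
  have h1 := hc (fun k => σ⁻¹ (w k))
  have h2 : (fun i => σ (σ⁻¹ (w i))) = w := by
    ext i
    exact σ.apply_symm_apply (w i)
  rw [h2] at h1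
  rw [h1]
  congr 1
  have h3 := hσ (fun k => σ⁻¹ (w k))
  rw [h2] at h3
  exact h3.symm

theorem eq_of_induced {g : GL ι F} (hg : g ∈ Cfsg.Geo.quadSimilarityGroup (F := F) Q)
    (σ : ↥(SInv Q)) {β : MulAut (Cfsg.POmega F Q)}
    (h : Cfsg.IsInducedBySemilinearPOmega Q g σ.1 β) :
    β = autPO Q ⟨g, hg⟩ * fieldAutPO Q σ := by
  ext x
  induction x using QuotientGroup.induction_on with
  | H s =>
    rw [MulAut.mul_apply]
    obtain ⟨s₁, h1, v1⟩ := fieldAutPO_mk_val Q σ s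
    obtain ⟨s₂, h3, v2⟩ := autPO_mk_val Q ⟨g, hg⟩ s₁
    rw [h1, h3]
    apply h s s₂
    rw [v2, Units.val_mul, Units.val_mul, v1]

/-- normality of the image of the similarity group once every automorphism is semilinear -/
theorem range_normal_of_gamma (hS : ∀ σ : RingAut F, σ ∈ SInv Q)
    (h : Cfsg.gammaPOmega F Q = ⊤) : (autPO Q).range.Normal := by
  rw [← Subgroup.normalizer_eq_top_iff, eq_top_iff, ← h]
  unfold Cfsg.gammaPOmega Cfsg.autSubgroupOf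
  rw [Subgroup.closure_le]
  rintro β ⟨g, σ, hg, hβ⟩
  have hg' := sim_of_semisim Q (hS σ) hg
  rw [eq_of_induced Q hg' ⟨σ, hS σ⟩ hβ]
  apply Subgroup.mul_mem
  · exact Subgroup.le_normalizer ⟨_, rfl⟩
  · rw [Subgroup.mem_normalizer_iff]
    intro y
    constructor
    · rintro ⟨k, rfl⟩
      exact ⟨mapGO Q ⟨σ, hS σ⟩ k, (fieldAut_conj_autPO Q ⟨σ, hS σ⟩ k).symm⟩
    · rintro ⟨k, hk⟩
      refine ⟨mapGO Q (⟨σ, hS σ⟩ : ↥(SInv Q))⁻¹ k, ?_⟩
      rw [← fieldAut_conj_autPO, hk, map_inv]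
      group

end semi

section split

variable {F₀ : Type v} {F : Type u} [Field F₀] [Fintype F₀] [DecidableEq F₀] [Field F] [Fintype F]
  [DecidableEq F] {ι : Type} [Fintype ι] [DecidableEq ι]
variable (Q₀ : QuadraticForm F₀ (ι → F₀)) (Q : QuadraticForm F (ι → F)) {j : F₀ →+* F}

theorem subAut_inclGO (h2 : (2 : F) ≠ 0) (hc : Compat Q₀ Q j) (s₀ : ↥(Cfsg.isometryGroup F₀ ⇑Q₀)) :
    subAut Q₀ Q h2 hc (inclGO Q₀ s₀) = autO (⇑Q) (bcO h2 hc s₀) := by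
  rw [autO_apply]
  unfold subAut
  rw [MonoidHom.comp_apply]
  congr 1

/-- odd degree: some element of the centraliser is not inner -/
theorem exists_not_inn_of_odd (h2 : (2 : F) ≠ 0) (hc : Compat Q₀ Q j)
    (hQ : (QuadraticMap.polarBilin Q).Nondegenerate) (hodd : Odd (Fintype.card ι))
    (e f : Fin 3 → ι → F) (HT : HypTriple Q e f)
    (e₀ f₀ : Fin 3 → ι → F₀) (HT₀ : HypTriple Q₀ e₀ f₀) (h2₀ : (2 : F₀) ≠ 0)
    (hdesc : ∀ ν : F₀, IsSquare (j ν) → IsSquare ν) :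
    ∃ y ∈ (subAut Q₀ Q h2 hc).range, y ∉ Cfsg.Inn (Cfsg.POmega F ⇑Q) := by
  obtain ⟨ζ, hζ⟩ := Cfsg.Agent.Lib.Helper50.exists_nonsquare_of_two_ne_zero h2₀
  have hζ0 : ζ ≠ 0 := fun h => hζ (h ▸ ⟨0, by ring⟩)
  obtain ⟨u₀, hu₀⟩ : ∃ u₀, u₀ = e₀ 0 + f₀ 0 := ⟨_, rfl⟩
  obtain ⟨w₀, hw₀⟩ : ∃ w₀, w₀ = e₀ 0 + ζ • f₀ 0 := ⟨_, rfl⟩
  have hQu : Q₀ u₀ = 1 := by
    rw [hu₀, QuadraticMap.map_add (⇑Q₀), HT₀.qe, HT₀.qf, HT₀.ef]; simp
  have hQw : Q₀ w₀ = ζ := by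
    rw [hw₀, QuadraticMap.map_add (⇑Q₀), QuadraticMap.map_smul, HT₀.qe, HT₀.qf,
      QuadraticMap.polar_smul_right, HT₀.ef]
    simp
  have hl : ∀ x ∈ [u₀, w₀], Q₀ x ≠ 0 := by
    intro x hx
    simp only [List.mem_cons, List.not_mem_nil, or_false] at hx
    rcases hx with rfl | rfl
    · rw [hQu]; exact one_ne_zero
    · rw [hQw]; exact hζ0
  obtain ⟨s₀, hs₀⟩ : ∃ s₀, s₀ = ([u₀, w₀].map (Cfsg.Agent.Lib.Helper43.reflO Q₀)).prod := ⟨_, rfl⟩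
  refine ⟨subAut Q₀ Q h2 hc (inclGO Q₀ s₀), ⟨_, rfl⟩, ?_⟩
  rw [subAut_inclGO]
  have hSO : bcO h2 hc s₀ ∈ Cfsg.specialIsometryGroup F ⇑Q := by
    rw [mem_SO_iff_det, hs₀, bcO_prod_val h2 hc _ hl,
      Cfsg.Agent.Lib.Helper50.det_prod_reflection Q]
    · simp
    · intro x hx
      simp only [List.map_cons, List.map_nil, List.mem_cons, List.not_mem_nil, or_false] at hx
      rcases hx with rfl | rfl
      · rw [hc, hQu, map_one]; exact one_ne_zero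
      · rw [hc, hQw]; exact (map_ne_zero j).2 hζ0
  rw [autO_mem_inn_iff Q hQ h2 hodd e f HT _ hSO, hs₀, bcO_mem_Omega_iff h2 hc _ hl]
  rintro ⟨-, hsq⟩
  apply hζ
  apply hdesc
  simp only [List.map_cons, List.map_nil, List.prod_cons, List.prod_nil, hQu, hQw, one_mul,
    mul_one] at hsq
  exact hsq

/-- degree two: the centraliser consists of inner automorphisms -/
theorem range_le_inn_of_two (h2 : (2 : F) ≠ 0) (hc : Compat Q₀ Q j)
    (hQ : (QuadraticMap.polarBilin Q).Nondegenerate) (hodd : Odd (Fintype.card ι))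
    (e f : Fin 3 → ι → F) (HT : HypTriple Q e f)
    (hQ₀ : (QuadraticMap.polarBilin Q₀).Nondegenerate) (h2₀ : (2 : F₀) ≠ 0)
    (hsq : ∀ ν : F₀, IsSquare (j ν)) :
    (subAut Q₀ Q h2 hc).range ≤ Cfsg.Inn (Cfsg.POmega F ⇑Q) := by
  rintro _ ⟨g₀, rfl⟩
  obtain ⟨c₀, h₀, hc0, hSO₀, hgh⟩ := exists_smul_SO Q₀ hQ₀ h2₀ hodd g₀
  have h1 : subAut Q₀ Q h2 hc g₀ = autO (⇑Q) (bcO h2 hc h₀) := by
    rw [← subAut_inclGO]
    unfold subAut
    rw [MonoidHom.comp_apply, MonoidHom.comp_apply]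
    apply autPO_eq_of_smul Q hQ h2 e f HT (c := j c₀)
    rw [bcGO_val, bcGO_val, hgh]
    ext a b
    simp only [Matrix.map_apply, Matrix.smul_apply, smul_eq_mul, map_mul]
    rfl
  rw [h1, inn_eq]
  refine ⟨_, ?_, rfl⟩
  obtain ⟨l, hl, hh₀⟩ := exists_list_reflO Q₀ (reflGenerated_of_two_ne_zero Q₀ h2₀ hQ₀) h₀
  rw [hh₀, SetLike.mem_coe, bcO_mem_Omega_iff h2 hc l hl]
  refine ⟨?_, hsq _⟩
  -- the determinant of `h₀` is one, so the number of reflections is even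
  have hd := (mem_SO_iff_det Q₀ h₀).mp hSO₀
  rw [hh₀, val_prod_reflO Q₀ l hl, Cfsg.Agent.Lib.Helper50.det_prod_reflection Q₀ l hl] at hd
  by_contra hne
  rw [Nat.not_even_iff_odd] at hne
  rw [hne.neg_one_pow] at hd
  apply h2₀
  linear_combination -hd

/-- the splitting count in odd dimension -/
theorem relIndex_split (h2 : (2 : F) ≠ 0)
    (hQ : (QuadraticMap.polarBilin Q).Nondegenerate) (hodd : Odd (Fintype.card ι))
    (e f : Fin 3 → ι → F) (HT : HypTriple Q e f)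
    (C : Subgroup (MulAut (Cfsg.POmega F ⇑Q))) (hC : C ≤ (autPO (⇑Q)).range) :
    ((∃ y ∈ C, y ∉ Cfsg.Inn (Cfsg.POmega F ⇑Q)) →
      (Cfsg.Inn (Cfsg.POmega F ⇑Q) ⊔ C).relIndex (autPO (⇑Q)).range = 1) ∧
    (C ≤ Cfsg.Inn (Cfsg.POmega F ⇑Q) →
      (Cfsg.Inn (Cfsg.POmega F ⇑Q) ⊔ C).relIndex (autPO (⇑Q)).range = 2) := by
  have hidx := relIndex_inn_range Q hQ h2 hodd e f HT
  have hle : Cfsg.Inn (Cfsg.POmega F ⇑Q) ≤ (autPO (⇑Q)).range := by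
    rw [inn_eq]
    rintro _ ⟨ω, -, rfl⟩
    exact ⟨inclGO Q ω, rfl⟩
  constructor
  · rintro ⟨y, hyC, hyI⟩
    have hM : Cfsg.Inn (Cfsg.POmega F ⇑Q) ⊔ C ≤ (autPO (⇑Q)).range := sup_le hle hC
    have h1 := Subgroup.relIndex_mul_relIndex _ _ _ (le_sup_left (b := C)) hM
    rw [hidx] at h1
    have h3 : (Cfsg.Inn (Cfsg.POmega F ⇑Q)).relIndex (Cfsg.Inn (Cfsg.POmega F ⇑Q) ⊔ C) ≠ 1 := by
      intro h4
      rw [Subgroup.relIndex_eq_one] at h4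
      exact hyI (h4 (Subgroup.mem_sup_right hyC))
    have h5 : (Cfsg.Inn (Cfsg.POmega F ⇑Q)).relIndex (Cfsg.Inn (Cfsg.POmega F ⇑Q) ⊔ C) ∣ 2 :=
      Dvd.intro _ h1
    rcases (Nat.dvd_prime Nat.prime_two).mp h5 with h6 | h6
    · exact absurd h6 h3
    · rw [h6] at h1
      omega
  · intro hCI
    rw [sup_eq_left.mpr hCI]
    exact hidx

end split

end Cfsg.Agent.Lib.Helper51.POAut
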