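import Cfsg.Agent.Lib.Helper51.POAut7
import Cfsg.Agent.Lib.Helper08.OmegaStd
import Cfsg.Agent.Lib.Helper07.PSLnM
import Cfsg.Agent.Lib.Helper07.PSLnL
import Cfsg.Agent.Lib.Helper07.SplitClass
import Cfsg.Agent.Lib.Helper50.StdForms

set_option autoImplicit false
set_option linter.unusedSectionVars false

/-! Field automorphisms of prime order of `Ω_{2m+1}(q)`: centraliser in the inner-diagonal group
and splitting of the class (conditional on `Aut = PΓO`). -/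

namespace Cfsg.Agent.Lib.Helper51.POAut

open Matrix Cfsg.Agent.Lib.Helper08 Cfsg.Agent.Lib.Helper19 Cfsg.Agent.Lib.Helper43
  Cfsg.Agent.Lib.Helper07

universe u v

theorem quadFormOdd_comp {F₀ : Type v} {F : Type u} [Field F₀] [Field F] (m : ℕ) (j : F₀ →+* F)
    (v : Unit ⊕ (Fin m ⊕ Fin m) → F₀) :
    Cfsg.quadFormOdd m F (fun i => j (v i)) = j (Cfsg.quadFormOdd m F₀ v) := by
  simp only [Cfsg.quadFormOdd, map_add, map_pow, map_sum, map_mul]

theorem single_fix {F : Type u} [Field F] {ι : Type*} [DecidableEq ι] (τ : RingAut F) (k i : ι) :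
    τ ((Pi.single k (1 : F) : ι → F) i) = (Pi.single k (1 : F) : ι → F) i := by
  by_cases hi : i = k
  · subst hi; simp
  · simp [hi]

set_option maxHeartbeats 1600000 in
theorem field_aut_odd {F : Type u} [Field F] [Fintype F] {p f : ℕ} [Fact p.Prime]
    (hF : Fintype.card F = p ^ f) (hf : 1 ≤ f) (hodd : Odd (Fintype.card F)) {m : ℕ} (hm : 3 ≤ m)
    (hAut : Cfsg.gammaPOmega F (Cfsg.quadFormOdd m F) = ⊤)
    (x : MulAut (Cfsg.POmega F (Cfsg.quadFormOdd m F)))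
    (hx : Cfsg.IsFieldAutClassPOmega (Cfsg.quadFormOdd m F) x) {r : ℕ} (hr : r.Prime)
    (hxr : orderOf x = r) (F₀ : Type v) [Field F₀] [Fintype F₀]
    (hF₀ : Fintype.card F₀ = p ^ (f / r)) :
    r ∣ f ∧
    Nonempty (↥(Cfsg.pgoAut F (Cfsg.quadFormOdd m F) ⊓ Subgroup.centralizer {x}) ≃*
      ↥(Cfsg.pgoAut F₀ (Cfsg.quadFormOdd m F₀))) ∧
    (Odd r → Cfsg.splitClassCount (Cfsg.pgoAut F (Cfsg.quadFormOdd m F))
      (Cfsg.Inn (Cfsg.POmega F (Cfsg.quadFormOdd m F))) x = 1) ∧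
    (r = 2 → Cfsg.splitClassCount (Cfsg.pgoAut F (Cfsg.quadFormOdd m F))
      (Cfsg.Inn (Cfsg.POmega F (Cfsg.quadFormOdd m F))) x = 2) := by
  classical
  have h2 : (2 : F) ≠ 0 := Cfsg.Agent.Lib.Helper50.two_ne_zero_of_odd_card rfl hodd
  obtain ⟨Q, hQdef⟩ : ∃ Q : QuadraticForm F (Unit ⊕ (Fin m ⊕ Fin m) → F),
      Q = (qdataOdd (F := F) m h2).qf := ⟨_, rfl⟩
  have hcoe : ⇑Q = Cfsg.quadFormOdd m F := by rw [hQdef]; rfl
  have hQ : (QuadraticMap.polarBilin Q).Nondegenerate := by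
    rw [hQdef]; exact (qdataOdd (F := F) m h2).qf_nondeg
  have HT : HypTriple Q (fun i => Pi.single (Sum.inr (Sum.inl (Fin.castLE hm i))) 1)
      (fun i => Pi.single (Sum.inr (Sum.inr (Fin.castLE hm i))) 1) := by
    rw [hQdef]; exact hypTriple_odd (F := F) m hm h2
  have hcardι : Odd (Fintype.card (Unit ⊕ (Fin m ⊕ Fin m))) := by
    rw [Fintype.card_sum, Fintype.card_sum, Fintype.card_fin, Fintype.card_unit]
    exact ⟨m, by ring⟩
  have hS : ∀ σ : RingAut F, σ ∈ SInv ⇑Q := by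
    intro σ v
    rw [hcoe]
    exact quadFormOdd_comp m (σ : F ≃+* F).toRingHom v
  have key : ∀ (q : (Unit ⊕ (Fin m ⊕ Fin m) → F) → F), ⇑Q = q →
      Cfsg.gammaPOmega F q = ⊤ → ∀ x : MulAut (Cfsg.POmega F q),
      Cfsg.IsFieldAutClassPOmega q x → orderOf x = r →
      r ∣ f ∧
      (∀ q₀ : (Unit ⊕ (Fin m ⊕ Fin m) → F₀) → F₀, Cfsg.quadFormOdd m F₀ = q₀ →
        Nonempty (↥(Cfsg.pgoAut F q ⊓ Subgroup.centralizer {x}) ≃* ↥(Cfsg.pgoAut F₀ q₀))) ∧
      (Odd r → Cfsg.splitClassCount (Cfsg.pgoAut F q) (Cfsg.Inn (Cfsg.POmega F q)) x = 1) ∧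
      (r = 2 → Cfsg.splitClassCount (Cfsg.pgoAut F q) (Cfsg.Inn (Cfsg.POmega F q)) x = 2) := by
    rintro q rfl hAut x ⟨α, φ, σ, hσ, hstd, hconj⟩ hxr
    obtain ⟨σ', hσ'⟩ : ∃ σ' : ↥(SInv ⇑Q), σ' = ⟨σ, hS σ⟩ := ⟨_, rfl⟩
    have hφ : φ = fieldAutPO (⇑Q) σ' := by
      rw [hσ']; exact (isFieldAut_iff (⇑Q) ⟨σ, hS σ⟩ φ).mp hstd
    have hφo : orderOf (fieldAutPO (⇑Q) σ') = r := by
      rw [← hφ, ← hconj, orderOf_conj_eq, hxr]
    -- faithfulness
    have hinj : Function.Injective (fieldAutPO (⇑Q)) := by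
      rw [injective_iff_map_eq_one]
      intro τ hτ
      refine eq_one_of_fieldAutPO_eq_one Q hQ h2 _ _ HT
        (Pi.single (Sum.inr (Sum.inl (Fin.castLE hm 0))) 1 +
          Pi.single (Sum.inr (Sum.inr (Fin.castLE hm 0))) 1)
        (Pi.single (Sum.inr (Sum.inl (Fin.castLE hm 1))) 1) ?_ (HT.qe 1) ?_ ?_ τ ?_ ?_ hτ
      · rw [QuadraticMap.map_add (⇑Q), HT.qe 0, HT.qf 0, HT.ef]; simp
      · rw [QuadraticMap.polar_add_left, HT.ee 0 1, HT.fe 0 1]; simp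
      · intro h0
        have := congrFun h0 (Sum.inr (Sum.inl (Fin.castLE hm 1)))
        simp at this
      · intro i
        simp only [Pi.add_apply, map_add]
        rw [single_fix, single_fix]
      · intro i
        exact single_fix _ _ _
    have hσo' : orderOf σ' = r := by rw [← hφo, orderOf_injective _ hinj]
    have hσr : orderOf (σ : RingAut F) = r := by
      rw [← hσo', hσ']
      exact (Subgroup.orderOf_mk σ (hS σ)).symm
    have hσ'val : σ'.1 = σ := by rw [hσ']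
    obtain ⟨hrf, -⟩ := card_fixK p hF σ hσr hr.pos
    obtain ⟨j, hj, hj'⟩ := exists_fixed_embedding (F₀ := F₀) p hF σ hσr hr.pos hF₀
    have h2₀ : (2 : F₀) ≠ 0 := by
      intro h0
      apply h2
      have := congrArg j h0
      rwa [map_ofNat, map_zero] at this
    obtain ⟨Q₀, hQ₀def⟩ : ∃ Q₀ : QuadraticForm F₀ (Unit ⊕ (Fin m ⊕ Fin m) → F₀),
        Q₀ = (qdataOdd (F := F₀) m h2₀).qf := ⟨_, rfl⟩
    have hcoe₀ : ⇑Q₀ = Cfsg.quadFormOdd m F₀ := by rw [hQ₀def]; rfl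
    have hQ₀ : (QuadraticMap.polarBilin Q₀).Nondegenerate := by
      rw [hQ₀def]; exact (qdataOdd (F := F₀) m h2₀).qf_nondeg
    have HT₀ : HypTriple Q₀ (fun i => Pi.single (Sum.inr (Sum.inl (Fin.castLE hm i))) 1)
        (fun i => Pi.single (Sum.inr (Sum.inr (Fin.castLE hm i))) 1) := by
      rw [hQ₀def]; exact hypTriple_odd (F := F₀) m hm h2₀
    have hc : Compat Q₀ Q j := by
      intro v
      rw [hcoe, hcoe₀]
      exact quadFormOdd_comp m j v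
    have hu₀ : Q₀ (Pi.single (Sum.inr (Sum.inl (Fin.castLE hm 0))) 1 +
        Pi.single (Sum.inr (Sum.inr (Fin.castLE hm 0))) 1) = 1 := by
      rw [QuadraticMap.map_add (⇑Q₀), HT₀.qe 0, HT₀.qf 0, HT₀.ef]; simp
    have hne : Nonempty (Unit ⊕ (Fin m ⊕ Fin m)) := ⟨Sum.inl ()⟩
    have hDn : (autPO (⇑Q)).range.Normal := range_normal_of_gamma (⇑Q) hS hAut
    have hle : Cfsg.Inn (Cfsg.POmega F ⇑Q) ≤ (autPO (⇑Q)).range := by
      rw [inn_eq]
      rintro _ ⟨ω, -, rfl⟩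
      exact ⟨inclGO Q ω, rfl⟩
    have hσ1 : orderOf σ'.1 = r := by rw [hσ'val]; exact hσr
    have hj1 : ∀ a, σ'.1 (j a) = j a := by rw [hσ'val]; exact hj
    have hj1' : ∀ b : F, σ'.1 b = b → ∃ a, j a = b := by rw [hσ'val]; exact hj'
    have hrange := subAut_range Q₀ Q h2 hc hQ _ _ HT hu₀ σ' hσ1 hr.pos hj1 hj1'
    rw [pgoAut_eq]
    refine ⟨hrf, ?_, ?_, ?_⟩
    · rintro q₀ rfl
      obtain ⟨e2⟩ := centralizer_fieldAut_equiv Q₀ Q h2 hc hQ _ _ HT hQ₀ h2₀ _ _ HT₀ hu₀ σ' hσ1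
        hr.pos hj1 hj1'
      have e1 := centInfEquiv (autPO (⇑Q)).range α x
      rw [hconj, hφ] at e1
      have e3 : ↥(autPO (⇑Q₀)).range ≃* ↥(Cfsg.pgoAut F₀ (Cfsg.quadFormOdd m F₀)) := by
        rw [← hcoe₀, pgoAut_eq]
      exact ⟨e1.trans (e2.trans e3)⟩
    · intro hro
      rw [← splitClassCount_conj _ _ hle α x, hconj, hφ, splitClassCount_eq_relIndex _ _ hle,
        ← hrange]
      apply (relIndex_split Q h2 hQ hcardι _ _ HT _ (by rw [hrange]; exact inf_le_left)).1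
      apply exists_not_inn_of_odd Q₀ Q h2 hc hQ hcardι _ _ HT _ _ HT₀ h2₀
      exact isSquare_descent_odd σ hσr hro j hj hj'
    · intro hr2
      rw [← splitClassCount_conj _ _ hle α x, hconj, hφ, splitClassCount_eq_relIndex _ _ hle,
        ← hrange]
      apply (relIndex_split Q h2 hQ hcardι _ _ HT _ (by rw [hrange]; exact inf_le_left)).2
      apply range_le_inn_of_two Q₀ Q h2 hc hQ hcardι _ _ HT hQ₀ h2₀
      apply isSquare_of_ext_two j
      rw [hF, hF₀, ← pow_mul]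
      congr 1
      subst hr2
      exact (Nat.div_mul_cancel hrf).symm
  obtain ⟨h1, h3, h4, h5⟩ := key _ hcoe hAut x hx hxr
  exact ⟨h1, h3 _ rfl, h4, h5⟩

end Cfsg.Agent.Lib.Helper51.POAut
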