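import Mathlib
import Cfsg.Agent.Lib.Helper51.PSpAut4

set_option autoImplicit false
set_option linter.unusedSectionVars false
set_option linter.unusedVariables false
set_option linter.unusedSimpArgs false

/-! The centraliser of a field automorphism in the inner-diagonal group of `PSp`:
isomorphic to `PGSp` over the fixed field. -/

namespace Cfsg.Agent.Lib.Helper51.PSpAut

open Matrix Cfsg.Agent.Lib.Helper18 Cfsg.Agent.Lib.Helper11.SpPerfect
  Cfsg.Agent.Lib.Helper43.AutPSp Cfsg.Agent.Lib.Helper07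

section iso
variable {F : Type*} [Field F] {F₀ : Type*} [Field F₀] (m : ℕ)

local notation "V" => (Fin m ⊕ Fin m → F)
local notation "S" => Matrix.symplecticGroup (Fin m) F
local notation "Mat" => Matrix (Fin m ⊕ Fin m) (Fin m ⊕ Fin m) F
local notation "Mat₀" => Matrix (Fin m ⊕ Fin m) (Fin m ⊕ Fin m) F₀
local notation "GLm" => GL (Fin m ⊕ Fin m) F
local notation "GS" => { x // x ∈ Cfsg.GSp m F }
local notation "GS₀" => { x // x ∈ Cfsg.GSp m F₀ }

/-- conjugation by the similarities over a subfield -/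
def subConj (ι : F₀ →+* F) : GS₀ →* MulAut (Cfsg.PSp m F) :=
  (conjGSp m).comp (gspMap m ι)

theorem gs_val_ne_zero [NeZero m] (g : GS) : g.1.1 ≠ 0 := by
  intro h
  have h0 : 0 < m := Nat.pos_of_ne_zero (NeZero.ne m)
  have h1 : g.1.1 * g.1⁻¹.1 = 1 := Units.mul_inv g.1
  rw [h, zero_mul] at h1
  have := congrFun (congrFun h1 (Sum.inl ⟨0, h0⟩)) (Sum.inl ⟨0, h0⟩)
  simp at this

theorem subConj_ker [NeZero m] (hm : 2 ≤ m) (ι : F₀ →+* F) :
    (subConj (F := F) m ι).ker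
      = (Cfsg.Geo.scalars (Fin m ⊕ Fin m) F₀).subgroupOf (Cfsg.GSp m F₀) := by
  have h0 : 0 < m := Nat.pos_of_ne_zero (NeZero.ne m)
  ext g₀
  rw [MonoidHom.mem_ker, Subgroup.mem_subgroupOf]
  constructor
  · intro h
    have h1 : gspMap m ι g₀ ∈ (conjGSp (F := F) m).ker := h
    rw [conjGSp_ker m hm, Subgroup.mem_subgroupOf] at h1
    obtain ⟨c, hc⟩ := (Cfsg.Geo.mem_scalars_iff _).mp h1
    have hc' : g₀.1.1.map ι = (c : F) • (1 : Mat) := hc
    have hent : ∀ i j, ι (g₀.1.1 i j) = if i = j then (c : F) else 0 := by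
      intro i j
      have := congrFun (congrFun hc' i) j
      rw [Matrix.map_apply, Matrix.smul_apply, Matrix.one_apply, smul_eq_mul, mul_ite, mul_one,
        mul_zero] at this
      exact this
    set i₀ : Fin m ⊕ Fin m := Sum.inl ⟨0, h0⟩ with hi₀
    have hc0 : g₀.1.1 i₀ i₀ ≠ 0 := by
      intro h2
      have := hent i₀ i₀
      rw [h2, map_zero, if_pos rfl] at this
      exact c.ne_zero this.symm
    apply mem_scalars_of_val m hc0
    ext i j
    apply ι.injective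
    rw [hent i j, Matrix.smul_apply, Matrix.one_apply, smul_eq_mul, mul_ite, mul_one, mul_zero]
    split_ifs with hij
    · rw [hent i₀ i₀, if_pos rfl]
    · rw [map_zero]
  · intro h
    obtain ⟨c, hc⟩ := (Cfsg.Geo.mem_scalars_iff _).mp h
    show conjGSp m (gspMap m ι g₀) = 1
    apply conjGSp_eq_one_of_scalar
    apply mem_scalars_of_val m (c := ι (c : F₀))
      ((map_ne_zero_iff ι ι.injective).mpr c.ne_zero)
    show g₀.1.1.map ι = ι (c : F₀) • (1 : Mat)
    rw [hc]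
    ext i j
    rw [Matrix.map_apply, Matrix.smul_apply, Matrix.smul_apply, Matrix.one_apply, Matrix.one_apply]
    split_ifs <;> simp

theorem smul_sim (g : GS) (y : F) [NeZero m] :
    (y • g.1.1)ᵀ * J (Fin m) F * (y • g.1.1) = (y * y * (mu m g : F)) • J (Fin m) F := by
  rw [Matrix.transpose_smul, Matrix.smul_mul, Matrix.smul_mul, Matrix.mul_smul, mu_mat, smul_smul,
    smul_smul, mul_assoc]

theorem J_entry (h0 : 0 < m) :
    J (Fin m) F (Sum.inl ⟨0, h0⟩) (Sum.inr ⟨0, h0⟩) = -1 := by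
  simp [Matrix.J, Matrix.fromBlocks]

/-- descent: a matrix over the subfield whose image is a similarity is a similarity -/
theorem exists_gs_of_map [NeZero m] (ι : F₀ →+* F) (M₀ : Mat₀) (g : GS) {y : F} (hy : y ≠ 0)
    (hM₀ : M₀.map ι = y • g.1.1) :
    ∃ g₀ : GS₀, (gspMap m ι g₀).1.1 = y • g.1.1 := by
  have h0 : 0 < m := Nat.pos_of_ne_zero (NeZero.ne m)
  have hdet : M₀.det ≠ 0 := by
    intro hz
    have h1 : ι M₀.det = (M₀.map ι).det := RingHom.map_det ι M₀
    rw [hz, map_zero, hM₀, Matrix.det_smul] at h1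
    have h2 : g.1.1.det ≠ 0 := GeneralLinearGroup.det_ne_zero g.1
    exact mul_ne_zero (pow_ne_zero _ hy) h2 h1.symm
  set N₀ : Mat₀ := M₀ᵀ * J (Fin m) F₀ * M₀ with hN₀
  have hN : N₀.map ι = (y * y * (mu m g : F)) • J (Fin m) F := by
    rw [hN₀, Matrix.map_mul, Matrix.map_mul, Matrix.transpose_map, J_map, hM₀, smul_sim]
  set c₀ : F₀ := -N₀ (Sum.inl ⟨0, h0⟩) (Sum.inr ⟨0, h0⟩) with hc₀
  have hιc : ι c₀ = y * y * (mu m g : F) := by
    have := congrFun (congrFun hN (Sum.inl ⟨0, h0⟩)) (Sum.inr ⟨0, h0⟩)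
    rw [Matrix.map_apply, Matrix.smul_apply, J_entry, smul_eq_mul, mul_neg, mul_one] at this
    rw [hc₀, map_neg, this, neg_neg]
  have hc₀0 : c₀ ≠ 0 := by
    intro hz
    rw [hz, map_zero] at hιc
    exact mul_ne_zero (mul_ne_zero hy hy) (mu m g).ne_zero hιc.symm
  have hN' : N₀ = c₀ • J (Fin m) F₀ := by
    apply Matrix.map_injective ι.injective
    show N₀.map ι = (c₀ • J (Fin m) F₀).map ι
    rw [hN, smul_J_map, hιc]
  have hmem : GeneralLinearGroup.mkOfDetNeZero M₀ hdet ∈ Cfsg.GSp m F₀ := by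
    rw [mem_GSp_iff_mat]
    exact ⟨Units.mk0 c₀ hc₀0, hN'⟩
  exact ⟨⟨_, hmem⟩, hM₀⟩

theorem subConj_range [NeZero m] (hm : 2 ≤ m) (σ : RingAut F) {r : ℕ} (hr : orderOf σ = r)
    (hr0 : 0 < r) (ι : F₀ →+* F) (hι : ∀ a, σ (ι a) = ι a)
    (hι' : ∀ b : F, σ b = b → ∃ a, ι a = b) :
    (subConj (F := F) m ι).range
      = (conjGSp (F := F) m).range ⊓ Subgroup.centralizer {fieldAutPSp m σ} := by
  apply le_antisymm
  · rintro _ ⟨g₀, rfl⟩
    refine ⟨⟨_, rfl⟩, ?_⟩
    show conjGSp m (gspMap m ι g₀) ∈ Subgroup.centralizer {fieldAutPSp m σ}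
    rw [conjGSp_mem_centralizer_iff m hm]
    refine ⟨1, ?_⟩
    rw [Units.val_one, one_smul, gspMap_val]
    ext i j
    rw [Matrix.map_apply, Matrix.map_apply]
    exact hι _
  · rintro y ⟨⟨g, rfl⟩, hc⟩
    have hc' : conjGSp m g ∈ Subgroup.centralizer {fieldAutPSp m σ} := hc
    rw [conjGSp_mem_centralizer_iff m hm] at hc'
    obtain ⟨l, hl⟩ := hc'
    obtain ⟨y, hy0, hy⟩ := exists_fixed_rep' σ hr hr0 g.1.1 (gs_val_ne_zero m g) hl
    have hfix : ∀ i j, σ ((y • g.1.1) i j) = (y • g.1.1) i j := by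
      intro i j
      have := congrFun (congrFun hy i) j
      rwa [Matrix.map_apply] at this
    choose a ha using fun i j => hι' _ (hfix i j)
    obtain ⟨g₀, hg₀⟩ := exists_gs_of_map m ι (Matrix.of a) g hy0 (by
      ext i j
      rw [Matrix.map_apply]
      exact ha i j)
    refine ⟨g₀, ?_⟩
    show conjGSp m (gspMap m ι g₀) = conjGSp m g
    exact conjGSp_eq_of_smul m hy0 hg₀

/-- `C_{Inndiag}(φ_σ) ≅ PGSp_2m(F₀)` for `F₀` the fixed field. -/
theorem centralizer_fieldAut_equiv [NeZero m] (hm : 2 ≤ m) (σ : RingAut F) {r : ℕ}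
    (hr : orderOf σ = r) (hr0 : 0 < r) (ι : F₀ →+* F) (hι : ∀ a, σ (ι a) = ι a)
    (hι' : ∀ b : F, σ b = b → ∃ a, ι a = b) :
    Nonempty (↥((conjGSp (F := F) m).range ⊓ Subgroup.centralizer {fieldAutPSp m σ})
      ≃* Cfsg.PGSp m F₀) := by
  have e1 := QuotientGroup.quotientKerEquivRange (subConj (F := F) m ι)
  have e2 := QuotientGroup.quotientMulEquivOfEq (subConj_ker (F := F) m hm ι)
  have e3 := MulEquiv.subgroupCongr (subConj_range m hm σ hr hr0 ι hι hι')
  exact ⟨(e2.symm.trans (e1.trans e3)).symm⟩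

end iso

end Cfsg.Agent.Lib.Helper51.PSpAut
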