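import Mathlib
import Cfsg.Agent.Lib.Helper51.PSpAut5
import Cfsg.Agent.Lib.Helper07.PSLnN
import Cfsg.Agent.Lib.Helper07.SplitClass

set_option autoImplicit false
set_option linter.unusedSectionVars false
set_option linter.unusedVariables false
set_option linter.unusedSimpArgs false

/-! The splitting of the inner-diagonal class of a field automorphism of `PSp` into
`PSp`-classes. -/

namespace Cfsg.Agent.Lib.Helper51.PSpAut

open Matrix Cfsg.Agent.Lib.Helper18 Cfsg.Agent.Lib.Helper11.SpPerfect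
  Cfsg.Agent.Lib.Helper43.AutPSp Cfsg.Agent.Lib.Helper07

section diag
variable {F : Type*} [Field F] (m : ℕ)

local notation "V" => (Fin m ⊕ Fin m → F)
local notation "S" => Matrix.symplecticGroup (Fin m) F
local notation "Mat" => Matrix (Fin m ⊕ Fin m) (Fin m ⊕ Fin m) F
local notation "GLm" => GL (Fin m ⊕ Fin m) F
local notation "GS" => { x // x ∈ Cfsg.GSp m F }

/-- `diag(c,…,c,1,…,1)` -/
def dHomMat : F →* Mat where
  toFun c := Matrix.diagonal (Sum.elim (fun _ => c) (fun _ => 1))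
  map_one' := by
    rw [← Matrix.diagonal_one]
    congr 1
    ext (i | i) <;> rfl
  map_mul' a b := by
    rw [Matrix.diagonal_mul_diagonal]
    congr 1
    ext (i | i) <;> simp

def dGL : Fˣ →* GLm := Units.map (dHomMat m)

theorem dGL_val (c : Fˣ) :
    (dGL m c).1 = Matrix.diagonal (Sum.elim (fun _ => (c : F)) (fun _ => 1)) := rfl

theorem dGL_sim (c : Fˣ) :
    (dGL m c).1ᵀ * J (Fin m) F * (dGL m c).1 = (c : F) • J (Fin m) F := by
  rw [dGL_val, Matrix.diagonal_transpose]
  ext i j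
  rw [Matrix.mul_diagonal, Matrix.diagonal_mul, Matrix.smul_apply]
  rcases i with i | i <;> rcases j with j | j <;>
    simp [Matrix.J, Matrix.fromBlocks, mul_comm]

def dGS (c : Fˣ) : GS := ⟨dGL m c, (mem_GSp_iff_mat m _).mpr ⟨c, dGL_sim m c⟩⟩

theorem mu_dGS [NeZero m] (c : Fˣ) : mu m (dGS m c) = c := mu_of_mat m _ c (dGL_sim m c)

theorem dGS_map_fixed (σ : RingAut F) (c : Fˣ) (hc : σ (c : F) = c) :
    (dGS m c).1.1.map σ = (dGS m c).1.1 := by
  show (Matrix.diagonal _).map σ = Matrix.diagonal _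
  rw [Matrix.diagonal_map (map_zero σ)]
  congr 1
  ext (i | i) <;> simp [hc]

/-- scalar matrices as similarities -/
def scGL : Fˣ →* GLm := Units.map (Matrix.scalar (Fin m ⊕ Fin m) : F →+* Mat).toMonoidHom

theorem scGL_val (u : Fˣ) : (scGL m u).1 = (u : F) • (1 : Mat) := by
  show Matrix.scalar (Fin m ⊕ Fin m) (u : F) = _
  rw [Matrix.smul_one_eq_diagonal]
  rfl

theorem scGL_sim (u : Fˣ) :
    (scGL m u).1ᵀ * J (Fin m) F * (scGL m u).1 = ((u ^ 2 : Fˣ) : F) • J (Fin m) F := by
  rw [scGL_val, Matrix.transpose_smul, Matrix.transpose_one, Matrix.smul_mul, Matrix.one_mul,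
    Matrix.mul_smul, Matrix.mul_one, smul_smul, Units.val_pow_eq_pow_val, sq]

def scGS (u : Fˣ) : GS := ⟨scGL m u, (mem_GSp_iff_mat m _).mpr ⟨u ^ 2, scGL_sim m u⟩⟩

theorem scGS_val (u : Fˣ) : (scGS m u).1.1 = (u : F) • (1 : Mat) := scGL_val m u

theorem mu_scGS [NeZero m] (u : Fˣ) : mu m (scGS m u) = u ^ 2 :=
  mu_of_mat m _ _ (scGL_sim m u)

theorem conjGSp_scGS (u : Fˣ) : conjGSp m (scGS m u) = 1 :=
  conjGSp_eq_one_of_scalar m _ (mem_scalars_of_val m u.ne_zero (scGS_val m u))

theorem eq_scGS_mul {g k : GS} {u : Fˣ} (h : g.1.1 = (u : F) • k.1.1) : g = scGS m u * k := by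
  apply Subtype.ext
  apply Units.ext
  show g.1.1 = (scGS m u).1.1 * k.1.1
  rw [scGS_val, Matrix.smul_mul, Matrix.one_mul, h]

/-- the multiplier of a `σ`-fixed similarity is `σ`-fixed -/
theorem mu_fixed_of_fixed [NeZero m] (σ : RingAut F) (h : GS) (y : F)
    (hy : (y • h.1.1).map σ = y • h.1.1) :
    σ (y * y * (mu m h : F)) = y * y * (mu m h : F) := by
  have h0 : 0 < m := Nat.pos_of_ne_zero (NeZero.ne m)
  have hy' : (y • h.1.1).map (σ : F →+* F) = y • h.1.1 := hy
  have e1 := smul_sim m h y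
  have e2 := congrArg (fun M : Mat => M.map (σ : F →+* F)) e1
  simp only [Matrix.map_mul, Matrix.transpose_map] at e2
  rw [J_map, smul_J_map, hy', e1] at e2
  have := congrFun (congrFun e2 (Sum.inl ⟨0, h0⟩)) (Sum.inr ⟨0, h0⟩)
  rw [Matrix.smul_apply, Matrix.smul_apply, J_entry, smul_eq_mul, smul_eq_mul, mul_neg, mul_neg,
    mul_one, mul_one, neg_inj] at this
  exact this.symm

end diag

section count
variable {F : Type*} [Field F] [Fintype F] (m : ℕ)

local notation "Mat" => Matrix (Fin m ⊕ Fin m) (Fin m ⊕ Fin m) F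
local notation "GS" => { x // x ∈ Cfsg.GSp m F }

theorem relIndex_fieldAut [NeZero m] (hm : 2 ≤ m) (σ : RingAut F) {r : ℕ}
    (hr : orderOf σ = r) (hr0 : 0 < r) :
    (Cfsg.Inn (Cfsg.PSp m F) ⊔ ((conjGSp (F := F) m).range ⊓
        Subgroup.centralizer {fieldAutPSp m σ})).relIndex (conjGSp (F := F) m).range
      = Nat.gcd 2 (fixU σ).index := by
  set C : Subgroup (MulAut (Cfsg.PSp m F)) :=
    (conjGSp (F := F) m).range ⊓ Subgroup.centralizer {fieldAutPSp m σ} with hC
  set M : Subgroup (MulAut (Cfsg.PSp m F)) := Cfsg.Inn (Cfsg.PSp m F) ⊔ C with hM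
  rw [← Subgroup.index_comap]
  set Mt : Subgroup GS := M.comap (conjGSp (F := F) m) with hMt
  have hsurj : Function.Surjective (muHom (F := F) m) := fun c => ⟨dGS m c, mu_dGS m c⟩
  have hker : (muHom (F := F) m).ker ≤ Mt := by
    rw [muHom_ker]
    rintro _ ⟨s, rfl⟩
    show conjGSp m (spG m s) ∈ M
    rw [conjGSp_spG]
    exact Subgroup.mem_sup_left ⟨_, rfl⟩
  rw [← Subgroup.index_map_eq Mt hsurj hker]
  have himg : Mt.map (muHom (F := F) m) = (powMonoidHom 2 : Fˣ →* Fˣ).range ⊔ fixU σ := by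
    apply le_antisymm
    · rintro _ ⟨g, hg, rfl⟩
      have hg' : conjGSp m g ∈ M := hg
      rw [hM, ← SetLike.mem_coe, Subgroup.normal_mul, Set.mem_mul] at hg'
      obtain ⟨a, ⟨z, rfl⟩, b, ⟨⟨h, rfl⟩, hbc⟩, hab⟩ := hg'
      obtain ⟨s, rfl⟩ := QuotientGroup.mk_surjective z
      have hbc' : conjGSp m h ∈ Subgroup.centralizer {fieldAutPSp m σ} := hbc
      rw [conjGSp_mem_centralizer_iff m hm] at hbc'
      obtain ⟨l, hl⟩ := hbc'
      obtain ⟨y, hy0, hy⟩ := exists_fixed_rep' σ hr hr0 h.1.1 (gs_val_ne_zero m h) hl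
      have h1 : conjGSp m g = conjGSp m (spG m s * h) := by
        rw [map_mul, conjGSp_spG]
        exact hab.symm
      obtain ⟨u, hu⟩ := exists_smul_of_conjGSp_eq m hm h1
      have hmug : mu m g = u ^ 2 * mu m h := by
        rw [eq_scGS_mul m hu]
        show muHom m (scGS m u * (spG m s * h)) = _
        rw [map_mul, map_mul, muHom_apply, mu_scGS, muHom_apply, mu_spG, one_mul, muHom_apply]
      let w : Fˣ := Units.mk0 y hy0
      have hv : w ^ 2 * mu m h ∈ fixU σ := by
        rw [mem_fixU]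
        have := mu_fixed_of_fixed m σ h y hy
        rw [Units.val_mul, Units.val_pow_eq_pow_val, sq]
        exact this
      rw [muHom_apply, hmug]
      have e3 : u ^ 2 * mu m h = (u * w⁻¹) ^ 2 * (w ^ 2 * mu m h) := by
        rw [mul_pow, inv_pow, mul_assoc, inv_mul_cancel_left]
      rw [e3]
      exact Subgroup.mul_mem _ (Subgroup.mem_sup_left ⟨u * w⁻¹, rfl⟩) (Subgroup.mem_sup_right hv)
    · rw [sup_le_iff]
      constructor
      · rintro _ ⟨u, rfl⟩
        refine ⟨scGS m u, ?_, ?_⟩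
        · show conjGSp m (scGS m u) ∈ M
          rw [conjGSp_scGS]
          exact Subgroup.one_mem _
        · rw [muHom_apply, mu_scGS]
          rfl
      · intro u hu
        refine ⟨dGS m u, ?_, mu_dGS m u⟩
        show conjGSp m (dGS m u) ∈ M
        apply Subgroup.mem_sup_right
        refine ⟨⟨_, rfl⟩, ?_⟩
        show conjGSp m (dGS m u) ∈ Subgroup.centralizer {fieldAutPSp m σ}
        rw [conjGSp_mem_centralizer_iff m hm]
        exact ⟨1, by
          rw [Units.val_one, one_smul]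
          exact dGS_map_fixed m σ u ((mem_fixU σ u).mp hu)⟩
  rw [himg, index_range_pow_sup]

/-- in characteristic two the inner-diagonal group is the inner automorphism group -/
theorem range_eq_inn_of_char_two [NeZero m] (h2 : ringChar F = 2) :
    (conjGSp (F := F) m).range = Cfsg.Inn (Cfsg.PSp m F) := by
  apply le_antisymm
  · rintro _ ⟨g, rfl⟩
    obtain ⟨c, hc⟩ := FiniteField.isSquare_of_char_two h2 (mu m g : F)
    have hc0 : c ≠ 0 := by
      rintro rfl
      rw [mul_zero] at hc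
      exact (mu m g).ne_zero hc
    let u : Fˣ := Units.mk0 c hc0
    have hmu : mu m ((scGS m u)⁻¹ * g) = 1 := by
      show muHom m ((scGS m u)⁻¹ * g) = 1
      rw [map_mul, map_inv, muHom_apply, mu_scGS, muHom_apply, inv_mul_eq_one]
      apply Units.ext
      rw [Units.val_pow_eq_pow_val, sq, hc]
      rfl
    obtain ⟨s, hs⟩ := exists_spG_of_mu m _ hmu
    have hg : g = scGS m u * spG m s := by rw [hs, mul_inv_cancel_left]
    rw [hg, map_mul, conjGSp_scGS, one_mul, conjGSp_spG]
    exact ⟨_, rfl⟩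
  · exact inn_le_range m

end count

section arith

theorem gcd_two_of_odd {n : ℕ} (h : Odd n) : Nat.gcd 2 n = 1 :=
  Nat.coprime_two_left.mpr h

theorem gcd_two_of_even {n : ℕ} (h : Even n) : Nat.gcd 2 n = 2 :=
  Nat.gcd_eq_left h.two_dvd

theorem gcd_arith {p f r : ℕ} (hp : p.Prime) (hr : r.Prime) (hrf : r ∣ f) (hf : 1 ≤ f) :
    Nat.gcd 2 ((p ^ f - 1) / (p ^ (f / r) - 1)) = Nat.gcd (Nat.gcd 2 (p ^ f - 1)) r := by
  obtain ⟨k, rfl⟩ := hrf
  have hk : 1 ≤ k := by
    rcases Nat.eq_zero_or_pos k with rfl | h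
    · omega
    · exact h
  rw [Nat.mul_div_cancel_left _ hr.pos, mul_comm r k, pow_mul]
  set q := p ^ k with hq
  have hq2 : 2 ≤ q := by
    calc 2 ≤ p := hp.two_le
      _ = p ^ 1 := (pow_one p).symm
      _ ≤ p ^ k := Nat.pow_le_pow_right hp.pos hk
  rw [← Nat.geomSum_eq hq2 r]
  have hq1 : 1 ≤ q ^ r := Nat.one_le_pow _ _ (by omega)
  rcases hp.eq_two_or_odd' with rfl | hodd
  · -- characteristic two
    have hqe : Even q := by
      rw [hq]
      exact (Nat.even_pow.mpr ⟨even_two, by omega⟩)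
    have h1 : Odd (q ^ r - 1) := by
      have : Even (q ^ r) := Nat.even_pow.mpr ⟨hqe, hr.pos.ne'⟩
      exact Nat.Even.sub_odd hq1 this odd_one
    rw [gcd_two_of_odd h1, Nat.gcd_one_left]
    apply gcd_two_of_odd
    obtain ⟨r', rfl⟩ : ∃ r', r = r' + 1 := ⟨r - 1, by have := hr.pos; omega⟩
    rw [Finset.sum_range_succ', pow_zero]
    apply Even.add_one
    apply Finset.even_sum
    intro i _
    exact Nat.even_pow.mpr ⟨hqe, by omega⟩
  · have hqo : Odd q := by
      rw [hq]
      exact hodd.pow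
    have h1 : Even (q ^ r - 1) := by
      have : Odd (q ^ r) := hqo.pow
      exact Nat.Odd.sub_odd this odd_one
    rw [gcd_two_of_even h1]
    have hS : Odd (∑ i ∈ Finset.range r, q ^ i) ↔ Odd r := by
      rw [Finset.odd_sum_iff_odd_card_odd]
      have : (Finset.range r).filter (fun i => Odd (q ^ i)) = Finset.range r := by
        apply Finset.filter_true_of_mem
        intro i _
        exact hqo.pow
      rw [this, Finset.card_range]
    rcases Nat.even_or_odd r with he | ho
    · rw [gcd_two_of_even he]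
      apply gcd_two_of_even
      rw [← Nat.not_odd_iff_even, hS, Nat.not_odd_iff_even]
      exact he
    · rw [gcd_two_of_odd ho]
      exact gcd_two_of_odd (hS.mpr ho)

end arith

end Cfsg.Agent.Lib.Helper51.PSpAut
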