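import Mathlib
import Cfsg.Agent.Lib.Helper51.PSpAut6

set_option autoImplicit false
set_option linter.unusedSectionVars false
set_option linter.unusedVariables false
set_option linter.unusedSimpArgs false

/-! The semilinear group `PΓSp` inside `Aut(PSp)`: products of a conjugation by a similarity
and a field automorphism. -/

namespace Cfsg.Agent.Lib.Helper51.PSpAut

open Matrix Cfsg.Agent.Lib.Helper18 Cfsg.Agent.Lib.Helper11.SpPerfect
  Cfsg.Agent.Lib.Helper43.AutPSp Cfsg.Agent.Lib.Helper07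

section gam
variable {F : Type*} [Field F] (m : ℕ)

local notation "V" => (Fin m ⊕ Fin m → F)
local notation "ff" => Cfsg.sympForm m F
local notation "S" => Matrix.symplecticGroup (Fin m) F
local notation "Mat" => Matrix (Fin m ⊕ Fin m) (Fin m ⊕ Fin m) F
local notation "GLm" => GL (Fin m ⊕ Fin m) F
local notation "GS" => { x // x ∈ Cfsg.GSp m F }

theorem fieldAut_inv_mul_conj (σ : RingAut F) (g : GS) :
    (fieldAutPSp m σ)⁻¹ * conjGSp m g
      = conjGSp m (gspMap m ((σ⁻¹ : RingAut F) : F →+* F) g) * (fieldAutPSp m σ)⁻¹ := by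
  rw [← map_inv, fieldAut_mul_conj]

/-- the group of semilinear automorphisms -/
def gamSub : Subgroup (MulAut (Cfsg.PSp m F)) where
  carrier := {α | ∃ (g : GS) (τ : RingAut F), α = conjGSp m g * fieldAutPSp m τ}
  one_mem' := ⟨1, 1, by rw [map_one, map_one, mul_one]⟩
  mul_mem' := by
    rintro _ _ ⟨g, σ, rfl⟩ ⟨h, τ, rfl⟩
    refine ⟨g * gspMap m (σ : F →+* F) h, σ * τ, ?_⟩
    rw [map_mul, map_mul, mul_assoc, ← mul_assoc (fieldAutPSp m σ), fieldAut_mul_conj]
    simp only [mul_assoc]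
  inv_mem' := by
    rintro _ ⟨g, σ, rfl⟩
    refine ⟨gspMap m ((σ⁻¹ : RingAut F) : F →+* F) g⁻¹, σ⁻¹, ?_⟩
    rw [_root_.mul_inv_rev, ← map_inv (conjGSp m), fieldAut_inv_mul_conj, map_inv (fieldAutPSp m)]

theorem mem_gamSub {α : MulAut (Cfsg.PSp m F)} :
    α ∈ gamSub (F := F) m ↔ ∃ (g : GS) (τ : RingAut F), α = conjGSp m g * fieldAutPSp m τ :=
  Iff.rfl

theorem gamma_le_gamSub : Cfsg.gammaPSp m F ≤ gamSub (F := F) m := by
  unfold Cfsg.gammaPSp Cfsg.autSubgroupOf
  rw [Subgroup.closure_le]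
  rintro β ⟨g, σ, hg, hβ⟩
  exact ⟨⟨g, hg⟩, σ, eq_of_induced m hg hβ⟩

theorem gamSub_eq_top_of_gamma (h : Cfsg.gammaPSp m F = ⊤) : gamSub (F := F) m = ⊤ := by
  rw [eq_top_iff, ← h]
  exact gamma_le_gamSub m

theorem range_le_gamSub : (conjGSp (F := F) m).range ≤ gamSub (F := F) m := by
  rintro _ ⟨g, rfl⟩
  exact ⟨g, 1, by rw [map_one, mul_one]⟩

theorem fieldAut_mem_gamSub (τ : RingAut F) : fieldAutPSp m τ ∈ gamSub (F := F) m :=
  ⟨1, τ, by rw [map_one, one_mul]⟩

/-- powers of a semilinear automorphism -/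
theorem pow_semilinear (g : GS) (σ : RingAut F) (k : ℕ) :
    ∃ g' : GS, (conjGSp m g * fieldAutPSp m σ) ^ k = conjGSp m g' * fieldAutPSp m (σ ^ k) := by
  induction k with
  | zero => exact ⟨1, by rw [pow_zero, pow_zero, map_one, map_one, mul_one]⟩
  | succ k ih =>
    obtain ⟨g', hg'⟩ := ih
    refine ⟨g' * gspMap m ((σ ^ k : RingAut F) : F →+* F) g, ?_⟩
    rw [pow_succ, hg', pow_succ, map_mul, map_mul, mul_assoc,
      ← mul_assoc (fieldAutPSp m (σ ^ k)), fieldAut_mul_conj]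
    simp only [mul_assoc]

/-- injectivity of `c ↦ [t_e(c)]` -/
theorem prj_tv_injective [NeZero m] (hm : 2 ≤ m) {e : V} (he : e ≠ 0) {c d : F}
    (h : prj m (tv m e c) = prj m (tv m e d)) : c = d := by
  have hplus : (∀ x : V, (tv m e c).1 *ᵥ x = (tv m e d).1 *ᵥ x) → c = d := by
    intro h2
    obtain ⟨x, hx⟩ := exists_pair_ne_zero m he
    have := h2 x
    rw [tv_act, tv_act, hx, mul_one, mul_one] at this
    have h3 : c • e = d • e := add_left_cancel this
    by_contra hne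
    have h4 : (c - d) • e = 0 := by rw [sub_smul, h3, sub_self]
    rcases smul_eq_zero.mp h4 with h5 | h5
    · exact hne (sub_eq_zero.mp h5)
    · exact he h5
  rcases (prj_eq_iff_act m).mp h with h2 | h2
  · exact hplus h2
  · obtain ⟨x, hx0, hxe, -⟩ := exists_perp2 m hm e e
    have h3 := h2 x
    rw [tv_act, tv_act, hxe, mul_zero, zero_smul, add_zero, mul_zero, zero_smul, add_zero] at h3
    have h4 : (2 : F) = 0 := by
      by_contra h2ne
      have : (2 : F) • x = 0 := by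
        rw [two_smul]
        nth_rewrite 1 [h3]
        rw [neg_add_cancel]
      exact hx0 ((smul_eq_zero.mp this).resolve_left h2ne)
    have hneg : ∀ w : V, -w = w := by
      intro w
      have : (2 : F) • w = 0 := by rw [h4, zero_smul]
      rw [two_smul] at this
      exact (eq_neg_of_add_eq_zero_left this).symm
    apply hplus
    intro y
    rw [h2 y, hneg]

/-- a field automorphism induced by a similarity is trivial -/
theorem fieldAut_eq_one_of_mem_range [NeZero m] (hm : 2 ≤ m) {τ : RingAut F}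
    (h : fieldAutPSp m τ ∈ (conjGSp (F := F) m).range) : τ = 1 := by
  obtain ⟨g, hg⟩ := h
  have h0 : 0 < m := Nat.pos_of_ne_zero (NeZero.ne m)
  obtain ⟨e, he, hτe⟩ : ∃ e : V, e ≠ 0 ∧ (fun i => τ (e i)) = e := by
    refine ⟨Pi.single (Sum.inl ⟨0, h0⟩) 1, ?_, ?_⟩
    · intro h
      have := congrFun h (Sum.inl ⟨0, h0⟩)
      simp at this
    · ext i
      simp [Pi.single_apply, apply_ite]
  have key : ∀ c : F, prj m (tv m (g.1.1 *ᵥ e) (c * ((mu m g : F))⁻¹)) = prj m (tv m e (τ c)) := by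
    intro c
    have := congrArg (fun β : MulAut (Cfsg.PSp m F) => β (prj m (tv m e c))) hg
    beta_reduce at this
    rw [prj_apply, conjGSp_mk, cjHom_tv, fieldAutPSp_mk, fieldAutS_tv, hτe] at this
    exact this
  have hge : g.1.1 *ᵥ e ≠ 0 := gs_act_ne_zero m g he
  have hμ : (mu m g : F) ≠ 0 := (mu m g).ne_zero
  obtain ⟨a, ha⟩ : ∃ a : F, g.1.1 *ᵥ e = a • e := by
    have h1 := key 1
    rw [map_one] at h1
    exact par_of_prj_tv_eq m hm hge (by rw [one_mul]; exact inv_ne_zero hμ) h1.symm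
  have key2 : ∀ c : F, a * a * (c * ((mu m g : F))⁻¹) = τ c := by
    intro c
    have := key c
    rw [ha, tv_smul] at this
    exact prj_tv_injective m hm he this
  have h1 := key2 1
  rw [map_one, one_mul] at h1
  ext c
  show τ c = c
  rw [← key2 c]
  calc a * a * (c * ((mu m g : F))⁻¹) = c * (a * a * ((mu m g : F))⁻¹) := by ring
    _ = c := by rw [h1, mul_one]

theorem isStd_fieldAutPSp (σ : F ≃+* F) : Cfsg.IsStdFieldAutPSp σ (fieldAutPSp m σ) := by
  intro s s' h
  rw [fieldAutPSp_mk]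
  congr 1
  apply Subtype.ext
  rw [h]
  rfl

theorem isInnerDiagonal_of_mem_range {β : MulAut (Cfsg.PSp m F)}
    (h : β ∈ (conjGSp (F := F) m).range) : Cfsg.IsInnerDiagonalAutPSp β := by
  obtain ⟨g, rfl⟩ := h
  exact ⟨g.1, g.2, isInduced_conjGSp m g⟩

/-- a semilinear automorphism of prime order that is not inner-diagonal has a field part of the
same order -/
theorem orderOf_field_part [NeZero m] (hm : 2 ≤ m) {p : ℕ} (hp : p.Prime) (g : GS) (σ : RingAut F)
    (hord : orderOf (conjGSp m g * fieldAutPSp m σ) = p)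
    (hnot : ¬ Cfsg.IsInnerDiagonalAutPSp (conjGSp m g * fieldAutPSp m σ)) : orderOf σ = p := by
  have hσ1 : σ ≠ 1 := by
    rintro rfl
    apply hnot
    rw [map_one, mul_one]
    exact isInnerDiagonal_of_mem_range m ⟨g, rfl⟩
  obtain ⟨g', hg'⟩ := pow_semilinear m g σ p
  rw [← hord, pow_orderOf_eq_one, hord] at hg'
  have h1 : fieldAutPSp m (σ ^ p) ∈ (conjGSp (F := F) m).range := by
    refine ⟨g'⁻¹, ?_⟩
    rw [map_inv, inv_eq_iff_eq_inv, eq_inv_iff_mul_eq_one]
    exact hg'.symm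
  have h2 := fieldAut_eq_one_of_mem_range m hm h1
  have : Fact p.Prime := ⟨hp⟩
  exact orderOf_eq_prime h2 hσ1

end gam

end Cfsg.Agent.Lib.Helper51.PSpAut
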