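import Mathlib
import Cfsg.Agent.Lib.Helper51.PSpAut7
import Cfsg.Agent.Lib.Helper43.AutPSpOdd

set_option autoImplicit false
set_option linter.unusedSectionVars false
set_option linter.unusedVariables false
set_option linter.unusedSimpArgs false

/-! Fixed points of a standard field automorphism on `PSp`. -/

namespace Cfsg.Agent.Lib.Helper51.PSpAut

open Matrix Cfsg.Agent.Lib.Helper18 Cfsg.Agent.Lib.Helper11.SpPerfect
  Cfsg.Agent.Lib.Helper43.AutPSp Cfsg.Agent.Lib.Helper07

section fixed
variable {F : Type*} [Field F] (m : ℕ)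

local notation "V" => (Fin m ⊕ Fin m → F)
local notation "ff" => Cfsg.sympForm m F
local notation "S" => Matrix.symplecticGroup (Fin m) F
local notation "Mat" => Matrix (Fin m ⊕ Fin m) (Fin m ⊕ Fin m) F
local notation "GLm" => GL (Fin m ⊕ Fin m) F
local notation "GS" => { x // x ∈ Cfsg.GSp m F }
local notation "K" => Cfsg.PSp m F

/-- the symplectic matrices fixed by `σ` -/
def spFix (σ : RingAut F) : Subgroup S where
  carrier := {s | fieldAutS m σ s = s}
  one_mem' := map_one _
  mul_mem' := by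
    intro a b ha hb
    show fieldAutS m σ (a * b) = a * b
    rw [map_mul]
    have ha' : fieldAutS m σ a = a := ha
    have hb' : fieldAutS m σ b = b := hb
    rw [ha', hb']
  inv_mem' := by
    intro a ha
    show fieldAutS m σ a⁻¹ = a⁻¹
    have ha' : fieldAutS m σ a = a := ha
    rw [map_inv, ha']

theorem mem_spFix {σ : RingAut F} {s : S} : s ∈ spFix m σ ↔ fieldAutS m σ s = s := Iff.rfl

theorem mem_spFix_iff {σ : RingAut F} {s : S} : s ∈ spFix m σ ↔ s.1.map σ = s.1 := by
  rw [mem_spFix]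
  constructor
  · intro h
    have := congrArg Subtype.val h
    exact this
  · intro h
    exact Subtype.ext h

/-- the image of the fixed symplectic matrices in `PSp` -/
def L0 (σ : RingAut F) : Subgroup K := (spFix m σ).map (prj m)

/-- the fixed points of an automorphism -/
def fixP (x : MulAut K) : Subgroup K := MonoidHom.eqLocus x.toMonoidHom (MonoidHom.id K)

theorem mem_fixP {x : MulAut K} {k : K} : k ∈ fixP m x ↔ x k = k := Iff.rfl

theorem L0_le_fixP (σ : RingAut F) : L0 m σ ≤ fixP m (fieldAutPSp m σ) := by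
  rintro _ ⟨s, hs, rfl⟩
  rw [mem_fixP, prj_apply, fieldAutPSp_mk, (mem_spFix m).mp hs]

theorem negOne_mul_val (t : S) : (negOne m * t).1 = -t.1 := by
  rw [val_mul]
  show (-1 : Mat) * t.1 = -t.1
  rw [neg_mul, one_mul]

theorem negOne_sq : negOne (F := F) m * negOne m = 1 := by
  apply Subtype.ext
  rw [negOne_mul_val, val_one]
  show -(-1 : Mat) = 1
  rw [neg_neg]

/-- a lift of a fixed point is fixed up to sign -/
theorem lift_fixP [NeZero m] {σ : RingAut F} {t : S} (h : prj m t ∈ fixP m (fieldAutPSp m σ)) :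
    fieldAutS m σ t = t ∨ fieldAutS m σ t = negOne m * t := by
  have hk' : prj m (fieldAutS m σ t) = prj m t := h
  rcases (prj_eq_iff m).mp hk' with h | h
  · left
    exact Subtype.ext h
  · right
    apply Subtype.ext
    rw [negOne_mul_val, h]

theorem conj_mem_L0 [NeZero m] (σ : RingAut F) {k l : K} (hk : k ∈ fixP m (fieldAutPSp m σ))
    (hl : l ∈ L0 m σ) : k * l * k⁻¹ ∈ L0 m σ := by
  obtain ⟨t, rfl⟩ := prj_surjective m k
  obtain ⟨s, hs, rfl⟩ := hl
  refine ⟨t * s * t⁻¹, ?_, by rw [map_mul, map_mul, map_inv]⟩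
  rw [SetLike.mem_coe, mem_spFix, map_mul, map_mul, map_inv, (mem_spFix m).mp hs]
  rcases lift_fixP m hk with h | h
  · rw [h]
  · rw [h, _root_.mul_inv_rev]
    calc negOne m * t * s * (t⁻¹ * (negOne m)⁻¹)
        = negOne m * (t * s * t⁻¹) * (negOne m)⁻¹ := by group
      _ = (t * s * t⁻¹) * negOne m * (negOne m)⁻¹ := by rw [negOne_comm]
      _ = t * s * t⁻¹ := by group

theorem sq_mem_L0 [NeZero m] (σ : RingAut F) {k : K} (hk : k ∈ fixP m (fieldAutPSp m σ)) :
    k ^ 2 ∈ L0 m σ := by
  obtain ⟨t, rfl⟩ := prj_surjective m k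
  refine ⟨t ^ 2, ?_, by rw [map_pow]⟩
  rw [SetLike.mem_coe, mem_spFix, map_pow]
  rcases lift_fixP m hk with h | h
  · rw [h]
  · rw [h, sq, sq]
    calc negOne m * t * (negOne m * t) = negOne m * (t * negOne m) * t := by group
      _ = negOne m * (negOne m * t) * t := by rw [← negOne_comm m t]
      _ = (negOne m * negOne m) * t * t := by group
      _ = t * t := by rw [negOne_sq, one_mul]

theorem mem_L0_of_odd [NeZero m] (σ : RingAut F) {k : K} (hk : k ∈ fixP m (fieldAutPSp m σ))
    (hodd : Odd (orderOf k)) : k ∈ L0 m σ := by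
  obtain ⟨j, hj⟩ := hodd
  have h1 : k = (k ^ 2) ^ (j + 1) := by
    rw [← pow_mul, show 2 * (j + 1) = orderOf k + 1 by omega, pow_succ, pow_orderOf_eq_one,
      one_mul]
  rw [h1]
  exact Subgroup.pow_mem _ (sq_mem_L0 m σ hk) _

theorem dvd_card_L0_of_odd [NeZero m] [Finite F] (σ : RingAut F) {p : ℕ} [hp : Fact p.Prime]
    (hp2 : p ≠ 2) (h : p ∣ Nat.card (fixP m (fieldAutPSp m σ))) : p ∣ Nat.card (L0 m σ) := by
  obtain ⟨x, hx⟩ := exists_prime_orderOf_dvd_card' p h
  have hx' : orderOf (x : K) = p := by rw [Subgroup.orderOf_coe, hx]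
  have hmem : (x : K) ∈ L0 m σ := by
    apply mem_L0_of_odd m σ x.2
    rw [hx']
    exact hp.out.odd_of_ne_two hp2
  have h2 : orderOf (⟨(x : K), hmem⟩ : L0 m σ) = p := by
    rw [← hx', ← Subgroup.orderOf_coe]
  rw [← h2]
  exact orderOf_dvd_natCard _

/-! ### an involution in `L0` in odd characteristic -/

/-- the diagonal `(-1,1,…,1 ; -1,1,…,1)` -/
def npd [NeZero m] : Fin m ⊕ Fin m → F :=
  Sum.elim (fun i => if i = 0 then -1 else 1) (fun i => if i = 0 then -1 else 1)

theorem npd_mul [NeZero m] (i : Fin m) : npd (F := F) m (Sum.inl i) * npd m (Sum.inr i) = 1 := by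
  unfold npd
  simp only [Sum.elim_inl, Sum.elim_inr]
  split_ifs <;> simp

theorem npd_sq [NeZero m] (i : Fin m ⊕ Fin m) : npd (F := F) m i * npd m i = 1 := by
  unfold npd
  rcases i with i | i <;> simp only [Sum.elim_inl, Sum.elim_inr] <;> split_ifs <;> simp

theorem negPair_mem [NeZero m] :
    Matrix.diagonal (npd (F := F) m) ∈ Matrix.symplecticGroup (Fin m) F := by
  rw [SymplecticGroup.mem_iff, diagonal_transpose]
  ext i j
  rw [mul_diagonal, diagonal_mul]
  rcases i with i | i <;> rcases j with j | j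
  · simp [J, fromBlocks]
  · by_cases hij : i = j
    · subst hij
      have := npd_mul (F := F) m i
      simp only [J, fromBlocks_apply₁₂, Matrix.neg_apply, Matrix.one_apply_eq]
      rw [mul_neg, mul_one, neg_mul, this]
    · simp [J, fromBlocks, Matrix.one_apply, hij]
  · by_cases hij : i = j
    · subst hij
      have := npd_mul (F := F) m i
      simp only [J, fromBlocks_apply₂₁, Matrix.one_apply_eq]
      rw [mul_one, mul_comm, this]
    · simp [J, fromBlocks, Matrix.one_apply, hij]
  · simp [J, fromBlocks]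

def negPair [NeZero m] : S := ⟨Matrix.diagonal (npd (F := F) m), negPair_mem m⟩

theorem negPair_sq [NeZero m] : negPair (F := F) m ^ 2 = 1 := by
  apply Subtype.ext
  rw [sq, val_mul, val_one]
  show Matrix.diagonal (npd (F := F) m) * Matrix.diagonal (npd m) = 1
  rw [diagonal_mul_diagonal, ← diagonal_one]
  congr 1
  ext i
  exact npd_sq m i

theorem negPair_mem_spFix [NeZero m] (σ : RingAut F) : negPair (F := F) m ∈ spFix m σ := by
  rw [mem_spFix_iff]
  show (Matrix.diagonal (npd (F := F) m)).map σ = Matrix.diagonal (npd m)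
  rw [Matrix.diagonal_map (map_zero σ)]
  congr 1
  ext i
  unfold npd
  rcases i with i | i <;> simp only [Function.comp, Sum.elim_inl, Sum.elim_inr] <;>
    split_ifs <;> simp

theorem prj_negPair_ne_one [NeZero m] (hm : 2 ≤ m) (h2 : (2 : F) ≠ 0) :
    prj m (negPair (F := F) m) ≠ 1 := by
  intro h
  have h0 : 0 < m := by omega
  rw [← map_one (prj m), Cfsg.Agent.Lib.Helper43.AutPSp.prj_eq_iff] at h
  have hne : (1 : F) ≠ -1 := by
    intro h3
    apply h2
    calc (2 : F) = 1 + 1 := by norm_num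
      _ = -1 + 1 := by rw [← h3]
      _ = 0 := by ring
  rcases h with h | h
  · have := congrFun (congrFun h (Sum.inl 0)) (Sum.inl 0)
    rw [val_one] at this
    have e1 : (negPair (F := F) m).1 (Sum.inl 0) (Sum.inl 0) = -1 := by
      show Matrix.diagonal (npd (F := F) m) (Sum.inl 0) (Sum.inl 0) = -1
      rw [Matrix.diagonal_apply_eq]
      simp [npd]
    rw [e1, Matrix.one_apply_eq] at this
    exact hne this.symm
  · have h1m : (⟨1, hm⟩ : Fin m) ≠ 0 := by
      intro h4
      have := congrArg Fin.val h4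
      simp at this
    have := congrFun (congrFun h (Sum.inl ⟨1, hm⟩)) (Sum.inl ⟨1, hm⟩)
    rw [val_one] at this
    have e1 : (negPair (F := F) m).1 (Sum.inl ⟨1, hm⟩) (Sum.inl ⟨1, hm⟩) = 1 := by
      show Matrix.diagonal (npd (F := F) m) (Sum.inl ⟨1, hm⟩) (Sum.inl ⟨1, hm⟩) = 1
      rw [Matrix.diagonal_apply_eq]
      simp [npd, h1m]
    rw [e1, Matrix.neg_apply, Matrix.one_apply_eq] at this
    exact hne this

theorem two_dvd_card_L0 [NeZero m] [Finite F] (hm : 2 ≤ m) (h2 : (2 : F) ≠ 0) (σ : RingAut F) :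
    2 ∣ Nat.card (L0 m σ) := by
  have hmem : prj m (negPair (F := F) m) ∈ L0 m σ := ⟨_, negPair_mem_spFix m σ, rfl⟩
  have hord : orderOf (⟨_, hmem⟩ : L0 m σ) = 2 := by
    rw [← Subgroup.orderOf_coe]
    apply orderOf_eq_prime
    · rw [← map_pow, negPair_sq, map_one]
    · exact prj_negPair_ne_one m hm h2
  rw [← hord]
  exact orderOf_dvd_natCard _

end fixed

end Cfsg.Agent.Lib.Helper51.PSpAut
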