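import Mathlib
import Cfsg.Agent.Lib.Helper51.PSpAut8

set_option autoImplicit false
set_option linter.unusedSectionVars false
set_option linter.unusedVariables false
set_option linter.unusedSimpArgs false

/-! Automorphisms centralising the fixed points of a field automorphism of `PSp`. -/

namespace Cfsg.Agent.Lib.Helper51.PSpAut

open Matrix Cfsg.Agent.Lib.Helper18 Cfsg.Agent.Lib.Helper11.SpPerfect
  Cfsg.Agent.Lib.Helper43.AutPSp Cfsg.Agent.Lib.Helper07

section gen
variable {F : Type*} [Field F]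

theorem scalar_of_basis_eigen {ι : Type*} [Fintype ι] [DecidableEq ι] (M : Matrix ι ι F)
    (h1 : ∀ i : ι, ∃ c : F, M *ᵥ Pi.single i 1 = c • Pi.single i 1)
    (h2 : ∀ i j : ι, i ≠ j → ∃ c : F,
      M *ᵥ (Pi.single i 1 + Pi.single j 1) = c • (Pi.single i 1 + Pi.single j 1)) :
    ∃ c : F, M = c • (1 : Matrix ι ι F) := by
  rcases isEmpty_or_nonempty ι with he | ⟨⟨i₀⟩⟩
  · exact ⟨0, by ext i; exact (he.false i).elim⟩
  choose c hc using h1
  have hcc : ∀ i j, c i = c j := by
    intro i j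
    by_cases hij : i = j
    · rw [hij]
    obtain ⟨d, hd⟩ := h2 i j hij
    rw [mulVec_add, hc, hc, smul_add] at hd
    have e1 := congrFun hd i
    have e2 := congrFun hd j
    simp [Pi.single_apply, hij, Ne.symm hij] at e1 e2
    rw [e1, e2]
  refine ⟨c i₀, ?_⟩
  ext i j
  have := congrFun (hc j) i
  rw [mulVec_single_one] at this
  rw [hcc i₀ j]
  simpa [Matrix.one_apply, Pi.single_apply, eq_comm] using this

/-- Galois correspondence for a cyclic group of field automorphisms -/
theorem mem_zpowers_of_fixes [Finite F] (σ τ : RingAut F) (h : ∀ c : F, σ c = c → τ c = c) :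
    τ ∈ Subgroup.zpowers σ := by
  have : Finite (RingAut F) :=
    Finite.of_injective (fun τ : RingAut F => (τ : F → F)) DFunLike.coe_injective
  let G := Subgroup.zpowers σ
  let τ' : F →ₐ[FixedPoints.subfield G F] F :=
    { (τ : F →+* F) with
      commutes' := fun a => by
        have ha : σ (a : F) = a := a.2 ⟨σ, Subgroup.mem_zpowers σ⟩
        exact h _ ha }
  obtain ⟨γ, hγ⟩ := (FixedPoints.toAlgHom_bijective G F).2 τ'
  have e : τ = (γ : RingAut F) := by
    ext a
    have := congrArg (fun φ : F →ₐ[FixedPoints.subfield G F] F => φ a) hγ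
    exact this.symm
  rw [e]
  exact γ.2

end gen

section cent
variable {F : Type*} [Field F] (m : ℕ)

local notation "V" => (Fin m ⊕ Fin m → F)
local notation "ff" => Cfsg.sympForm m F
local notation "S" => Matrix.symplecticGroup (Fin m) F
local notation "Mat" => Matrix (Fin m ⊕ Fin m) (Fin m ⊕ Fin m) F
local notation "GLm" => GL (Fin m ⊕ Fin m) F
local notation "GS" => { x // x ∈ Cfsg.GSp m F }
local notation "K" => Cfsg.PSp m F

theorem tv_mem_spFix (σ : RingAut F) {v : V} (hv : (fun i => σ (v i)) = v) {c : F} (hc : σ c = c) :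
    tv m v c ∈ spFix m σ := by
  rw [mem_spFix, fieldAutS_tv, hv, hc]

theorem semilinear_apply_tv (g : GS) (τ : RingAut F) (v : V) (c : F) :
    (conjGSp m g * fieldAutPSp m τ) (prj m (tv m v c))
      = prj m (tv m (g.1.1 *ᵥ fun i => τ (v i)) (τ c * ((mu m g : F))⁻¹)) := by
  rw [MulAut.mul_apply, prj_apply, fieldAutPSp_mk, fieldAutS_tv, conjGSp_mk, cjHom_tv]
  rfl

theorem single_fixed (τ : RingAut F) (i : Fin m ⊕ Fin m) :
    (fun j => τ ((Pi.single i 1 : V) j)) = Pi.single i 1 := by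
  ext j
  simp [Pi.single_apply, apply_ite]

theorem single_add_fixed (τ : RingAut F) (i j : Fin m ⊕ Fin m) :
    (fun k => τ ((Pi.single i 1 + Pi.single j 1 : V) k)) = Pi.single i 1 + Pi.single j 1 := by
  ext k
  have e1 := congrFun (single_fixed m τ i) k
  have e2 := congrFun (single_fixed m τ j) k
  beta_reduce at e1 e2
  rw [Pi.add_apply, map_add, e1, e2]

theorem single_ne_zero (i : Fin m ⊕ Fin m) : (Pi.single i 1 : V) ≠ 0 := by
  intro h
  have := congrFun h i
  simp at this

theorem single_add_ne_zero {i j : Fin m ⊕ Fin m} (hij : i ≠ j) :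
    (Pi.single i 1 + Pi.single j 1 : V) ≠ 0 := by
  intro h
  have := congrFun h i
  simp [Pi.single_apply, hij] at this

/-- a semilinear automorphism fixing `L0 σ` pointwise is a field automorphism fixing `Fix σ` -/
theorem fixes_L0_imp [NeZero m] (hm : 2 ≤ m) (σ : RingAut F) (g : GS) (τ : RingAut F)
    (h : ∀ k ∈ L0 m σ, (conjGSp m g * fieldAutPSp m τ) k = k) :
    conjGSp m g = 1 ∧ ∀ c : F, σ c = c → τ c = c := by
  have hμ : ((mu m g : F))⁻¹ ≠ 0 := inv_ne_zero (mu m g).ne_zero
  have key : ∀ v : V, v ≠ 0 → (fun i => σ (v i)) = v → (fun i => τ (v i)) = v →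
      ∃ a : F, g.1.1 *ᵥ v = a • v := by
    intro v hv hσv hτv
    have h1 := h (prj m (tv m v 1)) ⟨_, tv_mem_spFix m σ hσv (map_one σ), rfl⟩
    rw [semilinear_apply_tv, hτv, map_one] at h1
    exact par_of_prj_tv_eq m hm (gs_act_ne_zero m g hv) (by rw [one_mul]; exact hμ) h1.symm
  obtain ⟨a, ha⟩ := scalar_of_basis_eigen g.1.1
    (fun i => key _ (single_ne_zero m i) (single_fixed m σ i) (single_fixed m τ i))
    (fun i j hij => key _ (single_add_ne_zero m hij) (single_add_fixed m σ i j)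
      (single_add_fixed m τ i j))
  have h0 : 0 < m := Nat.pos_of_ne_zero (NeZero.ne m)
  have ha0 : a ≠ 0 := by
    rintro rfl
    apply gs_act_ne_zero m g (single_ne_zero m (Sum.inl ⟨0, h0⟩))
    rw [ha, zero_smul, zero_mulVec]
  have hg1 : conjGSp m g = 1 := conjGSp_eq_one_of_scalar m g (mem_scalars_of_val m ha0 ha)
  refine ⟨hg1, fun c hc => ?_⟩
  have h1 := h (prj m (tv m (Pi.single (Sum.inl ⟨0, h0⟩) 1) c))
    ⟨_, tv_mem_spFix m σ (single_fixed m σ _) hc, rfl⟩
  rw [hg1, one_mul, prj_apply, fieldAutPSp_mk, fieldAutS_tv, single_fixed, ← prj_apply,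
    ← prj_apply] at h1
  exact prj_tv_injective m hm (single_ne_zero m _) h1

/-- elements of `PΓSp` fixing `L0 σ` pointwise are powers of the field automorphism -/
theorem mem_zpowers_of_fixes_L0 [NeZero m] [Finite F] (hm : 2 ≤ m) (σ : RingAut F)
    {α : MulAut K} (hα : α ∈ gamSub (F := F) m) (h : ∀ k ∈ L0 m σ, α k = k) :
    α ∈ Subgroup.zpowers (fieldAutPSp m σ) := by
  obtain ⟨g, τ, rfl⟩ := hα
  obtain ⟨hg1, hτ⟩ := fixes_L0_imp m hm σ g τ h
  rw [hg1, one_mul]
  have := mem_zpowers_of_fixes σ τ hτ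
  obtain ⟨k, rfl⟩ := Subgroup.mem_zpowers_iff.mp this
  rw [map_zpow]
  exact Subgroup.zpow_mem_zpowers _ k

end cent

end Cfsg.Agent.Lib.Helper51.PSpAut
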