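import Mathlib
import Cfsg.Agent.Lib.Helper51.PSpAut9
import Cfsg.Agent.Lib.Helper07.PSLnM

set_option autoImplicit false
set_option linter.unusedSectionVars false
set_option linter.unusedVariables false
set_option linter.unusedSimpArgs false

/-! The fixed points of a field automorphism on `PSp` contain a copy of `PSp` over the fixed
field; normal subgroups of the fixed-point group of order prime to `p`. -/

namespace Cfsg.Agent.Lib.Helper51.PSpAut

open Matrix Cfsg.Agent.Lib.Helper18 Cfsg.Agent.Lib.Helper11.SpPerfect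
  Cfsg.Agent.Lib.Helper43.AutPSp Cfsg.Agent.Lib.Helper07

section sub
variable {F : Type*} [Field F] [Fintype F] (m : ℕ)

local notation "V" => (Fin m ⊕ Fin m → F)
local notation "S" => Matrix.symplecticGroup (Fin m) F
local notation "Mat" => Matrix (Fin m ⊕ Fin m) (Fin m ⊕ Fin m) F
local notation "GS" => { x // x ∈ Cfsg.GSp m F }
local notation "K" => Cfsg.PSp m F

/-- entrywise field map on `Sp` -/
def spMap {F' : Type*} [Field F'] (ι : F' →+* F) : Matrix.symplecticGroup (Fin m) F' →* S where
  toFun s := ⟨s.1.map ι, map_mem (F := F') m ι s⟩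
  map_one' := Subtype.ext (by
    show (1 : Matrix.symplecticGroup (Fin m) F').1.map ι = (1 : S).1
    rw [val_one, val_one]
    exact Matrix.map_one ι (map_zero ι) (map_one ι))
  map_mul' a b := Subtype.ext (by
    show (a * b).1.map ι = a.1.map ι * b.1.map ι
    rw [val_mul, Matrix.map_mul])

theorem spMap_val {F' : Type*} [Field F'] (ι : F' →+* F) (s : Matrix.symplecticGroup (Fin m) F') :
    (spMap m ι s).1 = s.1.map ι := rfl

/-- the centre of `Sp` consists of `±1` -/
theorem mem_center_iff_val [NeZero m] {s : S} :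
    s ∈ Subgroup.center S ↔ s.1 = 1 ∨ s.1 = -1 := by
  have h1 : s ∈ Subgroup.center S ↔ prj m s = prj m 1 := by
    rw [map_one, prj_apply, QuotientGroup.eq_one_iff]
  rw [h1, Cfsg.Agent.Lib.Helper43.AutPSp.prj_eq_iff, val_one]

variable (σ : RingAut F)

/-- `Sp` over the fixed field, mapped into `PSp` -/
noncomputable def subPsi : Matrix.symplecticGroup (Fin m) (fixK σ) →* K :=
  (prj m).comp (spMap m (fixK σ).subtype)

theorem subPsi_ker [NeZero m] :
    (subPsi m σ).ker = Subgroup.center (Matrix.symplecticGroup (Fin m) (fixK σ)) := by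
  ext s
  rw [MonoidHom.mem_ker, mem_center_iff_val]
  have h1 : subPsi m σ s = 1 ↔ prj m (spMap m (fixK σ).subtype s) = prj m 1 := by
    rw [map_one]
    rfl
  rw [h1, Cfsg.Agent.Lib.Helper43.AutPSp.prj_eq_iff, val_one, spMap_val]
  have hinj : Function.Injective ((fixK σ).subtype) := Subtype.val_injective
  constructor
  · rintro (h | h)
    · left
      apply Matrix.map_injective hinj
      beta_reduce
      rw [h]
      exact (Matrix.map_one _ (map_zero _) (map_one _)).symm
    · right
      apply Matrix.map_injective hinj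
      beta_reduce
      rw [h]
      ext i j
      simp [Matrix.map_apply, Matrix.one_apply, apply_ite]
  · rintro (h | h)
    · left
      rw [h]
      exact Matrix.map_one _ (map_zero _) (map_one _)
    · right
      rw [h]
      ext i j
      simp [Matrix.map_apply, Matrix.one_apply, apply_ite]

theorem subPsi_range : (subPsi m σ).range = L0 m σ := by
  apply le_antisymm
  · rintro _ ⟨s, rfl⟩
    refine ⟨spMap m (fixK σ).subtype s, ?_, rfl⟩
    rw [SetLike.mem_coe, mem_spFix_iff, spMap_val]
    ext i j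
    rw [Matrix.map_apply, Matrix.map_apply]
    exact (mem_fixK σ _).mp (s.1 i j).2
  · rintro _ ⟨s, hs, rfl⟩
    rw [SetLike.mem_coe, mem_spFix_iff] at hs
    have hent : ∀ i j, s.1 i j ∈ fixK σ := by
      intro i j
      rw [mem_fixK]
      have := congrFun (congrFun hs i) j
      rwa [Matrix.map_apply] at this
    let M₀ : Matrix (Fin m ⊕ Fin m) (Fin m ⊕ Fin m) (fixK σ) :=
      Matrix.of fun i j => ⟨s.1 i j, hent i j⟩
    have hM₀ : M₀.map (fixK σ).subtype = s.1 := by
      ext i j
      rfl
    have hinj : Function.Injective ((fixK σ).subtype) := Subtype.val_injective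
    have hmem : M₀ ∈ Matrix.symplecticGroup (Fin m) (fixK σ) := by
      rw [SymplecticGroup.mem_iff]
      apply Matrix.map_injective hinj
      show (M₀ * J (Fin m) (fixK σ) * M₀ᵀ).map (fixK σ).subtype
        = (J (Fin m) (fixK σ)).map (fixK σ).subtype
      rw [Matrix.map_mul, Matrix.map_mul, Matrix.transpose_map, J_map, hM₀,
        (SymplecticGroup.mem_iff (A := s.1)).mp s.2]
    refine ⟨⟨M₀, hmem⟩, ?_⟩
    show prj m (spMap m (fixK σ).subtype ⟨M₀, hmem⟩) = prj m s
    congr 1

/-- `L0 σ ≅ PSp` over the fixed field -/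
theorem L0_equiv [NeZero m] : Nonempty (Cfsg.PSp m (fixK σ) ≃* ↥(L0 m σ)) := by
  have e1 := QuotientGroup.quotientKerEquivRange (subPsi m σ)
  have e2 := QuotientGroup.quotientMulEquivOfEq (subPsi_ker m σ)
  have e3 := MulEquiv.subgroupCongr (subPsi_range m σ)
  exact ⟨e2.symm.trans (e1.trans e3)⟩

/-- no normal subgroups of order prime to `p` in a simple group of order divisible by `p` -/
theorem no_normal_of_simple {p : ℕ} (hsimp : IsSimpleGroup ↥(L0 m σ))
    (hdvd : p ∣ Nat.card (L0 m σ)) (hp1 : p ≠ 1) (M : Subgroup K) (hM : M ≤ L0 m σ)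
    (hnorm : ∀ l ∈ L0 m σ, ∀ a ∈ M, l * a * l⁻¹ ∈ M) (hcop : (Nat.card M).Coprime p) :
    M = ⊥ := by
  have hN : (M.subgroupOf (L0 m σ)).Normal := by
    refine ⟨fun a ha l => ?_⟩
    rw [Subgroup.mem_subgroupOf] at ha ⊢
    exact hnorm l.1 l.2 a.1 ha
  rcases hN.eq_bot_or_eq_top with h | h
  · rw [Subgroup.subgroupOf_eq_bot] at h
    exact (disjoint_of_le_iff_left_eq_bot hM).mp h
  · rw [Subgroup.subgroupOf_eq_top] at h
    have : M = L0 m σ := le_antisymm hM h
    rw [this] at hcop
    exfalso
    have h1 : p ∣ Nat.gcd (Nat.card (L0 m σ)) p := Nat.dvd_gcd hdvd dvd_rfl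
    rw [hcop] at h1
    exact hp1 (Nat.dvd_one.mp h1)

end sub

end Cfsg.Agent.Lib.Helper51.PSpAut
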