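import Mathlib
import Cfsg.Agent.Lib.Helper51.PSpAut10

set_option autoImplicit false
set_option linter.unusedSectionVars false
set_option linter.unusedVariables false
set_option linter.unusedSimpArgs false

/-! Normal subgroups of order prime to `p` in the centraliser of a field automorphism of
`PSp` of prime order `p`. -/

namespace Cfsg.Agent.Lib.Helper51.PSpAut

open Matrix Cfsg.Agent.Lib.Helper18 Cfsg.Agent.Lib.Helper11.SpPerfect
  Cfsg.Agent.Lib.Helper43.AutPSp Cfsg.Agent.Lib.Helper07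

section grp
variable {X : Type*} [Group X]

theorem aut_mul_conj (x : MulAut X) (k : X) : x * MulAut.conj k = MulAut.conj (x k) * x := by
  ext z
  simp [MulAut.mul_apply, MulAut.conj_apply, map_mul, map_inv]

theorem aut_conj_conj (x : MulAut X) (k : X) : x * MulAut.conj k * x⁻¹ = MulAut.conj (x k) := by
  rw [aut_mul_conj, mul_assoc, mul_inv_cancel, mul_one]

/-- the predicate: a nontrivial subgroup of `𝒢 ∩ C(y)` of order prime to `p`, normalised by
`𝒢 ∩ C(y)` -/
def HasPPrimeNormal (p : ℕ) (𝒢 : Subgroup X) (y : X) : Prop :=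
  ∃ N : Subgroup X, N ≤ 𝒢 ⊓ Subgroup.centralizer {y} ∧
    (∀ c ∈ 𝒢 ⊓ Subgroup.centralizer {y}, ∀ n ∈ N, c * n * c⁻¹ ∈ N) ∧
    (Nat.card N).Coprime p ∧ N ≠ ⊥

theorem hasPPrimeNormal_conj {p : ℕ} {𝒢 : Subgroup X} {y : X} (a : X)
    (h : HasPPrimeNormal p 𝒢 y) :
    HasPPrimeNormal p (𝒢.map (MulAut.conj a).toMonoidHom) (a * y * a⁻¹) := by
  obtain ⟨N, hN, hnorm, hcop, hne⟩ := h
  have hθ : Function.Injective (MulAut.conj a).toMonoidHom := (MulAut.conj a).injective
  have hinf : (𝒢 ⊓ Subgroup.centralizer {y}).map (MulAut.conj a).toMonoidHom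
      = 𝒢.map (MulAut.conj a).toMonoidHom ⊓ Subgroup.centralizer {a * y * a⁻¹} := by
    rw [Subgroup.map_inf _ _ _ hθ, map_conj_centralizer]
  refine ⟨N.map (MulAut.conj a).toMonoidHom, ?_, ?_, ?_, ?_⟩
  · rw [← hinf]
    exact Subgroup.map_mono hN
  · rw [← hinf]
    rintro _ ⟨c, hc, rfl⟩ _ ⟨n, hn, rfl⟩
    refine ⟨c * n * c⁻¹, hnorm c hc n hn, ?_⟩
    rw [map_mul, map_mul, map_inv]
  · rw [Nat.card_congr (Subgroup.equivMapOfInjective N _ hθ).toEquiv.symm]
    exact hcop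
  · intro h0
    apply hne
    rw [Subgroup.map_eq_bot_iff_of_injective _ hθ] at h0
    exact h0

end grp

section balance
variable {F : Type*} [Field F] [Fintype F] (m : ℕ)

local notation "V" => (Fin m ⊕ Fin m → F)
local notation "S" => Matrix.symplecticGroup (Fin m) F
local notation "Mat" => Matrix (Fin m ⊕ Fin m) (Fin m ⊕ Fin m) F
local notation "GS" => { x // x ∈ Cfsg.GSp m F }
local notation "K" => Cfsg.PSp m F

theorem center_PSp_eq_bot [NeZero m] (hm : 2 ≤ m) : Subgroup.center K = ⊥ := by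
  rw [eq_bot_iff]
  intro a ha
  rw [Subgroup.mem_bot]
  obtain ⟨t, rfl⟩ := prj_surjective m a
  have h1 : MulAut.conj (prj m t) = 1 := by
    ext k
    rw [MulAut.conj_apply, MulAut.one_apply]
    rw [Subgroup.mem_center_iff] at ha
    rw [← ha k, mul_inv_cancel_right]
  have h2 : spG m t ∈ (conjGSp (F := F) m).ker := by
    rw [MonoidHom.mem_ker, conjGSp_spG]
    exact h1
  rw [conjGSp_ker m hm, Subgroup.mem_subgroupOf] at h2
  obtain ⟨c, hc⟩ := (Cfsg.Geo.mem_scalars_iff _).mp h2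
  have hc' : t.1 = (c : F) • (1 : Mat) := hc
  rw [prj_apply, QuotientGroup.eq_one_iff, Subgroup.mem_center_iff]
  intro g
  apply Subtype.ext
  rw [val_mul, val_mul, hc', Matrix.mul_smul, Matrix.smul_mul, Matrix.mul_one, Matrix.one_mul]

theorem conj_injective [NeZero m] (hm : 2 ≤ m) :
    Function.Injective (MulAut.conj : K →* MulAut K) := by
  rw [injective_iff_map_eq_one]
  intro a ha
  have : a ∈ Subgroup.center K := by
    rw [Subgroup.mem_center_iff]
    intro g
    have := congrArg (fun β : MulAut K => β g) ha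
    simp only [MulAut.conj_apply, MulAut.one_apply] at this
    calc g * a = (a * g * a⁻¹) * a := by rw [this]
      _ = a * g := by group
  rw [center_PSp_eq_bot m hm] at this
  exact this

variable (σ : RingAut F) (p : ℕ)

/-- no normal subgroup of `L0 σ` of order prime to `p` -/
def NoNormalPPrime : Prop :=
  ∀ M : Subgroup K, M ≤ L0 m σ → (∀ l ∈ L0 m σ, ∀ a ∈ M, l * a * l⁻¹ ∈ M) →
    (Nat.card M).Coprime p → M = ⊥

theorem claimA [NeZero m] (hm : 2 ≤ m) (hL : NoNormalPPrime m σ p)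
    (M : Subgroup K) (hM : M ≤ fixP m (fieldAutPSp m σ))
    (hnorm : ∀ k ∈ fixP m (fieldAutPSp m σ), ∀ a ∈ M, k * a * k⁻¹ ∈ M)
    (hcop : (Nat.card M).Coprime p) : M = ⊥ := by
  have hM₁ : M ⊓ L0 m σ = ⊥ := by
    apply hL _ inf_le_right
    · intro l hl b hb
      exact ⟨hnorm l (L0_le_fixP m σ hl) b hb.1,
        Subgroup.mul_mem _ (Subgroup.mul_mem _ hl hb.2) (Subgroup.inv_mem _ hl)⟩
    · exact Nat.Coprime.coprime_dvd_left (Subgroup.card_dvd_of_le inf_le_left) hcop
  rw [eq_bot_iff]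
  intro a ha
  rw [Subgroup.mem_bot]
  have hcomm : ∀ l ∈ L0 m σ, (MulAut.conj a) l = l := by
    intro l hl
    have hc : a * l * a⁻¹ * l⁻¹ ∈ M ⊓ L0 m σ := by
      constructor
      · have h1 : l * a⁻¹ * l⁻¹ ∈ M := hnorm l (L0_le_fixP m σ hl) a⁻¹ (Subgroup.inv_mem _ ha)
        have h2 : a * l * a⁻¹ * l⁻¹ = a * (l * a⁻¹ * l⁻¹) := by group
        rw [h2]
        exact Subgroup.mul_mem _ ha h1
      · exact Subgroup.mul_mem _ (conj_mem_L0 m σ (hM ha) hl) (Subgroup.inv_mem _ hl)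
    rw [hM₁, Subgroup.mem_bot] at hc
    rw [MulAut.conj_apply]
    exact mul_inv_eq_one.mp hc
  have h1 : MulAut.conj a ∈ gamSub (F := F) m :=
    range_le_gamSub m (inn_le_range m ⟨a, rfl⟩)
  have h2 := mem_zpowers_of_fixes_L0 m hm σ h1 hcomm
  obtain ⟨k, hk⟩ := Subgroup.mem_zpowers_iff.mp h2
  rw [← map_zpow] at hk
  have h3 : fieldAutPSp m (σ ^ k) ∈ (conjGSp (F := F) m).range := by
    rw [hk]
    exact inn_le_range m ⟨a, rfl⟩
  have h4 := fieldAut_eq_one_of_mem_range m hm h3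
  rw [h4, map_one] at hk
  exact conj_injective m hm (hk.symm.trans (map_one _).symm)

end balance

end Cfsg.Agent.Lib.Helper51.PSpAut
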