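import Mathlib
import Cfsg.Agent.Lib.Helper51.PSpAut11

set_option autoImplicit false
set_option linter.unusedSectionVars false
set_option linter.unusedVariables false
set_option linter.unusedSimpArgs false

/-! Local balance for field automorphisms of `PSp`: the two directions for a standard field
automorphism. -/

namespace Cfsg.Agent.Lib.Helper51.PSpAut

open Matrix Cfsg.Agent.Lib.Helper18 Cfsg.Agent.Lib.Helper11.SpPerfect
  Cfsg.Agent.Lib.Helper43.AutPSp Cfsg.Agent.Lib.Helper07

section balance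
variable {F : Type*} [Field F] [Fintype F] (m : ℕ)

local notation "V" => (Fin m ⊕ Fin m → F)
local notation "S" => Matrix.symplecticGroup (Fin m) F
local notation "Mat" => Matrix (Fin m ⊕ Fin m) (Fin m ⊕ Fin m) F
local notation "GS" => { x // x ∈ Cfsg.GSp m F }
local notation "K" => Cfsg.PSp m F

theorem conj_mem_centralizer {x : MulAut K} {k : K} (hk : k ∈ fixP m x) :
    MulAut.conj k ∈ Subgroup.centralizer {x} := by
  rw [Subgroup.mem_centralizer_iff]
  intro y hy
  rw [Set.mem_singleton_iff] at hy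
  subst hy
  rw [aut_mul_conj, (mem_fixP m).mp hk]

theorem mem_fixP_of_conj_mem [NeZero m] (hm : 2 ≤ m) {x : MulAut K} {k : K}
    (h : MulAut.conj k ∈ Subgroup.centralizer {x}) : k ∈ fixP m x := by
  rw [Subgroup.mem_centralizer_iff] at h
  have h1 := h x rfl
  rw [aut_mul_conj] at h1
  have h2 : MulAut.conj (x k) = MulAut.conj k := mul_right_cancel h1
  exact conj_injective m hm h2

/-- a normal subgroup of `C_𝒢(φ_σ)` of order prime to `p` is trivial, when `p` divides the
order of `L0 σ` -/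
theorem core_trivial_std [NeZero m] (hm : 2 ≤ m) (σ : RingAut F) {p : ℕ} [hp : Fact p.Prime]
    (hσ : orderOf σ = p) (hL : NoNormalPPrime m σ p)
    (𝒢 : Subgroup (MulAut K)) (hinn : ∀ k : K, MulAut.conj k ∈ 𝒢)
    (N : Subgroup (MulAut K)) (hN : N ≤ 𝒢 ⊓ Subgroup.centralizer {fieldAutPSp m σ})
    (hNnorm : ∀ c ∈ 𝒢 ⊓ Subgroup.centralizer {fieldAutPSp m σ}, ∀ n ∈ N, c * n * c⁻¹ ∈ N)
    (hcop : (Nat.card N).Coprime p)
    (hΓ : ∀ n ∈ N, (∀ k ∈ L0 m σ, n k = k) → n ∈ gamSub (F := F) m) : N = ⊥ := by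
  set x := fieldAutPSp m σ with hx
  have hconjmem : ∀ k ∈ fixP m x, MulAut.conj k ∈ 𝒢 ⊓ Subgroup.centralizer {x} :=
    fun k hk => ⟨hinn k, conj_mem_centralizer m hk⟩
  -- the inner part of `N`
  set M : Subgroup K := N.comap (MulAut.conj : K →* MulAut K) with hM
  have hMfix : M ≤ fixP m x := by
    intro k hk
    exact mem_fixP_of_conj_mem m hm (hN hk).2
  have hMnorm : ∀ k ∈ fixP m x, ∀ a ∈ M, k * a * k⁻¹ ∈ M := by
    intro k hk a ha
    show MulAut.conj (k * a * k⁻¹) ∈ N
    rw [map_mul, map_mul, map_inv]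
    exact hNnorm _ (hconjmem k hk) _ ha
  have hMcop : (Nat.card M).Coprime p := by
    have hinj := conj_injective (F := F) m hm
    have h1 : Nat.card M = Nat.card (M.map (MulAut.conj : K →* MulAut K)) :=
      Nat.card_congr (Subgroup.equivMapOfInjective M _ hinj).toEquiv
    have h2 : M.map (MulAut.conj : K →* MulAut K) ≤ N := Subgroup.map_comap_le _ _
    rw [h1]
    exact Nat.Coprime.coprime_dvd_left (Subgroup.card_dvd_of_le h2) hcop
  have hM0 : M = ⊥ := claimA m σ p hm hL M hMfix hMnorm hMcop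
  -- `N` fixes the fixed points of `x`
  have hfix : ∀ n ∈ N, ∀ k ∈ fixP m x, n k = k := by
    intro n hn k hk
    have h1 : n * MulAut.conj k * n⁻¹ * (MulAut.conj k)⁻¹ ∈ N := by
      have h2 : MulAut.conj k * n⁻¹ * (MulAut.conj k)⁻¹ ∈ N :=
        hNnorm _ (hconjmem k hk) _ (Subgroup.inv_mem _ hn)
      have h3 : n * MulAut.conj k * n⁻¹ * (MulAut.conj k)⁻¹
          = n * (MulAut.conj k * n⁻¹ * (MulAut.conj k)⁻¹) := by group
      rw [h3]
      exact Subgroup.mul_mem _ hn h2
    rw [aut_conj_conj, ← map_inv, ← map_mul] at h1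
    have h4 : n k * k⁻¹ ∈ M := h1
    rw [hM0, Subgroup.mem_bot] at h4
    exact mul_inv_eq_one.mp h4
  -- hence `N` lies in the group generated by `x`
  have hle : N ≤ Subgroup.zpowers x := by
    intro n hn
    have h1 : ∀ k ∈ L0 m σ, n k = k := fun k hk => hfix n hn k (L0_le_fixP m σ hk)
    exact mem_zpowers_of_fixes_L0 m hm σ (hΓ n hn h1) h1
  have hcard : Nat.card (Subgroup.zpowers x) = p := by
    rw [Nat.card_zpowers, hx, orderOf_fieldAutPSp m hm, hσ]
  have hdvd : Nat.card N ∣ p := by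
    rw [← hcard]
    exact Subgroup.card_dvd_of_le hle
  have h1 : Nat.card N = 1 := by
    have := Nat.Coprime.eq_one_of_dvd hcop hdvd
    exact this
  exact Subgroup.card_eq_one.mp h1

/-- the inner automorphisms fixed by `β` form a normal subgroup of `C_𝒢(β)` -/
theorem core_nontrivial [NeZero m] (hm : 2 ≤ m) (𝒢 : Subgroup (MulAut K))
    (hinn : ∀ k : K, MulAut.conj k ∈ 𝒢) (β : MulAut K) {p : ℕ}
    (hcop : (Nat.card (fixP m β)).Coprime p) (hne : fixP m β ≠ ⊥) :
    HasPPrimeNormal p 𝒢 β := by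
  have hinj := conj_injective (F := F) m hm
  refine ⟨(fixP m β).map (MulAut.conj : K →* MulAut K), ?_, ?_, ?_, ?_⟩
  · rintro _ ⟨k, hk, rfl⟩
    exact ⟨hinn k, conj_mem_centralizer m hk⟩
  · rintro c ⟨-, hc⟩ _ ⟨k, hk, rfl⟩
    refine ⟨c k, ?_, (aut_conj_conj c k).symm⟩
    rw [SetLike.mem_coe, mem_fixP]
    have hc' : c ∈ Subgroup.centralizer {β} := hc
    rw [Subgroup.mem_centralizer_iff] at hc'
    have h1 := hc' β rfl
    have h2 := congrArg (fun γ : MulAut K => γ k) h1
    simp only [MulAut.mul_apply] at h2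
    rw [h2, (mem_fixP m).mp hk]
  · rw [← Nat.card_congr (Subgroup.equivMapOfInjective (fixP m β) _ hinj).toEquiv]
    exact hcop
  · intro h0
    apply hne
    rw [Subgroup.map_eq_bot_iff_of_injective _ hinj] at h0
    exact h0

end balance

end Cfsg.Agent.Lib.Helper51.PSpAut
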