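import Mathlib
import Cfsg.Agent.Lib.Helper51.PSpAut12
import Cfsg.Agent.Lib.Helper01.PPrimeCore
import Cfsg.Agent.S2713

set_option autoImplicit false
set_option linter.unusedSectionVars false
set_option linter.unusedVariables false
set_option linter.unusedSimpArgs false

/-! Local balance for `PSp`: the master statement, modulo membership in `PΓSp` and the
normal structure of the fixed-point group. -/

namespace Cfsg.Agent.Lib.Helper51.PSpAut

open Matrix Cfsg.Agent.Lib.Helper18 Cfsg.Agent.Lib.Helper11.SpPerfect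
  Cfsg.Agent.Lib.Helper43.AutPSp Cfsg.Agent.Lib.Helper07

section grp
variable {X : Type*} [Group X]

theorem core_ne_bot_iff [Finite X] (p : ℕ) (𝒢 : Subgroup X) (y : X) :
    Cfsg.pPrimeCore p ↥(𝒢 ⊓ Subgroup.centralizer {y}) ≠ ⊥ ↔ HasPPrimeNormal p 𝒢 y := by
  set H : Subgroup X := 𝒢 ⊓ Subgroup.centralizer {y} with hH
  constructor
  · intro h
    have hnorm := Cfsg.Agent.Lib.Helper01.pPrimeCore_normal (G := ↥H) p
    have hcop := Cfsg.Agent.Lib.Helper01.pPrimeCore_card_coprime (G := ↥H) p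
    have hinj : Function.Injective H.subtype := Subtype.val_injective
    refine ⟨(Cfsg.pPrimeCore p ↥H).map H.subtype, ?_, ?_, ?_, ?_⟩
    · exact Subgroup.map_subtype_le _
    · rintro c hc _ ⟨n, hn, rfl⟩
      refine ⟨⟨c, hc⟩ * n * ⟨c, hc⟩⁻¹, hnorm.conj_mem n hn ⟨c, hc⟩, rfl⟩
    · rw [← Nat.card_congr (Subgroup.equivMapOfInjective _ _ hinj).toEquiv]
      exact hcop
    · intro h0
      apply h
      rw [Subgroup.map_eq_bot_iff_of_injective _ hinj] at h0
      exact h0
  · rintro ⟨N, hN, hnorm, hcop, hne⟩ h0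
    have hNn : (N.subgroupOf H).Normal := by
      refine ⟨fun a ha c => ?_⟩
      rw [Subgroup.mem_subgroupOf] at ha ⊢
      exact hnorm c.1 c.2 a.1 ha
    have hc : (Nat.card (N.subgroupOf H)).Coprime p := by
      rw [Nat.card_congr (Subgroup.subgroupOfEquivOfLe hN).toEquiv]
      exact hcop
    have hle := Cfsg.Agent.Lib.Helper01.le_pPrimeCore hNn hc
    rw [h0, le_bot_iff, Subgroup.subgroupOf_eq_bot] at hle
    exact hne ((disjoint_of_le_iff_left_eq_bot hN).mp hle)

end grp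

section master
variable {F : Type*} [Field F] [Fintype F] (m : ℕ)

local notation "V" => (Fin m ⊕ Fin m → F)
local notation "S" => Matrix.symplecticGroup (Fin m) F
local notation "K" => Cfsg.PSp m F

theorem fixP_conj (h y : MulAut K) : fixP m (h * y * h⁻¹) = (fixP m y).map h.toMonoidHom := by
  ext k
  rw [mem_fixP, Subgroup.mem_map]
  constructor
  · intro hk
    refine ⟨h⁻¹ k, ?_, ?_⟩
    · rw [mem_fixP]
      have := congrArg (fun z => h⁻¹ z) hk
      simp only [MulAut.mul_apply, MulAut.inv_apply_self] at this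
      exact this
    · show h (h⁻¹ k) = k
      exact MulAut.apply_inv_self _ _ _
  · rintro ⟨k', hk', rfl⟩
    show (h * y * h⁻¹) (h k') = h k'
    rw [MulAut.mul_apply, MulAut.mul_apply, MulAut.inv_apply_self, (mem_fixP m).mp hk']

theorem card_fixP_conj (h y : MulAut K) :
    Nat.card (fixP m (h * y * h⁻¹)) = Nat.card (fixP m y) := by
  rw [fixP_conj]
  exact (Nat.card_congr (Subgroup.equivMapOfInjective _ _ h.injective).toEquiv).symm

theorem prj_tv_one_ne_one [NeZero m] (hm : 2 ≤ m) {e : V} (he : e ≠ 0) :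
    prj m (tv m e 1) ≠ 1 := by
  intro h
  have h1 : prj m (tv m e 1) = prj m (tv m e 0) := by rw [h, tv_zero, map_one]
  exact one_ne_zero (prj_tv_injective m hm he h1)

theorem fixP_fieldAut_ne_bot [NeZero m] (hm : 2 ≤ m) (σ : RingAut F) :
    fixP m (fieldAutPSp m σ) ≠ ⊥ := by
  have h0 : 0 < m := Nat.pos_of_ne_zero (NeZero.ne m)
  intro h
  have hmem : prj m (tv m (Pi.single (Sum.inl ⟨0, h0⟩) 1 : V) 1) ∈ fixP m (fieldAutPSp m σ) :=
    L0_le_fixP m σ ⟨_, tv_mem_spFix m σ (single_fixed m σ _) (map_one σ), rfl⟩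
  rw [h, Subgroup.mem_bot] at hmem
  exact prj_tv_one_ne_one m hm (single_ne_zero m _) hmem

/-- the master statement -/
theorem local_balance_master {r : ℕ} [Fact r.Prime] [CharP F r] (hm : 2 ≤ m)
    (hs : m = 2 → 3 ≤ Fintype.card F)
    (A : Subgroup (MulAut K)) (hinn : ∀ k : K, MulAut.conj k ∈ A) {p : ℕ} [hp : Fact p.Prime]
    (hpr : p ≠ r) (x : MulAut K) (hxA : x ∈ A) (hord : orderOf x = p)
    (hnot : ¬ Cfsg.IsInnerDiagonalAutPSp x)
    (hxΓ : x ∈ gamSub (F := F) m)
    (hΓ : ∀ n : MulAut K, (∃ v : V, v ≠ 0 ∧ n (prj m (tv m v 1)) = prj m (tv m v 1)) →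
      n ∈ gamSub (F := F) m)
    (hL : ∀ σ : RingAut F, orderOf σ = p → p ∣ Nat.card (L0 m σ) → NoNormalPPrime m σ p) :
    Cfsg.pPrimeCore p ↥(A ⊓ Subgroup.centralizer {x}) ≠ ⊥ ↔
      (Cfsg.IsFieldAutClassPSp x ∧
        Nat.Coprime p (Nat.card ↥(MonoidHom.eqLocus x.toMonoidHom (MonoidHom.id K)))) := by
  have : NeZero m := ⟨by omega⟩
  have h0 : 0 < m := by omega
  have : Finite (MulAut K) :=
    Finite.of_injective (fun e : MulAut K => (e : K → K)) DFunLike.coe_injective
  obtain ⟨g, σ, hxeq⟩ := hxΓ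
  have hσ : orderOf σ = p :=
    orderOf_field_part m hm hp.out g σ (hxeq ▸ hord) (hxeq ▸ hnot)
  have hσ1 : σ ≠ RingEquiv.refl F := by
    intro h
    have h1 : orderOf σ = 1 := by
      rw [h]
      exact orderOf_one
    rw [hσ] at h1
    exact hp.out.one_lt.ne' h1
  set y := fieldAutPSp m σ with hy
  have hy_class : Cfsg.IsFieldAutClassPSp y :=
    ⟨1, σ, hσ1, by
      rw [one_mul, inv_one, mul_one]
      exact isStd_fieldAutPSp m σ⟩
  have hy_ord : orderOf y = p := by rw [hy, orderOf_fieldAutPSp m hm, hσ]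
  have hδ : conjGSp m g ∈ Cfsg.inndiagPSp m F := by
    rw [inndiagPSp_eq_range]
    exact ⟨g, rfl⟩
  obtain ⟨h, hh, hxh⟩ := (Cfsg.Agent.S2713.result hm hs y (conjGSp m g) hy_class hp.out hy_ord
    hδ).mp (hxeq ▸ hord)
  rw [← hxeq] at hxh
  -- `x = h y h⁻¹`
  have hclass : Cfsg.IsFieldAutClassPSp x := by
    refine ⟨h⁻¹, σ, hσ1, ?_⟩
    have : h⁻¹ * x * h⁻¹⁻¹ = y := by
      rw [hxh]
      group
    rw [this]
    exact isStd_fieldAutPSp m σ
  have hcard : Nat.card ↥(MonoidHom.eqLocus x.toMonoidHom (MonoidHom.id K))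
      = Nat.card (fixP m y) := by
    show Nat.card (fixP m x) = _
    rw [hxh, card_fixP_conj]
  rw [core_ne_bot_iff, hcard]
  constructor
  · intro hP
    refine ⟨hclass, ?_⟩
    by_contra hnc
    have hdvd : p ∣ Nat.card (fixP m y) := by
      by_contra hnd
      exact hnc ((Nat.Prime.coprime_iff_not_dvd hp.out).mpr hnd)
    have hdvdL : p ∣ Nat.card (L0 m σ) := by
      by_cases hp2 : p = 2
      · subst hp2
        apply two_dvd_card_L0 m hm _ σ
        intro h2
        have h3 : ((2 : ℕ) : F) = 0 := by exact_mod_cast h2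
        rw [CharP.cast_eq_zero_iff F r 2] at h3
        have := (Nat.prime_dvd_prime_iff_eq (Fact.out : r.Prime) Nat.prime_two).mp h3
        exact hpr this.symm
      · exact dvd_card_L0_of_odd m σ hp2 hdvd
    have hP' := hasPPrimeNormal_conj h⁻¹ hP
    have hxy : h⁻¹ * x * h⁻¹⁻¹ = y := by
      rw [hxh]
      group
    rw [hxy] at hP'
    obtain ⟨N, hN, hNnorm, hcop, hne⟩ := hP'
    apply hne
    apply core_trivial_std m hm σ hσ (hL σ hσ hdvdL) _ _ N hN hNnorm hcop
    · intro n _ hn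
      apply hΓ
      refine ⟨Pi.single (Sum.inl ⟨0, h0⟩) 1, single_ne_zero m _, ?_⟩
      exact hn _ ⟨_, tv_mem_spFix m σ (single_fixed m σ _) (map_one σ), rfl⟩
    · intro k
      refine ⟨MulAut.conj (h k), hinn _, ?_⟩
      show h⁻¹ * MulAut.conj (h k) * h⁻¹⁻¹ = MulAut.conj k
      rw [aut_conj_conj, MulAut.inv_apply_self]
  · rintro ⟨-, hcop⟩
    apply core_nontrivial m hm A hinn x
    · show (Nat.card (fixP m x)).Coprime p
      rw [hxh, card_fixP_conj]
      exact hcop.symm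
    · rw [hxh, fixP_conj]
      intro hb
      rw [Subgroup.map_eq_bot_iff_of_injective _ h.injective] at hb
      exact fixP_fieldAut_ne_bot m hm σ hb

end master

end Cfsg.Agent.Lib.Helper51.PSpAut
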