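import Mathlib
import Cfsg.Agent.Lib.Helper51.PSpAut13

set_option autoImplicit false
set_option linter.unusedSectionVars false
set_option linter.unusedVariables false
set_option linter.unusedSimpArgs false

/-! Local balance, the abstract part: normal subgroups of order prime to `p` in the centraliser
of an automorphism `y` of order `p` of a group `K` with trivial centre, in terms of a subgroup
`L` of the fixed points of `y`. -/

namespace Cfsg.Agent.Lib.Helper51.POBal

open Cfsg.Agent.Lib.Helper51.PSpAut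

variable {K : Type*} [Group K]

/-- fixed points of an automorphism -/
def fixG (x : MulAut K) : Subgroup K := MonoidHom.eqLocus x.toMonoidHom (MonoidHom.id K)

theorem mem_fixG {x : MulAut K} {k : K} : k ∈ fixG x ↔ x k = k := Iff.rfl

theorem conj_mem_centralizer {x : MulAut K} {k : K} (hk : k ∈ fixG x) :
    MulAut.conj k ∈ Subgroup.centralizer {x} := by
  rw [Subgroup.mem_centralizer_iff]
  intro y hy
  rw [Set.mem_singleton_iff] at hy
  subst hy
  rw [aut_mul_conj, mem_fixG.mp hk]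

theorem mem_fixG_of_conj_mem (hinj : Function.Injective (MulAut.conj : K →* MulAut K))
    {x : MulAut K} {k : K} (h : MulAut.conj k ∈ Subgroup.centralizer {x}) : k ∈ fixG x := by
  rw [Subgroup.mem_centralizer_iff] at h
  have h1 := h x rfl
  rw [aut_mul_conj] at h1
  have h2 : MulAut.conj (x k) = MulAut.conj k := mul_right_cancel h1
  exact hinj h2

theorem fixG_conj (h y : MulAut K) : fixG (h * y * h⁻¹) = (fixG y).map h.toMonoidHom := by
  ext k
  rw [mem_fixG, Subgroup.mem_map]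
  constructor
  · intro hk
    refine ⟨h⁻¹ k, ?_, ?_⟩
    · rw [mem_fixG]
      have := congrArg (fun z => h⁻¹ z) hk
      simp only [MulAut.mul_apply, MulAut.inv_apply_self] at this
      exact this
    · show h (h⁻¹ k) = k
      exact MulAut.apply_inv_self _ _ _
  · rintro ⟨k', hk', rfl⟩
    show (h * y * h⁻¹) (h k') = h k'
    rw [MulAut.mul_apply, MulAut.mul_apply, MulAut.inv_apply_self, mem_fixG.mp hk']

theorem card_fixG_conj (h y : MulAut K) :
    Nat.card (fixG (h * y * h⁻¹)) = Nat.card (fixG y) := by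
  rw [fixG_conj]
  exact (Nat.card_congr (Subgroup.equivMapOfInjective _ _ h.injective).toEquiv).symm

/-- a simple subgroup of order divisible by `p` has no nontrivial normal subgroup of order prime
to `p` -/
theorem no_normal_of_simple (L : Subgroup K) {p : ℕ} (hsimp : IsSimpleGroup ↥L)
    (hdvd : p ∣ Nat.card L) (hp1 : p ≠ 1) (M : Subgroup K) (hM : M ≤ L)
    (hnorm : ∀ l ∈ L, ∀ a ∈ M, l * a * l⁻¹ ∈ M) (hcop : (Nat.card M).Coprime p) : M = ⊥ := by
  have hMn : (M.subgroupOf L).Normal := by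
    refine ⟨fun a ha c => ?_⟩
    rw [Subgroup.mem_subgroupOf] at ha ⊢
    exact hnorm c.1 c.2 a.1 ha
  rcases hMn.eq_bot_or_eq_top with h0 | h1
  · rw [Subgroup.subgroupOf_eq_bot] at h0
    exact (disjoint_of_le_iff_left_eq_bot hM).mp h0
  · exfalso
    rw [Subgroup.subgroupOf_eq_top] at h1
    have hML : M = L := le_antisymm hM h1
    rw [hML] at hcop
    have := Nat.Coprime.eq_one_of_dvd hcop.symm hdvd
    exact hp1 this

/-- the abstract triviality statement -/
theorem core_trivial_gen (hinj : Function.Injective (MulAut.conj : K →* MulAut K))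
    (y : MulAut K) {p : ℕ} (hy : Nat.card (Subgroup.zpowers y) = p)
    (L : Subgroup K) (hLle : L ≤ fixG y)
    (hLnorm : ∀ k ∈ fixG y, ∀ l ∈ L, k * l * k⁻¹ ∈ L)
    (hNN : ∀ M : Subgroup K, M ≤ L → (∀ l ∈ L, ∀ a ∈ M, l * a * l⁻¹ ∈ M) →
      (Nat.card M).Coprime p → M = ⊥)
    (hC : ∀ n : MulAut K, n ∈ Subgroup.centralizer {y} → (∀ l ∈ L, n l = l) →
      n ∈ Subgroup.zpowers y)
    (hI : ∀ a : K, MulAut.conj a ∈ Subgroup.zpowers y → a = 1)
    (𝒢 : Subgroup (MulAut K)) (hinn : ∀ k : K, MulAut.conj k ∈ 𝒢)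
    (N : Subgroup (MulAut K)) (hN : N ≤ 𝒢 ⊓ Subgroup.centralizer {y})
    (hNnorm : ∀ c ∈ 𝒢 ⊓ Subgroup.centralizer {y}, ∀ n ∈ N, c * n * c⁻¹ ∈ N)
    (hcop : (Nat.card N).Coprime p) : N = ⊥ := by
  have hconjmem : ∀ k ∈ fixG y, MulAut.conj k ∈ 𝒢 ⊓ Subgroup.centralizer {y} :=
    fun k hk => ⟨hinn k, conj_mem_centralizer hk⟩
  -- the inner part of `N`
  set M : Subgroup K := N.comap (MulAut.conj : K →* MulAut K) with hM
  have hMfix : M ≤ fixG y := by
    intro k hk
    exact mem_fixG_of_conj_mem hinj (hN hk).2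
  have hMnorm : ∀ k ∈ fixG y, ∀ a ∈ M, k * a * k⁻¹ ∈ M := by
    intro k hk a ha
    show MulAut.conj (k * a * k⁻¹) ∈ N
    rw [map_mul, map_mul, map_inv]
    exact hNnorm _ (hconjmem k hk) _ ha
  have hMcop : (Nat.card M).Coprime p := by
    have h1 : Nat.card M = Nat.card (M.map (MulAut.conj : K →* MulAut K)) :=
      Nat.card_congr (Subgroup.equivMapOfInjective M _ hinj).toEquiv
    have h2 : M.map (MulAut.conj : K →* MulAut K) ≤ N := Subgroup.map_comap_le _ _
    rw [h1]
    exact Nat.Coprime.coprime_dvd_left (Subgroup.card_dvd_of_le h2) hcop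
  have hM0 : M = ⊥ := by
    have hM₁ : M ⊓ L = ⊥ := by
      apply hNN _ inf_le_right
      · intro l hl b hb
        exact ⟨hMnorm l (hLle hl) b hb.1,
          Subgroup.mul_mem _ (Subgroup.mul_mem _ hl hb.2) (Subgroup.inv_mem _ hl)⟩
      · exact Nat.Coprime.coprime_dvd_left (Subgroup.card_dvd_of_le inf_le_left) hMcop
    rw [eq_bot_iff]
    intro a ha
    rw [Subgroup.mem_bot]
    have hcomm : ∀ l ∈ L, (MulAut.conj a) l = l := by
      intro l hl
      have hc : a * l * a⁻¹ * l⁻¹ ∈ M ⊓ L := by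
        constructor
        · have h1 : l * a⁻¹ * l⁻¹ ∈ M := hMnorm l (hLle hl) a⁻¹ (Subgroup.inv_mem _ ha)
          have h2 : a * l * a⁻¹ * l⁻¹ = a * (l * a⁻¹ * l⁻¹) := by group
          rw [h2]
          exact Subgroup.mul_mem _ ha h1
        · exact Subgroup.mul_mem _ (hLnorm a (hMfix ha) l hl) (Subgroup.inv_mem _ hl)
      rw [hM₁, Subgroup.mem_bot] at hc
      rw [MulAut.conj_apply]
      exact mul_inv_eq_one.mp hc
    exact hI a (hC _ (conj_mem_centralizer (hMfix ha)) hcomm)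
  -- `N` fixes the fixed points of `y`
  have hfix : ∀ n ∈ N, ∀ k ∈ fixG y, n k = k := by
    intro n hn k hk
    have h1 : n * MulAut.conj k * n⁻¹ * (MulAut.conj k)⁻¹ ∈ N := by
      have h2 : MulAut.conj k * n⁻¹ * (MulAut.conj k)⁻¹ ∈ N :=
        hNnorm _ (hconjmem k hk) _ (Subgroup.inv_mem _ hn)
      have h3 : n * MulAut.conj k * n⁻¹ * (MulAut.conj k)⁻¹
          = n * (MulAut.conj k * n⁻¹ * (MulAut.conj k)⁻¹) := by group
      rw [h3]
      exact Subgroup.mul_mem _ hn h2
    rw [aut_conj_conj, ← map_inv, ← map_mul] at h1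
    have h4 : n k * k⁻¹ ∈ M := h1
    rw [hM0, Subgroup.mem_bot] at h4
    exact mul_inv_eq_one.mp h4
  have hle : N ≤ Subgroup.zpowers y := by
    intro n hn
    exact hC n (hN hn).2 (fun l hl => hfix n hn l (hLle hl))
  have hdvd : Nat.card N ∣ p := by
    rw [← hy]
    exact Subgroup.card_dvd_of_le hle
  have h1 : Nat.card N = 1 := Nat.Coprime.eq_one_of_dvd hcop hdvd
  exact Subgroup.card_eq_one.mp h1

/-- the inner automorphisms fixed by `β` form a normal subgroup of `C_𝒢(β)` -/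
theorem core_nontrivial_gen (hinj : Function.Injective (MulAut.conj : K →* MulAut K))
    (𝒢 : Subgroup (MulAut K)) (hinn : ∀ k : K, MulAut.conj k ∈ 𝒢) (β : MulAut K) {p : ℕ}
    (hcop : (Nat.card (fixG β)).Coprime p) (hne : fixG β ≠ ⊥) :
    HasPPrimeNormal p 𝒢 β := by
  refine ⟨(fixG β).map (MulAut.conj : K →* MulAut K), ?_, ?_, ?_, ?_⟩
  · rintro _ ⟨k, hk, rfl⟩
    exact ⟨hinn k, conj_mem_centralizer hk⟩
  · rintro c ⟨-, hc⟩ _ ⟨k, hk, rfl⟩
    refine ⟨c k, ?_, (aut_conj_conj c k).symm⟩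
    rw [SetLike.mem_coe, mem_fixG]
    have hc' : c ∈ Subgroup.centralizer {β} := hc
    rw [Subgroup.mem_centralizer_iff] at hc'
    have h1 := hc' β rfl
    have h2 := congrArg (fun γ : MulAut K => γ k) h1
    simp only [MulAut.mul_apply] at h2
    rw [h2, mem_fixG.mp hk]
  · rw [← Nat.card_congr (Subgroup.equivMapOfInjective (fixG β) _ hinj).toEquiv]
    exact hcop
  · intro h0
    apply hne
    rw [Subgroup.map_eq_bot_iff_of_injective _ hinj] at h0
    exact h0

end Cfsg.Agent.Lib.Helper51.POBal
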