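import Mathlib
import Cfsg.Agent.Lib.Helper51.POAut8
import Cfsg.Agent.Lib.Helper51.POBal1
import Cfsg.Agent.Lib.Helper50.FieldAutPO2
import Cfsg.Agent.Lib.Helper50.FieldAutInj

set_option autoImplicit false
set_option linter.unusedSectionVars false
set_option linter.unusedVariables false
set_option linter.unusedSimpArgs false

/-! Semilinear automorphisms of `PΩ(Q)` as products of a similarity part and a field part. -/

namespace Cfsg.Agent.Lib.Helper51.POBal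

open Matrix Cfsg.Agent.Lib.Helper08 Cfsg.Agent.Lib.Helper51.POAut

universe u

section semi

variable {F : Type u} [Field F] {ι : Type} [Fintype ι] [DecidableEq ι] (Q : (ι → F) → F)

/-- the products of a similarity automorphism and a field automorphism -/
def gamSub : Subgroup (MulAut (Cfsg.POmega F Q)) where
  carrier := {α | ∃ (g : ↥(Cfsg.Geo.quadSimilarityGroup (F := F) Q)) (σ : ↥(SInv Q)),
    α = autPO Q g * fieldAutPO Q σ}
  one_mem' := ⟨1, 1, by rw [map_one, map_one, one_mul]⟩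
  mul_mem' := by
    rintro _ _ ⟨g, σ, rfl⟩ ⟨g', σ', rfl⟩
    refine ⟨g * mapGO Q σ g', σ * σ', ?_⟩
    rw [map_mul, map_mul, mul_assoc, ← mul_assoc (fieldAutPO Q σ), fieldAut_mul_autPO]
    simp only [mul_assoc]
  inv_mem' := by
    rintro _ ⟨g, σ, rfl⟩
    refine ⟨mapGO Q σ⁻¹ g⁻¹, σ⁻¹, ?_⟩
    rw [← fieldAut_mul_autPO, _root_.mul_inv_rev, map_inv, map_inv]

theorem mem_gamSub {α : MulAut (Cfsg.POmega F Q)} :
    α ∈ gamSub Q ↔ ∃ (g : ↥(Cfsg.Geo.quadSimilarityGroup (F := F) Q)) (σ : ↥(SInv Q)),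
      α = autPO Q g * fieldAutPO Q σ := Iff.rfl

theorem gamSub_eq_top_of_gamma (hS : ∀ σ : RingAut F, σ ∈ SInv Q)
    (h : Cfsg.gammaPOmega F Q = ⊤) : gamSub Q = ⊤ := by
  rw [eq_top_iff, ← h]
  unfold Cfsg.gammaPOmega Cfsg.autSubgroupOf
  rw [Subgroup.closure_le]
  rintro β ⟨g, σ, hg, hβ⟩
  have hg' := sim_of_semisim Q (hS σ) hg
  exact ⟨⟨g, hg'⟩, ⟨σ, hS σ⟩, eq_of_induced Q hg' ⟨σ, hS σ⟩ hβ⟩

theorem pow_semilinear (g : ↥(Cfsg.Geo.quadSimilarityGroup (F := F) Q)) (σ : ↥(SInv Q)) (k : ℕ) :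
    ∃ g' : ↥(Cfsg.Geo.quadSimilarityGroup (F := F) Q),
      (autPO Q g * fieldAutPO Q σ) ^ k = autPO Q g' * fieldAutPO Q (σ ^ k) := by
  induction k with
  | zero => exact ⟨1, by rw [pow_zero, pow_zero, map_one, map_one, one_mul]⟩
  | succ k ih =>
    obtain ⟨g', hg'⟩ := ih
    refine ⟨g' * mapGO Q (σ ^ k) g, ?_⟩
    rw [pow_succ, hg', pow_succ, map_mul, map_mul, mul_assoc,
      ← mul_assoc (fieldAutPO Q (σ ^ k)), fieldAut_mul_autPO]
    simp only [mul_assoc]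

/-- my field automorphisms are those of `Helper50` -/
theorem fieldAutPO_eq50 (σ : RingAut F) (h : σ ∈ SInv Q)
    (h' : σ ∈ Cfsg.Agent.Lib.Helper50.compatAut Q) :
    fieldAutPO Q ⟨σ, h⟩ = Cfsg.Agent.Lib.Helper50.fieldAutPO Q ⟨σ, h'⟩ :=
  (Cfsg.Agent.Lib.Helper50.isFieldAut_iff Q σ h' _).mp ((isFieldAut_iff Q ⟨σ, h⟩ _).mpr rfl)

theorem mem_compat_of_mem {σ : RingAut F} (h : σ ∈ SInv Q) :
    σ ∈ Cfsg.Agent.Lib.Helper50.compatAut Q := by
  rw [Cfsg.Agent.Lib.Helper50.mem_compatAut]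
  exact (mem_SInv Q σ).mp h

end semi

section inj

variable {F : Type u} [Field F] [Fintype F] {ι : Type} [Fintype ι] [DecidableEq ι]
  (Q : QuadraticForm F (ι → F))

/-- a field automorphism inducing a similarity automorphism is trivial -/
theorem fieldAut_eq_one_of_mem_range (h2 : (2 : F) ≠ 0)
    (hQ : (QuadraticMap.polarBilin Q).Nondegenerate) (hn : 5 ≤ Fintype.card ι)
    (e f : Fin 3 → ι → F) (HT : HypTriple Q e f)
    (hfix0 : ∀ τ : RingAut F, ∀ i, τ (e 0 i) = e 0 i)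
    (hfix1 : ∀ τ : RingAut F, ∀ i, τ (e 1 i) = e 1 i)
    (σ : ↥(SInv ⇑Q)) (h : fieldAutPO (⇑Q) σ ∈ (autPO (⇑Q)).range) : σ = 1 := by
  obtain ⟨g, hg⟩ := h
  have h' := mem_compat_of_mem (⇑Q) σ.2
  have h1 : Cfsg.Agent.Lib.Helper50.fieldAutPO (⇑Q) ⟨σ.1, h'⟩ = autPO (⇑Q) g := by
    rw [← fieldAutPO_eq50 (⇑Q) σ.1 σ.2 h']
    exact hg.symm
  have h3 := Cfsg.Agent.Lib.Helper50.fieldAutPO_eq_autPO_imp h2 Q hQ hn e f HT ⟨σ.1, h'⟩
    (hfix0 σ.1) (hfix1 σ.1) g h1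
  apply Subtype.ext
  exact congrArg Subtype.val h3

/-- the field part of a semilinear automorphism of prime order, not induced by a similarity,
has the same order -/
theorem orderOf_field_part (h2 : (2 : F) ≠ 0)
    (hQ : (QuadraticMap.polarBilin Q).Nondegenerate) (hn : 5 ≤ Fintype.card ι)
    (e f : Fin 3 → ι → F) (HT : HypTriple Q e f)
    (hfix0 : ∀ τ : RingAut F, ∀ i, τ (e 0 i) = e 0 i)
    (hfix1 : ∀ τ : RingAut F, ∀ i, τ (e 1 i) = e 1 i)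
    {p : ℕ} (hp : p.Prime) (g : ↥(Cfsg.Geo.quadSimilarityGroup (F := F) ⇑Q)) (σ : ↥(SInv ⇑Q))
    (hord : orderOf (autPO (⇑Q) g * fieldAutPO (⇑Q) σ) = p)
    (hnot : autPO (⇑Q) g * fieldAutPO (⇑Q) σ ∉ (autPO (⇑Q)).range) : orderOf σ = p := by
  obtain ⟨g', hg'⟩ := pow_semilinear (⇑Q) g σ p
  have h1 : (autPO (⇑Q) g * fieldAutPO (⇑Q) σ) ^ p = 1 := by
    rw [← hord]
    exact pow_orderOf_eq_one _
  rw [h1] at hg'
  have h3 : fieldAutPO (⇑Q) (σ ^ p) ∈ (autPO (⇑Q)).range := by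
    refine ⟨g'⁻¹, ?_⟩
    rw [map_inv]
    exact inv_eq_of_mul_eq_one_right hg'.symm
  have h4 := fieldAut_eq_one_of_mem_range Q h2 hQ hn e f HT hfix0 hfix1 _ h3
  have h5 : orderOf σ ∣ p := orderOf_dvd_of_pow_eq_one h4
  rcases (Nat.dvd_prime hp).mp h5 with h6 | h6
  · exfalso
    apply hnot
    rw [orderOf_eq_one_iff] at h6
    rw [h6, map_one, mul_one]
    exact ⟨g, rfl⟩
  · exact h6

end inj

end Cfsg.Agent.Lib.Helper51.POBal
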