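import Mathlib
import Cfsg.Agent.Lib.Helper19.QuadMat

set_option autoImplicit false
set_option linter.unusedSectionVars false
set_option linter.unusedVariables false
set_option linter.unusedSimpArgs false

/-! Diagonal elements of `Ω_{2m+1}` as commutators of a torus element and a permutation, their
traces, and a lemma on field automorphisms fixing all `s + s⁻¹`. -/

namespace Cfsg.Agent.Lib.Helper51.POBal

open Matrix
open scoped commutatorElement

section field

variable {F₀ F : Type*} [Field F₀] [Field F]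

/-- an automorphism fixing all `s + s⁻¹` of a subfield fixes the subfield -/
theorem fixes_of_fixes_trace (h2 : (2 : F) ≠ 0) (j : F₀ →+* F) (τ : RingAut F)
    (h : ∀ s : F₀, s ≠ 0 → τ (j (s + s⁻¹)) = j (s + s⁻¹)) : ∀ a, τ (j a) = j a := by
  -- each nonzero element goes to itself or to its inverse
  have key : ∀ s : F₀, s ≠ 0 → τ (j s) = j s ∨ τ (j s) = (j s)⁻¹ := by
    intro s hs
    have hz : j s ≠ 0 := (map_ne_zero j).mpr hs
    have hx : τ (j s) ≠ 0 := (map_ne_zero τ).mpr hz
    have h1 := h s hs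
    rw [map_add, map_inv₀, map_add, map_inv₀] at h1
    have h3 : (τ (j s) - j s) * (τ (j s) * j s - 1) = 0 := by
      have h4 : τ (j s) + (τ (j s))⁻¹ = j s + (j s)⁻¹ := h1
      field_simp at h4
      linear_combination h4
    rcases mul_eq_zero.mp h3 with h5 | h5
    · left
      exact sub_eq_zero.mp h5
    · right
      exact eq_inv_of_mul_eq_one_left (sub_eq_zero.mp h5)
  by_cases hA : ∀ s : F₀, s ≠ 0 → τ (j s) = j s
  · intro a
    by_cases ha : a = 0
    · rw [ha, map_zero, map_zero]
    · exact hA a ha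
  · -- then every nonzero element goes to its inverse
    push Not at hA
    obtain ⟨a, ha0, ha⟩ := hA
    have haB : τ (j a) = (j a)⁻¹ := (key a ha0).resolve_left ha
    have hB : ∀ s : F₀, s ≠ 0 → τ (j s) = (j s)⁻¹ := by
      intro b hb0
      by_contra hb
      have hbA : τ (j b) = j b := (key b hb0).resolve_right hb
      have hab0 : a * b ≠ 0 := mul_ne_zero ha0 hb0
      have hja : j a ≠ 0 := (map_ne_zero j).mpr ha0
      have hjb : j b ≠ 0 := (map_ne_zero j).mpr hb0
      rcases key (a * b) hab0 with h1 | h1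
      · rw [map_mul, map_mul, hbA] at h1
        exact ha (mul_right_cancel₀ hjb h1)
      · rw [map_mul, map_mul, haB, mul_inv] at h1
        exact hb (mul_left_cancel₀ (inv_ne_zero hja) h1)
    -- this forces characteristic three and a field with three elements
    have h20 : (2 : F₀) ≠ 0 := by
      intro h0
      apply h2
      have := congrArg j h0
      rwa [map_ofNat, map_zero] at this
    have hrel : ∀ s : F₀, s ≠ 0 → s + 1 ≠ 0 → (j s) ^ 2 + j s + 1 = 0 := by
      intro s hs hs1
      have hz : j s ≠ 0 := (map_ne_zero j).mpr hs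
      have hz1 : j s + 1 ≠ 0 := by
        rw [← map_one j, ← map_add]
        exact (map_ne_zero j).mpr hs1
      have h1 := hB (s + 1) hs1
      rw [map_add, map_add, map_one, map_one, hB s hs] at h1
      field_simp at h1
      linear_combination h1
    have h3 : (3 : F) = 0 := by
      have := hrel 1 one_ne_zero (by rw [one_add_one_eq_two]; exact h20)
      rw [map_one] at this
      linear_combination this
    intro s
    by_cases hs : s = 0
    · rw [hs, map_zero, map_zero]
    · by_cases hs1 : s + 1 = 0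
      · have : s = -1 := eq_neg_of_add_eq_zero_left hs1
        rw [this, map_neg, map_one, map_neg, map_one]
      · have h4 := hrel s hs hs1
        have h5 : (j s - 1) ^ 2 = 0 := by linear_combination h4 - (j s) * h3
        have h6 : j s = 1 := sub_eq_zero.mp (pow_eq_zero_iff (two_ne_zero) |>.mp h5)
        rw [h6, map_one]

end field

section torus

variable {F : Type*} [Field F] (m : ℕ)

/-- the diagonal of a torus element -/
def tvec (t : Fin m → F) : Unit ⊕ (Fin m ⊕ Fin m) → F
  | Sum.inl _ => 1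
  | Sum.inr (Sum.inl i) => t i
  | Sum.inr (Sum.inr i) => (t i)⁻¹

theorem tvec_mul_inv (t : Fin m → F) (ht : ∀ i, t i ≠ 0) (k : Unit ⊕ (Fin m ⊕ Fin m)) :
    tvec m t k * tvec m (fun i => (t i)⁻¹) k = 1 := by
  rcases k with _ | i | i
  · simp [tvec]
  · simp [tvec, ht i]
  · simp [tvec, ht i]

theorem tvec_ne_zero (t : Fin m → F) (ht : ∀ i, t i ≠ 0) (k : Unit ⊕ (Fin m ⊕ Fin m)) :
    tvec m t k ≠ 0 := by
  intro h
  have := tvec_mul_inv m t ht k
  rw [h, zero_mul] at this
  exact zero_ne_one this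

/-- torus element of `GL` -/
def torGL (t : Fin m → F) (ht : ∀ i, t i ≠ 0) : GL (Unit ⊕ (Fin m ⊕ Fin m)) F :=
  ⟨diagonal (tvec m t), diagonal (tvec m (fun i => (t i)⁻¹)), by
    rw [diagonal_mul_diagonal, ← diagonal_one]
    congr 1
    funext k
    exact tvec_mul_inv m t ht k, by
    rw [diagonal_mul_diagonal, ← diagonal_one]
    congr 1
    funext k
    rw [mul_comm]
    exact tvec_mul_inv m t ht k⟩

theorem torGL_val (t : Fin m → F) (ht : ∀ i, t i ≠ 0) :
    ((torGL m t ht : GL (Unit ⊕ (Fin m ⊕ Fin m)) F) : Matrix _ _ F) = diagonal (tvec m t) := rfl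

theorem torGL_mem (t : Fin m → F) (ht : ∀ i, t i ≠ 0) :
    torGL m t ht ∈ Cfsg.isometryGroup F (Cfsg.quadFormOdd m F) := by
  rw [Cfsg.Agent.Lib.Helper19.mem_isometryGroup_iff]
  intro v
  rw [torGL_val]
  unfold Cfsg.quadFormOdd
  simp only [mulVec_diagonal, tvec, one_mul]
  congr 1
  apply Finset.sum_congr rfl
  intro i _
  have := ht i
  field_simp

/-- the permutation of the coordinates induced by a permutation of the hyperbolic pairs -/
def pairPerm (ρ : Equiv.Perm (Fin m)) : Equiv.Perm (Unit ⊕ (Fin m ⊕ Fin m)) :=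
  Equiv.sumCongr (Equiv.refl Unit) (Equiv.sumCongr ρ ρ)

/-- permutation element of `GL` -/
def permGL (ρ : Equiv.Perm (Fin m)) : GL (Unit ⊕ (Fin m ⊕ Fin m)) F :=
  ⟨(pairPerm m ρ).permMatrix F, ((pairPerm m ρ)⁻¹).permMatrix F, by
    rw [← permMatrix_mul, inv_mul_cancel, permMatrix_one], by
    rw [← permMatrix_mul, mul_inv_cancel, permMatrix_one]⟩

theorem permGL_val (ρ : Equiv.Perm (Fin m)) :
    ((permGL m ρ : GL (Unit ⊕ (Fin m ⊕ Fin m)) F) : Matrix _ _ F) =
      (pairPerm m ρ).permMatrix F := rfl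

theorem permGL_mem (ρ : Equiv.Perm (Fin m)) :
    permGL (F := F) m ρ ∈ Cfsg.isometryGroup F (Cfsg.quadFormOdd m F) := by
  rw [Cfsg.Agent.Lib.Helper19.mem_isometryGroup_iff]
  intro v
  rw [permGL_val, permMatrix_mulVec]
  unfold Cfsg.quadFormOdd
  simp only [Function.comp_apply, pairPerm, Equiv.sumCongr_apply, Sum.map_inl, Sum.map_inr,
    Equiv.refl_apply, id_eq]
  congr 1
  exact Equiv.sum_comp ρ (fun i => v (Sum.inr (Sum.inl i)) * v (Sum.inr (Sum.inr i)))

/-- the basic commutation rule -/
theorem tor_mul_perm (t : Fin m → F) (ht : ∀ i, t i ≠ 0) (ρ : Equiv.Perm (Fin m)) :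
    torGL m t ht * permGL m ρ =
      torGL m (fun i => t i / t (ρ i)) (fun i => div_ne_zero (ht i) (ht (ρ i))) *
        permGL m ρ * torGL m t ht := by
  apply Units.ext
  rw [Units.val_mul, Units.val_mul, Units.val_mul, torGL_val, torGL_val, permGL_val]
  ext k l
  rw [diagonal_mul, mul_diagonal, diagonal_mul]
  by_cases hkl : (pairPerm m ρ) k = l
  · subst hkl
    have h1 : tvec m (fun i => t i / t (ρ i)) k * tvec m t ((pairPerm m ρ) k) = tvec m t k := by
      rcases k with _ | i | i
      · simp [tvec, pairPerm]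
      · simp only [tvec, pairPerm, Equiv.sumCongr_apply, Sum.map_inr, Sum.map_inl]
        exact div_mul_cancel₀ _ (ht (ρ i))
      · simp only [tvec, pairPerm, Equiv.sumCongr_apply, Sum.map_inr]
        have := ht i
        have := ht (ρ i)
        field_simp
    rw [mul_right_comm, h1]
  · have h0 : (pairPerm m ρ).permMatrix F k l = 0 := by
      simp [Equiv.Perm.permMatrix, PEquiv.toMatrix_apply, Equiv.toPEquiv_apply, hkl]
    rw [h0, mul_zero, mul_zero, zero_mul]

/-- torus element of the isometry group -/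
def torO (t : Fin m → F) (ht : ∀ i, t i ≠ 0) :
    ↥(Cfsg.isometryGroup F (Cfsg.quadFormOdd m F)) := ⟨torGL m t ht, torGL_mem m t ht⟩

/-- permutation element of the isometry group -/
def permO (ρ : Equiv.Perm (Fin m)) :
    ↥(Cfsg.isometryGroup F (Cfsg.quadFormOdd m F)) := ⟨permGL m ρ, permGL_mem m ρ⟩

/-- quotients `t i / t (ρ i)` give torus elements of `Ω` -/
theorem torO_div_mem_Omega (t : Fin m → F) (ht : ∀ i, t i ≠ 0) (ρ : Equiv.Perm (Fin m)) :
    torO m (fun i => t i / t (ρ i)) (fun i => div_ne_zero (ht i) (ht (ρ i))) ∈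
      Cfsg.Omega F (Cfsg.quadFormOdd m F) := by
  have h1 : torO m (fun i => t i / t (ρ i)) (fun i => div_ne_zero (ht i) (ht (ρ i))) =
      ⁅torO m t ht, permO (F := F) m ρ⁆ := by
    rw [commutatorElement_def]
    apply Subtype.ext
    show torGL m (fun i => t i / t (ρ i)) (fun i => div_ne_zero (ht i) (ht (ρ i))) =
      torGL m t ht * permGL m ρ * (torGL m t ht)⁻¹ * (permGL m ρ)⁻¹
    rw [tor_mul_perm]
    group
  rw [h1]
  exact Subgroup.commutator_mem_commutator (Subgroup.mem_top _) (Subgroup.mem_top _)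

/-- the two-pair torus parameter -/
def twoPar (i₀ i₁ : Fin m) (s : F) : Fin m → F :=
  fun i => if i = i₀ then s else if i = i₁ then s⁻¹ else 1

theorem twoPar_ne_zero (i₀ i₁ : Fin m) {s : F} (hs : s ≠ 0) (i : Fin m) :
    twoPar m i₀ i₁ s i ≠ 0 := by
  unfold twoPar
  split_ifs
  · exact hs
  · exact inv_ne_zero hs
  · exact one_ne_zero

theorem twoPar_eq_div {i₀ i₁ : Fin m} (h01 : i₀ ≠ i₁) {s : F} (hs : s ≠ 0) :
    twoPar m i₀ i₁ s = fun i => (if i = i₀ then s else 1) /
      (if (Equiv.swap i₀ i₁) i = i₀ then s else 1) := by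
  funext i
  unfold twoPar
  by_cases h0 : i = i₀
  · subst h0
    rw [Equiv.swap_apply_left, if_pos rfl, if_pos rfl, if_neg (Ne.symm h01), div_one]
  · by_cases h1 : i = i₁
    · subst h1
      rw [Equiv.swap_apply_right, if_neg h0, if_pos rfl, if_neg h0, if_pos rfl, one_div]
    · rw [Equiv.swap_apply_of_ne_of_ne h0 h1]
      simp [h0, h1]

/-- the two-pair torus element lies in `Ω` -/
theorem torO_twoPar_mem_Omega {i₀ i₁ : Fin m} (h01 : i₀ ≠ i₁) {s : F} (hs : s ≠ 0) :
    torO m (twoPar m i₀ i₁ s) (twoPar_ne_zero m i₀ i₁ hs) ∈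
      Cfsg.Omega F (Cfsg.quadFormOdd m F) := by
  have ht : ∀ i, (fun i => if i = i₀ then s else (1 : F)) i ≠ 0 := by
    intro i
    show (if i = i₀ then s else (1 : F)) ≠ 0
    split_ifs
    · exact hs
    · exact one_ne_zero
  have h := torO_div_mem_Omega m (fun i => if i = i₀ then s else (1 : F)) ht (Equiv.swap i₀ i₁)
  have h1 : torO m (twoPar m i₀ i₁ s) (twoPar_ne_zero m i₀ i₁ hs) =
      torO m (fun i => (fun i => if i = i₀ then s else (1 : F)) i /
        (fun i => if i = i₀ then s else (1 : F)) ((Equiv.swap i₀ i₁) i))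
        (fun i => div_ne_zero (ht i) (ht ((Equiv.swap i₀ i₁) i))) := by
    apply Subtype.ext
    apply Units.ext
    show diagonal (tvec m _) = diagonal (tvec m _)
    rw [twoPar_eq_div m h01 hs]
  rw [h1]
  exact h

/-- the trace of the two-pair torus element -/
theorem trace_twoPar {i₀ i₁ : Fin m} (h01 : i₀ ≠ i₁) {s : F} (hs : s ≠ 0) :
    (diagonal (tvec m (twoPar m i₀ i₁ s))).trace = (2 * (m : F) - 3) + 2 * (s + s⁻¹) := by
  rw [trace_diagonal, Fintype.sum_sum_type, Fintype.sum_sum_type]
  simp only [tvec, Finset.univ_unique, Finset.sum_const, Finset.card_singleton, one_smul]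
  have e1 : ∀ i, twoPar m i₀ i₁ s i =
      1 + (if i = i₀ then s - 1 else 0) + (if i = i₁ then s⁻¹ - 1 else 0) := by
    intro i
    unfold twoPar
    by_cases h0 : i = i₀
    · subst h0
      rw [if_pos rfl, if_pos rfl, if_neg h01]
      ring
    · by_cases h1 : i = i₁
      · subst h1
        rw [if_neg h0, if_pos rfl, if_neg h0, if_pos rfl]
        ring
      · rw [if_neg h0, if_neg h1, if_neg h0, if_neg h1]
        ring
  have e2 : ∀ i, (twoPar m i₀ i₁ s i)⁻¹ =
      1 + (if i = i₀ then s⁻¹ - 1 else 0) + (if i = i₁ then s - 1 else 0) := by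
    intro i
    unfold twoPar
    by_cases h0 : i = i₀
    · subst h0
      rw [if_pos rfl, if_pos rfl, if_neg h01]
      ring
    · by_cases h1 : i = i₁
      · subst h1
        rw [if_neg h0, if_pos rfl, if_neg h0, if_pos rfl, inv_inv]
        ring
      · rw [if_neg h0, if_neg h1, if_neg h0, if_neg h1, inv_one]
        ring
  have s1 : ∑ i, twoPar m i₀ i₁ s i = (m : F) + (s - 1) + (s⁻¹ - 1) := by
    rw [Finset.sum_congr rfl (fun i _ => e1 i)]
    simp only [Finset.sum_add_distrib, Finset.sum_const, Finset.card_univ,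
      Fintype.card_fin, Finset.sum_ite_eq', Finset.mem_univ, if_true, nsmul_eq_mul, mul_one]
  have s2 : ∑ i, (twoPar m i₀ i₁ s i)⁻¹ = (m : F) + (s⁻¹ - 1) + (s - 1) := by
    rw [Finset.sum_congr rfl (fun i _ => e2 i)]
    simp only [Finset.sum_add_distrib, Finset.sum_const, Finset.card_univ,
      Fintype.card_fin, Finset.sum_ite_eq', Finset.mem_univ, if_true, nsmul_eq_mul, mul_one]
  rw [s1, s2]
  ring

end torus

end Cfsg.Agent.Lib.Helper51.POBal
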