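import Mathlib
import Cfsg.Agent.Lib.Helper51.POBal2
import Cfsg.Agent.Lib.Helper08.POmegaIso

set_option autoImplicit false
set_option linter.unusedSectionVars false
set_option linter.unusedVariables false
set_option linter.unusedSimpArgs false

/-! The subgroup `L0 ≅ Ω(Q₀)` of the fixed points of a field automorphism of `PΩ(Q)`, where `Q₀`
is the form over the fixed field. -/

namespace Cfsg.Agent.Lib.Helper51.POBal

open Matrix Cfsg.Agent.Lib.Helper08 Cfsg.Agent.Lib.Helper19 Cfsg.Agent.Lib.Helper43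
  Cfsg.Agent.Lib.Helper51.POAut

universe u v

variable {F₀ : Type v} {F : Type u} [Field F₀] [Fintype F₀] [DecidableEq F₀] [Field F] [Fintype F]
  [DecidableEq F] {ι : Type} [Fintype ι] [DecidableEq ι]

/-- the data of a form over a field, the form over the fixed field of a field automorphism -/
structure Setup (Q₀ : QuadraticForm F₀ (ι → F₀)) (Q : QuadraticForm F (ι → F)) (j : F₀ →+* F)
    (σ : ↥(SInv ⇑Q)) : Prop where
  h2 : (2 : F) ≠ 0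
  h2₀ : (2 : F₀) ≠ 0
  hc : Compat Q₀ Q j
  hQ : (QuadraticMap.polarBilin Q).Nondegenerate
  hQ₀ : (QuadraticMap.polarBilin Q₀).Nondegenerate
  hZ : Subgroup.center ↥(Cfsg.Omega F ⇑Q) = ⊥
  hZ₀ : Subgroup.center ↥(Cfsg.Omega F₀ ⇑Q₀) = ⊥
  hj : ∀ a, σ.1 (j a) = j a
  hj' : ∀ b : F, σ.1 b = b → ∃ a, j a = b

namespace Setup

variable {Q₀ : QuadraticForm F₀ (ι → F₀)} {Q : QuadraticForm F (ι → F)} {j : F₀ →+* F}
  {σ : ↥(SInv ⇑Q)} (S : Setup Q₀ Q j σ)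

include S

theorem mk_inj {a b : ↥(Cfsg.Omega F ⇑Q)}
    (h : (QuotientGroup.mk a : Cfsg.POmega F ⇑Q) = QuotientGroup.mk b) : a = b := by
  rw [QuotientGroup.eq, S.hZ, Subgroup.mem_bot] at h
  exact inv_mul_eq_one.mp h

theorem mk_inj₀ {a b : ↥(Cfsg.Omega F₀ ⇑Q₀)}
    (h : (QuotientGroup.mk a : Cfsg.POmega F₀ ⇑Q₀) = QuotientGroup.mk b) : a = b := by
  rw [QuotientGroup.eq, S.hZ₀, Subgroup.mem_bot] at h
  exact inv_mul_eq_one.mp h

/-- the centre of `PΩ` is trivial: conjugation is faithful -/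
theorem conj_injective :
    Function.Injective (MulAut.conj : Cfsg.POmega F ⇑Q →* MulAut (Cfsg.POmega F ⇑Q)) := by
  rw [injective_iff_map_eq_one]
  intro a ha
  induction a using QuotientGroup.induction_on with
  | H ω =>
    have hcen : ω ∈ Subgroup.center ↥(Cfsg.Omega F ⇑Q) := by
      rw [Subgroup.mem_center_iff]
      intro ω'
      have h1 := congrArg (fun β : MulAut (Cfsg.POmega F ⇑Q) => β (QuotientGroup.mk ω')) ha
      simp only [MulAut.conj_apply, MulAut.one_apply] at h1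
      have h3 : (QuotientGroup.mk (ω * ω' * ω⁻¹) : Cfsg.POmega F ⇑Q) = QuotientGroup.mk ω' := h1
      have h4 := S.mk_inj h3
      calc ω' * ω = (ω * ω' * ω⁻¹) * ω := by rw [h4]
        _ = ω * ω' := by group
    rw [S.hZ, Subgroup.mem_bot] at hcen
    rw [hcen]
    rfl

/-- base change on `Ω` -/
def bcOm : ↥(Cfsg.Omega F₀ ⇑Q₀) →* ↥(Cfsg.Omega F ⇑Q) :=
  ((bcO S.h2 S.hc).comp (Subgroup.subtype _)).codRestrict _ (fun ω => by
    have h1 : (ω : ↥(Cfsg.isometryGroup F₀ ⇑Q₀)) ∈ commutator ↥(Cfsg.isometryGroup F₀ ⇑Q₀) := ω.2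
    show bcO S.h2 S.hc ω.1 ∈ commutator ↥(Cfsg.isometryGroup F ⇑Q)
    rw [commutator_def] at h1 ⊢
    have h3 := Subgroup.mem_map_of_mem (bcO S.h2 S.hc) h1
    rw [Subgroup.map_commutator] at h3
    exact Subgroup.commutator_mono le_top le_top h3)

theorem bcOm_coe (ω : ↥(Cfsg.Omega F₀ ⇑Q₀)) :
    ((S.bcOm ω : ↥(Cfsg.Omega F ⇑Q)) : ↥(Cfsg.isometryGroup F ⇑Q)) = bcO S.h2 S.hc ω.1 := rfl

theorem bcOm_val (ω : ↥(Cfsg.Omega F₀ ⇑Q₀)) :
    ((((S.bcOm ω : ↥(Cfsg.Omega F ⇑Q)) : ↥(Cfsg.isometryGroup F ⇑Q)) : GL ι F) : Matrix ι ι F) =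
      (((ω : ↥(Cfsg.isometryGroup F₀ ⇑Q₀)) : GL ι F₀) : Matrix ι ι F₀).map j := rfl

theorem bcO_injective : Function.Injective (bcO (Q₀ := Q₀) (Q := Q) S.h2 S.hc) := by
  intro a b hab
  apply Subtype.ext
  apply bcGL_injective (j := j)
  exact congrArg Subtype.val hab

theorem bcOm_injective : Function.Injective S.bcOm := by
  intro a b hab
  apply Subtype.ext
  apply S.bcO_injective
  exact congrArg Subtype.val hab

/-- `Ω(Q₀) → PΩ(Q)` -/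
def omHom : ↥(Cfsg.Omega F₀ ⇑Q₀) →* Cfsg.POmega F ⇑Q :=
  (QuotientGroup.mk' _).comp S.bcOm

theorem omHom_apply (ω : ↥(Cfsg.Omega F₀ ⇑Q₀)) :
    S.omHom ω = (QuotientGroup.mk (S.bcOm ω) : Cfsg.POmega F ⇑Q) := rfl

theorem omHom_injective : Function.Injective S.omHom := by
  intro a b hab
  exact S.bcOm_injective (S.mk_inj hab)

/-- the image of `Ω(Q₀)` -/
def L0 : Subgroup (Cfsg.POmega F ⇑Q) := S.omHom.range

theorem L0_le_fix : S.L0 ≤ fixG (fieldAutPO (⇑Q) σ) := by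
  rintro _ ⟨ω₀, rfl⟩
  rw [mem_fixG, omHom_apply]
  obtain ⟨s', h1, v1⟩ := fieldAutPO_mk_val (⇑Q) σ (S.bcOm ω₀)
  rw [h1]
  congr 1
  apply Omega_ext
  rw [v1, bcOm_val]
  ext a b
  rw [Matrix.map_apply, Matrix.map_apply]
  exact S.hj _

/-- descent of isometries with entries in the subfield -/
theorem exists_bcO_eq (s : ↥(Cfsg.isometryGroup F ⇑Q))
    (hs : ((s : GL ι F) : Matrix ι ι F).map σ.1 = ((s : GL ι F) : Matrix ι ι F)) :
    ∃ s₀ : ↥(Cfsg.isometryGroup F₀ ⇑Q₀), bcO S.h2 S.hc s₀ = s := by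
  have hfix : ∀ a b, σ.1 (((s : GL ι F) : Matrix ι ι F) a b) = ((s : GL ι F) : Matrix ι ι F) a b := by
    intro a b
    have := congrFun (congrFun hs a) b
    rwa [Matrix.map_apply] at this
  choose m₀ hm₀ using fun a b => S.hj' _ (hfix a b)
  have hM : (Matrix.of m₀).map j = ((s : GL ι F) : Matrix ι ι F) := by
    ext a b
    rw [Matrix.map_apply]
    exact hm₀ a b
  have hdet : (Matrix.of m₀).det ≠ 0 := by
    intro h0
    have h1 : ((s : GL ι F) : Matrix ι ι F).det = 0 := by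
      rw [← hM, ← RingHom.mapMatrix_apply, ← RingHom.map_det, h0, map_zero]
    have h3 : IsUnit ((s : GL ι F) : Matrix ι ι F).det :=
      (Matrix.isUnit_iff_isUnit_det _).mp (Units.isUnit _)
    rw [h1] at h3
    exact not_isUnit_zero h3
  have hiso : ∀ v, Q₀ ((Matrix.of m₀) *ᵥ v) = Q₀ v := by
    intro v
    apply j.injective
    have h1 := (mem_isometryGroup_iff (⇑Q) (s : GL ι F)).mp s.2 (fun k => j (v k))
    rw [← hM, ← comp_mulVec, S.hc, S.hc] at h1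
    exact h1
  refine ⟨⟨Matrix.GeneralLinearGroup.mkOfDetNeZero (Matrix.of m₀) hdet,
    (mem_isometryGroup_iff (⇑Q₀) _).mpr hiso⟩, ?_⟩
  apply Subtype.ext
  apply Units.ext
  exact hM

/-- the fixed points of the field automorphism come from isometries over the fixed field -/
theorem lift_fix {k : Cfsg.POmega F ⇑Q} (hk : k ∈ fixG (fieldAutPO (⇑Q) σ)) :
    ∃ (s₀ : ↥(Cfsg.isometryGroup F₀ ⇑Q₀)) (ω : ↥(Cfsg.Omega F ⇑Q)),
      k = QuotientGroup.mk ω ∧ (ω : ↥(Cfsg.isometryGroup F ⇑Q)) = bcO S.h2 S.hc s₀ := by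
  induction k using QuotientGroup.induction_on with
  | H ω =>
    rw [mem_fixG] at hk
    obtain ⟨s', h1, v1⟩ := fieldAutPO_mk_val (⇑Q) σ ω
    rw [h1] at hk
    have h3 := S.mk_inj hk
    rw [h3] at v1
    obtain ⟨s₀, hs₀⟩ := S.exists_bcO_eq ω.1 v1.symm
    exact ⟨s₀, ω, rfl, hs₀.symm⟩

theorem L0_normal {k : Cfsg.POmega F ⇑Q} (hk : k ∈ fixG (fieldAutPO (⇑Q) σ))
    {l : Cfsg.POmega F ⇑Q} (hl : l ∈ S.L0) : k * l * k⁻¹ ∈ S.L0 := by
  obtain ⟨s₀, ω, rfl, hω⟩ := S.lift_fix hk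
  obtain ⟨l₀, rfl⟩ := hl
  have hn : s₀ * l₀.1 * s₀⁻¹ ∈ Cfsg.Omega F₀ ⇑Q₀ :=
    (inferInstance : (commutator ↥(Cfsg.isometryGroup F₀ ⇑Q₀)).Normal).conj_mem _ l₀.2 s₀
  refine ⟨⟨_, hn⟩, ?_⟩
  rw [omHom_apply, omHom_apply, ← QuotientGroup.mk_inv, ← QuotientGroup.mk_mul,
    ← QuotientGroup.mk_mul]
  congr 1
  apply Subtype.ext
  rw [bcOm_coe, Subgroup.coe_mul, Subgroup.coe_mul, Subgroup.coe_inv, hω, bcOm_coe, map_mul,
    map_mul, map_inv]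

theorem sq_mem_L0 {k : Cfsg.POmega F ⇑Q} (hk : k ∈ fixG (fieldAutPO (⇑Q) σ)) :
    k ^ 2 ∈ S.L0 := by
  obtain ⟨s₀, ω, rfl, hω⟩ := S.lift_fix hk
  have hn : s₀ * s₀ ∈ Cfsg.Omega F₀ ⇑Q₀ := sq_mem_Omega S.h2₀ Q₀ S.hQ₀ s₀
  refine ⟨⟨_, hn⟩, ?_⟩
  rw [omHom_apply, sq, ← QuotientGroup.mk_mul]
  congr 1
  apply Subtype.ext
  rw [bcOm_coe, Subgroup.coe_mul, hω, map_mul]

theorem mem_L0_of_odd {k : Cfsg.POmega F ⇑Q} (hk : k ∈ fixG (fieldAutPO (⇑Q) σ))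
    (hodd : Odd (orderOf k)) : k ∈ S.L0 := by
  obtain ⟨i, hi⟩ := hodd
  have h1 : k = (k ^ 2) ^ (i + 1) := by
    rw [← pow_mul, show 2 * (i + 1) = orderOf k + 1 by omega, pow_succ, pow_orderOf_eq_one,
      one_mul]
  rw [h1]
  exact Subgroup.pow_mem _ (S.sq_mem_L0 hk) _

theorem dvd_card_L0_of_odd {p : ℕ} [hp : Fact p.Prime]
    (hp2 : p ≠ 2) (h : p ∣ Nat.card (fixG (fieldAutPO (⇑Q) σ))) : p ∣ Nat.card S.L0 := by
  obtain ⟨x, hx⟩ := exists_prime_orderOf_dvd_card' p h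
  have hx' : orderOf (x : Cfsg.POmega F ⇑Q) = p := by rw [Subgroup.orderOf_coe, hx]
  have hmem : (x : Cfsg.POmega F ⇑Q) ∈ S.L0 := by
    apply S.mem_L0_of_odd x.2
    rw [hx']
    exact hp.out.odd_of_ne_two hp2
  have h2 : orderOf (⟨(x : Cfsg.POmega F ⇑Q), hmem⟩ : S.L0) = p := by
    rw [← hx', ← Subgroup.orderOf_coe]
  rw [← h2]
  exact orderOf_dvd_natCard _

/-- `L0` is simple when `PΩ(Q₀)` is -/
theorem L0_simple (h : IsSimpleGroup (Cfsg.POmega F₀ ⇑Q₀)) : IsSimpleGroup ↥S.L0 := by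
  have e1 : ↥(Cfsg.Omega F₀ ⇑Q₀) ≃* ↥S.L0 := MonoidHom.ofInjective S.omHom_injective
  have e2 : ↥(Cfsg.Omega F₀ ⇑Q₀) ≃* Cfsg.POmega F₀ ⇑Q₀ :=
    MulEquiv.ofBijective (QuotientGroup.mk' _)
      ⟨fun a b hab => S.mk_inj₀ hab, QuotientGroup.mk'_surjective _⟩
  exact (e1.symm.trans e2).isSimpleGroup

/-- an element of order two of `Ω(Q₀)` gives one of `L0` -/
theorem two_dvd_card_L0 (ω₀ : ↥(Cfsg.Omega F₀ ⇑Q₀)) (h1 : ω₀ ≠ 1) (h2 : ω₀ * ω₀ = 1) :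
    2 ∣ Nat.card S.L0 := by
  have e1 : ↥(Cfsg.Omega F₀ ⇑Q₀) ≃* ↥S.L0 := MonoidHom.ofInjective S.omHom_injective
  rw [← Nat.card_congr e1.toEquiv]
  have h3 : orderOf ω₀ = 2 := orderOf_eq_prime (by rw [sq]; exact h2) h1
  rw [← h3]
  exact orderOf_dvd_natCard _

theorem L0_ne_bot (ω₀ : ↥(Cfsg.Omega F₀ ⇑Q₀)) (h1 : ω₀ ≠ 1) : S.L0 ≠ ⊥ := by
  intro h
  have hmem : S.omHom ω₀ ∈ S.L0 := ⟨ω₀, rfl⟩
  rw [h, Subgroup.mem_bot, ← map_one S.omHom] at hmem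
  exact h1 (S.omHom_injective hmem)

end Setup

end Cfsg.Agent.Lib.Helper51.POBal
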