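import Mathlib
import Cfsg.Agent.Lib.Helper51.POBal4
import Cfsg.Agent.Lib.Helper51.POBal3
import Cfsg.Agent.Lib.Helper51.PSpAut9

set_option autoImplicit false
set_option linter.unusedSectionVars false
set_option linter.unusedVariables false
set_option linter.unusedSimpArgs false

/-! Automorphisms of `PΩ(Q)` centralising a field automorphism and fixing `L0` pointwise are
powers of the field automorphism. -/

namespace Cfsg.Agent.Lib.Helper51.POBal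

open Matrix Cfsg.Agent.Lib.Helper08 Cfsg.Agent.Lib.Helper19 Cfsg.Agent.Lib.Helper43
  Cfsg.Agent.Lib.Helper51.POAut

universe u v

variable {F₀ : Type v} {F : Type u} [Field F₀] [Fintype F₀] [DecidableEq F₀] [Field F] [Fintype F]
  [DecidableEq F] {ι : Type} [Fintype ι] [DecidableEq ι]

theorem trace_map_ringEquiv (τ : RingAut F) (M : Matrix ι ι F) :
    (M.map τ).trace = τ M.trace := by
  simp only [Matrix.trace, Matrix.diag_apply, Matrix.map_apply, map_sum]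

theorem trace_map_ringHom (j : F₀ →+* F) (M : Matrix ι ι F₀) :
    (M.map j).trace = j M.trace := by
  simp only [Matrix.trace, Matrix.diag_apply, Matrix.map_apply, map_sum]

namespace Setup

variable {Q₀ : QuadraticForm F₀ (ι → F₀)} {Q : QuadraticForm F (ι → F)} {j : F₀ →+* F}
  {σ : ↥(SInv ⇑Q)} (S : Setup Q₀ Q j σ)

include S

/-- the field part of a semilinear automorphism fixing `L0` pointwise fixes the traces -/
theorem trace_fixed (g : ↥(Cfsg.Geo.quadSimilarityGroup (F := F) ⇑Q)) (τ : ↥(SInv ⇑Q))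
    (hfix : ∀ l ∈ S.L0, (autPO (⇑Q) g * fieldAutPO (⇑Q) τ) l = l)
    (ω₀ : ↥(Cfsg.Omega F₀ ⇑Q₀)) :
    τ.1 (j (((ω₀ : ↥(Cfsg.isometryGroup F₀ ⇑Q₀)) : GL ι F₀) : Matrix ι ι F₀).trace) =
      j (((ω₀ : ↥(Cfsg.isometryGroup F₀ ⇑Q₀)) : GL ι F₀) : Matrix ι ι F₀).trace := by
  have h1 := hfix _ ⟨ω₀, rfl⟩
  rw [omHom_apply, MulAut.mul_apply] at h1
  obtain ⟨ω₁, e1, v1⟩ := fieldAutPO_mk_val (⇑Q) τ (S.bcOm ω₀)
  obtain ⟨ω₂, e2, v2⟩ := autPO_mk_val (⇑Q) g ω₁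
  rw [e1, e2] at h1
  have h3 := S.mk_inj h1
  rw [h3] at v2
  have h4 := congrArg (fun x : GL ι F => (x : Matrix ι ι F).trace) v2
  simp only [Units.val_mul] at h4
  rw [Matrix.trace_units_conj, v1, S.bcOm_val, trace_map_ringEquiv, trace_map_ringHom] at h4
  exact h4.symm

/-- the field part of a semilinear automorphism fixing `L0` pointwise fixes the subfield -/
theorem field_part_fixes (g : ↥(Cfsg.Geo.quadSimilarityGroup (F := F) ⇑Q)) (τ : ↥(SInv ⇑Q))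
    (hfix : ∀ l ∈ S.L0, (autPO (⇑Q) g * fieldAutPO (⇑Q) τ) l = l)
    (htr : ∀ s : F₀, s ≠ 0 → ∃ (ω₀ : ↥(Cfsg.Omega F₀ ⇑Q₀)) (c : ℤ),
      (((ω₀ : ↥(Cfsg.isometryGroup F₀ ⇑Q₀)) : GL ι F₀) : Matrix ι ι F₀).trace =
        (c : F₀) + 2 * (s + s⁻¹)) :
    ∀ a, τ.1 (j a) = j a := by
  apply fixes_of_fixes_trace S.h2 j τ.1
  intro s hs
  obtain ⟨ω₀, c, hc⟩ := htr s hs
  have h1 := S.trace_fixed g τ hfix ω₀
  rw [hc, map_add, map_add, map_mul, map_mul, map_intCast, map_intCast, map_ofNat, map_ofNat]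
    at h1
  have h3 := add_left_cancel h1
  exact mul_left_cancel₀ S.h2 h3

/-- the field part is a power of `σ` -/
theorem field_part_mem (g : ↥(Cfsg.Geo.quadSimilarityGroup (F := F) ⇑Q)) (τ : ↥(SInv ⇑Q))
    (hfix : ∀ l ∈ S.L0, (autPO (⇑Q) g * fieldAutPO (⇑Q) τ) l = l)
    (htr : ∀ s : F₀, s ≠ 0 → ∃ (ω₀ : ↥(Cfsg.Omega F₀ ⇑Q₀)) (c : ℤ),
      (((ω₀ : ↥(Cfsg.isometryGroup F₀ ⇑Q₀)) : GL ι F₀) : Matrix ι ι F₀).trace =
        (c : F₀) + 2 * (s + s⁻¹)) :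
    ∃ k : ℤ, τ = σ ^ k := by
  have h1 := S.field_part_fixes g τ hfix htr
  have h3 : τ.1 ∈ Subgroup.zpowers σ.1 := by
    apply Cfsg.Agent.Lib.Helper51.PSpAut.mem_zpowers_of_fixes
    intro c hc
    obtain ⟨a, rfl⟩ := S.hj' c hc
    exact h1 a
  obtain ⟨k, hk⟩ := Subgroup.mem_zpowers_iff.mp h3
  refine ⟨k, ?_⟩
  apply Subtype.ext
  rw [Subgroup.coe_zpow]
  exact hk.symm

/-- a similarity automorphism centralising `φ_σ` and fixing `L0` pointwise is trivial -/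
theorem autPO_eq_one_of_fixes [Nonempty ι] (e f : Fin 3 → ι → F) (HT : HypTriple Q e f)
    (e₀ f₀ : Fin 3 → ι → F₀) (HT₀ : HypTriple Q₀ e₀ f₀)
    {u₀ : ι → F₀} (hu₀ : Q₀ u₀ = 1) {r : ℕ} (hr : orderOf σ.1 = r) (hr0 : 0 < r)
    (g : ↥(Cfsg.Geo.quadSimilarityGroup (F := F) ⇑Q))
    (hcen : autPO (⇑Q) g ∈ Subgroup.centralizer {fieldAutPO (⇑Q) σ})
    (hfix : ∀ l ∈ S.L0, autPO (⇑Q) g l = l) : autPO (⇑Q) g = 1 := by
  have hmem : autPO (⇑Q) g ∈ (subAut Q₀ Q S.h2 S.hc).range := by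
    rw [subAut_range Q₀ Q S.h2 S.hc S.hQ e f HT hu₀ σ hr hr0 S.hj S.hj']
    exact ⟨⟨g, rfl⟩, hcen⟩
  obtain ⟨g₀, hg₀⟩ := hmem
  have hker : g₀ ∈ (autPO (⇑Q₀)).ker := by
    rw [MonoidHom.mem_ker]
    ext x
    induction x using QuotientGroup.induction_on with
    | H ω₀ =>
      rw [MulAut.one_apply]
      obtain ⟨ω', e1, v1⟩ := autPO_mk_val (⇑Q₀) g₀ ω₀
      rw [e1]
      congr 1
      apply Subtype.ext
      apply Subtype.ext
      rw [v1]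
      -- the relation over the big field
      have h1 := hfix _ ⟨ω₀, rfl⟩
      rw [← hg₀, omHom_apply] at h1
      obtain ⟨ω₂, e2, v2⟩ := autPO_mk_val (⇑Q) (bcGO S.h2 S.hc g₀) (S.bcOm ω₀)
      have h1' : autPO (⇑Q) (bcGO S.h2 S.hc g₀) (QuotientGroup.mk (S.bcOm ω₀)) =
          QuotientGroup.mk (S.bcOm ω₀) := h1
      rw [e2] at h1'
      have h3 := S.mk_inj h1'
      rw [h3] at v2
      apply bcGL_injective (j := j)
      rw [map_mul, map_mul, map_inv]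
      exact v2.symm
  rw [← subAut_ker Q₀ Q S.h2 S.hc S.hQ e f HT S.hQ₀ S.h2₀ e₀ f₀ HT₀, MonoidHom.mem_ker] at hker
  rw [← hg₀]
  exact hker

/-- the centraliser statement -/
theorem mem_zpowers_of_fixes_L0 [Nonempty ι] (e f : Fin 3 → ι → F) (HT : HypTriple Q e f)
    (e₀ f₀ : Fin 3 → ι → F₀) (HT₀ : HypTriple Q₀ e₀ f₀)
    {u₀ : ι → F₀} (hu₀ : Q₀ u₀ = 1) {r : ℕ} (hr : orderOf σ.1 = r) (hr0 : 0 < r)
    (htr : ∀ s : F₀, s ≠ 0 → ∃ (ω₀ : ↥(Cfsg.Omega F₀ ⇑Q₀)) (c : ℤ),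
      (((ω₀ : ↥(Cfsg.isometryGroup F₀ ⇑Q₀)) : GL ι F₀) : Matrix ι ι F₀).trace =
        (c : F₀) + 2 * (s + s⁻¹))
    (n : MulAut (Cfsg.POmega F ⇑Q)) (hn : n ∈ gamSub ⇑Q)
    (hcen : n ∈ Subgroup.centralizer {fieldAutPO (⇑Q) σ})
    (hfix : ∀ l ∈ S.L0, n l = l) : n ∈ Subgroup.zpowers (fieldAutPO (⇑Q) σ) := by
  obtain ⟨g, τ, rfl⟩ := hn
  obtain ⟨k, rfl⟩ := S.field_part_mem g τ hfix htr
  set y := fieldAutPO (⇑Q) σ with hy
  have hyk : fieldAutPO (⇑Q) (σ ^ k) = y ^ k := map_zpow _ _ _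
  rw [hyk] at hcen hfix ⊢
  have hycen : y ∈ Subgroup.centralizer {y} := by
    rw [Subgroup.mem_centralizer_iff]
    intro h hh
    rw [Set.mem_singleton_iff] at hh
    rw [hh]
  have hykcen : y ^ k ∈ Subgroup.centralizer {y} := Subgroup.zpow_mem _ hycen k
  have hgcen : autPO (⇑Q) g ∈ Subgroup.centralizer {y} := by
    have := Subgroup.mul_mem _ hcen (Subgroup.inv_mem _ hykcen)
    rwa [mul_inv_cancel_right] at this
  have hykfix : ∀ l ∈ S.L0, (y ^ k) l = l := by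
    intro l hl
    have h1 : y ∈ MulAction.stabilizer (MulAut (Cfsg.POmega F ⇑Q)) l := by
      rw [MulAction.mem_stabilizer_iff, MulAut.smul_def]
      exact S.L0_le_fix hl
    have h3 := Subgroup.zpow_mem _ h1 k
    rw [MulAction.mem_stabilizer_iff, MulAut.smul_def] at h3
    exact h3
  have hgfix : ∀ l ∈ S.L0, autPO (⇑Q) g l = l := by
    intro l hl
    have h1 := hfix l hl
    rw [MulAut.mul_apply, hykfix l hl] at h1
    exact h1
  rw [S.autPO_eq_one_of_fixes e f HT e₀ f₀ HT₀ hu₀ hr hr0 g hgcen hgfix, one_mul]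
  exact Subgroup.zpow_mem_zpowers y k

/-- an inner automorphism in the group generated by `φ_σ` is trivial -/
theorem eq_one_of_conj_mem_zpowers (hn : 5 ≤ Fintype.card ι)
    (e f : Fin 3 → ι → F) (HT : HypTriple Q e f)
    (hfix0 : ∀ τ : RingAut F, ∀ i, τ (e 0 i) = e 0 i)
    (hfix1 : ∀ τ : RingAut F, ∀ i, τ (e 1 i) = e 1 i)
    (a : Cfsg.POmega F ⇑Q)
    (h : MulAut.conj a ∈ Subgroup.zpowers (fieldAutPO (⇑Q) σ)) : a = 1 := by
  obtain ⟨k, hk⟩ := Subgroup.mem_zpowers_iff.mp h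
  rw [← map_zpow] at hk
  have hmem : fieldAutPO (⇑Q) (σ ^ k) ∈ (autPO (⇑Q)).range := by
    rw [hk]
    induction a using QuotientGroup.induction_on with
    | H ω =>
      rw [← autO_of_mem_Omega, autO_apply]
      exact ⟨_, rfl⟩
  have h1 := fieldAut_eq_one_of_mem_range Q S.h2 S.hQ hn e f HT hfix0 hfix1 _ hmem
  rw [h1, map_one] at hk
  apply S.conj_injective
  rw [← hk, map_one]

end Setup

end Cfsg.Agent.Lib.Helper51.POBal
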