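import Mathlib
import Cfsg.Agent.Lib.Helper51.POBal5
import Cfsg.Agent.Lib.Helper46.AOFinA
import Cfsg.Agent.Lib.Helper43.OmegaSimpleModels

set_option autoImplicit false
set_option linter.unusedSectionVars false
set_option linter.unusedVariables false
set_option linter.unusedSimpArgs false

/-! Local balance for field automorphisms of `Ω_{2m+1}(q)`, `q` odd: the statement, modulo the
conjugacy of the elements of prime order in a coset of a field automorphism. -/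

namespace Cfsg.Agent.Lib.Helper51.POBal

open Matrix Cfsg.Agent.Lib.Helper08 Cfsg.Agent.Lib.Helper19 Cfsg.Agent.Lib.Helper43
  Cfsg.Agent.Lib.Helper51.POAut Cfsg.Agent.Lib.Helper07 Cfsg.Agent.Lib.Helper51.PSpAut

universe u

section involution

variable {F : Type u} [Field F] (m : ℕ)

theorem torO_mul_self (t : Fin m → F) (ht : ∀ i, t i ≠ 0) (hsq : ∀ i, t i * t i = 1) :
    torO m t ht * torO m t ht = 1 := by
  apply Subtype.ext
  apply Units.ext
  show diagonal (tvec m t) * diagonal (tvec m t) = 1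
  rw [diagonal_mul_diagonal, ← diagonal_one]
  congr 1
  funext k
  rcases k with _ | i | i
  · simp [tvec]
  · simp only [tvec]
    exact hsq i
  · simp only [tvec]
    rw [← mul_inv, hsq i, inv_one]

theorem torO_ne_one (t : Fin m → F) (ht : ∀ i, t i ≠ 0) (i : Fin m) (hi : t i ≠ 1) :
    torO m t ht ≠ 1 := by
  intro h
  have h1 := congrArg (fun x : ↥(Cfsg.isometryGroup F (Cfsg.quadFormOdd m F)) =>
    ((x : GL (Unit ⊕ (Fin m ⊕ Fin m)) F) : Matrix (Unit ⊕ (Fin m ⊕ Fin m))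
      (Unit ⊕ (Fin m ⊕ Fin m)) F) (Sum.inr (Sum.inl i)) (Sum.inr (Sum.inl i))) h
  simp only [torO, torGL_val, diagonal_apply_eq, tvec] at h1
  apply hi
  rw [h1]
  simp

/-- elements of `Ω` with prescribed traces -/
theorem exists_trace_elt (hm : 3 ≤ m) (q₀ : (Unit ⊕ (Fin m ⊕ Fin m) → F) → F)
    (hq : q₀ = Cfsg.quadFormOdd m F) (s : F) (hs : s ≠ 0) :
    ∃ (ω₀ : ↥(Cfsg.Omega F q₀)) (c : ℤ),
      (((ω₀ : ↥(Cfsg.isometryGroup F q₀)) : GL (Unit ⊕ (Fin m ⊕ Fin m)) F) :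
        Matrix (Unit ⊕ (Fin m ⊕ Fin m)) (Unit ⊕ (Fin m ⊕ Fin m)) F).trace =
        (c : F) + 2 * (s + s⁻¹) := by
  subst hq
  have h01 : (⟨0, by omega⟩ : Fin m) ≠ ⟨1, by omega⟩ := by
    intro h
    have := congrArg Fin.val h
    simp at this
  refine ⟨⟨torO m (twoPar m ⟨0, by omega⟩ ⟨1, by omega⟩ s) (twoPar_ne_zero m _ _ hs),
    torO_twoPar_mem_Omega m h01 hs⟩, 2 * (m : ℤ) - 3, ?_⟩
  have := trace_twoPar m h01 hs
  rw [Int.cast_sub, Int.cast_mul, Int.cast_ofNat, Int.cast_natCast, Int.cast_ofNat]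
  exact this

/-- an involution in `Ω` -/
theorem exists_involution (hm : 3 ≤ m) (h2 : (2 : F) ≠ 0)
    (q₀ : (Unit ⊕ (Fin m ⊕ Fin m) → F) → F) (hq : q₀ = Cfsg.quadFormOdd m F) :
    ∃ ω₂ : ↥(Cfsg.Omega F q₀), ω₂ ≠ 1 ∧ ω₂ * ω₂ = 1 := by
  subst hq
  have h01 : (⟨0, by omega⟩ : Fin m) ≠ ⟨1, by omega⟩ := by
    intro h
    have := congrArg Fin.val h
    simp at this
  have hm1 : (-1 : F) ≠ 0 := neg_ne_zero.mpr one_ne_zero
  refine ⟨⟨torO m (twoPar m ⟨0, by omega⟩ ⟨1, by omega⟩ (-1)) (twoPar_ne_zero m _ _ hm1),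
    torO_twoPar_mem_Omega m h01 hm1⟩, ?_, ?_⟩
  · intro h
    have h1 := congrArg Subtype.val h
    refine torO_ne_one m _ _ ⟨0, by omega⟩ ?_ h1
    unfold twoPar
    rw [if_pos rfl]
    intro h3
    apply h2
    have : (2 : F) = 1 - (-1) := by ring
    rw [this, h3]
    ring
  · apply Subtype.ext
    apply torO_mul_self
    intro i
    unfold twoPar
    split_ifs <;> simp

end involution

section setup

variable {F : Type u} [Field F] [Fintype F] [DecidableEq F]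

theorem setup_odd (h2 : (2 : F) ≠ 0) (m : ℕ) (hm : 3 ≤ m)
    (Q : QuadraticForm F (Unit ⊕ (Fin m ⊕ Fin m) → F)) (hcoe : ⇑Q = Cfsg.quadFormOdd m F)
    (hQ : (QuadraticMap.polarBilin Q).Nondegenerate) (σ : ↥(SInv ⇑Q))
    [DecidableEq ↥(fixK σ.1)] (h2₀ : (2 : ↥(fixK σ.1)) ≠ 0)
    (Q₀ : QuadraticForm ↥(fixK σ.1) (Unit ⊕ (Fin m ⊕ Fin m) → ↥(fixK σ.1)))
    (hcoe₀ : ⇑Q₀ = Cfsg.quadFormOdd m ↥(fixK σ.1))
    (hQ₀ : (QuadraticMap.polarBilin Q₀).Nondegenerate) :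
    Setup Q₀ Q (fixK σ.1).subtype σ where
  h2 := h2
  h2₀ := h2₀
  hc := by
    intro v
    have h1 : Q (fun i => (fixK σ.1).subtype (v i)) =
        Cfsg.quadFormOdd m F (fun i => (fixK σ.1).subtype (v i)) := congrFun hcoe _
    have h3 : Q₀ v = Cfsg.quadFormOdd m ↥(fixK σ.1) v := congrFun hcoe₀ v
    rw [h1, h3]
    exact quadFormOdd_comp m (fixK σ.1).subtype v
  hQ := hQ
  hQ₀ := hQ₀
  hZ := Cfsg.Agent.Lib.Helper46.AO.center_eq_bot_of_odd Q hQ (by
    rw [Fintype.card_sum, Fintype.card_sum, Fintype.card_fin, Fintype.card_unit]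
    omega) (by
    rw [Fintype.card_sum, Fintype.card_sum, Fintype.card_fin, Fintype.card_unit]
    exact ⟨m, by ring⟩) h2
  hZ₀ := Cfsg.Agent.Lib.Helper46.AO.center_eq_bot_of_odd Q₀ hQ₀ (by
    rw [Fintype.card_sum, Fintype.card_sum, Fintype.card_fin, Fintype.card_unit]
    omega) (by
    rw [Fintype.card_sum, Fintype.card_sum, Fintype.card_fin, Fintype.card_unit]
    exact ⟨m, by ring⟩) h2₀
  hj := fun a => (mem_fixK σ.1 a.1).mp a.2
  hj' := fun b hb => ⟨⟨b, (mem_fixK σ.1 b).mpr hb⟩, rfl⟩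

end setup

section master

variable {F : Type u} [Field F] [Fintype F]

set_option maxHeartbeats 1600000 in
/-- the master statement -/
theorem local_balance_odd (hodd : Odd (Fintype.card F)) {m : ℕ} (hm : 3 ≤ m)
    (hAut : Cfsg.gammaPOmega F (Cfsg.quadFormOdd m F) = ⊤)
    (hLang : ∀ (y δ : MulAut (Cfsg.POmega F (Cfsg.quadFormOdd m F))),
      Cfsg.IsFieldAutClassPOmega (Cfsg.quadFormOdd m F) y → ∀ {p : ℕ}, p.Prime → orderOf y = p →
      δ ∈ Cfsg.pgoAut F (Cfsg.quadFormOdd m F) → orderOf (δ * y) = p →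
      Cfsg.IsConjUnder (Cfsg.pgoAut F (Cfsg.quadFormOdd m F)) y (δ * y))
    (A : Subgroup (MulAut (Cfsg.POmega F (Cfsg.quadFormOdd m F))))
    (hinn : ∀ k : Cfsg.POmega F (Cfsg.quadFormOdd m F), MulAut.conj k ∈ A) {p : ℕ}
    [hp : Fact p.Prime] (x : MulAut (Cfsg.POmega F (Cfsg.quadFormOdd m F))) (hxA : x ∈ A)
    (hord : orderOf x = p)
    (hnot : ¬ Cfsg.IsSimilarityInducedAutPOmega (Cfsg.quadFormOdd m F) x) :
    Cfsg.pPrimeCore p ↥(A ⊓ Subgroup.centralizer {x}) ≠ ⊥ ↔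
      (Cfsg.IsFieldAutClassPOmega (Cfsg.quadFormOdd m F) x ∧
        Nat.Coprime p (Nat.card ↥(MonoidHom.eqLocus x.toMonoidHom
          (MonoidHom.id (Cfsg.POmega F (Cfsg.quadFormOdd m F)))))) := by
  classical
  have h2 : (2 : F) ≠ 0 := Cfsg.Agent.Lib.Helper50.two_ne_zero_of_odd_card rfl hodd
  obtain ⟨Q, hQdef⟩ : ∃ Q : QuadraticForm F (Unit ⊕ (Fin m ⊕ Fin m) → F),
      Q = (qdataOdd (F := F) m h2).qf := ⟨_, rfl⟩
  have hcoe : ⇑Q = Cfsg.quadFormOdd m F := by rw [hQdef]; rfl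
  have hQ : (QuadraticMap.polarBilin Q).Nondegenerate := by
    rw [hQdef]; exact (qdataOdd (F := F) m h2).qf_nondeg
  have HT : HypTriple Q (fun i => Pi.single (Sum.inr (Sum.inl (Fin.castLE hm i))) 1)
      (fun i => Pi.single (Sum.inr (Sum.inr (Fin.castLE hm i))) 1) := by
    rw [hQdef]; exact hypTriple_odd (F := F) m hm h2
  have hcard5 : 5 ≤ Fintype.card (Unit ⊕ (Fin m ⊕ Fin m)) := by
    rw [Fintype.card_sum, Fintype.card_sum, Fintype.card_fin, Fintype.card_unit]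
    omega
  have hS : ∀ σ : RingAut F, σ ∈ SInv ⇑Q := by
    intro σ v
    rw [hcoe]
    exact quadFormOdd_comp m (σ : F ≃+* F).toRingHom v
  have hfix0 : ∀ τ : RingAut F, ∀ i,
      τ ((fun i => (Pi.single (Sum.inr (Sum.inl (Fin.castLE hm i))) 1 :
        Unit ⊕ (Fin m ⊕ Fin m) → F)) 0 i) =
      (fun i => (Pi.single (Sum.inr (Sum.inl (Fin.castLE hm i))) 1 :
        Unit ⊕ (Fin m ⊕ Fin m) → F)) 0 i := fun τ i => single_fix τ _ i
  have hfix1 : ∀ τ : RingAut F, ∀ i,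
      τ ((fun i => (Pi.single (Sum.inr (Sum.inl (Fin.castLE hm i))) 1 :
        Unit ⊕ (Fin m ⊕ Fin m) → F)) 1 i) =
      (fun i => (Pi.single (Sum.inr (Sum.inl (Fin.castLE hm i))) 1 :
        Unit ⊕ (Fin m ⊕ Fin m) → F)) 1 i := fun τ i => single_fix τ _ i
  have key : ∀ (q : (Unit ⊕ (Fin m ⊕ Fin m) → F) → F), ⇑Q = q →
      Cfsg.gammaPOmega F q = ⊤ →
      (∀ (y δ : MulAut (Cfsg.POmega F q)),
        Cfsg.IsFieldAutClassPOmega q y → ∀ {p : ℕ}, p.Prime → orderOf y = p →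
        δ ∈ Cfsg.pgoAut F q → orderOf (δ * y) = p →
        Cfsg.IsConjUnder (Cfsg.pgoAut F q) y (δ * y)) →
      ∀ (A : Subgroup (MulAut (Cfsg.POmega F q))),
      (∀ k : Cfsg.POmega F q, MulAut.conj k ∈ A) →
      ∀ (x : MulAut (Cfsg.POmega F q)), x ∈ A → orderOf x = p →
      ¬ Cfsg.IsSimilarityInducedAutPOmega q x →
      (Cfsg.pPrimeCore p ↥(A ⊓ Subgroup.centralizer {x}) ≠ ⊥ ↔
        (Cfsg.IsFieldAutClassPOmega q x ∧
          Nat.Coprime p (Nat.card ↥(MonoidHom.eqLocus x.toMonoidHom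
            (MonoidHom.id (Cfsg.POmega F q)))))) := by
    rintro q rfl hAut hLang A hinn x hxA hord hnot
    have hfin : Finite (MulAut (Cfsg.POmega F ⇑Q)) :=
      Finite.of_injective (fun e : MulAut (Cfsg.POmega F ⇑Q) =>
        (e : Cfsg.POmega F ⇑Q → Cfsg.POmega F ⇑Q)) DFunLike.coe_injective
    have htop : gamSub ⇑Q = ⊤ := gamSub_eq_top_of_gamma (⇑Q) hS hAut
    have hxΓ : x ∈ gamSub ⇑Q := by rw [htop]; exact Subgroup.mem_top _
    obtain ⟨g, σ, hxeq⟩ := hxΓ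
    have hnot' : autPO (⇑Q) g * fieldAutPO (⇑Q) σ ∉ (autPO (⇑Q)).range := by
      rintro ⟨g', hg'⟩
      apply hnot
      rw [hxeq, ← hg']
      exact ⟨g'.1, g'.2, (isInduced_iff (⇑Q) g'.1 g'.2 _).mpr rfl⟩
    have hσ : orderOf σ = p :=
      orderOf_field_part Q h2 hQ hcard5 _ _ HT hfix0 hfix1 hp.out g σ (hxeq ▸ hord) hnot'
    have hσ1 : orderOf σ.1 = p := by rw [Subgroup.orderOf_coe, hσ]
    have hσne : σ.1 ≠ RingEquiv.refl F := by
      intro h
      have h1 : orderOf σ.1 = 1 := by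
        rw [h]
        exact orderOf_one
      rw [hσ1] at h1
      exact hp.out.one_lt.ne' h1
    have hinjφ : Function.Injective (fieldAutPO (⇑Q)) := by
      rw [injective_iff_map_eq_one]
      intro τ hτ
      apply fieldAut_eq_one_of_mem_range Q h2 hQ hcard5 _ _ HT hfix0 hfix1 τ
      rw [hτ]
      exact one_mem _
    obtain ⟨y, hy⟩ : ∃ y, y = fieldAutPO (⇑Q) σ := ⟨_, rfl⟩
    have hy_std : Cfsg.IsFieldAutPOmegaOf (⇑Q) σ.1 y := (isFieldAut_iff (⇑Q) σ y).mpr hy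
    have hy_class : Cfsg.IsFieldAutClassPOmega (⇑Q) y :=
      ⟨1, y, σ.1, hσne, hy_std, by rw [one_mul, inv_one, mul_one]⟩
    have hy_ord : orderOf y = p := by rw [hy, orderOf_injective _ hinjφ, hσ]
    have hδ : autPO (⇑Q) g ∈ Cfsg.pgoAut F ⇑Q := by
      rw [pgoAut_eq]
      exact ⟨g, rfl⟩
    obtain ⟨h, hh, hxh⟩ := hLang y (autPO (⇑Q) g) hy_class hp.out hy_ord hδ
      (by rw [hy, ← hxeq]; exact hord)
    rw [hy, ← hxeq, ← hy] at hxh
    have hclass : Cfsg.IsFieldAutClassPOmega (⇑Q) x := by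
      refine ⟨h⁻¹, y, σ.1, hσne, hy_std, ?_⟩
      rw [hxh]
      group
    have hcard : Nat.card ↥(MonoidHom.eqLocus x.toMonoidHom (MonoidHom.id (Cfsg.POmega F ⇑Q)))
        = Nat.card (fixG y) := by
      show Nat.card (fixG x) = _
      rw [hxh, card_fixG_conj]
    -- the subfield data
    have h2₀ : (2 : ↥(fixK σ.1)) ≠ 0 := by
      intro h0
      apply h2
      have := congrArg (fixK σ.1).subtype h0
      rwa [map_ofNat, map_zero] at this
    obtain ⟨Q₀, hQ₀def⟩ : ∃ Q₀ : QuadraticForm ↥(fixK σ.1)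
        (Unit ⊕ (Fin m ⊕ Fin m) → ↥(fixK σ.1)),
        Q₀ = (qdataOdd (F := ↥(fixK σ.1)) m h2₀).qf := ⟨_, rfl⟩
    have hcoe₀ : ⇑Q₀ = Cfsg.quadFormOdd m ↥(fixK σ.1) := by rw [hQ₀def]; rfl
    have hQ₀ : (QuadraticMap.polarBilin Q₀).Nondegenerate := by
      rw [hQ₀def]; exact (qdataOdd (F := ↥(fixK σ.1)) m h2₀).qf_nondeg
    have S : Setup Q₀ Q (fixK σ.1).subtype σ :=
      setup_odd h2 m hm Q hcoe hQ σ h2₀ Q₀ hcoe₀ hQ₀
    have HT₀ : HypTriple Q₀
        (fun i => Pi.single (Sum.inr (Sum.inl (Fin.castLE hm i))) 1)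
        (fun i => Pi.single (Sum.inr (Sum.inr (Fin.castLE hm i))) 1) := by
      rw [hQ₀def]; exact hypTriple_odd (F := ↥(fixK σ.1)) m hm h2₀
    have hu₀ : Q₀ (Pi.single (Sum.inr (Sum.inl (Fin.castLE hm 0))) 1 +
        Pi.single (Sum.inr (Sum.inr (Fin.castLE hm 0))) 1) = 1 := by
      rw [QuadraticMap.map_add (⇑Q₀), HT₀.qe 0, HT₀.qf 0, HT₀.ef]; simp
    have hne : Nonempty (Unit ⊕ (Fin m ⊕ Fin m)) := ⟨Sum.inl ()⟩
    have htr := exists_trace_elt m hm (⇑Q₀) hcoe₀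
    obtain ⟨ω₂, hω₂ne, hω₂sq⟩ := exists_involution m hm h2₀ (⇑Q₀) hcoe₀
    have hinj := S.conj_injective
    have hLne : S.L0 ≠ ⊥ := S.L0_ne_bot ω₂ hω₂ne
    have hfixne : fixG y ≠ ⊥ := by
      intro h
      apply hLne
      rw [eq_bot_iff, ← h, hy]
      exact S.L0_le_fix
    rw [core_ne_bot_iff, hcard]
    constructor
    · intro hP
      refine ⟨hclass, ?_⟩
      by_contra hnc
      have hdvd : p ∣ Nat.card (fixG y) := by
        by_contra hnd
        exact hnc ((Nat.Prime.coprime_iff_not_dvd hp.out).mpr hnd)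
      have hdvdL : p ∣ Nat.card S.L0 := by
        by_cases hp2 : p = 2
        · subst hp2
          exact S.two_dvd_card_L0 ω₂ hω₂ne hω₂sq
        · rw [hy] at hdvd
          exact S.dvd_card_L0_of_odd hp2 hdvd
      have hP' := hasPPrimeNormal_conj h⁻¹ hP
      have hxy : h⁻¹ * x * h⁻¹⁻¹ = y := by
        rw [hxh]
        group
      rw [hxy] at hP'
      obtain ⟨N, hN, hNnorm, hcop, hne'⟩ := hP'
      apply hne'
      have hsimple : IsSimpleGroup (Cfsg.POmega ↥(fixK σ.1) ⇑Q₀) := by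
        rw [hcoe₀]
        exact isSimpleGroup_POmega_odd h2₀ m hm
      have hyz : Nat.card (Subgroup.zpowers y) = p := by rw [Nat.card_zpowers, hy_ord]
      rw [hy] at hN hNnorm hyz
      refine core_trivial_gen hinj (fieldAutPO (⇑Q) σ) hyz S.L0 S.L0_le_fix
        (fun k hk l hl => S.L0_normal hk hl)
        (no_normal_of_simple S.L0 (S.L0_simple hsimple) hdvdL hp.out.one_lt.ne')
        ?_ ?_ _ ?_ N hN hNnorm hcop
      · intro n hcen hfix
        exact S.mem_zpowers_of_fixes_L0 _ _ HT _ _ HT₀ hu₀ hσ1 hp.out.pos htr n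
          (by rw [htop]; exact Subgroup.mem_top _) hcen hfix
      · intro a ha
        exact S.eq_one_of_conj_mem_zpowers hcard5 _ _ HT hfix0 hfix1 a ha
      · intro k
        refine ⟨MulAut.conj (h k), hinn _, ?_⟩
        show h⁻¹ * MulAut.conj (h k) * h⁻¹⁻¹ = MulAut.conj k
        rw [aut_conj_conj, MulAut.inv_apply_self]
    · rintro ⟨-, hcop⟩
      apply core_nontrivial_gen hinj A hinn x
      · show (Nat.card (fixG x)).Coprime p
        rw [hxh, card_fixG_conj]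
        exact hcop.symm
      · rw [hxh, fixG_conj]
        intro hb
        rw [Subgroup.map_eq_bot_iff_of_injective _ h.injective] at hb
        exact hfixne hb
  exact key _ hcoe hAut hLang A hinn x hxA hord hnot

end master

end Cfsg.Agent.Lib.Helper51.POBal
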