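import Mathlib
import Cfsg.Agent.Lib.Helper51.PSpAut13
import Cfsg.Agent.S0270
import Cfsg.Agent.S2693

set_option autoImplicit false
set_option linter.unusedSectionVars false
set_option linter.unusedVariables false
set_option linter.unusedSimpArgs false

/-! Local balance for `PSp`: the generic case `(m, char) ≠ (2, 2)`. -/

namespace Cfsg.Agent.Lib.Helper51.PSpAut

open Matrix Cfsg.Agent.Lib.Helper18 Cfsg.Agent.Lib.Helper11.SpPerfect
  Cfsg.Agent.Lib.Helper43.AutPSp Cfsg.Agent.Lib.Helper07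

section generic
variable {F : Type*} [Field F] [Fintype F] (m : ℕ)

local notation "V" => (Fin m ⊕ Fin m → F)
local notation "K" => Cfsg.PSp m F

theorem three_le_card_fixK (σ : RingAut F) (h2 : (2 : F) ≠ 0) : 3 ≤ Fintype.card (fixK σ) := by
  have hne : (1 : F) ≠ -1 := by
    intro h3
    apply h2
    calc (2 : F) = 1 + 1 := by norm_num
      _ = -1 + 1 := by rw [← h3]
      _ = 0 := by ring
  have : 2 < Fintype.card (fixK σ) := by
    rw [Fintype.two_lt_card_iff]
    refine ⟨0, 1, -1, ?_, ?_, ?_⟩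
    · exact zero_ne_one
    · intro h
      have := congrArg Subtype.val h
      simp at this
    · intro h
      exact hne (congrArg Subtype.val h)
  omega

/-- `L0 σ` has no normal subgroups of order prime to `p` when it is simple -/
theorem noNormalPPrime_of_simple [NeZero m] (hm : 2 ≤ m) (σ : RingAut F) {p : ℕ} (hp : p.Prime)
    (h3 : m = 2 → 3 ≤ Fintype.card (fixK σ)) (hdvd : p ∣ Nat.card (L0 m σ)) :
    NoNormalPPrime m σ p := by
  obtain ⟨e⟩ := L0_equiv m σ
  have hs0 : IsSimpleGroup (Cfsg.PSp m (fixK σ)) := Cfsg.Agent.S0270.result m hm h3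
  have hsimp : IsSimpleGroup ↥(L0 m σ) := e.symm.isSimpleGroup
  intro M hM hnorm hcop
  exact no_normal_of_simple m σ hsimp hdvd hp.one_lt.ne' M hM hnorm hcop

/-- the generic case of local balance -/
theorem local_balance_generic {r : ℕ} [Fact r.Prime] [CharP F r] (hm : 2 ≤ m)
    (hs : m = 2 → 3 ≤ Fintype.card F) (h4 : m = 2 → r ≠ 2)
    (A : Subgroup (MulAut K)) (hinn : ∀ k : K, MulAut.conj k ∈ A) {p : ℕ} [hp : Fact p.Prime]
    (hpr : p ≠ r) (x : MulAut K) (hxA : x ∈ A) (hord : orderOf x = p)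
    (hnot : ¬ Cfsg.IsInnerDiagonalAutPSp x) :
    Cfsg.pPrimeCore p ↥(A ⊓ Subgroup.centralizer {x}) ≠ ⊥ ↔
      (Cfsg.IsFieldAutClassPSp x ∧
        Nat.Coprime p (Nat.card ↥(MonoidHom.eqLocus x.toMonoidHom (MonoidHom.id K)))) := by
  have : NeZero m := ⟨by omega⟩
  have htop : gamSub (F := F) m = ⊤ :=
    gamSub_eq_top_of_gamma m (Cfsg.Agent.S2693.result hm h4)
  apply local_balance_master m hm hs A hinn hpr x hxA hord hnot
  · rw [htop]
    exact Subgroup.mem_top _
  · intro n _
    rw [htop]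
    exact Subgroup.mem_top _
  · intro σ hσ hdvd
    apply noNormalPPrime_of_simple m hm σ hp.out _ hdvd
    intro hm2
    apply three_le_card_fixK
    intro h2
    have h3 : ((2 : ℕ) : F) = 0 := by exact_mod_cast h2
    rw [CharP.cast_eq_zero_iff F r 2] at h3
    have := (Nat.prime_dvd_prime_iff_eq (Fact.out : r.Prime) Nat.prime_two).mp h3
    exact h4 hm2 this

end generic

end Cfsg.Agent.Lib.Helper51.PSpAut
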