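import Mathlib
import Cfsg.Agent.Lib.Helper51.PSpAut14
import Cfsg.Agent.Lib.Helper43.Sp4Out
import Cfsg.Agent.Lib.Helper07.Sp4S6

set_option autoImplicit false
set_option linter.unusedSectionVars false
set_option linter.unusedVariables false
set_option linter.unusedSimpArgs false

/-! Local balance for `PSp_4` in characteristic two. -/

namespace Cfsg.Agent.Lib.Helper51.PSpAut

open Matrix Cfsg.Agent.Lib.Helper18 Cfsg.Agent.Lib.Helper07

section perm6

/-- a group isomorphic to `S_6` has no nontrivial normal subgroup of order prime to an odd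
prime divisor of `720` -/
theorem no_normal_perm6 {G : Type*} [Group G] (e : G ≃* Equiv.Perm (Fin 6)) {p : ℕ} (hp : p.Prime)
    (hp2 : p ≠ 2) (hdvd : p ∣ 720) (M : Subgroup G) [hM : M.Normal]
    (hcop : (Nat.card M).Coprime p) : M = ⊥ := by
  by_contra hne
  set N : Subgroup (Equiv.Perm (Fin 6)) := M.map e.toMonoidHom with hN
  have hNn : N.Normal := hM.map _ e.surjective
  have hcard : Nat.card N = Nat.card M :=
    (Nat.card_congr (Subgroup.equivMapOfInjective M _ e.injective).toEquiv).symm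
  have hNne : N ≠ ⊥ := by
    intro h0
    apply hne
    rw [hN, Subgroup.map_eq_bot_iff_of_injective _ e.injective] at h0
    exact h0
  have hnt : Nontrivial N := (Subgroup.nontrivial_iff_ne_bot N).mpr hNne
  have hle : alternatingGroup (Fin 6) ≤ N :=
    Equiv.Perm.alternatingGroup_le_of_normal (by simp) hnt
  have h360 : Nat.card (alternatingGroup (Fin 6)) = 360 := by
    have h1 := two_mul_card_alternatingGroup (α := Fin 6)
    rw [Fintype.card_perm, Fintype.card_fin] at h1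
    rw [Nat.card_eq_fintype_card]
    have : (Nat.factorial 6) = 720 := by decide
    omega
  have hd : 360 ∣ Nat.card N := by
    rw [← h360]
    exact Subgroup.card_dvd_of_le hle
  have hp360 : p ∣ 360 := by
    have h2 : p ∣ 2 * 360 := by norm_num; exact hdvd
    rcases (Nat.Prime.dvd_mul hp).mp h2 with h | h
    · exact absurd ((Nat.prime_dvd_prime_iff_eq hp Nat.prime_two).mp h) hp2
    · exact h
  have h3 : p ∣ Nat.card M := by
    rw [← hcard]
    exact hp360.trans hd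
  have h4 : p ∣ Nat.gcd (Nat.card M) p := Nat.dvd_gcd h3 dvd_rfl
  rw [hcop] at h4
  exact hp.one_lt.ne' (Nat.dvd_one.mp h4)

end perm6

section two
variable {F : Type*} [Field F] [Fintype F] [CharP F 2]

local notation "V" => (Fin 2 ⊕ Fin 2 → F)
local notation "K" => Cfsg.PSp 2 F

theorem mem_gamSub_of_TL (β : MulAut K)
    (hβ : (⇑β) '' Cfsg.Agent.Lib.Helper43.AutPSp.TL 2 = Cfsg.Agent.Lib.Helper43.AutPSp.TL 2) :
    β ∈ gamSub (F := F) 2 := by
  obtain ⟨g, σ, hg, hind⟩ := Cfsg.Agent.Lib.Helper43.AutPSp.induced_of_TL 2 (le_refl 2) β hβ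
  exact ⟨⟨g, hg⟩, σ, eq_of_induced 2 hg hind⟩

theorem mem_gamSub_of_fixes_tv (n : MulAut K)
    (h : ∃ v : V, v ≠ 0 ∧ n (Cfsg.Agent.Lib.Helper43.AutPSp.prj 2 (tv 2 v 1))
      = Cfsg.Agent.Lib.Helper43.AutPSp.prj 2 (tv 2 v 1)) :
    n ∈ gamSub (F := F) 2 := by
  obtain ⟨v, hv, hn⟩ := h
  have hz : Cfsg.Agent.Lib.Helper43.AutPSp.prj 2 (tv 2 v 1)
      ∈ Cfsg.Agent.Lib.Helper43.AutPSp.TL (F := F) 2 := ⟨v, hv, rfl⟩
  apply mem_gamSub_of_TL
  rcases Cfsg.Agent.Lib.Helper43.AutPSp.image_TL n with h1 | h1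
  · exact h1
  · exfalso
    have h2 : n (Cfsg.Agent.Lib.Helper43.AutPSp.prj 2 (tv 2 v 1))
        ∈ Cfsg.Agent.Lib.Helper43.AutPSp.TA := by
      rw [← h1]
      exact ⟨_, hz, rfl⟩
    rw [hn] at h2
    exact Cfsg.Agent.Lib.Helper43.AutPSp.TL_TA_disjoint hz h2

theorem mem_gamSub_of_odd (x : MulAut K) (hodd : Odd (orderOf x)) : x ∈ gamSub (F := F) 2 := by
  apply mem_gamSub_of_TL
  have hsq : x ^ 2 ∈ Cfsg.Agent.Lib.Helper43.AutPSp.GamSub (F := F) :=
    Subgroup.sq_mem_of_index_two Cfsg.Agent.Lib.Helper43.AutPSp.index_GamSub x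
  obtain ⟨j, hj⟩ := hodd
  have h1 : x = (x ^ 2) ^ (j + 1) := by
    rw [← pow_mul, show 2 * (j + 1) = orderOf x + 1 by omega, pow_succ, pow_orderOf_eq_one,
      one_mul]
  have h2 : x ∈ Cfsg.Agent.Lib.Helper43.AutPSp.GamSub (F := F) := by
    rw [h1]
    exact Subgroup.pow_mem _ hsq _
  exact (Cfsg.Agent.Lib.Helper43.AutPSp.mem_GamSub x).mp h2

/-- `L0 σ ≅ Sp_4` over the fixed field, in characteristic two -/
theorem L0_equiv_sp (σ : RingAut F) :
    Nonempty (Matrix.symplecticGroup (Fin 2) (fixK σ) ≃* ↥(L0 2 σ)) := by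
  have hker : (subPsi 2 σ).ker = ⊥ := by
    rw [subPsi_ker, eq_bot_iff]
    intro s hs
    rw [mem_center_iff_val] at hs
    rw [Subgroup.mem_bot]
    apply Subtype.ext
    have hneg : (-1 : Matrix (Fin 2 ⊕ Fin 2) (Fin 2 ⊕ Fin 2) (fixK σ)) = 1 := by
      have : CharP (fixK σ) 2 := RingHom.charP (fixK σ).subtype Subtype.val_injective 2
      have h2 : (2 : fixK σ) = 0 := CharP.cast_eq_zero (fixK σ) 2
      ext i j
      rw [Matrix.neg_apply, Matrix.one_apply]
      split_ifs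
      · exact congrArg Subtype.val (CharTwo.neg_eq (1 : fixK σ))
      · exact congrArg Subtype.val (neg_zero : -(0 : fixK σ) = 0)
    rcases hs with h | h
    · exact h
    · rw [h, hneg]
      rfl
  have hinj : Function.Injective (subPsi 2 σ) := (MonoidHom.ker_eq_bot_iff _).mp hker
  exact ⟨(MonoidHom.ofInjective hinj).trans (MulEquiv.subgroupCongr (subPsi_range 2 σ))⟩

theorem noNormalPPrime_two (σ : RingAut F) {p : ℕ} (hp : p.Prime) (hp2 : p ≠ 2)
    (hdvd : p ∣ Nat.card (L0 2 σ)) : NoNormalPPrime 2 σ p := by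
  by_cases h3 : 3 ≤ Fintype.card (fixK σ)
  · exact noNormalPPrime_of_simple 2 (le_refl 2) σ hp (fun _ => h3) hdvd
  · have h2 : Fintype.card (fixK σ) = 2 := by
      have : 1 < Fintype.card (fixK σ) := Fintype.one_lt_card
      omega
    obtain ⟨e1⟩ := L0_equiv_sp σ
    obtain ⟨e2⟩ := sp_four_two_equiv_perm h2
    let e : ↥(L0 2 σ) ≃* Equiv.Perm (Fin 6) := e1.symm.trans e2
    have h720 : Nat.card (L0 2 σ) = 720 := by
      rw [Nat.card_congr e.toEquiv, Nat.card_eq_fintype_card, Fintype.card_perm, Fintype.card_fin]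
      rfl
    rw [h720] at hdvd
    intro M hM hnorm hcop
    have hN : (M.subgroupOf (L0 2 σ)).Normal := by
      refine ⟨fun a ha l => ?_⟩
      rw [Subgroup.mem_subgroupOf] at ha ⊢
      exact hnorm l.1 l.2 a.1 ha
    have hc : (Nat.card (M.subgroupOf (L0 2 σ))).Coprime p := by
      rw [Nat.card_congr (Subgroup.subgroupOfEquivOfLe hM).toEquiv]
      exact hcop
    have := no_normal_perm6 e hp hp2 hdvd (M.subgroupOf (L0 2 σ)) hc
    rw [Subgroup.subgroupOf_eq_bot] at this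
    exact (disjoint_of_le_iff_left_eq_bot hM).mp this

/-- local balance for `PSp_4` in characteristic two -/
theorem local_balance_two (hs : 3 ≤ Fintype.card F)
    (A : Subgroup (MulAut K)) (hinn : ∀ k : K, MulAut.conj k ∈ A) {p : ℕ} [hp : Fact p.Prime]
    (hpr : p ≠ 2) (x : MulAut K) (hxA : x ∈ A) (hord : orderOf x = p)
    (hnot : ¬ Cfsg.IsInnerDiagonalAutPSp x) :
    Cfsg.pPrimeCore p ↥(A ⊓ Subgroup.centralizer {x}) ≠ ⊥ ↔
      (Cfsg.IsFieldAutClassPSp x ∧
        Nat.Coprime p (Nat.card ↥(MonoidHom.eqLocus x.toMonoidHom (MonoidHom.id K)))) := by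
  have : Fact (Nat.Prime 2) := ⟨Nat.prime_two⟩
  apply local_balance_master 2 (le_refl 2) (fun _ => hs) A hinn hpr x hxA hord hnot
  · apply mem_gamSub_of_odd
    rw [hord]
    exact hp.out.odd_of_ne_two hpr
  · exact mem_gamSub_of_fixes_tv
  · intro σ hσ hdvd
    exact noNormalPPrime_two σ hp.out hpr hdvd

end two

end Cfsg.Agent.Lib.Helper51.PSpAut
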