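import Mathlib
import Cfsg.Agent.Lib.Helper49.RSU3Defs

set_option autoImplicit false
set_option linter.unusedSectionVars false
set_option linter.unusedVariables false

/-!
# K-RSU3 pack (S2283), LEAF L19: the triangular word for `q = 8`

`F = F_64 = F_2[μ]`, `μ^6 + μ^3 + 1 = 0`.  All matrices are written out with entries polynomials in `μ`; every matrix identity
is checked entrywise as a linear combination of the two relations `μ^6 + μ^3 + 1 = 0` and `2 = 0`.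
-/

namespace Cfsg.Agent.Lib.Helper51.RSU3

open Matrix Cfsg.Agent.Lib.Helper49.StSU Cfsg.Agent.Lib.Helper49.RSU3

section mats

variable {F : Type*} [Field F]

theorem m3eq {a11 a12 a13 a21 a22 a23 a31 a32 a33 b11 b12 b13 b21 b22 b23 b31 b32 b33 : F}
    (h11 : a11 = b11) (h12 : a12 = b12) (h13 : a13 = b13)
    (h21 : a21 = b21) (h22 : a22 = b22) (h23 : a23 = b23)
    (h31 : a31 = b31) (h32 : a32 = b32) (h33 : a33 = b33) :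
    (!![a11, a12, a13; a21, a22, a23; a31, a32, a33] : Matrix (Fin 3) (Fin 3) F) =
      !![b11, b12, b13; b21, b22, b23; b31, b32, b33] := by
  rw [h11, h12, h13, h21, h22, h23, h31, h32, h33]

/-- explicit matrix -/
def Um (μ : F) : Matrix (Fin 3) (Fin 3) F :=
  !![1, 1, μ + μ ^ 2 + μ ^ 3 + μ ^ 4; 0, 1, 1; 0, 0, 1]

/-- explicit matrix -/
def Hm (μ : F) : Matrix (Fin 3) (Fin 3) F :=
  !![μ, 0, 0; 0, μ + μ ^ 4, 0; 0, 0, μ]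

/-- explicit matrix -/
def Zm (μ : F) : Matrix (Fin 3) (Fin 3) F :=
  !![1, 0, 0; 0, 1, 0; 1 + μ + μ ^ 2 + μ ^ 5, 0, 1]

/-- explicit matrix -/
def UHm (μ : F) : Matrix (Fin 3) (Fin 3) F :=
  !![μ, μ + μ ^ 4, μ ^ 2 + μ ^ 3 + μ ^ 4 + μ ^ 5; 0, μ + μ ^ 4, μ; 0, 0, μ]

/-- explicit matrix -/
def Vm (μ : F) : Matrix (Fin 3) (Fin 3) F :=
  !![1 + μ ^ 4, μ + μ ^ 4, μ ^ 2 + μ ^ 3 + μ ^ 4 + μ ^ 5; 1 + μ + μ ^ 2, μ + μ ^ 4, μ; 1 + μ + μ ^ 2, 0, μ]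

/-- explicit matrix -/
def Vim (μ : F) : Matrix (Fin 3) (Fin 3) F :=
  !![μ ^ 2 + μ ^ 5, μ ^ 2 + μ ^ 5, 1 + μ + μ ^ 3 + μ ^ 5; 0, μ ^ 2, μ ^ 2; 1 + μ + μ ^ 2 + μ ^ 4 + μ ^ 5, 1 + μ + μ ^ 2 + μ ^ 4 + μ ^ 5, 1 + μ ^ 5]

/-- explicit matrix -/
def UVim (μ : F) : Matrix (Fin 3) (Fin 3) F :=
  !![μ + μ ^ 2 + μ ^ 4, μ + μ ^ 4, 1 + μ + μ ^ 2 + μ ^ 3; 1 + μ + μ ^ 2 + μ ^ 4 + μ ^ 5, 1 + μ + μ ^ 4 + μ ^ 5, 1 + μ ^ 2 + μ ^ 5; 1 + μ + μ ^ 2 + μ ^ 4 + μ ^ 5, 1 + μ + μ ^ 2 + μ ^ 4 + μ ^ 5, 1 + μ ^ 5]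

/-- explicit matrix -/
def UViHm (μ : F) : Matrix (Fin 3) (Fin 3) F :=
  !![μ ^ 2 + μ ^ 3 + μ ^ 5, μ ^ 5, μ + μ ^ 2 + μ ^ 3 + μ ^ 4; 1 + μ + μ ^ 2 + μ ^ 5, μ + μ ^ 3 + μ ^ 4 + μ ^ 5, 1 + μ; 1 + μ + μ ^ 2 + μ ^ 5, 1 + μ + μ ^ 3 + μ ^ 4 + μ ^ 5, 1 + μ + μ ^ 3]

/-- explicit matrix -/
def Am (μ : F) : Matrix (Fin 3) (Fin 3) F :=
  !![μ + μ ^ 2 + μ ^ 3 + μ ^ 4, 1 + μ, μ ^ 2 + μ ^ 4 + μ ^ 5; μ + μ ^ 5, 1 + μ ^ 2 + μ ^ 4, μ ^ 3 + μ ^ 5; 1 + μ ^ 2 + μ ^ 3 + μ ^ 4, 1 + μ + μ ^ 2, μ + μ ^ 3 + μ ^ 4 + μ ^ 5]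

/-- explicit matrix -/
def ViHm (μ : F) : Matrix (Fin 3) (Fin 3) F :=
  !![1, 1 + μ ^ 3, 1 + μ + μ ^ 2 + μ ^ 3 + μ ^ 4; 0, 1, μ ^ 3; 1 + μ + μ ^ 2 + μ ^ 5, 1 + μ + μ ^ 3 + μ ^ 4 + μ ^ 5, 1 + μ + μ ^ 3]

/-- explicit matrix -/
def ViHVim (μ : F) : Matrix (Fin 3) (Fin 3) F :=
  !![1 + μ ^ 5, 1 + μ ^ 2, μ + μ ^ 2 + μ ^ 3; μ + μ ^ 2 + μ ^ 3, μ + μ ^ 3, μ ^ 3 + μ ^ 5; 1 + μ ^ 3 + μ ^ 5, μ + μ ^ 2 + μ ^ 3 + μ ^ 4, μ ^ 2 + μ ^ 4 + μ ^ 5]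

/-- explicit matrix -/
def ViHViHm (μ : F) : Matrix (Fin 3) (Fin 3) F :=
  !![1 + μ + μ ^ 3, 1 + μ + μ ^ 4, μ ^ 2 + μ ^ 3 + μ ^ 4; μ ^ 2 + μ ^ 3 + μ ^ 4, μ + μ ^ 2 + μ ^ 5, 1 + μ ^ 3 + μ ^ 4; 1 + μ + μ ^ 3 + μ ^ 4, 1 + μ + μ ^ 5, 1 + μ ^ 5]

/-- explicit matrix -/
def Bm (μ : F) : Matrix (Fin 3) (Fin 3) F :=
  !![μ ^ 2, μ + μ ^ 2, μ ^ 2 + μ ^ 3; μ ^ 2 + μ ^ 3, μ + μ ^ 3 + μ ^ 5, 1 + μ ^ 2 + μ ^ 3 + μ ^ 4 + μ ^ 5; 1 + μ + μ ^ 4, μ + μ ^ 2 + μ ^ 3, μ ^ 3 + μ ^ 5]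

/-- explicit matrix -/
def Wm (μ : F) : Matrix (Fin 3) (Fin 3) F :=
  !![1 + μ ^ 2 + μ ^ 3, 0, 1 + μ ^ 2 + μ ^ 4 + μ ^ 5; 0, μ, 0; 0, 0, 1 + μ ^ 2 + μ ^ 4 + μ ^ 5]

theorem Um_mul_Hm (μ : F) (hrel : μ ^ 6 + μ ^ 3 + 1 = 0) (h2 : (2 : F) = 0) :
    Um μ * Hm μ = UHm μ := by
  unfold Um Hm UHm
  rw [Matrix.mul_fin_three]
  refine m3eq ?_ ?_ ?_ ?_ ?_ ?_ ?_ ?_ ?_
  · linear_combination (0) * hrel + (0) * h2
  · linear_combination (0) * hrel + (0) * h2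
  · linear_combination (0) * hrel + (0) * h2
  · linear_combination (0) * hrel + (0) * h2
  · linear_combination (0) * hrel + (0) * h2
  · linear_combination (0) * hrel + (0) * h2
  · linear_combination (0) * hrel + (0) * h2
  · linear_combination (0) * hrel + (0) * h2
  · linear_combination (0) * hrel + (0) * h2

theorem UHm_mul_Zm (μ : F) (hrel : μ ^ 6 + μ ^ 3 + 1 = 0) (h2 : (2 : F) = 0) :
    UHm μ * Zm μ = Vm μ := by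
  unfold UHm Zm Vm
  rw [Matrix.mul_fin_three]
  refine m3eq ?_ ?_ ?_ ?_ ?_ ?_ ?_ ?_ ?_
  · linear_combination (1 + μ + μ ^ 2 + μ ^ 3 + μ ^ 4) * hrel + (-1 + μ ^ 5) * h2
  · linear_combination (0) * hrel + (0) * h2
  · linear_combination (0) * hrel + (0) * h2
  · linear_combination (1) * hrel + (-1) * h2
  · linear_combination (0) * hrel + (0) * h2
  · linear_combination (0) * hrel + (0) * h2
  · linear_combination (1) * hrel + (-1) * h2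
  · linear_combination (0) * hrel + (0) * h2
  · linear_combination (0) * hrel + (0) * h2

theorem Vm_mul_Vim (μ : F) (hrel : μ ^ 6 + μ ^ 3 + 1 = 0) (h2 : (2 : F) = 0) :
    Vm μ * Vim μ = 1 := by
  unfold Vm Vim
  rw [Matrix.one_fin_three, Matrix.mul_fin_three]
  refine m3eq ?_ ?_ ?_ ?_ ?_ ?_ ?_ ?_ ?_
  · linear_combination (1 + 2 * μ + 2 * μ ^ 2 + 3 * μ ^ 3 + μ ^ 4) * hrel + (-1 - μ - μ ^ 3 + μ ^ 5) * h2
  · linear_combination (2 + 2 * μ + 2 * μ ^ 2 + 3 * μ ^ 3 + μ ^ 4) * hrel + (-1 - μ - μ ^ 3 + μ ^ 5) * h2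
  · linear_combination (-1 + μ + μ ^ 2 + 2 * μ ^ 3 + μ ^ 4) * hrel + (1 + μ ^ 3 + μ ^ 5) * h2
  · linear_combination (2 + μ) * hrel + (-1 + μ ^ 2 + μ ^ 5) * h2
  · linear_combination (3 + μ) * hrel + (-2 + μ ^ 2 + μ ^ 5) * h2
  · linear_combination (3 + μ) * hrel + (-1 + μ + μ ^ 2 + μ ^ 5) * h2
  · linear_combination (2 + μ) * hrel + (-1 + μ ^ 2 + μ ^ 5) * h2
  · linear_combination (2 + μ) * hrel + (-1 + μ ^ 2 + μ ^ 5) * h2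
  · linear_combination (2 + μ) * hrel + (-1 + μ + μ ^ 2 + μ ^ 5) * h2

theorem Um_mul_Vim (μ : F) (hrel : μ ^ 6 + μ ^ 3 + 1 = 0) (h2 : (2 : F) = 0) :
    Um μ * Vim μ = UVim μ := by
  unfold Um Vim UVim
  rw [Matrix.mul_fin_three]
  refine m3eq ?_ ?_ ?_ ?_ ?_ ?_ ?_ ?_ ?_
  · linear_combination (2 + 2 * μ + 2 * μ ^ 2 + μ ^ 3) * hrel + (-1 - μ + μ ^ 5) * h2
  · linear_combination (2 + 2 * μ + 2 * μ ^ 2 + μ ^ 3) * hrel + (-1 - μ + μ ^ 2 + μ ^ 5) * h2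
  · linear_combination (μ + μ ^ 2 + μ ^ 3) * hrel + (0) * h2
  · linear_combination (0) * hrel + (0) * h2
  · linear_combination (0) * hrel + (μ ^ 2) * h2
  · linear_combination (0) * hrel + (0) * h2
  · linear_combination (0) * hrel + (0) * h2
  · linear_combination (0) * hrel + (0) * h2
  · linear_combination (0) * hrel + (0) * h2

theorem UVim_mul_Hm (μ : F) (hrel : μ ^ 6 + μ ^ 3 + 1 = 0) (h2 : (2 : F) = 0) :
    UVim μ * Hm μ = UViHm μ := by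
  unfold UVim Hm UViHm
  rw [Matrix.mul_fin_three]
  refine m3eq ?_ ?_ ?_ ?_ ?_ ?_ ?_ ?_ ?_
  · linear_combination (0) * hrel + (0) * h2
  · linear_combination (μ ^ 2) * hrel + (0) * h2
  · linear_combination (0) * hrel + (0) * h2
  · linear_combination (1) * hrel + (-1) * h2
  · linear_combination (μ ^ 2 + μ ^ 3) * hrel + (-μ ^ 3) * h2
  · linear_combination (1) * hrel + (-1) * h2
  · linear_combination (1) * hrel + (-1) * h2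
  · linear_combination (1 + μ ^ 2 + μ ^ 3) * hrel + (-1 - μ ^ 3) * h2
  · linear_combination (1) * hrel + (-1 - μ ^ 3) * h2

theorem UViHm_mul_Vm (μ : F) (hrel : μ ^ 6 + μ ^ 3 + 1 = 0) (h2 : (2 : F) = 0) :
    UViHm μ * Vm μ = Am μ := by
  unfold UViHm Vm Am
  rw [Matrix.mul_fin_three]
  refine m3eq ?_ ?_ ?_ ?_ ?_ ?_ ?_ ?_ ?_
  · linear_combination (2 + 2 * μ + μ ^ 3) * hrel + (-1 - μ + μ ^ 2 + 2 * μ ^ 5) * h2
  · linear_combination (1 + μ + 2 * μ ^ 3) * hrel + (-1 - μ - μ ^ 3) * h2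
  · linear_combination (2 + 2 * μ + 2 * μ ^ 2 + μ ^ 3 + μ ^ 4) * hrel + (-1 - μ - μ ^ 2 - μ ^ 3 - μ ^ 4) * h2
  · linear_combination (2 + μ + μ ^ 3) * hrel + (μ + 2 * μ ^ 2 + μ ^ 4 + 2 * μ ^ 5) * h2
  · linear_combination (1 + μ + μ ^ 2 + 2 * μ ^ 3) * hrel + (-1 - μ ^ 3 + μ ^ 5) * h2
  · linear_combination (2 + μ + μ ^ 2 + μ ^ 3 + μ ^ 4) * hrel + (-1 + μ ^ 2 - μ ^ 3 + μ ^ 4 + μ ^ 5) * h2
  · linear_combination (2 + μ + μ ^ 3) * hrel + (2 * μ + 2 * μ ^ 2 + μ ^ 4 + 3 * μ ^ 5) * h2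
  · linear_combination (1 + μ + μ ^ 2 + 2 * μ ^ 3) * hrel + (-1 - μ ^ 3 + μ ^ 4 + μ ^ 5) * h2
  · linear_combination (2 + μ + μ ^ 2 + μ ^ 3 + μ ^ 4) * hrel + (-1 + μ ^ 2 - μ ^ 3 + μ ^ 4 + μ ^ 5) * h2

theorem Vim_mul_Hm (μ : F) (hrel : μ ^ 6 + μ ^ 3 + 1 = 0) (h2 : (2 : F) = 0) :
    Vim μ * Hm μ = ViHm μ := by
  unfold Vim Hm ViHm
  rw [Matrix.mul_fin_three]
  refine m3eq ?_ ?_ ?_ ?_ ?_ ?_ ?_ ?_ ?_
  · linear_combination (1) * hrel + (-1) * h2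
  · linear_combination (1 + μ ^ 3) * hrel + (-1 - μ ^ 3) * h2
  · linear_combination (1) * hrel + (-1 - μ ^ 3) * h2
  · linear_combination (0) * hrel + (0) * h2
  · linear_combination (1) * hrel + (-1) * h2
  · linear_combination (0) * hrel + (0) * h2
  · linear_combination (1) * hrel + (-1) * h2
  · linear_combination (1 + μ ^ 2 + μ ^ 3) * hrel + (-1 - μ ^ 3) * h2
  · linear_combination (1) * hrel + (-1 - μ ^ 3) * h2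

theorem ViHm_mul_Vim (μ : F) (hrel : μ ^ 6 + μ ^ 3 + 1 = 0) (h2 : (2 : F) = 0) :
    ViHm μ * Vim μ = ViHVim μ := by
  unfold ViHm Vim ViHVim
  rw [Matrix.mul_fin_three]
  refine m3eq ?_ ?_ ?_ ?_ ?_ ?_ ?_ ?_ ?_
  · linear_combination (2 + 2 * μ + 2 * μ ^ 2 + μ ^ 3) * hrel + (-1 + μ ^ 2 + μ ^ 4 + μ ^ 5) * h2
  · linear_combination (2 + 2 * μ + 2 * μ ^ 2 + μ ^ 3) * hrel + (-1 + μ ^ 2 + μ ^ 4 + 2 * μ ^ 5) * h2
  · linear_combination (μ + μ ^ 2 + μ ^ 3) * hrel + (1 + μ ^ 5) * h2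
  · linear_combination (μ + μ ^ 2) * hrel + (-μ - μ ^ 2) * h2
  · linear_combination (μ + μ ^ 2) * hrel + (-μ) * h2
  · linear_combination (μ ^ 2) * hrel + (-μ ^ 5) * h2
  · linear_combination (2 + 2 * μ + μ ^ 2 + μ ^ 4) * hrel + (-1 + μ ^ 2 + μ ^ 5) * h2
  · linear_combination (3 + 3 * μ + μ ^ 2 + μ ^ 4) * hrel + (-1 - μ + μ ^ 2 - μ ^ 4 + 2 * μ ^ 5) * h2
  · linear_combination (4 + μ + 2 * μ ^ 2 + μ ^ 4) * hrel + (-1 + μ - μ ^ 4 + μ ^ 5) * h2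

theorem ViHVim_mul_Hm (μ : F) (hrel : μ ^ 6 + μ ^ 3 + 1 = 0) (h2 : (2 : F) = 0) :
    ViHVim μ * Hm μ = ViHViHm μ := by
  unfold ViHVim Hm ViHViHm
  rw [Matrix.mul_fin_three]
  refine m3eq ?_ ?_ ?_ ?_ ?_ ?_ ?_ ?_ ?_
  · linear_combination (1) * hrel + (-1 - μ ^ 3) * h2
  · linear_combination (1) * hrel + (-1) * h2
  · linear_combination (0) * hrel + (0) * h2
  · linear_combination (0) * hrel + (0) * h2
  · linear_combination (μ) * hrel + (-μ) * h2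
  · linear_combination (1) * hrel + (-1 - μ ^ 3) * h2
  · linear_combination (1) * hrel + (-1 - μ ^ 3) * h2
  · linear_combination (1 + μ + μ ^ 2) * hrel + (-1 - μ) * h2
  · linear_combination (1) * hrel + (-1) * h2

theorem ViHViHm_mul_Vm (μ : F) (hrel : μ ^ 6 + μ ^ 3 + 1 = 0) (h2 : (2 : F) = 0) :
    ViHViHm μ * Vm μ = Bm μ := by
  unfold ViHViHm Vm Bm
  rw [Matrix.mul_fin_three]
  refine m3eq ?_ ?_ ?_ ?_ ?_ ?_ ?_ ?_ ?_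
  · linear_combination (2 + μ) * hrel + (μ + μ ^ 2 + μ ^ 3 + 2 * μ ^ 4 + 2 * μ ^ 5) * h2
  · linear_combination (μ + μ ^ 2) * hrel + (μ ^ 4 + μ ^ 5) * h2
  · linear_combination (2 + μ + μ ^ 2) * hrel + (-1 + μ ^ 4 + 2 * μ ^ 5) * h2
  · linear_combination (3 + 2 * μ + μ ^ 2) * hrel + (-1 + μ ^ 2 + μ ^ 4 + μ ^ 5) * h2
  · linear_combination (2 + μ + μ ^ 2 + μ ^ 3) * hrel + (-1 - μ - μ ^ 3) * h2
  · linear_combination (3 + 3 * μ + 2 * μ ^ 2 + μ ^ 3) * hrel + (-2 - μ - μ ^ 2 - 2 * μ ^ 3 - μ ^ 4) * h2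
  · linear_combination (2 + 3 * μ + μ ^ 2) * hrel + (μ ^ 2 - μ ^ 4 + μ ^ 5) * h2
  · linear_combination (μ + μ ^ 2 + μ ^ 3) * hrel + (-μ ^ 3 + μ ^ 4 + μ ^ 5) * h2
  · linear_combination (4 + 2 * μ + 2 * μ ^ 2 + μ ^ 3) * hrel + (-2 - 2 * μ ^ 3) * h2

theorem Am_mul_Wm (μ : F) (hrel : μ ^ 6 + μ ^ 3 + 1 = 0) (h2 : (2 : F) = 0) :
    Am μ * Wm μ = Bm μ := by
  unfold Am Wm Bm
  rw [Matrix.mul_fin_three]
  refine m3eq ?_ ?_ ?_ ?_ ?_ ?_ ?_ ?_ ?_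
  · linear_combination (2 + μ) * hrel + (-1 + μ ^ 4 + μ ^ 5) * h2
  · linear_combination (0) * hrel + (0) * h2
  · linear_combination (2 + 3 * μ + 3 * μ ^ 2 + 3 * μ ^ 3 + μ ^ 4) * hrel + (-1 - μ - μ ^ 2 - 2 * μ ^ 3) * h2
  · linear_combination (μ + μ ^ 2) * hrel + (-μ ^ 2) * h2
  · linear_combination (0) * hrel + (0) * h2
  · linear_combination (-1 + μ + μ ^ 2 + 2 * μ ^ 3 + 2 * μ ^ 4) * hrel + (-μ ^ 2 - 2 * μ ^ 4 + μ ^ 5) * h2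
  · linear_combination (2 + μ) * hrel + (-1 - μ + μ ^ 2 + μ ^ 5) * h2
  · linear_combination (0) * hrel + (0) * h2
  · linear_combination (1 + 3 * μ + 4 * μ ^ 2 + 3 * μ ^ 3 + μ ^ 4) * hrel + (-μ - μ ^ 2 - μ ^ 3) * h2

end mats

theorem word_eight {F : Type*} [Field F] [Fintype F] {q : ℕ}
    (hq8 : q = 8) (hF : Fintype.card F = q ^ 2) (μ : F) (hμ : orderOf μ = q + 1)
    (u hh zz : GJ 3 F q) (hu : mat u = xM q 1 (bet μ)) (hhm : mat hh = hM q μ)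
    (hz : mat zz = yM q 0 (bz μ))
    (hhH : hh ∈ Subgroup.closure ({u, u * hh * zz} : Set (GJ 3 F q))) :
    ∃ W : GJ 3 F q, W ∈ Subgroup.closure ({u, u * hh * zz} : Set (GJ 3 F q)) ∧
      mat W 1 0 = 0 ∧ mat W 2 0 = 0 ∧ mat W 2 1 = 0 ∧
      (mat W 0 0 / mat W 1 1) ^ 4 ≠ mat W 0 0 / mat W 1 1 := by
  subst hq8
  -- characteristic two
  have h2 : (2 : F) = 0 := by
    obtain ⟨p, hp⟩ := CharP.exists F
    have := hp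
    obtain ⟨n, hpp, hcard⟩ := FiniteField.card F p
    have hdvd : p ∣ 2 ^ 6 := by
      have h1 : p ∣ Fintype.card F := by
        rw [hcard]
        exact dvd_pow_self p n.ne_zero
      rw [hF] at h1
      norm_num at h1 ⊢
      exact h1
    have hp2 : p = 2 :=
      (Nat.prime_dvd_prime_iff_eq hpp Nat.prime_two).mp (hpp.dvd_of_dvd_pow hdvd)
    subst hp2
    exact_mod_cast CharP.cast_eq_zero F 2
  -- the relations satisfied by `μ`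
  have hμ9 : μ ^ 9 = 1 := by
    have h := pow_orderOf_eq_one μ
    rw [hμ] at h
    exact h
  have hμ0 : μ ≠ 0 := by
    intro h
    rw [h] at hμ9
    norm_num at hμ9
  have hnd : ∀ k : ℕ, 0 < k → k < 9 → μ ^ k ≠ 1 := by
    intro k hk0 hk9 h
    have hd := orderOf_dvd_of_pow_eq_one h
    rw [hμ] at hd
    have := Nat.le_of_dvd hk0 hd
    omega
  have hrel : μ ^ 6 + μ ^ 3 + 1 = 0 := by
    have h3 : μ ^ 3 - 1 ≠ 0 := sub_ne_zero.mpr (hnd 3 (by norm_num) (by norm_num))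
    have hprod : (μ ^ 3 - 1) * (μ ^ 6 + μ ^ 3 + 1) = 0 := by
      linear_combination hμ9
    rcases mul_eq_zero.mp hprod with h | h
    · exact absurd h h3
    · exact h
  have hμ1 : μ - 1 ≠ 0 := by
    intro h
    have h1 : μ = 1 := sub_eq_zero.mp h
    exact hnd 1 (by norm_num) (by norm_num) (by rw [h1]; norm_num)
  have hμm1 : μ + 1 ≠ 0 := by
    intro h
    have h1 : μ ^ 2 = 1 := by linear_combination (μ - 1) * h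
    exact hnd 2 (by norm_num) (by norm_num) h1
  -- the scalars
  have hbet : bet μ = μ + μ ^ 2 + μ ^ 3 + μ ^ 4 := by
    unfold bet
    rw [div_eq_iff (mul_ne_zero hμ1 (pow_ne_zero 3 hμm1))]
    linear_combination (-3 - 3 * μ - μ ^ 2) * hrel + (2 + 3 * μ + 2 * μ ^ 2 + 3 * μ ^ 3 + 2 * μ ^ 4) * h2
  have hinv : μ⁻¹ = μ ^ 8 := inv_eq_of_mul_eq_one_right (by linear_combination hμ9)
  have hbz : bz μ = 1 + μ + μ ^ 2 + μ ^ 5 := by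
    unfold bz
    rw [hinv]
    linear_combination (1 - 3 * μ - 3 * μ ^ 2 + 3 * μ ^ 4 - μ ^ 6 + 3 * μ ^ 8 + μ ^ 9 - 3 * μ ^ 11 - μ ^ 15 + μ ^ 18) * hrel + (-1 + μ + μ ^ 2 - μ ^ 3 + μ ^ 5) * h2
  -- the three given matrices
  have hU : mat u = Um μ := by
    rw [hu]
    unfold xM Um
    refine m3eq rfl rfl hbet rfl rfl ?_ rfl rfl rfl
    linear_combination (-1 : F) * h2
  have hH : mat hh = Hm μ := by
    rw [hhm]
    unfold hM Hm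
    refine m3eq rfl rfl rfl rfl ?_ rfl rfl rfl ?_
    · rw [div_eq_iff hμ0]
      linear_combination (μ ^ 2) * hrel + (-μ ^ 2 - μ ^ 5) * h2
    · rw [div_eq_iff (pow_ne_zero 8 hμ0)]
      linear_combination (1 - μ ^ 3) * hrel
  have hZ : mat zz = Zm μ := by
    rw [hz]
    unfold yM Zm
    refine m3eq rfl rfl rfl rfl rfl rfl hbz ?_ rfl
    norm_num
  -- `v` and its inverse
  set v : GJ 3 F 8 := u * hh * zz with hv
  have hV : mat v = Vm μ := by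
    rw [hv, mat_mul, mat_mul, hU, hH, hZ, Um_mul_Hm μ hrel h2, UHm_mul_Zm μ hrel h2]
  have hVi : mat v⁻¹ = Vim μ := by
    calc mat v⁻¹ = mat v⁻¹ * (Vm μ * Vim μ) := by rw [Vm_mul_Vim μ hrel h2, Matrix.mul_one]
      _ = (mat v⁻¹ * mat v) * Vim μ := by rw [hV, Matrix.mul_assoc]
      _ = Vim μ := by rw [mat_inv_mul, Matrix.one_mul]
  -- the two halves of the word
  set Ag : GJ 3 F 8 := u * v⁻¹ * hh * v with hAg
  set Bg : GJ 3 F 8 := v⁻¹ * hh * v⁻¹ * hh * v with hBg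
  have hA : mat Ag = Am μ := by
    rw [hAg, mat_mul, mat_mul, mat_mul, hU, hVi, hH, hV, Um_mul_Vim μ hrel h2,
      UVim_mul_Hm μ hrel h2, UViHm_mul_Vm μ hrel h2]
  have hB : mat Bg = Bm μ := by
    rw [hBg, mat_mul, mat_mul, mat_mul, mat_mul, hVi, hH, hV, Vim_mul_Hm μ hrel h2,
      ViHm_mul_Vim μ hrel h2, ViHVim_mul_Hm μ hrel h2, ViHViHm_mul_Vm μ hrel h2]
  have hW : mat (Ag⁻¹ * Bg) = Wm μ := by
    calc mat (Ag⁻¹ * Bg) = mat Ag⁻¹ * mat Bg := mat_mul _ _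
      _ = mat Ag⁻¹ * (mat Ag * Wm μ) := by rw [hB, hA, Am_mul_Wm μ hrel h2]
      _ = (mat Ag⁻¹ * mat Ag) * Wm μ := by rw [Matrix.mul_assoc]
      _ = Wm μ := by rw [mat_inv_mul, Matrix.one_mul]
  -- membership
  have huH : u ∈ Subgroup.closure ({u, u * hh * zz} : Set (GJ 3 F 8)) :=
    Subgroup.subset_closure (by simp)
  have hvH : v ∈ Subgroup.closure ({u, u * hh * zz} : Set (GJ 3 F 8)) :=
    Subgroup.subset_closure (by simp [hv])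
  have hviH := Subgroup.inv_mem _ hvH
  have hAH : Ag ∈ Subgroup.closure ({u, u * hh * zz} : Set (GJ 3 F 8)) :=
    Subgroup.mul_mem _ (Subgroup.mul_mem _ (Subgroup.mul_mem _ huH hviH) hhH) hvH
  have hBH : Bg ∈ Subgroup.closure ({u, u * hh * zz} : Set (GJ 3 F 8)) :=
    Subgroup.mul_mem _ (Subgroup.mul_mem _ (Subgroup.mul_mem _ (Subgroup.mul_mem _ hviH hhH) hviH) hhH) hvH
  refine ⟨Ag⁻¹ * Bg, Subgroup.mul_mem _ (Subgroup.inv_mem _ hAH) hBH, ?_, ?_, ?_, ?_⟩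
  · rw [hW]; simp [Wm]
  · rw [hW]; simp [Wm]
  · rw [hW]; simp [Wm]
  · rw [hW]
    have e00 : Wm μ 0 0 = 1 + μ ^ 2 + μ ^ 3 := by simp [Wm]
    have e11 : Wm μ 1 1 = μ := by simp [Wm]
    rw [e00, e11]
    have hc : (1 + μ ^ 2 + μ ^ 3) / μ = μ + μ ^ 5 := by
      rw [div_eq_iff hμ0]
      linear_combination (-1) * hrel + (1 + μ ^ 3) * h2
    rw [hc]
    have hc4 : (μ + μ ^ 5) ^ 4 = μ ^ 2 + μ ^ 4 := by
      linear_combination (4 * μ + 3 * μ ^ 2 - 6 * μ ^ 3 + μ ^ 5 + 6 * μ ^ 6 - 4 * μ ^ 7 + 4 * μ ^ 10 - μ ^ 11 + μ ^ 14) * hrel + (-2 * μ - 2 * μ ^ 2 + 3 * μ ^ 3 - 2 * μ ^ 4 - 2 * μ ^ 5) * h2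
    rw [hc4]
    intro heq
    have hfac : μ * ((1 + μ) * (1 + μ ^ 3)) = 0 := by
      linear_combination heq + (μ + μ ^ 5) * h2
    rcases mul_eq_zero.mp hfac with h | h
    · exact hμ0 h
    · rcases mul_eq_zero.mp h with h | h
      · exact hμm1 (by linear_combination h)
      · have h6 : μ ^ 6 = 1 := by linear_combination (μ ^ 3 - 1) * h
        exact hnd 6 (by norm_num) (by norm_num) h6

end Cfsg.Agent.Lib.Helper51.RSU3
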