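import Mathlib
import Cfsg.Agent.Lib.Helper73.RUDefs
import Cfsg.Agent.Lib.Helper73.RUHub

set_option autoImplicit false

/-!
# Pack K-RU4 (S2279), LEAF D: the step down, a commutator of two transvections
-/

namespace Cfsg.Agent.Lib.Helper51.RU4x

open Matrix Cfsg.Agent.Lib.Helper73.RU Cfsg.Agent.Lib.Helper73.RUSpec

/-- row `0` of `aMat` is `e_0 + e_1` -/
theorem ru4d_e0_vecMul_aMat (m : ℕ) (F : Type*) [Field F] :
    (Pi.single 0 1 : Fin (m + 3) → F) ᵥ* aMat m F =
      (Pi.single 0 1 + Pi.single 1 1 : Fin (m + 3) → F) := by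
  ext j
  rw [single_vecMul, one_smul]
  unfold aMat
  simp only [Matrix.row, of_apply, Pi.add_apply, Pi.single_apply]
  by_cases h0 : j = 0
  · subst h0
    simp
  · by_cases h1 : j = 1
    · subst h1
      simp
    · have h4 : ¬ ((0 : Fin (m + 3)) = j) := fun h => h0 h.symm
      have h5 : ¬ ((0 : Fin (m + 3)).val + 1 = j.val) := by
        intro h
        apply h1
        ext
        simpa using h.symm
      rw [if_neg (by tauto), if_neg h0, if_neg h1, add_zero]

theorem down_step {m : ℕ} {F : Type*} [Field F]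
    {G : Subgroup (SpecialLinearGroup (Fin (m + 3)) F)}
    (ha : InG G (aMat m F))
    (y : Fin (m + 3) → F) (hy0 : y 0 = 0) (hy : InG G (tvm y (Pi.single 0 1)))
    (x : Fin (m + 3) → F) (hx0 : x 0 = 0) (hx1 : x 1 = 0)
    (hx : InG G (tvm (aMat m F *ᵥ x) (Pi.single 0 1))) :
    InG G (tvm ((-(y 1)) • x) (Pi.single 0 1)) := by
  set e : Fin (m + 3) → F := Pi.single 0 1 with he
  set f : Fin (m + 3) → F := Pi.single 0 1 + Pi.single 1 1 with hf
  have hedot : ∀ v : Fin (m + 3) → F, e ⬝ᵥ v = v 0 := by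
    intro v
    rw [he, single_dotProduct, one_mul]
  have hfdot : ∀ v : Fin (m + 3) → F, f ⬝ᵥ v = v 0 + v 1 := by
    intro v
    rw [hf, add_dotProduct, single_dotProduct, single_dotProduct, one_mul, one_mul]
  -- step 1: `tvm x f ∈ G`
  have h1 : InG G (aMat m F * tvm x f) := by
    have h := mul_tvm (aMat m F) x e
    rw [he, ru4d_e0_vecMul_aMat] at h
    rw [hf, h]
    exact inG_mul hx ha
  have hxf : InG G (tvm x f) := inG_of_mul_left ha h1
  -- step 2: the commutator
  have d1 : e ⬝ᵥ y = 0 := by rw [hedot, hy0]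
  have d2 : f ⬝ᵥ x = 0 := by rw [hfdot, hx0, hx1, add_zero]
  have d3 : e ⬝ᵥ x = 0 := by rw [hedot, hx0]
  have hc := tvm_comm y e x f d1 d2 d3
  have hfy : f ⬝ᵥ y = y 1 := by rw [hfdot, hy0, zero_add]
  rw [hfy] at hc
  rw [← hc]
  exact inG_mul (inG_mul (inG_mul hy hxf) (inG_tvm_neg d1 hy)) (inG_tvm_neg d2 hxf)

end Cfsg.Agent.Lib.Helper51.RU4x
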