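import Mathlib
import Cfsg.Agent.Lib.Helper73.RUDefs
import Cfsg.Agent.Lib.Helper73.RUHub
import Cfsg.Agent.Lib.Helper65.RU5Defs

set_option autoImplicit false

/-!
# Sub-pack K-RU5 (S2279), LEAF L1: the vectors `c_k = a^k e_last`
-/

namespace Cfsg.Agent.Lib.Helper51.RU5x

open Matrix Cfsg.Agent.Lib.Helper73.RU Cfsg.Agent.Lib.Helper73.RUSpec Cfsg.Agent.Lib.Helper65.RU5

/-- `(a x)_i = x_i + x_(i+1)` (second term absent for `i = last`) -/
theorem ru5_aMat_mulVec_apply (m : ℕ) (F : Type*) [Field F] (v : Fin (m + 3) → F) (i : Fin (m + 3)) :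
    (aMat m F *ᵥ v) i = v i + (if h : i.val + 1 < m + 3 then v ⟨i.val + 1, h⟩ else 0) := by
  unfold aMat
  rw [mulVec, dotProduct]
  simp only [of_apply]
  by_cases h : i.val + 1 < m + 3
  · rw [dif_pos h]
    have hne : i ≠ ⟨i.val + 1, h⟩ := by
      intro h'
      have := congrArg Fin.val h'
      simp at this
    rw [Finset.sum_eq_add_of_mem i ⟨i.val + 1, h⟩ (Finset.mem_univ _) (Finset.mem_univ _) hne]
    · simp
    · intro c _ hc
      have h1 : ¬ (i = c ∨ i.val + 1 = c.val) := by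
        rintro (h1 | h1)
        · exact hc.1 h1.symm
        · exact hc.2 (Fin.ext h1.symm)
      rw [if_neg h1, zero_mul]
  · rw [dif_neg h, add_zero]
    rw [Finset.sum_eq_single i]
    · simp
    · intro c _ hc
      have h1 : ¬ (i = c ∨ i.val + 1 = c.val) := by
        rintro (h1 | h1)
        · exact hc h1.symm
        · have := c.isLt
          omega
      rw [if_neg h1, zero_mul]
    · intro h'
      exact absurd (Finset.mem_univ _) h'

theorem cvec_zero (m : ℕ) (F : Type*) [Field F] :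
    cvec m F 0 = Pi.single (Fin.last (m + 2)) 1 := by
  ext i
  unfold cvec
  rw [Pi.single_apply]
  by_cases hi : i = Fin.last (m + 2)
  · rw [if_pos hi, hi]
    simp
  · rw [if_neg hi]
    have hlt : i.val < m + 2 := by
      have h1 := i.isLt
      have h2 : i.val ≠ m + 2 := fun h => hi (Fin.ext (by simpa using h))
      omega
    obtain ⟨d, hd⟩ : ∃ d, m + 2 - i.val = d + 1 := ⟨m + 1 - i.val, by omega⟩
    rw [hd, Nat.choose_zero_succ, Nat.cast_zero]

theorem aMat_mulVec_cvec (m : ℕ) (F : Type*) [Field F] (k : ℕ) :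
    aMat m F *ᵥ cvec m F k = cvec m F (k + 1) := by
  ext i
  rw [ru5_aMat_mulVec_apply]
  unfold cvec
  by_cases h : i.val + 1 < m + 3
  · rw [dif_pos h]
    simp only
    obtain ⟨d, hd⟩ : ∃ d, m + 2 - i.val = d + 1 := ⟨m + 1 - i.val, by omega⟩
    have hd' : m + 2 - (i.val + 1) = d := by omega
    rw [hd, hd', Nat.choose_succ_succ, Nat.cast_add]
    ring
  · rw [dif_neg h, add_zero]
    have hi : m + 2 - i.val = 0 := by
      have := i.isLt
      omega
    rw [hi, Nat.choose_zero_right, Nat.choose_zero_right]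

theorem cvec_apply_zero (m : ℕ) (F : Type*) [Field F] (k : ℕ) (hk : k ≤ m + 1) : cvec m F k 0 = 0 := by
  unfold cvec
  simp only [Fin.val_zero, Nat.sub_zero]
  rw [Nat.choose_eq_zero_of_lt (by omega), Nat.cast_zero]

theorem cvec_apply_one (m : ℕ) (F : Type*) [Field F] (k : ℕ) (hk : k ≤ m) : cvec m F k 1 = 0 := by
  unfold cvec
  have h1 : ((1 : Fin (m + 3)) : ℕ) = 1 := by simp
  rw [h1, Nat.choose_eq_zero_of_lt (by omega), Nat.cast_zero]

theorem cvec_apply_one_top (m : ℕ) (F : Type*) [Field F] : cvec m F (m + 1) 1 = 1 := by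
  unfold cvec
  have h1 : ((1 : Fin (m + 3)) : ℕ) = 1 := by simp
  rw [h1, show m + 2 - 1 = m + 1 by omega, Nat.choose_self, Nat.cast_one]

end Cfsg.Agent.Lib.Helper51.RU5x
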