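import Mathlib
import Cfsg.Agent.Lib.Helper42.CD3DIV
import Cfsg.Agent.Lib.Helper61.CD3N10
import Cfsg.Agent.Lib.Helper83.Quotient

set_option autoImplicit false

/-!
# Helper lemma for S4464: if all irreducible character degrees of `G` are less than the prime `p`, then
every normal `p`-subgroup of `G` is commutative
-/

namespace Cfsg.Agent.Lib.Helper51.S4464Ab

open Cfsg

universe u

/-- all degrees `< p` and `P ⊴ G` a `p`-group: `P` is commutative -/
theorem comm_of_normal_pgroup {G : Type u} [Group G] [Finite G] (p : ℕ) (hp : p.Prime)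
    (hb : ∀ χ : IrrCharacter G, charDegree (χ : G → ℂ) < p)
    (P : Subgroup G) [P.Normal] (hP : IsPGroup p P) :
    ∀ x ∈ P, ∀ y ∈ P, x * y = y * x := by
  have : Fact p.Prime := ⟨hp⟩
  have hlin : ∀ θ : IrrCharacter P, charDegree (θ : P → ℂ) = 1 := by
    intro θ
    obtain ⟨χ, hχ, e, he, _⟩ := Cfsg.Agent.Lib.Helper42.CD3.exists_over P θ.2
    have hlt : charDegree χ < p := hb ⟨χ, hχ⟩
    have hdvd : charDegree (θ : P → ℂ) ∣ Nat.card P :=
      Cfsg.Agent.Lib.Helper83.irr_charDegree_dvd_card θ
    obtain ⟨k, hk⟩ := IsPGroup.iff_card.mp hP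
    rw [hk] at hdvd
    obtain ⟨j, _, hj⟩ := (Nat.dvd_prime_pow hp).mp hdvd
    rcases Nat.eq_zero_or_pos j with h0 | hpos
    · rw [hj, h0, pow_zero]
    · exfalso
      have hple : p ≤ charDegree (θ : P → ℂ) := by
        rw [hj]
        calc p = p ^ 1 := (pow_one p).symm
          _ ≤ p ^ j := Nat.pow_le_pow_right hp.pos hpos
      have hχpos : 0 < charDegree χ := by
        rcases Nat.eq_zero_or_pos (charDegree χ) with h | h
        · exfalso
          have := Cfsg.Agent.Lib.Helper83.irr_charDegree_pos (⟨χ, hχ⟩ : IrrCharacter G)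
          simp only at this
          omega
        · exact h
      have hle : charDegree (θ : P → ℂ) ≤ charDegree χ := by
        rw [he]
        rcases Nat.eq_zero_or_pos e with h | h
        · rw [h, zero_mul] at he
          omega
        · exact Nat.le_mul_of_pos_left _ h
      omega
  have hcomm := Cfsg.Agent.Lib.Helper61.CD3.comm_of_all_linear hlin
  intro x hx y hy
  have := hcomm ⟨x, hx⟩ ⟨y, hy⟩
  exact congrArg Subtype.val this

end Cfsg.Agent.Lib.Helper51.S4464Ab
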