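import Mathlib

set_option autoImplicit false

namespace Cfsg.Agent.Lib.Helper51.SNPre

open Subgroup

/-- A nontrivial finite group in which every nontrivial subgroup is self-normalizing has prime order. -/
theorem card_prime_of_all_selfnormalizing {Q : Type*} [Group Q] [Finite Q] [Nontrivial Q]
    (h : ∀ X : Subgroup Q, X ≠ ⊥ → Subgroup.normalizer (X : Set Q) = X) : (Nat.card Q).Prime := by
  classical
  have hQ : Nat.card Q ≠ 1 := by
    intro h1
    have := (Nat.card_eq_one_iff_unique.mp h1).1
    exact not_subsingleton Q this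
  obtain ⟨p, hp, hpd⟩ := Nat.exists_prime_and_dvd hQ
  have : Fact p.Prime := ⟨hp⟩
  have hnormal : ∀ K : Subgroup Q, K.Normal → K ≠ ⊥ → K = ⊤ := by
    intro K hK hne
    have := h K hne
    rw [Subgroup.normalizer_eq_top] at this
    exact this.symm
  obtain ⟨x, hx⟩ := exists_prime_orderOf_dvd_card' p hpd
  set X := Subgroup.zpowers x with hXdef
  have hXcard : Nat.card X = p := by rw [Nat.card_zpowers, hx]
  have hXne : X ≠ ⊥ := by
    intro hb
    rw [hb] at hXcard
    simp at hXcard
    exact hp.one_lt.ne' hXcard.symm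
  have hXpg : IsPGroup p X := IsPGroup.of_card (n := 1) (by rw [hXcard, pow_one])
  obtain ⟨P, hXP⟩ := hXpg.exists_le_sylow
  have hPX : (P : Subgroup Q) = X := by
    by_contra hne
    have hlt : X < (P : Subgroup Q) := lt_of_le_of_ne hXP (Ne.symm hne)
    have hPnil : Group.IsNilpotent (P : Subgroup Q) := P.2.isNilpotent
    have hnc : NormalizerCondition (P : Subgroup Q) := Group.normalizerCondition_of_isNilpotent
    have hlt' : X.subgroupOf P < ⊤ := by
      rw [lt_top_iff_ne_top]
      intro ht
      rw [Subgroup.subgroupOf_eq_top] at ht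
      exact hne (le_antisymm ht hXP)
    have := hnc _ hlt'
    obtain ⟨y, hyN, hyX⟩ := SetLike.exists_of_lt this
    have hyN' : (y : Q) ∈ Subgroup.normalizer (X : Set Q) := by
      rw [Subgroup.mem_normalizer_iff] at hyN ⊢
      intro g
      constructor
      · intro hg
        have hgP : g ∈ (P : Subgroup Q) := hXP hg
        have := (hyN ⟨g, hgP⟩).mp (by simpa [Subgroup.mem_subgroupOf] using hg)
        simpa [Subgroup.mem_subgroupOf] using this
      · intro hg
        have hgP : g ∈ (P : Subgroup Q) := by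
          have h1 : (y : Q)⁻¹ * ((y : Q) * g * (y : Q)⁻¹) * (y : Q) ∈ (P : Subgroup Q) :=
            mul_mem (mul_mem (inv_mem y.2) (hXP hg)) y.2
          simpa [mul_assoc] using h1
        have := (hyN ⟨g, hgP⟩).mpr (by simpa [Subgroup.mem_subgroupOf] using hg)
        simpa [Subgroup.mem_subgroupOf] using this
    rw [h X hXne] at hyN'
    exact hyX (by simpa [Subgroup.mem_subgroupOf] using hyN')
  have hPcard : Nat.card (P : Subgroup Q) = p := by rw [hPX, hXcard]
  have hPne : (P : Subgroup Q) ≠ ⊥ := by rw [hPX]; exact hXne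
  have hNC : Subgroup.normalizer ((P : Subgroup Q) : Set Q) ≤ Subgroup.centralizer ((P : Subgroup Q) : Set Q) := by
    rw [h _ hPne, hPX]
    intro a ha b hb
    obtain ⟨i, rfl⟩ := Subgroup.mem_zpowers_iff.mp ha
    obtain ⟨j, rfl⟩ := Subgroup.mem_zpowers_iff.mp hb
    exact (Commute.zpow_zpow_self x j i).eq
  have hcompl := MonoidHom.ker_transferSylow_isComplement' P hNC
  have hker : (MonoidHom.transferSylow P hNC).ker = ⊥ := by
    by_contra hne
    have htop := hnormal _ inferInstance hne
    have hc := hcompl.card_mul_card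
    rw [htop, hPcard] at hc
    simp at hc
    have : Nat.card Q * p = Nat.card Q * 1 := by rw [mul_one]; exact hc
    have hpos : 0 < Nat.card Q := Nat.card_pos
    have := Nat.eq_of_mul_eq_mul_left hpos this
    exact hp.one_lt.ne' this
  have hc := hcompl.card_mul_card
  rw [hker, hPcard] at hc
  simp at hc
  rw [← hc]; exact hp

/-- LEMMA 1: under (SN), for an abelian subgroup `U`, either `N(U) = C(U)`, or `C(U)` is abelian and
`|N(U) : C(U)|` is prime. -/
theorem normalizer_eq_centralizer_or {G : Type*} [Group G] [Finite G]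
    (hSN : ∀ H : Subgroup G, ¬ IsMulCommutative H → Subgroup.normalizer (H : Set G) = H)
    (U : Subgroup G) (hU : IsMulCommutative U) :
    Subgroup.normalizer (U : Set G) = Subgroup.centralizer (U : Set G) ∨
    (IsMulCommutative (Subgroup.centralizer (U : Set G)) ∧
      ((Subgroup.centralizer (U : Set G)).relIndex (Subgroup.normalizer (U : Set G))).Prime) := by
  classical
  set N := Subgroup.normalizer (U : Set G) with hN
  set C := Subgroup.centralizer (U : Set G) with hC
  have hCN : C ≤ N := Subgroup.centralizer_le_normalizer _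
  have hUC : U ≤ C := by
    intro u hu v hv
    exact congrArg Subtype.val (hU.1.1 ⟨v, hv⟩ ⟨u, hu⟩)
  by_cases hEq : N = C
  · exact Or.inl hEq
  right
  have hlt : C < N := lt_of_le_of_ne hCN (Ne.symm hEq)
  -- N normalizes C
  have hNnC : N ≤ Subgroup.normalizer (C : Set G) := by
    intro n hn
    rw [Subgroup.mem_normalizer_iff]
    have key : ∀ m ∈ N, ∀ c ∈ C, m * c * m⁻¹ ∈ C := by
      intro m hm c hc u hu
      have hu' : m⁻¹ * u * m ∈ U := by
        have := (Subgroup.mem_normalizer_iff''.mp hm u).mp hu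
        exact this
      have h1 := hc _ hu'
      -- (m⁻¹ u m) * c = c * (m⁻¹ u m)
      calc u * (m * c * m⁻¹) = m * ((m⁻¹ * u * m) * c) * m⁻¹ := by group
        _ = m * (c * (m⁻¹ * u * m)) * m⁻¹ := by rw [h1]
        _ = m * c * m⁻¹ * u := by group
    intro c
    constructor
    · exact key n hn c
    · intro h
      have := key n⁻¹ (inv_mem hn) _ h
      simpa [mul_assoc] using this
  have hCab : IsMulCommutative C := by
    by_contra hna
    have := hSN C hna
    rw [this] at hNnC
    exact hEq (le_antisymm hNnC hCN)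
  refine ⟨hCab, ?_⟩
  -- the quotient
  have : (C.subgroupOf N).Normal := Subgroup.normal_subgroupOf_centralizer_normalizer _
  let Q := N ⧸ C.subgroupOf N
  have hQnt : Nontrivial Q := by
    obtain ⟨n, hnN, hnC⟩ := SetLike.exists_of_lt hlt
    refine ⟨⟨QuotientGroup.mk (⟨n, hnN⟩ : N), 1, ?_⟩⟩
    intro h1
    rw [QuotientGroup.eq_one_iff] at h1
    exact hnC (by simpa [Subgroup.mem_subgroupOf] using h1)
  have hcard : Nat.card Q = C.relIndex N := by
    show Nat.card (N ⧸ C.subgroupOf N) = _
    rfl
  rw [← hcard]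
  apply card_prime_of_all_selfnormalizing
  intro X hX
  apply le_antisymm _ Subgroup.le_normalizer
  intro y hy
  -- H = preimage of X in G
  set H : Subgroup G := (X.comap (QuotientGroup.mk' (C.subgroupOf N))).map N.subtype with hH
  have hHN : H ≤ N := by
    rw [hH]; exact Subgroup.map_subtype_le _
  have hCH : C ≤ H := by
    intro c hc
    rw [hH, Subgroup.mem_map]
    refine ⟨⟨c, hCN hc⟩, ?_, rfl⟩
    rw [Subgroup.mem_comap]
    have : QuotientGroup.mk' (C.subgroupOf N) ⟨c, hCN hc⟩ = 1 := by
      rw [QuotientGroup.mk'_apply, QuotientGroup.eq_one_iff]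
      simpa [Subgroup.mem_subgroupOf] using hc
    rw [this]; exact one_mem _
  have hmemH : ∀ (n : G) (hn : n ∈ N), n ∈ H ↔ QuotientGroup.mk (⟨n, hn⟩ : N) ∈ X := by
    intro n hn
    rw [hH, Subgroup.mem_map]
    constructor
    · rintro ⟨m, hm, hmn⟩
      have : m = ⟨n, hn⟩ := Subtype.ext hmn
      rw [← this]; exact hm
    · intro h; exact ⟨⟨n, hn⟩, h, rfl⟩
  have hHna : ¬ IsMulCommutative H := by
    intro hab
    -- X ≠ ⊥ : pick nontrivial element
    obtain ⟨q, hqX, hq1⟩ : ∃ q : Q, q ∈ X ∧ q ≠ 1 := by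
      obtain ⟨a, ha⟩ := (Subgroup.ne_bot_iff_exists_ne_one (H := X)).mp hX
      exact ⟨(a : Q), a.2, fun h1 => ha (Subtype.ext h1)⟩
    obtain ⟨n, rfl⟩ := QuotientGroup.mk_surjective q
    have hnH : (n : G) ∈ H := (hmemH n n.2).mpr hqX
    have hnC : (n : G) ∈ C := by
      intro u hu
      have := hab.1.1 ⟨u, hCH (hUC hu)⟩ ⟨n, hnH⟩
      exact congrArg Subtype.val this
    apply hq1
    rw [QuotientGroup.eq_one_iff]
    simpa [Subgroup.mem_subgroupOf] using hnC
  have hHsn := hSN H hHna
  obtain ⟨n, rfl⟩ := QuotientGroup.mk_surjective y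
  have : (n : G) ∈ Subgroup.normalizer (H : Set G) := by
    rw [Subgroup.mem_normalizer_iff]
    intro g
    have hyn := Subgroup.mem_normalizer_iff.mp hy
    constructor
    · intro hg
      have hgN : g ∈ N := hHN hg
      have h1 := (hyn (QuotientGroup.mk (⟨g, hgN⟩ : N))).mp ((hmemH g hgN).mp hg)
      have h2 : (n : G) * g * (n : G)⁻¹ ∈ N := mul_mem (mul_mem n.2 hgN) (inv_mem n.2)
      rw [hmemH _ h2]
      exact h1
    · intro hg
      have h2 : (n : G) * g * (n : G)⁻¹ ∈ N := hHN hg
      have hgN : g ∈ N := by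
        have := mul_mem (mul_mem (inv_mem n.2) h2) n.2
        simpa [mul_assoc] using this
      rw [hmemH _ hgN]
      apply (hyn (QuotientGroup.mk (⟨g, hgN⟩ : N))).mpr
      exact (hmemH _ h2).mp hg
  rw [hHsn] at this
  exact (hmemH n n.2).mp this

end Cfsg.Agent.Lib.Helper51.SNPre
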