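import Cfsg.Agent.S0071
import Cfsg.Agent.Lib.Helper51.SNPre

set_option autoImplicit false

namespace Cfsg.Agent.Lib.Helper51.SNB

open Subgroup Cfsg.Agent.Lib.Helper51.SNPre

/-- An element of `N(X)` whose order is prime to `|N(X) : C(X)|` lies in `C(X)`. -/
theorem mem_centralizer_of_coprime {G : Type*} [Group G] [Finite G] (X : Subgroup G) {g : G}
    (hg : g ∈ Subgroup.normalizer (X : Set G))
    (hcop : Nat.Coprime (orderOf g)
      ((Subgroup.centralizer (X : Set G)).relIndex (Subgroup.normalizer (X : Set G)))) :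
    g ∈ Subgroup.centralizer (X : Set G) := by
  have hn : ((Subgroup.centralizer (X : Set G)).subgroupOf (Subgroup.normalizer (X : Set G))).Normal :=
    Subgroup.normal_subgroupOf_centralizer_normalizer _
  set q : (Subgroup.normalizer (X : Set G)) ⧸
      (Subgroup.centralizer (X : Set G)).subgroupOf (Subgroup.normalizer (X : Set G)) :=
    QuotientGroup.mk ⟨g, hg⟩ with hq
  have h1 : orderOf q ∣ orderOf g := by
    apply orderOf_dvd_of_pow_eq_one
    rw [hq, ← QuotientGroup.mk_pow]
    have : (⟨g, hg⟩ : Subgroup.normalizer (X : Set G)) ^ orderOf g = 1 :=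
      Subtype.ext (by simp [pow_orderOf_eq_one])
    rw [this]; rfl
  have h2 : orderOf q ∣ (Subgroup.centralizer (X : Set G)).relIndex (Subgroup.normalizer (X : Set G)) :=
    orderOf_dvd_natCard q
  have h3 : orderOf q = 1 := by
    have := Nat.dvd_gcd h1 h2
    rw [hcop.gcd_eq_one] at this
    exact Nat.dvd_one.mp this
  have h4 : q = 1 := orderOf_eq_one_iff.mp h3
  rw [hq, QuotientGroup.eq_one_iff] at h4
  simpa [Subgroup.mem_subgroupOf] using h4

/-- Normalizers grow in a Sylow `p`-subgroup. -/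
theorem exists_mem_normalizer_not_mem {G : Type*} [Group G] [Finite G] {p : ℕ} [Fact p.Prime]
    (P : Sylow p G) (X : Subgroup G) (hXP : X ≤ (P : Subgroup G)) (hne : X ≠ (P : Subgroup G)) :
    ∃ s ∈ (P : Subgroup G), s ∈ Subgroup.normalizer (X : Set G) ∧ s ∉ X := by
  have hPnil : Group.IsNilpotent (P : Subgroup G) := P.2.isNilpotent
  have hnc : NormalizerCondition (P : Subgroup G) := Group.normalizerCondition_of_isNilpotent
  have hlt' : X.subgroupOf P < ⊤ := by
    rw [lt_top_iff_ne_top]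
    intro ht
    rw [Subgroup.subgroupOf_eq_top] at ht
    exact hne (le_antisymm hXP ht)
  have := hnc _ hlt'
  obtain ⟨y, hyN, hyX⟩ := SetLike.exists_of_lt this
  refine ⟨(y : G), y.2, ?_, fun h => hyX (by simpa [Subgroup.mem_subgroupOf] using h)⟩
  rw [Subgroup.mem_normalizer_iff] at hyN ⊢
  intro g
  constructor
  · intro hg
    have hgP : g ∈ (P : Subgroup G) := hXP hg
    have := (hyN ⟨g, hgP⟩).mp (by simpa [Subgroup.mem_subgroupOf] using hg)
    simpa [Subgroup.mem_subgroupOf] using this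
  · intro hg
    have hgP : g ∈ (P : Subgroup G) := by
      have h1 : (y : G)⁻¹ * ((y : G) * g * (y : G)⁻¹) * (y : G) ∈ (P : Subgroup G) :=
        mul_mem (mul_mem (inv_mem y.2) (hXP hg)) y.2
      simpa [mul_assoc] using h1
    have := (hyN ⟨g, hgP⟩).mpr (by simpa [Subgroup.mem_subgroupOf] using hg)
    simpa [Subgroup.mem_subgroupOf] using this

/-- LEMMA B: in a non-abelian finite simple group with (SN), every Sylow subgroup is abelian. -/
theorem sylow_isMulCommutative {G : Type*} [Group G] [Finite G] [IsSimpleGroup G]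
    (hna : ¬ IsMulCommutative G)
    (hSN : ∀ H : Subgroup G, ¬ IsMulCommutative H → Subgroup.normalizer (H : Set G) = H)
    (p : ℕ) [hp : Fact p.Prime] (S : Sylow p G) : IsMulCommutative (S : Subgroup G) := by
  classical
  by_contra hS
  -- p-elements
  have hpel : ∀ (P : Sylow p G) (x : G), x ∈ (P : Subgroup G) → ∃ k : ℕ, x ^ (p ^ k) = 1 := by
    intro P x hx
    obtain ⟨k, hk⟩ := P.2 ⟨x, hx⟩
    exact ⟨k, by simpa using congrArg Subtype.val hk⟩
  -- no normal complement
  have hno : ¬ ∃ N : Subgroup G, N.Normal ∧ N.IsComplement' (S : Subgroup G) := by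
    rintro ⟨N, hN, hc⟩
    rcases hN.eq_bot_or_eq_top with h | h
    · rw [h, Subgroup.isComplement'_bot_left] at hc
      -- G is a p-group
      have hG : IsPGroup p G := by
        intro x
        obtain ⟨k, hk⟩ := hpel S x (by rw [hc]; exact Subgroup.mem_top x)
        exact ⟨k, hk⟩
      have hZ : Nontrivial (Subgroup.center G) := hG.center_nontrivial
      have hZne : Subgroup.center G ≠ ⊥ := by
        intro hb
        obtain ⟨⟨a, ha⟩, ⟨b, hb'⟩, hab⟩ := hZ
        rw [hb, Subgroup.mem_bot] at ha hb'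
        exact hab (Subtype.ext (ha.trans hb'.symm))
      have hZtop : Subgroup.center G = ⊤ :=
        ((inferInstance : (Subgroup.center G).Normal).eq_bot_or_eq_top).resolve_left hZne
      apply hna
      refine ⟨⟨fun a b => ?_⟩⟩
      have hb : b ∈ Subgroup.center G := by rw [hZtop]; exact Subgroup.mem_top b
      exact (Subgroup.mem_center_iff.mp hb) a
    · rw [h, Subgroup.isComplement'_top_left] at hc
      apply hS
      rw [hc]
      refine ⟨⟨fun a b => ?_⟩⟩
      apply Subtype.ext
      have ha := Subgroup.mem_bot.mp a.2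
      have hb := Subgroup.mem_bot.mp b.2
      simp [ha, hb]
  rw [Cfsg.Agent.S0071.result S] at hno
  push Not at hno
  obtain ⟨U, hUS, g, hgN, hgcop, hgC⟩ := hno
  -- coprime-order p-elements are trivial
  have hUab : IsMulCommutative U := by
    by_contra hUna
    have := hSN U hUna
    rw [this] at hgN
    obtain ⟨k, hk⟩ := hpel S g (hUS hgN)
    have h1 : orderOf g ∣ p ^ k := orderOf_dvd_of_pow_eq_one hk
    have h2 : orderOf g = 1 := by
      have := Nat.dvd_gcd (dvd_refl (orderOf g)) h1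
      rw [(Nat.Coprime.pow_right k hgcop).gcd_eq_one] at this
      exact Nat.dvd_one.mp this
    rw [orderOf_eq_one_iff] at h2
    apply hgC
    rw [h2]; exact one_mem _
  set N := Subgroup.normalizer (U : Set G) with hNdef
  set C := Subgroup.centralizer (U : Set G) with hCdef
  have hCN : C ≤ N := Subgroup.centralizer_le_normalizer _
  have hUC : U ≤ C := by
    intro u hu v hv
    exact congrArg Subtype.val (hUab.1.1 ⟨v, hv⟩ ⟨u, hu⟩)
  rcases normalizer_eq_centralizer_or hSN U hUab with hEq | ⟨hCab, hr⟩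
  · exact hgC ((show N = C from hEq) ▸ hgN)
  -- r ≠ p
  have hrp : C.relIndex N ≠ p := by
    intro hrp
    apply hgC
    apply mem_centralizer_of_coprime U hgN
    rw [← hCdef, ← hNdef, hrp]; exact hgcop
  have hcop_rp : ∀ k : ℕ, Nat.Coprime (p ^ k) (C.relIndex N) := by
    intro k
    apply Nat.Coprime.pow_left
    exact (Nat.coprime_primes hp.1 hr).mpr (Ne.symm hrp)
  -- C normal in N
  have hCnorm : ∀ c n, c ∈ C → n ∈ N → n * c * n⁻¹ ∈ C :=
    (Subgroup.normal_subgroupOf_iff hCN).mp (Subgroup.normal_subgroupOf_centralizer_normalizer _)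
  -- T = p-elements of C
  let T : Subgroup G :=
    { carrier := {x | x ∈ C ∧ ∃ k : ℕ, x ^ (p ^ k) = 1}
      one_mem' := ⟨one_mem _, 0, by simp⟩
      mul_mem' := by
        rintro a b ⟨ha, k, hk⟩ ⟨hb, l, hl⟩
        refine ⟨mul_mem ha hb, k + l, ?_⟩
        have hcomm : Commute a b := congrArg Subtype.val (hCab.1.1 ⟨a, ha⟩ ⟨b, hb⟩)
        rw [hcomm.mul_pow, pow_add, pow_mul, hk, one_pow, mul_comm (p ^ k) (p ^ l), pow_mul, hl,
          one_pow, mul_one]
      inv_mem' := by
        rintro a ⟨ha, k, hk⟩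
        exact ⟨inv_mem ha, k, by rw [inv_pow, hk, inv_one]⟩ }
  have hmemT : ∀ x, x ∈ T ↔ x ∈ C ∧ ∃ k : ℕ, x ^ (p ^ k) = 1 := fun x => Iff.rfl
  have hTC : T ≤ C := fun x hx => hx.1
  have hTpg : IsPGroup p T := by
    rintro ⟨x, hx⟩
    obtain ⟨k, hk⟩ := hx.2
    exact ⟨k, Subtype.ext (by simpa using hk)⟩
  have hUT : U ≤ T := fun u hu => ⟨hUC hu, hpel S u (hUS hu)⟩
  have hTab : IsMulCommutative T := by
    refine ⟨⟨fun a b => ?_⟩⟩
    apply Subtype.ext
    show (a : G) * (b : G) = (b : G) * (a : G)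
    exact congrArg Subtype.val (hCab.1.1 ⟨a, hTC a.2⟩ ⟨b, hTC b.2⟩)
  have hTconj : ∀ n ∈ N, ∀ x ∈ T, n * x * n⁻¹ ∈ T := by
    intro n hn x hx
    refine ⟨hCnorm x n hx.1 hn, ?_⟩
    obtain ⟨k, hk⟩ := hx.2
    exact ⟨k, by rw [conj_pow, hk, mul_one, mul_inv_cancel]⟩
  have hNT : N ≤ Subgroup.normalizer (T : Set G) := by
    intro n hn
    rw [Subgroup.mem_normalizer_iff]
    intro x
    constructor
    · exact hTconj n hn x
    · intro h
      have := hTconj n⁻¹ (inv_mem hn) _ h
      simpa [mul_assoc] using this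
  obtain ⟨S1, hTS1⟩ := hTpg.exists_le_sylow
  -- S1 non-abelian
  have hS1 : ¬ IsMulCommutative (S1 : Subgroup G) := by
    intro hab
    apply hS
    obtain ⟨c, hc⟩ := MulAction.exists_smul_eq G S S1
    refine ⟨⟨fun a b => ?_⟩⟩
    apply Subtype.ext
    have ha : c * (a : G) * c⁻¹ ∈ (S1 : Subgroup G) := by
      rw [← hc, Sylow.coe_subgroup_smul]
      have := Subgroup.smul_mem_pointwise_smul (a : G) (MulAut.conj c) (S : Subgroup G) a.2
      simpa [MulAut.smul_def, MulAut.conj_apply] using this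
    have hb : c * (b : G) * c⁻¹ ∈ (S1 : Subgroup G) := by
      rw [← hc, Sylow.coe_subgroup_smul]
      have := Subgroup.smul_mem_pointwise_smul (b : G) (MulAut.conj c) (S : Subgroup G) b.2
      simpa [MulAut.smul_def, MulAut.conj_apply] using this
    have h := congrArg Subtype.val (hab.1.1 ⟨_, ha⟩ ⟨_, hb⟩)
    simp only [Subgroup.coe_mul] at h
    have h' : c * ((a : G) * (b : G)) * c⁻¹ = c * ((b : G) * (a : G)) * c⁻¹ := by
      calc c * ((a : G) * (b : G)) * c⁻¹ = (c * (a : G) * c⁻¹) * (c * (b : G) * c⁻¹) := by group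
        _ = (c * (b : G) * c⁻¹) * (c * (a : G) * c⁻¹) := h
        _ = c * ((b : G) * (a : G)) * c⁻¹ := by group
    have := mul_left_cancel (mul_right_cancel h')
    simpa using this
  have hTne : T ≠ (S1 : Subgroup G) := by
    intro h
    apply hS1
    rw [← h]; exact hTab
  obtain ⟨s, hsS1, hsN, hsT⟩ := exists_mem_normalizer_not_mem S1 T hTS1 hTne
  -- s ∉ C(T)
  have hsC : s ∉ Subgroup.centralizer (T : Set G) := by
    intro hsc
    apply hsT
    refine ⟨?_, hpel S1 s hsS1⟩
    exact Subgroup.centralizer_le (by exact_mod_cast hUT) hsc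
  rcases normalizer_eq_centralizer_or hSN T hTab with hEq | ⟨_, hr'⟩
  · exact hsC (by rw [← hEq]; exact hsN)
  have hr'p : (Subgroup.centralizer (T : Set G)).relIndex (Subgroup.normalizer (T : Set G)) = p := by
    by_contra hne
    apply hsC
    apply mem_centralizer_of_coprime T hsN
    obtain ⟨k, hk⟩ := hpel S1 s hsS1
    have h1 : orderOf s ∣ p ^ k := orderOf_dvd_of_pow_eq_one hk
    apply Nat.Coprime.coprime_dvd_left h1
    apply Nat.Coprime.pow_left
    exact (Nat.coprime_primes hp.1 hr').mpr (Ne.symm hne)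
  -- g ∈ C(T)
  have hgT : g ∈ Subgroup.centralizer (T : Set G) := by
    apply mem_centralizer_of_coprime T (hNT hgN)
    rw [hr'p]; exact hgcop
  exact hgC (Subgroup.centralizer_le (by exact_mod_cast hUT) hgT)

end Cfsg.Agent.Lib.Helper51.SNB
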