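import Mathlib

/-!
# K-SPC pack (S2676, architect helper73), LEAF D6 (267631): a partition has Jordan data.
-/

set_option autoImplicit false

namespace Cfsg.Agent.Lib.Helper51.SPC

theorem exists_data_of_partition {ι : Type*} [Fintype ι] [DecidableEq ι] {n : ℕ}
    (hn : Fintype.card ι = n) (μ : Nat.Partition n) :
    ∃ (t : ℕ) (d : Fin t → ℕ) (_ : ((k : Fin t) × Fin (d k)) ≃ ι), (∀ k, 1 ≤ d k) ∧
      Multiset.map d Finset.univ.val = μ.parts := by
  classical
  obtain ⟨L, hL⟩ : ∃ L : List ℕ, L = μ.parts.toList := ⟨_, rfl⟩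
  have hmap : Multiset.map L.get Finset.univ.val = μ.parts := by
    rw [Fin.univ_val_map, List.ofFn_get, hL, Multiset.coe_toList]
  have hpos : ∀ k : Fin L.length, 1 ≤ L.get k := by
    intro k
    have h1 : L.get k ∈ μ.parts := by
      rw [← Multiset.mem_toList, ← hL]
      exact List.get_mem L k
    exact μ.parts_pos h1
  have hcard : Fintype.card ((k : Fin L.length) × Fin (L.get k)) = Fintype.card ι := by
    rw [Fintype.card_sigma, hn]
    simp only [Fintype.card_fin]
    have h2 : ∑ k : Fin L.length, L.get k = (Multiset.map L.get Finset.univ.val).sum := rfl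
    rw [h2, hmap, μ.parts_sum]
  exact ⟨L.length, L.get, Fintype.equivOfCardEq hcard, hpos, hmap⟩

end Cfsg.Agent.Lib.Helper51.SPC
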