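import Mathlib
import Cfsg.Prelude.Def_GeometricClasses
import Cfsg.Agent.Lib.Helper10.SU3KDefs

set_option autoImplicit false
set_option linter.unusedSectionVars false
set_option linter.unusedVariables false
set_option linter.style.haveILetI false

/-! K-SU3F-A: an adjoint-closed cubic field subalgebra of `M₃(F)`, `|F| = q²`, `q = 3, 5`,
contains an element of `SU₃(q)` of order seven. -/

namespace Cfsg.Agent.Lib.Helper51.SU3F

open Cfsg Cfsg.Geo Matrix Cfsg.Agent.Lib.Helper10.SU3K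
open scoped Matrix MatrixGroups

variable {F : Type*} [Field F] [Fintype F] {q : ℕ}

abbrev M3 (F : Type*) [Field F] := Matrix (Fin 3) (Fin 3) F

theorem gl_ne_zero (g : GL (Fin 3) F) : (g : M3 F) ≠ 0 := by
  intro h
  have h1 : (g : M3 F) * ((g⁻¹ : GL (Fin 3) F) : M3 F) = 1 := by
    rw [← Units.val_mul, mul_inv_cancel, Units.val_one]
  rw [h, zero_mul] at h1
  exact zero_ne_one h1

/-- the units of `GL` lying in `K` -/
def KU (K : Subalgebra F (M3 F)) (hK : IsFieldSubalgebra 3 K) : Subgroup (GL (Fin 3) F) where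
  carrier := {g | (g : M3 F) ∈ K}
  mul_mem' := by
    intro a b ha hb
    show ((a * b : GL (Fin 3) F) : M3 F) ∈ K
    rw [Units.val_mul]
    exact K.mul_mem ha hb
  one_mem' := by
    show ((1 : GL (Fin 3) F) : M3 F) ∈ K
    rw [Units.val_one]
    exact K.one_mem
  inv_mem' := by
    intro g hg
    show ((g⁻¹ : GL (Fin 3) F) : M3 F) ∈ K
    obtain ⟨y, hyK, hy⟩ := hK.inv (g : M3 F) hg (gl_ne_zero g)
    have h1 : ((g⁻¹ : GL (Fin 3) F) : M3 F) = y := by
      calc ((g⁻¹ : GL (Fin 3) F) : M3 F)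
          = ((g⁻¹ : GL (Fin 3) F) : M3 F) * ((g : M3 F) * y) := by rw [hy, mul_one]
        _ = y := by
          rw [← mul_assoc, ← Units.val_mul, inv_mul_cancel, Units.val_one, one_mul]
    rw [h1]
    exact hyK

theorem mem_KU (K : Subalgebra F (M3 F)) (hK : IsFieldSubalgebra 3 K) (g : GL (Fin 3) F) :
    g ∈ KU K hK ↔ (g : M3 F) ∈ K := Iff.rfl

/-- a non-zero element of `K` as a unit -/
noncomputable def unitOf (K : Subalgebra F (M3 F)) (hK : IsFieldSubalgebra 3 K) (k : M3 F)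
    (hk : k ∈ K) (hk0 : k ≠ 0) : GL (Fin 3) F where
  val := k
  inv := Classical.choose (hK.inv k hk hk0)
  val_inv := (Classical.choose_spec (hK.inv k hk hk0)).2
  inv_val := by
    have h := Classical.choose_spec (hK.inv k hk hk0)
    rw [hK.comm _ h.1 _ hk]
    exact h.2

theorem unitOf_val (K : Subalgebra F (M3 F)) (hK : IsFieldSubalgebra 3 K) (k : M3 F)
    (hk : k ∈ K) (hk0 : k ≠ 0) : ((unitOf K hK k hk hk0 : GL (Fin 3) F) : M3 F) = k := rfl

/-- the units in `K` are in bijection with the non-zero elements of `K` -/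
noncomputable def equivKU (K : Subalgebra F (M3 F)) (hK : IsFieldSubalgebra 3 K) :
    ↥(KU K hK) ≃ {k : ↥K // k ≠ 0} where
  toFun g := ⟨⟨(g.1 : M3 F), g.2⟩, by
    intro h
    have := congrArg Subtype.val h
    exact gl_ne_zero g.1 this⟩
  invFun k := ⟨unitOf K hK k.1.1 k.1.2 (by
    intro h
    apply k.2
    exact Subtype.ext h), k.1.2⟩
  left_inv g := by
    apply Subtype.ext
    apply Units.ext
    rfl
  right_inv k := by
    apply Subtype.ext
    apply Subtype.ext
    rfl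

theorem card_K (hF : Fintype.card F = q ^ 2) (K : Subalgebra F (M3 F))
    (hK : IsFieldSubalgebra 3 K) : Nat.card ↥K = q ^ 6 := by
  rw [Module.natCard_eq_pow_finrank (K := F) (V := ↥K), hK.finrank_eq, Nat.card_eq_fintype_card, hF]
  ring

theorem card_KU (hF : Fintype.card F = q ^ 2) (K : Subalgebra F (M3 F))
    (hK : IsFieldSubalgebra 3 K) : Nat.card ↥(KU K hK) = q ^ 6 - 1 := by
  rw [Nat.card_congr (equivKU K hK)]
  have h1 : Nat.card {k : ↥K // k ≠ 0} = Set.ncard ((Set.univ : Set ↥K) \ {0}) := by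
    rw [← Nat.card_coe_set_eq]
    apply Nat.card_congr
    exact Equiv.subtypeEquivRight (fun k => by simp)
  rw [h1, Set.ncard_sdiff_singleton_of_mem (Set.mem_univ _), Set.ncard_univ, card_K hF K hK]

/-! ### self-adjoint elements -/

theorem exists_pow_ne (hF : Fintype.card F = q ^ 2) (hq1 : 1 < q) : ∃ x : F, x ^ q ≠ x := by
  classical
  by_contra hcon
  push Not at hcon
  have hne : (Polynomial.X ^ q - Polynomial.X : Polynomial F) ≠ 0 :=
    FiniteField.X_pow_card_sub_X_ne_zero F hq1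
  have h1 : (Finset.univ : Finset F) ⊆
      (Polynomial.X ^ q - Polynomial.X : Polynomial F).roots.toFinset := by
    intro x _
    rw [Multiset.mem_toFinset, Polynomial.mem_roots hne]
    simp [hcon x]
  have h2 := Finset.card_le_card h1
  have h3 : (Polynomial.X ^ q - Polynomial.X : Polynomial F).roots.toFinset.card ≤ q := by
    calc (Polynomial.X ^ q - Polynomial.X : Polynomial F).roots.toFinset.card
        ≤ Multiset.card (Polynomial.X ^ q - Polynomial.X : Polynomial F).roots :=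
          Multiset.toFinset_card_le _
      _ ≤ (Polynomial.X ^ q - Polynomial.X : Polynomial F).natDegree := Polynomial.card_roots' _
      _ = q := FiniteField.X_pow_card_sub_X_natDegree_eq F hq1
  rw [Finset.card_univ, hF] at h2
  nlinarith

theorem dag_sub (hF : Fintype.card F = q ^ 2) (hq : q.Prime) {n : ℕ}
    (A B : Matrix (Fin n) (Fin n) F) : dag q (A - B) = dag q A - dag q B := by
  haveI : Fact q.Prime := ⟨hq⟩
  haveI := charP_of_card hF hq
  ext i j
  simp only [dag_apply, Matrix.sub_apply, sub_pow_char]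

theorem dag_pow (hF : Fintype.card F = q ^ 2) (hq : q.Prime) {n : ℕ}
    (A : Matrix (Fin n) (Fin n) F) (k : ℕ) : dag q (A ^ k) = (dag q A) ^ k := by
  induction k with
  | zero => rw [pow_zero, pow_zero, dag_one q hq.ne_zero]
  | succ k ih => rw [pow_succ, dag_mul hF hq, ih, pow_succ']

theorem two_ne_zero_of (hF : Fintype.card F = q ^ 2) (hq : q = 3 ∨ q = 5) : (2 : F) ≠ 0 := by
  have hqp : q.Prime := by rcases hq with rfl | rfl <;> norm_num
  haveI : Fact q.Prime := ⟨hqp⟩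
  haveI := charP_of_card hF hqp
  intro h
  have h1 : ((2 : ℕ) : F) = 0 := by exact_mod_cast h
  rw [CharP.cast_eq_zero_iff F q] at h1
  rcases hq with rfl | rfl <;> omega

theorem natCast_pow_q (hF : Fintype.card F = q ^ 2) (hq : q.Prime) (m : ℕ) :
    ((m : F)) ^ q = (m : F) := by
  haveI : Fact q.Prime := ⟨hq⟩
  haveI := charP_of_card hF hq
  have := map_natCast (frobenius F q) m
  rwa [frobenius_def] at this

/-- the self-adjoint elements of `K` -/
def K0 (q : ℕ) (K : Subalgebra F (M3 F)) : Set (M3 F) := {k | k ∈ K ∧ dag q k = k}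

theorem card_K0 (hF : Fintype.card F = q ^ 2) (hq : q = 3 ∨ q = 5) (K : Subalgebra F (M3 F))
    (hK : IsFieldSubalgebra 3 K) (hdagK : ∀ k ∈ K, dag q k ∈ K) :
    (K0 q K).ncard = q ^ 3 := by
  have hqp : q.Prime := by rcases hq with rfl | rfl <;> norm_num
  haveI : Fact q.Prime := ⟨hqp⟩
  haveI := charP_of_card hF hqp
  have h2 := two_ne_zero_of hF hq
  obtain ⟨x, hx⟩ := exists_pow_ne hF hqp.one_lt
  set ζ : F := x - x ^ q with hζ
  have hζ0 : ζ ≠ 0 := by
    rw [hζ]
    intro h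
    exact hx (sub_eq_zero.mp h).symm
  have hζq : ζ ^ q = -ζ := by
    rw [hζ, sub_pow_char, pow_q_q hF]
    ring
  set Φ : M3 F × M3 F → M3 F := fun p => p.1 + ζ • p.2 with hΦ
  have hinj : Set.InjOn Φ (K0 q K ×ˢ K0 q K) := by
    rintro ⟨a, b⟩ ⟨⟨_, ha⟩, ⟨_, hb⟩⟩ ⟨a', b'⟩ ⟨⟨_, ha'⟩, ⟨_, hb'⟩⟩ h
    simp only [hΦ] at h
    have hd : a - a' = ζ • (b' - b) := by
      rw [smul_sub, sub_eq_sub_iff_add_eq_add, h, add_comm]
    have h1 : dag q (a - a') = a - a' := by rw [dag_sub hF hqp, ha, ha']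
    have h3 : dag q (a - a') = -(a - a') := by
      rw [hd, dag_smul, dag_sub hF hqp, hb, hb', hζq, neg_smul]
    have h4 : (2 : F) • (a - a') = 0 := by
      rw [two_smul]
      nth_rewrite 1 [← h1]
      rw [h3]
      abel
    have h5 : a - a' = 0 := by
      rcases smul_eq_zero.mp h4 with h | h
      · exact absurd h h2
      · exact h
    have h6 : b' - b = 0 := by
      rw [h5] at hd
      rcases smul_eq_zero.mp hd.symm with h | h
      · exact absurd h hζ0
      · exact h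
    rw [Prod.mk.injEq]
    exact ⟨sub_eq_zero.mp h5, (sub_eq_zero.mp h6).symm⟩
  have himg : Φ '' (K0 q K ×ˢ K0 q K) = (K : Set (M3 F)) := by
    ext k
    constructor
    · rintro ⟨⟨a, b⟩, ⟨⟨haK, _⟩, ⟨hbK, _⟩⟩, rfl⟩
      exact K.add_mem haK (K.smul_mem hbK ζ)
    · intro hk
      have hk' : k ∈ K := hk
      obtain ⟨h, hh⟩ : ∃ h : F, h = (2 : F)⁻¹ := ⟨_, rfl⟩
      have hhq : h ^ q = h := by
        rw [hh, inv_pow]
        congr 1
        have := natCast_pow_q hF hqp 2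
        exact_mod_cast this
      refine ⟨(h • (k + dag q k), (h * ζ⁻¹) • (k - dag q k)), ⟨⟨?_, ?_⟩, ⟨?_, ?_⟩⟩, ?_⟩
      · exact K.smul_mem (K.add_mem hk' (hdagK k hk')) h
      · show dag q (h • (k + dag q k)) = h • (k + dag q k)
        rw [dag_smul, dag_add hF hqp, dag_dag hF, hhq, add_comm]
      · exact K.smul_mem (K.sub_mem hk' (hdagK k hk')) _
      · show dag q ((h * ζ⁻¹) • (k - dag q k)) = (h * ζ⁻¹) • (k - dag q k)
        rw [dag_smul, dag_sub hF hqp, dag_dag hF, mul_pow, inv_pow, hhq, hζq, inv_neg, mul_neg,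
          neg_smul, ← smul_neg, neg_sub]
      · show h • (k + dag q k) + ζ • ((h * ζ⁻¹) • (k - dag q k)) = k
        rw [smul_smul, ← mul_assoc, mul_comm ζ h, mul_assoc, mul_inv_cancel₀ hζ0, mul_one,
          ← smul_add]
        have : k + dag q k + (k - dag q k) = (2 : F) • k := by
          rw [two_smul]; abel
        rw [this, smul_smul, hh, inv_mul_cancel₀ h2, one_smul]
  have h1 : (K0 q K ×ˢ K0 q K).ncard = (K : Set (M3 F)).ncard := by
    rw [← himg, Set.InjOn.ncard_image hinj]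
  rw [Set.ncard_prod] at h1
  have h3 : (K : Set (M3 F)).ncard = q ^ 6 := by
    rw [← Nat.card_coe_set_eq]
    exact card_K hF K hK
  rw [h3] at h1
  have h4 : (K0 q K).ncard ^ 2 = (q ^ 3) ^ 2 := by
    rw [sq, h1]; ring
  exact Nat.pow_left_injective (by norm_num : 2 ≠ 0) h4

/-- the self-adjoint units of `K` -/
def S0 (hF : Fintype.card F = q ^ 2) (hqp : q.Prime) (K : Subalgebra F (M3 F))
    (hK : IsFieldSubalgebra 3 K) : Subgroup (GL (Fin 3) F) where
  carrier := {g | (g : M3 F) ∈ K ∧ dag q (g : M3 F) = (g : M3 F)}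
  mul_mem' := by
    rintro a b ⟨haK, ha⟩ ⟨hbK, hb⟩
    refine ⟨?_, ?_⟩
    · show ((a * b : GL (Fin 3) F) : M3 F) ∈ K
      rw [Units.val_mul]
      exact K.mul_mem haK hbK
    · show dag q ((a * b : GL (Fin 3) F) : M3 F) = ((a * b : GL (Fin 3) F) : M3 F)
      rw [Units.val_mul, dag_mul hF hqp, ha, hb]
      exact hK.comm _ hbK _ haK
  one_mem' := by
    refine ⟨?_, ?_⟩
    · show ((1 : GL (Fin 3) F) : M3 F) ∈ K
      rw [Units.val_one]
      exact K.one_mem
    · show dag q ((1 : GL (Fin 3) F) : M3 F) = ((1 : GL (Fin 3) F) : M3 F)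
      rw [Units.val_one, dag_one q hqp.ne_zero]
  inv_mem' := by
    rintro g ⟨hgK, hg⟩
    have h1 : ((g⁻¹ : GL (Fin 3) F) : M3 F) ∈ K := (KU K hK).inv_mem hgK
    refine ⟨h1, ?_⟩
    show dag q ((g⁻¹ : GL (Fin 3) F) : M3 F) = ((g⁻¹ : GL (Fin 3) F) : M3 F)
    have h3 : dag q ((g⁻¹ : GL (Fin 3) F) : M3 F) * (g : M3 F) = 1 := by
      rw [← hg, ← dag_mul hF hqp, ← Units.val_mul, mul_inv_cancel, Units.val_one, dag_one q hqp.ne_zero]
    calc dag q ((g⁻¹ : GL (Fin 3) F) : M3 F)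
        = dag q ((g⁻¹ : GL (Fin 3) F) : M3 F) * ((g : M3 F) * ((g⁻¹ : GL (Fin 3) F) : M3 F)) := by
          rw [← Units.val_mul, mul_inv_cancel, Units.val_one, mul_one]
      _ = ((g⁻¹ : GL (Fin 3) F) : M3 F) := by rw [← mul_assoc, h3, one_mul]

theorem dag_zero' (hqp : q.Prime) {n : ℕ} : dag q (0 : Matrix (Fin n) (Fin n) F) = 0 := by
  ext i j
  rw [dag_apply, Matrix.zero_apply, Matrix.zero_apply, zero_pow hqp.ne_zero]

theorem card_S0 (hF : Fintype.card F = q ^ 2) (hq : q = 3 ∨ q = 5) (hqp : q.Prime)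
    (K : Subalgebra F (M3 F)) (hK : IsFieldSubalgebra 3 K) (hdagK : ∀ k ∈ K, dag q k ∈ K) :
    Nat.card ↥(S0 hF hqp K hK) = q ^ 3 - 1 := by
  let f : ↥(S0 hF hqp K hK) → M3 F := fun g => ((g : GL (Fin 3) F) : M3 F)
  have hinj : Function.Injective f := by
    intro a b h
    apply Subtype.ext
    apply Units.ext
    exact h
  have hrange : Set.range f = K0 q K \ {0} := by
    ext k
    constructor
    · rintro ⟨g, rfl⟩
      exact ⟨g.2, gl_ne_zero g.1⟩
    · rintro ⟨⟨hkK, hk⟩, hk0⟩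
      exact ⟨⟨unitOf K hK k hkK hk0, hkK, hk⟩, rfl⟩
  have h0 : (0 : M3 F) ∈ K0 q K := ⟨K.zero_mem, dag_zero' hqp⟩
  rw [Nat.card_congr (Equiv.ofInjective f hinj), Nat.card_coe_set_eq, hrange,
    Set.ncard_sdiff_singleton_of_mem h0, card_K0 hF hq K hK hdagK]

/-- **K-SU3F-A** -/
theorem exists_order_seven (hF : Fintype.card F = q ^ 2) (hq : q = 3 ∨ q = 5)
    (K : Subalgebra F (Matrix (Fin 3) (Fin 3) F)) (hK : IsFieldSubalgebra 3 K)
    (hadj : IsAdjointClosedFor (hermForm 3 F q) K) :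
    ∃ c : GL (Fin 3) F, (c : Matrix (Fin 3) (Fin 3) F) ∈ K ∧ orderOf c = 7 ∧ c ∈ SUg 3 F q := by
  have hqp : q.Prime := by rcases hq with rfl | rfl <;> norm_num
  haveI : Fact q.Prime := ⟨hqp⟩
  haveI : Fact (Nat.Prime 7) := ⟨by norm_num⟩
  have hdagK : ∀ k ∈ K, dag q k ∈ K := by
    intro k hk
    obtain ⟨k', hk'K, hk'⟩ := hadj k hk
    rw [← (adj_iff_dag hF hqp k k').1 hk']
    exact hk'K
  -- Cauchy
  have h7 : 7 ∣ Nat.card ↥(KU K hK) := by
    rw [card_KU hF K hK]
    rcases hq with rfl | rfl <;> norm_num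
  obtain ⟨c', hc'⟩ := exists_prime_orderOf_dvd_card' (G := ↥(KU K hK)) 7 h7
  obtain ⟨c, hcK⟩ := c'
  have hc7 : orderOf c = 7 := by
    rw [← hc']
    exact (Subgroup.orderOf_mk c hcK).symm
  have hcK' : (c : M3 F) ∈ K := hcK
  have hc7' : c ^ 7 = 1 := by rw [← hc7]; exact pow_orderOf_eq_one c
  -- the adjoint of `c` as a unit
  have hD0 : dag q (c : M3 F) ≠ 0 := by
    intro h0
    have := congrArg (dag q) h0
    rw [dag_dag hF, dag_zero' hqp] at this
    exact gl_ne_zero c this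
  set d : GL (Fin 3) F := unitOf K hK (dag q (c : M3 F)) (hdagK _ hcK') hD0 with hd
  have hdv : (d : M3 F) = dag q (c : M3 F) := rfl
  have hcd : c * d = d * c := by
    apply Units.ext
    rw [Units.val_mul, Units.val_mul, hdv]
    exact hK.comm _ hcK' _ (hdagK _ hcK')
  have hd7 : d ^ 7 = 1 := by
    apply Units.ext
    rw [Units.val_pow_eq_pow_val, hdv, ← dag_pow hF hqp, ← Units.val_pow_eq_pow_val, hc7',
      Units.val_one, dag_one q hqp.ne_zero]
  -- `s = c * d` is a self-adjoint unit with `s ^ 7 = 1`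
  have hsS0 : c * d ∈ S0 hF hqp K hK := by
    refine ⟨?_, ?_⟩
    · show ((c * d : GL (Fin 3) F) : M3 F) ∈ K
      rw [Units.val_mul]
      exact K.mul_mem hcK' (hdagK _ hcK')
    · show dag q ((c * d : GL (Fin 3) F) : M3 F) = ((c * d : GL (Fin 3) F) : M3 F)
      rw [Units.val_mul, hdv, dag_mul hF hqp, dag_dag hF]
  have hs7 : (c * d) ^ 7 = 1 := by
    rw [(Commute.mul_pow hcd 7 : (c * d) ^ 7 = c ^ 7 * d ^ 7), hc7', hd7, mul_one]
  have hs1 : c * d = 1 := by
    have h1 : orderOf (⟨c * d, hsS0⟩ : ↥(S0 hF hqp K hK)) ∣ 7 := by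
      apply orderOf_dvd_of_pow_eq_one
      apply Subtype.ext
      rw [Subgroup.coe_pow]
      exact hs7
    have h3 : orderOf (⟨c * d, hsS0⟩ : ↥(S0 hF hqp K hK)) ∣ q ^ 3 - 1 := by
      rw [← card_S0 hF hq hqp K hK hdagK]
      exact orderOf_dvd_natCard _
    have h4 : orderOf (⟨c * d, hsS0⟩ : ↥(S0 hF hqp K hK)) ∣ Nat.gcd 7 (q ^ 3 - 1) :=
      Nat.dvd_gcd h1 h3
    have h5 : Nat.gcd 7 (q ^ 3 - 1) = 1 := by
      rcases hq with rfl | rfl <;> norm_num
    rw [h5, Nat.dvd_one, orderOf_eq_one_iff] at h4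
    exact congrArg Subtype.val h4
  -- unitarity
  have hGU : c ∈ GU 3 F q := by
    rw [mem_GU_iff_dag hF hqp, ← hdv, ← Units.val_mul, ← hcd, hs1, Units.val_one]
  -- determinant
  have hdet : c ∈ specialLinear (Fin 3) F := by
    unfold specialLinear
    rw [MonoidHom.mem_ker]
    set δ : Fˣ := Matrix.GeneralLinearGroup.det c with hδ
    have h1 : orderOf δ ∣ 7 := by
      apply orderOf_dvd_of_pow_eq_one
      rw [hδ, ← map_pow, hc7', map_one]
    have h3 : orderOf δ ∣ q ^ 2 - 1 := by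
      have := orderOf_dvd_natCard δ
      rwa [Nat.card_units, Nat.card_eq_fintype_card, hF] at this
    have h4 : orderOf δ ∣ Nat.gcd 7 (q ^ 2 - 1) := Nat.dvd_gcd h1 h3
    have h5 : Nat.gcd 7 (q ^ 2 - 1) = 1 := by
      rcases hq with rfl | rfl <;> norm_num
    rw [h5, Nat.dvd_one, orderOf_eq_one_iff] at h4
    exact h4
  exact ⟨c, hcK', hc7, hGU, hdet⟩

end Cfsg.Agent.Lib.Helper51.SU3F
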