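import Mathlib
import Cfsg.Agent.Lib.Helper51.SU3Inv3
set_option autoImplicit false
set_option linter.unusedSectionVars false
set_option linter.unusedVariables false

/-! Commuting involutions of `SU_3(q)`, `q` odd. -/

namespace Cfsg.Agent.Lib.Helper51.SU3

open Matrix Cfsg.Agent.Lib.Helper08 Cfsg.Agent.Lib.Helper51

section
variable {F : Type*} [Field F] [Fintype F] {q : ℕ}

local notation "hh" => hform (Fin 3) F q

theorem orthG (hF : Fintype.card F = q ^ 2) (hq : Odd q) (a b : ↥(Cfsg.SU 3 F q))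
    (v w : Fin 3 → F) (hv : hh v v = 1) (hw : hh w w = 1) (ha : smat a = tau q v)
    (hb : smat b = tau q w) (hc : Commute a b) (hne : a ≠ b) : hh v w = 0 := by
  apply orth_of_commute hF hq v w hv hw
  · rw [← ha, ← hb, ← smat_mul, ← smat_mul, hc.eq]
  · intro h
    apply hne
    apply smat_injective
    rw [ha, hb, h]

theorem hform_zero_symm (hF : Fintype.card F = q ^ 2) (v w : Fin 3 → F) (h : hh v w = 0) :
    hh w v = 0 := by
  rw [← hform_conj hF v w, h, zero_pow (q_ne_zero' hF)]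

/-- a third involution commuting with two distinct commuting involutions is their product -/
theorem third_eq (hF : Fintype.card F = q ^ 2) (hq : Odd q) (t x y : ↥(Cfsg.SU 3 F q))
    (ht1 : t ≠ 1) (ht2 : t * t = 1) (hx1 : x ≠ 1) (hx2 : x * x = 1) (hy1 : y ≠ 1)
    (hy2 : y * y = 1) (hxt : x ≠ t) (hyt : y ≠ t) (hyx : y ≠ x) (hc : Commute t x)
    (hty : Commute t y) (hxy : Commute x y) : y = t * x := by
  by_contra hne
  obtain ⟨v, hv, htv⟩ := exists_vec hF hq t ht1 ht2
  obtain ⟨w, hw, hxw⟩ := exists_vec hF hq x hx1 hx2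
  obtain ⟨u, hu, hyu⟩ := exists_vec hF hq y hy1 hy2
  have hvw : hh v w = 0 := orthG hF hq t x v w hv hw htv hxw hc (Ne.symm hxt)
  have hvu : hh v u = 0 := orthG hF hq t y v u hv hu htv hyu hty (Ne.symm hyt)
  have hwu : hh w u = 0 := orthG hF hq x y w u hw hu hxw hyu hxy (Ne.symm hyx)
  have hwv : hh w v = 0 := hform_zero_symm hF v w hvw
  have htinv : t⁻¹ = t := inv_eq_of_mul_eq_one_right ht2
  have hxinv : x⁻¹ = x := inv_eq_of_mul_eq_one_right hx2
  have hz1 : t * x * y ≠ 1 := by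
    intro h
    apply hne
    have h1 : y = (t * x)⁻¹ := eq_inv_of_mul_eq_one_right h
    rw [h1, _root_.mul_inv_rev, htinv, hxinv, hc.eq]
  have hz2 : t * x * y * (t * x * y) = 1 := by
    have h1 : Commute (x * y) t := (hc.mul_right hty).symm
    rw [mul_assoc t x y, h1.mul_mul_mul_comm, ht2, one_mul, hxy.symm.mul_mul_mul_comm, hx2, hy2,
      one_mul]
  obtain ⟨a, ha, hza⟩ := exists_vec hF hq (t * x * y) hz1 hz2
  rw [smat_mul, smat_mul, htv, hxw, hyu] at hza
  have hfv : tau q a *ᵥ v = v := by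
    rw [← hza, ← Matrix.mulVec_mulVec, ← Matrix.mulVec_mulVec, tau_neg u v hvu, Matrix.mulVec_neg,
      tau_neg w v hvw, neg_neg, tau_fix v hv]
  have hfw : tau q a *ᵥ w = w := by
    rw [← hza, ← Matrix.mulVec_mulVec, ← Matrix.mulVec_mulVec, tau_neg u w hwu, Matrix.mulVec_neg,
      tau_fix w hw, Matrix.mulVec_neg, tau_neg v w hwv, neg_neg]
  have hv' := tau_fixed hF hq a v hfv
  have hw' := tau_fixed hF hq a w hfw
  have hva : hh v a ≠ 0 := by
    intro h
    rw [h, zero_smul] at hv'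
    exact norm_one_ne_zero v hv hv'
  have hwa : hh w a ≠ 0 := by
    intro h
    rw [h, zero_smul] at hw'
    exact norm_one_ne_zero w hw hw'
  have h3 : hh (hh v a • a) (hh w a • a) = 0 := by
    rw [← hv', ← hw']
    exact hvw
  rw [hform_smul_left, hform_smul_right, ha, mul_one] at h3
  rcases mul_eq_zero.mp h3 with h4 | h4
  · exact hva h4
  · exact hwa (pow_eq_zero_iff (q_ne_zero' hF) |>.mp h4)

theorem third_unique (hF : Fintype.card F = q ^ 2) (hq : Odd q) (t x : ↥(Cfsg.SU 3 F q))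
    (ht1 : t ≠ 1) (ht2 : t * t = 1) (hx1 : x ≠ 1) (hx2 : x * x = 1) (hxt : x ≠ t)
    (hc : Commute t x) :
    Nat.card {y : ↥(Cfsg.SU 3 F q) // y ≠ 1 ∧ y * y = 1 ∧ y ≠ t ∧ y ≠ x ∧ Commute t y ∧
      Commute x y} = 1 := by
  rw [Nat.card_eq_one_iff_unique]
  constructor
  · constructor
    rintro ⟨y, hy1, hy2, hyt, hyx, hty, hxy⟩ ⟨y', hy1', hy2', hyt', hyx', hty', hxy'⟩
    apply Subtype.ext
    show y = y'
    rw [third_eq hF hq t x y ht1 ht2 hx1 hx2 hy1 hy2 hxt hyt hyx hc hty hxy,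
      third_eq hF hq t x y' ht1 ht2 hx1 hx2 hy1' hy2' hxt hyt' hyx' hc hty' hxy']
  · have htinv : t⁻¹ = t := inv_eq_of_mul_eq_one_right ht2
    refine ⟨⟨t * x, ?_, ?_, ?_, ?_, ?_, ?_⟩⟩
    · intro h
      apply hxt
      have h1 : x = t⁻¹ := eq_inv_of_mul_eq_one_right h
      rw [h1, htinv]
    · rw [hc.symm.mul_mul_mul_comm, ht2, hx2, one_mul]
    · intro h
      apply hx1
      have := congrArg (fun z => t⁻¹ * z) h
      simp only [inv_mul_cancel_left, inv_mul_cancel] at this
      exact this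
    · intro h
      apply ht1
      have := congrArg (fun z => z * x⁻¹) h
      simp only [mul_inv_cancel_right, mul_inv_cancel] at this
      exact this
    · exact (Commute.refl t).mul_right hc
    · exact hc.symm.mul_right (Commute.refl x)

end

end Cfsg.Agent.Lib.Helper51.SU3
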