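import Mathlib
import Cfsg.Agent.Lib.Helper51.SU3Inv4
set_option autoImplicit false
set_option linter.unusedSectionVars false
set_option linter.unusedVariables false

/-! Coordinates for the commuting involution graph of `SU_3(q)`. -/

namespace Cfsg.Agent.Lib.Helper51.SU3

open Matrix Cfsg.Agent.Lib.Helper08 Cfsg.Agent.Lib.Helper51

section
variable {F : Type*} [Field F] [Fintype F] {q : ℕ}

local notation "hh" => hform (Fin 3) F q
local notation "h2" => hform (Fin 2) F q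

theorem h2_eq (x y : Fin 2 → F) : h2 x y = x 0 * y 0 ^ q + x 1 * y 1 ^ q := by
  unfold hform
  rw [Fin.sum_univ_two]

theorem hh_cons (a b : F) (x y : Fin 2 → F) :
    hh (Fin.cons a x : Fin 3 → F) (Fin.cons b y : Fin 3 → F) = a * b ^ q + h2 x y := by
  unfold hform
  rw [Fin.sum_univ_succ]
  simp only [Fin.cons_zero, Fin.cons_succ]

theorem cons_tail (w : Fin 3 → F) : (Fin.cons (w 0) (Fin.tail w) : Fin 3 → F) = w :=
  Fin.cons_self_tail w

/-- the first basis vector -/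
def e0 : Fin 3 → F := Fin.cons 1 0

theorem e0_norm (hF : Fintype.card F = q ^ 2) : hh (e0 : Fin 3 → F) e0 = 1 := by
  unfold e0
  rw [hh_cons, one_pow, mul_one, hform_zero_left, add_zero]

theorem hh_e0_cons (a : F) (x : Fin 2 → F) : hh (e0 : Fin 3 → F) (Fin.cons a x : Fin 3 → F) = a ^ q := by
  unfold e0
  rw [hh_cons, one_mul, hform_zero_left, add_zero]

theorem smul_cons (l a : F) (x : Fin 2 → F) :
    l • (Fin.cons a x : Fin 3 → F) = (Fin.cons (l * a) (l • x) : Fin 3 → F) := by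
  ext i
  refine Fin.cases ?_ (fun j => ?_) i
  · simp
  · simp

/-- a norm one vector orthogonal to a non-isotropic vector of the plane -/
theorem exists_perp2 (hF : Fintype.card F = q ^ 2) (x : Fin 2 → F) (hx : h2 x x ≠ 0) :
    ∃ y, h2 y y = 1 ∧ h2 y x = 0 := by
  obtain ⟨p, hp⟩ : ∃ p : Fin 2 → F, p = ![x 1 ^ q, -(x 0 ^ q)] := ⟨_, rfl⟩
  have hp0 : p 0 = x 1 ^ q := by rw [hp]; rfl
  have hp1 : p 1 = -(x 0 ^ q) := by rw [hp]; rfl
  have hpx : h2 p x = 0 := by
    rw [h2_eq, hp0, hp1]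
    ring
  have hpp : h2 p p = h2 x x := by
    rw [h2_eq, h2_eq, hp0, hp1, neg_pow_q hF, pow_q_pow_q' hF, pow_q_pow_q' hF]
    ring
  have hηq : (h2 x x) ^ q = h2 x x := hform_self_pow hF x
  obtain ⟨l, hl⟩ := exists_nm_eq hF (h2 x x)⁻¹ (by rw [inv_pow, hηq])
  refine ⟨l • p, ?_, ?_⟩
  · rw [hform_smul_left, hform_smul_right, hpp, ← mul_assoc, hl, inv_mul_cancel₀ hx]
  · rw [hform_smul_left, hpx, mul_zero]

/-- a nonzero isotropic vector of the plane has no norm one vector orthogonal to it -/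
theorem no_perp2 (hF : Fintype.card F = q ^ 2) (x y : Fin 2 → F) (hx0 : x ≠ 0)
    (hxx : h2 x x = 0) (hy : h2 y y = 1) (hyx : h2 y x = 0) : False := by
  have hq0 := q_ne_zero' hF
  rw [h2_eq] at hxx hy hyx
  have hyx' : y 0 ^ q * x 0 + y 1 ^ q * x 1 = 0 := by
    have := congrArg (fun z => z ^ q) hyx
    simp only [add_pow_q' hF, mul_pow, pow_q_pow_q' hF, zero_pow hq0] at this
    exact this
  have hdet : (y 0 * x 1 - y 1 * x 0) * (y 0 * x 1 - y 1 * x 0) ^ q = 0 := by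
    rw [sub_pow_q hF, mul_pow, mul_pow]
    linear_combination (y 0 * y 0 ^ q + y 1 * y 1 ^ q) * hxx - (y 0 * x 0 ^ q + y 1 * x 1 ^ q) * hyx'
  have hd : y 0 * x 1 - y 1 * x 0 = 0 := by
    rcases mul_eq_zero.mp hdet with h | h
    · exact h
    · exact pow_eq_zero_iff hq0 |>.mp h
  have hx01 : x 0 ≠ 0 ∨ x 1 ≠ 0 := by
    by_contra hcon
    push Not at hcon
    apply hx0
    ext i
    fin_cases i
    · exact hcon.1
    · exact hcon.2
  have hc : ∃ c : F, y 0 = c * x 0 ∧ y 1 = c * x 1 := by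
    rcases hx01 with h0 | h1
    · refine ⟨y 0 / x 0, by field_simp, ?_⟩
      field_simp
      linear_combination -hd
    · refine ⟨y 1 / x 1, ?_, by field_simp⟩
      field_simp
      linear_combination hd
  obtain ⟨c, hc0, hc1⟩ := hc
  rw [hc0, hc1, mul_pow, mul_pow] at hy
  have h3 : c * x 0 * (c ^ q * x 0 ^ q) + c * x 1 * (c ^ q * x 1 ^ q) =
      c * c ^ q * (x 0 * x 0 ^ q + x 1 * x 1 ^ q) := by ring
  rw [h3, hxx, mul_zero] at hy
  exact zero_ne_one hy

end

end Cfsg.Agent.Lib.Helper51.SU3
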