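import Mathlib
import Cfsg.Agent.Lib.Helper51.SU3Graph1
set_option autoImplicit false
set_option linter.unusedSectionVars false
set_option linter.unusedVariables false

/-! The commuting relation on involutions of `SU_3(q)` in terms of vectors. -/

namespace Cfsg.Agent.Lib.Helper51.SU3

open Matrix Cfsg.Agent.Lib.Helper08 Cfsg.Agent.Lib.Helper51

section
variable {F : Type*} [Field F] [Fintype F] {q : ℕ}

local notation "hh" => hform (Fin 3) F q

/-- the relation on norm one vectors corresponding to commuting involutions -/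
def RR (q : ℕ) (a b : Fin 3 → F) : Prop := hform (Fin 3) F q a b = 0 ∨ ∃ l : F, b = l • a

theorem norm_of_smul (a b : Fin 3 → F) (ha : hh a a = 1) (hb : hh b b = 1) (l : F)
    (h : b = l • a) : l * l ^ q = 1 := by
  rw [h, hform_smul_left, hform_smul_right, ha, mul_one] at hb
  exact hb

theorem tau_eq_of_smul (a b : Fin 3 → F) (ha : hh a a = 1) (hb : hh b b = 1) (l : F)
    (h : b = l • a) : tau q b = tau q a := by
  rw [h]
  exact tau_smul a l (norm_of_smul a b ha hb l h)

theorem tau_comm_of_orth (hF : Fintype.card F = q ^ 2) (a b : Fin 3 → F) (hab : hh a b = 0) :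
    tau q a * tau q b = tau q b * tau q a := by
  have hba : hh b a = 0 := hform_zero_symm hF a b hab
  apply mat_ext_mulVec
  intro z
  rw [← Matrix.mulVec_mulVec, ← Matrix.mulVec_mulVec, tau_mulVec, tau_mulVec, tau_mulVec,
    tau_mulVec]
  simp only [hform_add_left, hform_neg_left, hform_smul_left, hab, hba, mul_zero, add_zero]
  ext i
  simp only [Pi.add_apply, Pi.neg_apply, Pi.smul_apply, smul_eq_mul]
  ring

theorem commute_iff (hF : Fintype.card F = q ^ 2) (hq : Odd q) (x y : ↥(Cfsg.SU 3 F q))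
    (a b : Fin 3 → F) (ha : hh a a = 1) (hb : hh b b = 1) (hx : smat x = tau q a)
    (hy : smat y = tau q b) : Commute x y ↔ RR q a b := by
  constructor
  · intro hc
    by_cases hxy : x = y
    · right
      have h1 : tau q a = tau q b := by rw [← hx, ← hy, hxy]
      obtain ⟨l, -, hl⟩ := (tau_eq_iff hF hq a b ha hb).mp h1
      exact ⟨l, hl⟩
    · left
      exact orthG hF hq x y a b ha hb hx hy hc hxy
  · rintro (h | ⟨l, hl⟩)
    · have : x * y = y * x := by
        apply smat_injective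
        rw [smat_mul, smat_mul, hx, hy, tau_comm_of_orth hF a b h]
      exact this
    · have hyx : y = x := by
        apply smat_injective
        rw [hx, hy, tau_eq_of_smul a b ha hb l hl]
      rw [hyx]

theorem RR_map (hF : Fintype.card F = q ^ 2) (M : Matrix (Fin 3) (Fin 3) F) (hM : IsIsoMat q M)
    (a b : Fin 3 → F) : RR q (M *ᵥ a) (M *ᵥ b) ↔ RR q a b := by
  have hinj : Function.Injective (fun x => M *ᵥ x) :=
    Matrix.mulVec_injective_iff_isUnit.mpr (hM.isUnit hF)
  unfold RR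
  rw [hM a b]
  constructor
  · rintro (h | ⟨l, hl⟩)
    · exact Or.inl h
    · right
      refine ⟨l, ?_⟩
      apply hinj
      show M *ᵥ b = M *ᵥ (l • a)
      rw [Matrix.mulVec_smul, hl]
  · rintro (h | ⟨l, hl⟩)
    · exact Or.inl h
    · right
      exact ⟨l, by rw [hl, Matrix.mulVec_smul]⟩

/-- the bijection of the space given by an isometry -/
noncomputable def isoEquiv (hF : Fintype.card F = q ^ 2) (M : Matrix (Fin 3) (Fin 3) F)
    (hM : IsIsoMat q M) : (Fin 3 → F) ≃ (Fin 3 → F) :=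
  Equiv.ofBijective (fun x => M *ᵥ x) (by
    have hu := hM.isUnit hF
    constructor
    · exact Matrix.mulVec_injective_iff_isUnit.mpr hu
    · exact Matrix.mulVec_surjective_iff_isUnit.mpr hu)

theorem isoEquiv_apply (hF : Fintype.card F = q ^ 2) (M : Matrix (Fin 3) (Fin 3) F)
    (hM : IsIsoMat q M) (x : Fin 3 → F) : isoEquiv hF M hM x = M *ᵥ x := rfl

theorem card_transfer (hF : Fintype.card F = q ^ 2) (M : Matrix (Fin 3) (Fin 3) F)
    (hM : IsIsoMat q M) (P P' : (Fin 3 → F) → Prop) (h : ∀ w, P' (M *ᵥ w) ↔ P w) :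
    Nat.card {w // P' w} = Nat.card {w // P w} := by
  symm
  exact Nat.card_congr (Equiv.subtypeEquiv (isoEquiv hF M hM) (fun w => (h w).symm))

theorem exists_preimage (hF : Fintype.card F = q ^ 2) (M : Matrix (Fin 3) (Fin 3) F)
    (hM : IsIsoMat q M) (u : Fin 3 → F) : ∃ u', M *ᵥ u' = u :=
  Matrix.mulVec_surjective_iff_isUnit.mpr (hM.isUnit hF) u

/-- counting involutions with a property through norm one vectors -/
theorem card_pred (hF : Fintype.card F = q ^ 2) (hq : Odd q) (P : ↥(Cfsg.SU 3 F q) → Prop) :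
    Nat.card {w : {v : Fin 3 → F // hh v v = 1} // P (tauG hF w.1 w.2)} =
      Nat.card {x : ↥(Cfsg.SU 3 F q) // (x ≠ 1 ∧ x * x = 1) ∧ P x} * (q + 1) := by
  let φ : {w : {v : Fin 3 → F // hh v v = 1} // P (tauG hF w.1 w.2)} →
      {x : ↥(Cfsg.SU 3 F q) // (x ≠ 1 ∧ x * x = 1) ∧ P x} := fun w =>
    ⟨tauG hF w.1.1 w.1.2, ⟨tauG_ne_one hF hq w.1.1 w.1.2, tauG_sq hF w.1.1 w.1.2⟩, w.2⟩
  apply card_fibers φ
  intro b
  obtain ⟨v0, hv0, hb⟩ := exists_vec hF hq b.1 b.2.1.1 b.2.1.2
  rw [← card_norm_one_scalars hF]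
  symm
  have hnorm : ∀ l : {l : F // l ^ (q + 1) = 1}, hh (l.1 • v0) (l.1 • v0) = 1 := by
    intro l
    rw [hform_smul_left, hform_smul_right, hv0, mul_one, ← pow_succ']
    exact l.2
  have hll : ∀ l : {l : F // l ^ (q + 1) = 1}, l.1 * l.1 ^ q = 1 := by
    intro l
    rw [← pow_succ']
    exact l.2
  have heq : ∀ l : {l : F // l ^ (q + 1) = 1}, tauG hF (l.1 • v0) (hnorm l) = b.1 := by
    intro l
    apply smat_injective
    show tau q (l.1 • v0) = smat b.1
    rw [hb, tau_smul v0 l.1 (hll l)]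
  let ψ : {l : F // l ^ (q + 1) = 1} →
      {a : {w : {v : Fin 3 → F // hh v v = 1} // P (tauG hF w.1 w.2)} // φ a = b} :=
    fun l => ⟨⟨⟨l.1 • v0, hnorm l⟩, by rw [heq l]; exact b.2.2⟩, Subtype.ext (heq l)⟩
  apply Nat.card_eq_of_bijective ψ
  constructor
  · intro l l' h
    have h1 : l.1 • v0 = l'.1 • v0 := congrArg (fun a => a.1.1.1) h
    exact Subtype.ext (smul_left_injective F (norm_one_ne_zero v0 hv0) h1)
  · rintro ⟨⟨⟨a, ha⟩, haP⟩, hab⟩
    have h1 : tau q a = tau q v0 := by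
      rw [← hb, ← hab]
      rfl
    obtain ⟨l, hl, hal⟩ := (tau_eq_iff hF hq v0 a hv0 ha).mp h1.symm
    refine ⟨⟨l, by rw [pow_succ']; exact hl⟩, ?_⟩
    apply Subtype.ext
    apply Subtype.ext
    apply Subtype.ext
    exact hal.symm

theorem card_split {α : Type*} [Finite α] (A B : α → Prop) :
    Nat.card {x // A x} = Nat.card {x // A x ∧ B x} + Nat.card {x // A x ∧ ¬ B x} := by
  classical
  rw [← Nat.card_sum]
  apply Nat.card_congr
  exact (Equiv.sumCompl (fun x : {x // A x} => B x.1)).symm.trans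
    (Equiv.sumCongr (Equiv.subtypeSubtypeEquivSubtypeInter A B)
      (Equiv.subtypeSubtypeEquivSubtypeInter A (fun x => ¬ B x)))

end

end Cfsg.Agent.Lib.Helper51.SU3
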