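import Mathlib
import Cfsg.Agent.Lib.Helper51.SU3Graph2
import Cfsg.Agent.S0285
set_option autoImplicit false
set_option linter.unusedSectionVars false
set_option linter.unusedVariables false

/-! Paths of length two and three between involutions of `SU_3(q)`, in coordinates. -/

namespace Cfsg.Agent.Lib.Helper51.SU3

open Matrix Cfsg.Agent.Lib.Helper08 Cfsg.Agent.Lib.Helper51

section
variable {F : Type*} [Field F] [Fintype F] {q : ℕ}

local notation "hh" => hform (Fin 3) F q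
local notation "h2" => hform (Fin 2) F q

/-- two steps -/
def QQ (q : ℕ) (v w : Fin 3 → F) : Prop :=
  ∃ u : Fin 3 → F, hform (Fin 3) F q u u = 1 ∧ RR q v u ∧ RR q u w

/-- three steps -/
def Q3 (q : ℕ) (v w : Fin 3 → F) : Prop :=
  ∃ u1 u2 : Fin 3 → F, hform (Fin 3) F q u1 u1 = 1 ∧ hform (Fin 3) F q u2 u2 = 1 ∧
    RR q v u1 ∧ RR q u1 u2 ∧ RR q u2 w

theorem RR_self (a : Fin 3 → F) : RR q a a := Or.inr ⟨1, (one_smul _ _).symm⟩

theorem QQ_map (hF : Fintype.card F = q ^ 2) (M : Matrix (Fin 3) (Fin 3) F) (hM : IsIsoMat q M)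
    (v w : Fin 3 → F) : QQ q (M *ᵥ v) (M *ᵥ w) ↔ QQ q v w := by
  constructor
  · rintro ⟨u, hu, h1, hb⟩
    obtain ⟨u', rfl⟩ := exists_preimage hF M hM u
    exact ⟨u', by rw [← hM u' u']; exact hu, (RR_map hF M hM v u').mp h1,
      (RR_map hF M hM u' w).mp hb⟩
  · rintro ⟨u, hu, h1, hb⟩
    exact ⟨M *ᵥ u, by rw [hM u u]; exact hu, (RR_map hF M hM v u).mpr h1,
      (RR_map hF M hM u w).mpr hb⟩

theorem Q3_map (hF : Fintype.card F = q ^ 2) (M : Matrix (Fin 3) (Fin 3) F) (hM : IsIsoMat q M)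
    (v w : Fin 3 → F) (h : Q3 q v w) : Q3 q (M *ᵥ v) (M *ᵥ w) := by
  obtain ⟨u1, u2, hu1, hu2, h1, hb, h3⟩ := h
  exact ⟨M *ᵥ u1, M *ᵥ u2, by rw [hM u1 u1]; exact hu1, by rw [hM u2 u2]; exact hu2,
    (RR_map hF M hM v u1).mpr h1, (RR_map hF M hM u1 u2).mpr hb, (RR_map hF M hM u2 w).mpr h3⟩

theorem QQ_iff_of_not_RR (hF : Fintype.card F = q ^ 2) (v w : Fin 3 → F)
    (hnr : ¬ RR q v w) :
    QQ q v w ↔ ∃ u, hh u u = 1 ∧ hh v u = 0 ∧ hh u w = 0 := by
  constructor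
  · rintro ⟨u, hu, h1, hb⟩
    rcases h1 with h1 | ⟨l, hl⟩
    · rcases hb with hb | ⟨m, hm⟩
      · exact ⟨u, hu, h1, hb⟩
      · exfalso
        apply hnr
        left
        rw [hm, hform_smul_right, h1, mul_zero]
    · exfalso
      apply hnr
      rcases hb with hb | ⟨m, hm⟩
      · left
        rw [hl, hform_smul_left] at hb
        have hl0 : l ≠ 0 := by
          rintro rfl
          rw [zero_smul] at hl
          rw [hl, hform_zero_left] at hu
          exact zero_ne_one hu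
        exact (mul_eq_zero.mp hb).resolve_left hl0
      · right
        exact ⟨m * l, by rw [hm, hl, smul_smul]⟩
  · rintro ⟨u, hu, h1, hb⟩
    exact ⟨u, hu, Or.inl h1, Or.inl hb⟩

/-! ### coordinates at the first basis vector -/

theorem RR_e0_cons (hF : Fintype.card F = q ^ 2) (a : F) (x : Fin 2 → F) :
    RR q (e0 : Fin 3 → F) (Fin.cons a x : Fin 3 → F) ↔ a = 0 ∨ x = 0 := by
  have hq0 := q_ne_zero' hF
  unfold RR
  rw [hh_e0_cons]
  constructor
  · rintro (h | ⟨l, hl⟩)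
    · left
      exact (pow_eq_zero_iff hq0).mp h
    · right
      unfold e0 at hl
      rw [smul_cons] at hl
      have := congrArg Fin.tail hl
      rw [Fin.tail_cons, Fin.tail_cons, smul_zero] at this
      exact this
  · rintro (h | h)
    · left
      rw [h, zero_pow hq0]
    · right
      refine ⟨a, ?_⟩
      unfold e0
      rw [smul_cons, h, mul_one, smul_zero]

theorem QQ_e0_cons (hF : Fintype.card F = q ^ 2) (a : F) (x : Fin 2 → F) (ha : a ≠ 0)
    (hx : x ≠ 0) :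
    QQ q (e0 : Fin 3 → F) (Fin.cons a x : Fin 3 → F) ↔ h2 x x ≠ 0 := by
  have hq0 := q_ne_zero' hF
  have hnr : ¬ RR q (e0 : Fin 3 → F) (Fin.cons a x : Fin 3 → F) := by
    rw [RR_e0_cons hF]
    push Not
    exact ⟨ha, hx⟩
  rw [QQ_iff_of_not_RR hF _ _ hnr]
  constructor
  · rintro ⟨u, hu, h1, h3⟩ hxx
    rw [← cons_tail u] at hu h1 h3
    rw [hh_e0_cons] at h1
    have hu0 : u 0 = 0 := (pow_eq_zero_iff hq0).mp h1
    rw [hh_cons, hu0] at hu h3
    rw [zero_mul, zero_add] at hu h3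
    exact no_perp2 hF x (Fin.tail u) hx hxx hu h3
  · intro hxx
    obtain ⟨y, hy, hyx⟩ := exists_perp2 hF x hxx
    refine ⟨Fin.cons 0 y, ?_, ?_, ?_⟩
    · rw [hh_cons, zero_mul, zero_add, hy]
    · rw [hh_e0_cons, zero_pow hq0]
    · rw [hh_cons, zero_mul, zero_add, hyx]

/-- the vectors orthogonal to the first basis vector, of norm one -/
theorem card_A1 (hF : Fintype.card F = q ^ 2) :
    Nat.card {w : Fin 3 → F // hh w w = 1 ∧ hh (e0 : Fin 3 → F) w = 0} = q * (q ^ 2 - 1) := by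
  have hq0 := q_ne_zero' hF
  have h := Cfsg.Agent.S0284.result hF 2
  rw [if_pos (by decide)] at h
  have h' : Nat.card {x : Fin 2 → F // h2 x x = 1} = q * (q ^ 2 - 1) := by
    have : q ^ (2 - 1) = q := pow_one q
    rw [this] at h
    exact h
  rw [← h']
  symm
  let f : {x : Fin 2 → F // h2 x x = 1} →
      {w : Fin 3 → F // hh w w = 1 ∧ hh (e0 : Fin 3 → F) w = 0} := fun x =>
    ⟨Fin.cons 0 x.1, by rw [hh_cons, zero_mul, zero_add]; exact x.2,
      by rw [hh_e0_cons, zero_pow hq0]⟩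
  apply Nat.card_eq_of_bijective f
  constructor
  · intro x y hxy
    have h1 : (Fin.cons 0 x.1 : Fin 3 → F) = Fin.cons 0 y.1 := congrArg Subtype.val hxy
    have h2' := congrArg Fin.tail h1
    rw [Fin.tail_cons, Fin.tail_cons] at h2'
    exact Subtype.ext h2'
  · rintro ⟨w, hw1, hw2⟩
    rw [← cons_tail w] at hw1 hw2
    rw [hh_e0_cons] at hw2
    have hw0 : w 0 = 0 := (pow_eq_zero_iff hq0).mp hw2
    rw [hh_cons, hw0, zero_mul, zero_add] at hw1
    refine ⟨⟨Fin.tail w, hw1⟩, ?_⟩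
    apply Subtype.ext
    show (Fin.cons 0 (Fin.tail w) : Fin 3 → F) = w
    rw [← hw0]
    exact cons_tail w

theorem card_iso2 (hF : Fintype.card F = q ^ 2) :
    Nat.card {x : Fin 2 → F // h2 x x = 0 ∧ x ≠ 0} = (q ^ 2 - 1) * (q + 1) := by
  have h := Cfsg.Agent.S0285.result hF 2
  rw [if_pos (by decide)] at h
  have h' : Nat.card {x : Fin 2 → F // h2 x x = 0} = (q ^ 2 - 1) * (q + 1) + 1 := by
    have : q ^ (2 - 1) = q := pow_one q
    rw [this] at h
    exact h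
  rw [card_split (fun x : Fin 2 → F => h2 x x = 0) (fun x => x ≠ 0)] at h'
  have h1 : Nat.card {x : Fin 2 → F // h2 x x = 0 ∧ ¬ x ≠ 0} = 1 := by
    rw [Nat.card_eq_one_iff_unique]
    constructor
    · constructor
      rintro ⟨a, ha1, ha2⟩ ⟨b, hb1, hb2⟩
      push Not at ha2 hb2
      apply Subtype.ext
      show a = b
      rw [ha2, hb2]
    · exact ⟨⟨0, hform_zero_left 0, fun h => h rfl⟩⟩
  rw [h1] at h'
  exact Nat.add_right_cancel h'

/-- the vectors at distance three from the first basis vector -/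
theorem card_A3 (hF : Fintype.card F = q ^ 2) :
    Nat.card {w : Fin 3 → F // hh w w = 1 ∧ ¬ RR q (e0 : Fin 3 → F) w ∧ ¬ QQ q (e0 : Fin 3 → F) w} =
      (q + 1) * ((q ^ 2 - 1) * (q + 1)) := by
  have hq0 := q_ne_zero' hF
  rw [← card_iso2 hF, ← card_norm_one_scalars hF, ← Nat.card_prod]
  symm
  have hl0 : ∀ l : {l : F // l ^ (q + 1) = 1}, l.1 ≠ 0 := by
    intro l hl
    have := l.2
    rw [hl, zero_pow (Nat.succ_ne_zero q)] at this
    exact zero_ne_one this
  let f : {l : F // l ^ (q + 1) = 1} × {x : Fin 2 → F // h2 x x = 0 ∧ x ≠ 0} →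
      {w : Fin 3 → F // hh w w = 1 ∧ ¬ RR q (e0 : Fin 3 → F) w ∧ ¬ QQ q (e0 : Fin 3 → F) w} :=
    fun p => ⟨Fin.cons p.1.1 p.2.1, by
      rw [hh_cons, p.2.2.1, add_zero, ← pow_succ']
      exact p.1.2, by
      rw [RR_e0_cons hF]
      push Not
      exact ⟨hl0 p.1, p.2.2.2⟩, by
      rw [QQ_e0_cons hF _ _ (hl0 p.1) p.2.2.2]
      push Not
      exact p.2.2.1⟩
  apply Nat.card_eq_of_bijective f
  constructor
  · rintro ⟨l, x⟩ ⟨l', x'⟩ hxy
    have h1 : (Fin.cons l.1 x.1 : Fin 3 → F) = Fin.cons l'.1 x'.1 := congrArg Subtype.val hxy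
    have h2' := congrArg Fin.tail h1
    rw [Fin.tail_cons, Fin.tail_cons] at h2'
    have h3 := congrFun h1 0
    rw [Fin.cons_zero, Fin.cons_zero] at h3
    exact Prod.ext (Subtype.ext h3) (Subtype.ext h2')
  · rintro ⟨w, hw1, hw2, hw3⟩
    rw [← cons_tail w] at hw1 hw2 hw3
    rw [RR_e0_cons hF] at hw2
    push Not at hw2
    rw [QQ_e0_cons hF _ _ hw2.1 hw2.2] at hw3
    push Not at hw3
    rw [hh_cons, hw3, add_zero, ← pow_succ'] at hw1
    refine ⟨⟨⟨w 0, hw1⟩, ⟨Fin.tail w, hw3, hw2.2⟩⟩, ?_⟩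
    apply Subtype.ext
    exact cons_tail w

end

end Cfsg.Agent.Lib.Helper51.SU3
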