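import Mathlib
import Cfsg.Agent.Lib.Helper51.SU3Graph3
set_option autoImplicit false
set_option linter.unusedSectionVars false
set_option linter.unusedVariables false

/-! The commuting involution graph of `SU_3(q)`, `q` odd: group level statements. -/

namespace Cfsg.Agent.Lib.Helper51.SU3

open Matrix Cfsg.Agent.Lib.Helper08 Cfsg.Agent.Lib.Helper51

section
variable {F : Type*} [Field F] [Fintype F] {q : ℕ}

local notation "hh" => hform (Fin 3) F q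
local notation "h2" => hform (Fin 2) F q

theorem exists_y0 (hF : Fintype.card F = q ^ 2) (hq : Odd q) (x : Fin 2 → F)
    (hxx : h2 x x = 0) :
    ∃ y0 : Fin 2 → F, h2 y0 y0 = 1 ∧ 1 + h2 y0 x * (h2 y0 x) ^ q ≠ 0 := by
  have hq0 := q_ne_zero' hF
  have h2ne : (2 : F) ≠ 0 := two_ne_zero_of_odd hF hq
  rw [h2_eq] at hxx
  by_cases h0 : 1 + x 0 * x 0 ^ q = 0
  · refine ⟨![0, 1], ?_, ?_⟩
    · rw [h2_eq]
      simp [zero_pow hq0]
    · rw [h2_eq]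
      have e0' : (![0, 1] : Fin 2 → F) 0 = 0 := rfl
      have e1' : (![0, 1] : Fin 2 → F) 1 = 1 := rfl
      rw [e0', e1', zero_mul, zero_add, one_mul, pow_q_pow_q' hF]
      intro hcon
      apply h2ne
      linear_combination hcon + h0 - hxx
  · refine ⟨![1, 0], ?_, ?_⟩
    · rw [h2_eq]
      simp [zero_pow hq0]
    · rw [h2_eq]
      have e0' : (![1, 0] : Fin 2 → F) 0 = 1 := rfl
      have e1' : (![1, 0] : Fin 2 → F) 1 = 0 := rfl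
      rw [e0', e1', zero_mul, add_zero, one_mul, pow_q_pow_q' hF]
      intro hcon
      apply h0
      linear_combination hcon

theorem exists_y (hF : Fintype.card F = q ^ 2) (hq : Odd q) (x : Fin 2 → F)
    (hxx : h2 x x = 0) :
    ∃ y : Fin 2 → F, h2 y y ≠ 0 ∧ h2 y y + h2 y x * (h2 y x) ^ q = 1 := by
  obtain ⟨y0, hy0, hη⟩ := exists_y0 hF hq x hxx
  obtain ⟨s, hs⟩ : ∃ s, s = h2 y0 x := ⟨_, rfl⟩
  rw [← hs] at hη
  have hηq : ((1 + s * s ^ q)⁻¹) ^ q = (1 + s * s ^ q)⁻¹ := by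
    rw [inv_pow, add_pow_q' hF, one_pow, mul_pow, pow_q_pow_q' hF, mul_comm (s ^ q) s]
  obtain ⟨c, hc⟩ := exists_nm_eq hF _ hηq
  refine ⟨c • y0, ?_, ?_⟩
  · rw [hform_smul_left, hform_smul_right, hy0, mul_one, hc]
    exact inv_ne_zero hη
  · rw [hform_smul_left, hform_smul_right, hform_smul_left, hy0, mul_one, hc, ← hs, mul_pow]
    have : c * s * (c ^ q * s ^ q) = c * c ^ q * (s * s ^ q) := by ring
    rw [this, hc]
    field_simp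

theorem Q3_e0 (hF : Fintype.card F = q ^ 2) (hq : Odd q) (w : Fin 3 → F) (hw : hh w w = 1) :
    Q3 q (e0 : Fin 3 → F) w := by
  have hq0 := q_ne_zero' hF
  by_cases hr : RR q (e0 : Fin 3 → F) w
  · exact ⟨e0, e0, e0_norm hF, e0_norm hF, RR_self _, RR_self _, hr⟩
  · by_cases hQ : QQ q (e0 : Fin 3 → F) w
    · obtain ⟨u, hu, h1, hb⟩ := hQ
      exact ⟨u, u, hu, hu, h1, RR_self _, hb⟩
    · obtain ⟨a, ha⟩ : ∃ a, a = w 0 := ⟨_, rfl⟩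
      obtain ⟨x, hx⟩ : ∃ x, x = Fin.tail w := ⟨_, rfl⟩
      have hwc : w = Fin.cons a x := by rw [ha, hx]; exact (cons_tail w).symm
      rw [hwc] at hr hQ hw ⊢
      rw [RR_e0_cons hF] at hr
      push Not at hr
      rw [QQ_e0_cons hF _ _ hr.1 hr.2] at hQ
      push Not at hQ
      rw [hh_cons, hQ, add_zero] at hw
      obtain ⟨y, hyy, hy1⟩ := exists_y hF hq x hQ
      obtain ⟨y', hy'1, hy'y⟩ := exists_perp2 hF y hyy
      have haq : a ^ q ≠ 0 := pow_ne_zero q hr.1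
      obtain ⟨b, hb⟩ : ∃ b, b = -(h2 y x) / a ^ q := ⟨_, rfl⟩
      have hbq : b ^ q = -((h2 y x) ^ q) / a := by
        rw [hb, div_pow, neg_pow_q hF, pow_q_pow_q' hF]
      refine ⟨Fin.cons 0 y', Fin.cons b y, ?_, ?_, ?_, ?_, ?_⟩
      · rw [hh_cons, zero_mul, zero_add, hy'1]
      · rw [hh_cons, hbq, hb]
        have : -(h2 y x) / a ^ q * (-((h2 y x) ^ q) / a) =
            h2 y x * (h2 y x) ^ q / (a * a ^ q) := by
          field_simp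
        rw [this, hw, div_one, add_comm]
        exact hy1
      · left
        rw [hh_e0_cons, zero_pow hq0]
      · left
        rw [hh_cons, zero_mul, zero_add, hy'y]
      · left
        rw [hh_cons, hb]
        field_simp
        ring

/-! ### group level -/

theorem commute_tauG (hF : Fintype.card F = q ^ 2) (hq : Odd q) (t : ↥(Cfsg.SU 3 F q))
    (v w : Fin 3 → F) (hv : hh v v = 1) (hw : hh w w = 1) (ht : smat t = tau q v) :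
    Commute t (tauG hF w hw) ↔ RR q v w :=
  commute_iff hF hq t (tauG hF w hw) v w hv hw ht (smat_tauG hF w hw)

theorem P1_iff (hF : Fintype.card F = q ^ 2) (hq : Odd q) (t : ↥(Cfsg.SU 3 F q))
    (v w : Fin 3 → F) (hv : hh v v = 1) (hw : hh w w = 1) (ht : smat t = tau q v) :
    (tauG hF w hw ≠ t ∧ Commute t (tauG hF w hw)) ↔ hh v w = 0 := by
  constructor
  · rintro ⟨hne, hc⟩
    exact orthG hF hq t (tauG hF w hw) v w hv hw ht (smat_tauG hF w hw) hc (Ne.symm hne)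
  · intro h
    refine ⟨?_, (commute_tauG hF hq t v w hv hw ht).mpr (Or.inl h)⟩
    intro heq
    have h1 : tau q v = tau q w := by rw [← smat_tauG hF w hw, heq, ht]
    obtain ⟨l, hl, hwl⟩ := (tau_eq_iff hF hq v w hv hw).mp h1
    rw [hwl, hform_smul_right, hv, mul_one] at h
    rw [h, mul_zero] at hl
    exact zero_ne_one hl

theorem E_iff (hF : Fintype.card F = q ^ 2) (hq : Odd q) (t x : ↥(Cfsg.SU 3 F q))
    (v w : Fin 3 → F) (hv : hh v v = 1) (hw : hh w w = 1) (ht : smat t = tau q v)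
    (hx : smat x = tau q w) :
    (∃ y : ↥(Cfsg.SU 3 F q), y ≠ 1 ∧ y * y = 1 ∧ Commute t y ∧ Commute y x) ↔ QQ q v w := by
  constructor
  · rintro ⟨y, hy1, hy2, hc1, hc2⟩
    obtain ⟨u, hu, hyu⟩ := exists_vec hF hq y hy1 hy2
    exact ⟨u, hu, (commute_iff hF hq t y v u hv hu ht hyu).mp hc1,
      (commute_iff hF hq y x u w hu hw hyu hx).mp hc2⟩
  · rintro ⟨u, hu, h1, hb⟩
    refine ⟨tauG hF u hu, tauG_ne_one hF hq u hu, tauG_sq hF u hu, ?_, ?_⟩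
    · exact (commute_iff hF hq t _ v u hv hu ht (smat_tauG hF u hu)).mpr h1
    · exact (commute_iff hF hq _ x u w hu hw (smat_tauG hF u hu) hx).mpr hb

theorem nE_iff (hF : Fintype.card F = q ^ 2) (hq : Odd q) (t x : ↥(Cfsg.SU 3 F q))
    (v w : Fin 3 → F) (hv : hh v v = 1) (hw : hh w w = 1) (ht : smat t = tau q v)
    (hx : smat x = tau q w) :
    (∀ y : ↥(Cfsg.SU 3 F q), y ≠ 1 → y * y = 1 → ¬ (Commute t y ∧ Commute y x)) ↔
      ¬ QQ q v w := by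
  rw [← E_iff hF hq t x v w hv hw ht hx]
  constructor
  · rintro h ⟨y, hy1, hy2, hc1, hc2⟩
    exact h y hy1 hy2 ⟨hc1, hc2⟩
  · rintro h y hy1 hy2 ⟨hc1, hc2⟩
    exact h ⟨y, hy1, hy2, hc1, hc2⟩

/-- the first count, multiplied by `q + 1` -/
theorem graph_part1 (hF : Fintype.card F = q ^ 2) (hq : Odd q) (t : ↥(Cfsg.SU 3 F q))
    (ht : t ≠ 1) (ht2 : t * t = 1) :
    Nat.card {x : ↥(Cfsg.SU 3 F q) // x ≠ 1 ∧ x * x = 1 ∧ x ≠ t ∧ Commute t x} * (q + 1) =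
      q * (q ^ 2 - 1) := by
  obtain ⟨v, hv, htv⟩ := exists_vec hF hq t ht ht2
  obtain ⟨M, hM, hMv⟩ := exists_iso_map hF (e0 : Fin 3 → F) v (e0_norm hF) hv
  have h1 := card_pred hF hq (fun x => x ≠ t ∧ Commute t x)
  have h3 : Nat.card {x : ↥(Cfsg.SU 3 F q) // x ≠ 1 ∧ x * x = 1 ∧ x ≠ t ∧ Commute t x} =
      Nat.card {x : ↥(Cfsg.SU 3 F q) // (x ≠ 1 ∧ x * x = 1) ∧ (x ≠ t ∧ Commute t x)} :=
    Nat.card_congr (Equiv.subtypeEquivRight (fun x => by rw [and_assoc]))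
  rw [h3, ← h1, ← card_A1 hF]
  have h4 : Nat.card {w : {v : Fin 3 → F // hh v v = 1} //
      (tauG hF w.1 w.2 ≠ t ∧ Commute t (tauG hF w.1 w.2))} =
      Nat.card {w : Fin 3 → F // hh w w = 1 ∧ hh v w = 0} := by
    apply Nat.card_congr
    refine (Equiv.subtypeEquivRight (fun w => ?_)).trans
      (Equiv.subtypeSubtypeEquivSubtypeInter (fun w : Fin 3 → F => hh w w = 1)
        (fun w => hh v w = 0))
    exact P1_iff hF hq t v w.1 hv w.2 htv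
  refine h4.trans ?_
  apply card_transfer hF M hM
  intro w
  rw [hM w w, ← hMv, hM e0 w]

/-- the third count, multiplied by `q + 1` -/
theorem graph_part3 (hF : Fintype.card F = q ^ 2) (hq : Odd q) (t : ↥(Cfsg.SU 3 F q))
    (ht : t ≠ 1) (ht2 : t * t = 1) :
    Nat.card {x : ↥(Cfsg.SU 3 F q) // x ≠ 1 ∧ x * x = 1 ∧ ¬ Commute t x ∧
        ∀ y : ↥(Cfsg.SU 3 F q), y ≠ 1 → y * y = 1 → ¬ (Commute t y ∧ Commute y x)} * (q + 1) =
      (q + 1) * ((q ^ 2 - 1) * (q + 1)) := by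
  obtain ⟨v, hv, htv⟩ := exists_vec hF hq t ht ht2
  obtain ⟨M, hM, hMv⟩ := exists_iso_map hF (e0 : Fin 3 → F) v (e0_norm hF) hv
  have h1 := card_pred hF hq (fun x => ¬ Commute t x ∧
        ∀ y : ↥(Cfsg.SU 3 F q), y ≠ 1 → y * y = 1 → ¬ (Commute t y ∧ Commute y x))
  have h3 : Nat.card {x : ↥(Cfsg.SU 3 F q) // x ≠ 1 ∧ x * x = 1 ∧ ¬ Commute t x ∧
        ∀ y : ↥(Cfsg.SU 3 F q), y ≠ 1 → y * y = 1 → ¬ (Commute t y ∧ Commute y x)} =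
      Nat.card {x : ↥(Cfsg.SU 3 F q) // (x ≠ 1 ∧ x * x = 1) ∧ (¬ Commute t x ∧
        ∀ y : ↥(Cfsg.SU 3 F q), y ≠ 1 → y * y = 1 → ¬ (Commute t y ∧ Commute y x))} :=
    Nat.card_congr (Equiv.subtypeEquivRight (fun x => by rw [and_assoc]))
  rw [h3, ← h1, ← card_A3 hF]
  have h4 : Nat.card {w : {v : Fin 3 → F // hh v v = 1} //
      (¬ Commute t (tauG hF w.1 w.2) ∧ ∀ y : ↥(Cfsg.SU 3 F q), y ≠ 1 → y * y = 1 →
        ¬ (Commute t y ∧ Commute y (tauG hF w.1 w.2)))} =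
      Nat.card {w : Fin 3 → F // hh w w = 1 ∧ (¬ RR q v w ∧ ¬ QQ q v w)} := by
    apply Nat.card_congr
    refine (Equiv.subtypeEquivRight (fun w => ?_)).trans
      (Equiv.subtypeSubtypeEquivSubtypeInter (fun w : Fin 3 → F => hh w w = 1)
        (fun w => ¬ RR q v w ∧ ¬ QQ q v w))
    rw [commute_tauG hF hq t v w.1 hv w.2 htv,
      nE_iff hF hq t (tauG hF w.1 w.2) v w.1 hv w.2 htv (smat_tauG hF w.1 w.2)]
  refine h4.trans ?_
  apply card_transfer hF M hM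
  intro w
  rw [hM w w, ← hMv, RR_map hF M hM, QQ_map hF M hM]

/-- any involution is within three steps -/
theorem graph_part4 (hF : Fintype.card F = q ^ 2) (hq : Odd q) (t : ↥(Cfsg.SU 3 F q))
    (ht : t ≠ 1) (ht2 : t * t = 1) (x : ↥(Cfsg.SU 3 F q)) (hx : x ≠ 1) (hx2 : x * x = 1) :
    ∃ y z : ↥(Cfsg.SU 3 F q), y ≠ 1 ∧ y * y = 1 ∧ z ≠ 1 ∧ z * z = 1 ∧
        Commute t y ∧ Commute y z ∧ Commute z x := by
  obtain ⟨v, hv, htv⟩ := exists_vec hF hq t ht ht2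
  obtain ⟨w, hw, hxw⟩ := exists_vec hF hq x hx hx2
  obtain ⟨M, hM, hMv⟩ := exists_iso_map hF (e0 : Fin 3 → F) v (e0_norm hF) hv
  obtain ⟨w', hw'⟩ := exists_preimage hF M hM w
  have hw'1 : hh w' w' = 1 := by rw [← hM w' w', hw', hw]
  have h3 := Q3_map hF M hM _ _ (Q3_e0 hF hq w' hw'1)
  rw [hMv, hw'] at h3
  obtain ⟨u1, u2, hu1, hu2, h1, hb, hc⟩ := h3
  refine ⟨tauG hF u1 hu1, tauG hF u2 hu2, tauG_ne_one hF hq u1 hu1, tauG_sq hF u1 hu1,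
    tauG_ne_one hF hq u2 hu2, tauG_sq hF u2 hu2, ?_, ?_, ?_⟩
  · exact (commute_iff hF hq t _ v u1 hv hu1 htv (smat_tauG hF u1 hu1)).mpr h1
  · exact (commute_iff hF hq _ _ u1 u2 hu1 hu2 (smat_tauG hF u1 hu1) (smat_tauG hF u2 hu2)).mpr hb
  · exact (commute_iff hF hq _ x u2 w hu2 hw (smat_tauG hF u2 hu2) hxw).mpr hc

/-- the partition of the involutions by their distance from `t` -/
theorem graph_partition (t : ↥(Cfsg.SU 3 F q)) (ht : t ≠ 1) (ht2 : t * t = 1) :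
    Nat.card {x : ↥(Cfsg.SU 3 F q) // x ≠ 1 ∧ x * x = 1} =
      1 + Nat.card {x : ↥(Cfsg.SU 3 F q) // x ≠ 1 ∧ x * x = 1 ∧ x ≠ t ∧ Commute t x} +
      (Nat.card {x : ↥(Cfsg.SU 3 F q) // x ≠ 1 ∧ x * x = 1 ∧ ¬ Commute t x ∧
        ∃ y : ↥(Cfsg.SU 3 F q), y ≠ 1 ∧ y * y = 1 ∧ Commute t y ∧ Commute y x} +
      Nat.card {x : ↥(Cfsg.SU 3 F q) // x ≠ 1 ∧ x * x = 1 ∧ ¬ Commute t x ∧
        ∀ y : ↥(Cfsg.SU 3 F q), y ≠ 1 → y * y = 1 → ¬ (Commute t y ∧ Commute y x)}) := by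
  rw [card_split (fun x : ↥(Cfsg.SU 3 F q) => x ≠ 1 ∧ x * x = 1) (fun x => Commute t x)]
  rw [card_split (fun x : ↥(Cfsg.SU 3 F q) => (x ≠ 1 ∧ x * x = 1) ∧ Commute t x)
    (fun x => x = t)]
  rw [card_split (fun x : ↥(Cfsg.SU 3 F q) => (x ≠ 1 ∧ x * x = 1) ∧ ¬ Commute t x)
    (fun x => ∃ y : ↥(Cfsg.SU 3 F q), y ≠ 1 ∧ y * y = 1 ∧ Commute t y ∧ Commute y x)]
  have e1 : Nat.card {x : ↥(Cfsg.SU 3 F q) // ((x ≠ 1 ∧ x * x = 1) ∧ Commute t x) ∧ x = t} = 1 := by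
    rw [Nat.card_eq_one_iff_unique]
    constructor
    · constructor
      rintro ⟨a, ha1, ha2⟩ ⟨b, hb1, hb2⟩
      apply Subtype.ext
      show a = b
      rw [ha2, hb2]
    · exact ⟨⟨t, ⟨⟨ht, ht2⟩, Commute.refl t⟩, rfl⟩⟩
  have e2 : Nat.card {x : ↥(Cfsg.SU 3 F q) // ((x ≠ 1 ∧ x * x = 1) ∧ Commute t x) ∧ ¬ x = t} =
      Nat.card {x : ↥(Cfsg.SU 3 F q) // x ≠ 1 ∧ x * x = 1 ∧ x ≠ t ∧ Commute t x} :=
    Nat.card_congr (Equiv.subtypeEquivRight (fun x =>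
      ⟨fun h => ⟨h.1.1.1, h.1.1.2, h.2, h.1.2⟩, fun h => ⟨⟨⟨h.1, h.2.1⟩, h.2.2.2⟩, h.2.2.1⟩⟩))
  have e3 : Nat.card {x : ↥(Cfsg.SU 3 F q) // ((x ≠ 1 ∧ x * x = 1) ∧ ¬ Commute t x) ∧
      ∃ y : ↥(Cfsg.SU 3 F q), y ≠ 1 ∧ y * y = 1 ∧ Commute t y ∧ Commute y x} =
      Nat.card {x : ↥(Cfsg.SU 3 F q) // x ≠ 1 ∧ x * x = 1 ∧ ¬ Commute t x ∧
        ∃ y : ↥(Cfsg.SU 3 F q), y ≠ 1 ∧ y * y = 1 ∧ Commute t y ∧ Commute y x} :=
    Nat.card_congr (Equiv.subtypeEquivRight (fun x =>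
      ⟨fun h => ⟨h.1.1.1, h.1.1.2, h.1.2, h.2⟩, fun h => ⟨⟨⟨h.1, h.2.1⟩, h.2.2.1⟩, h.2.2.2⟩⟩))
  have e4 : Nat.card {x : ↥(Cfsg.SU 3 F q) // ((x ≠ 1 ∧ x * x = 1) ∧ ¬ Commute t x) ∧
      ¬ ∃ y : ↥(Cfsg.SU 3 F q), y ≠ 1 ∧ y * y = 1 ∧ Commute t y ∧ Commute y x} =
      Nat.card {x : ↥(Cfsg.SU 3 F q) // x ≠ 1 ∧ x * x = 1 ∧ ¬ Commute t x ∧
        ∀ y : ↥(Cfsg.SU 3 F q), y ≠ 1 → y * y = 1 → ¬ (Commute t y ∧ Commute y x)} :=
    Nat.card_congr (Equiv.subtypeEquivRight (fun x =>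
      ⟨fun h => ⟨h.1.1.1, h.1.1.2, h.1.2, fun y hy1 hy2 hc => h.2 ⟨y, hy1, hy2, hc.1, hc.2⟩⟩,
        fun h => ⟨⟨⟨h.1, h.2.1⟩, h.2.2.1⟩, fun ⟨y, hy1, hy2, hc1, hc2⟩ =>
          h.2.2.2 y hy1 hy2 ⟨hc1, hc2⟩⟩⟩))
  rw [e1, e2, e3, e4]

end

end Cfsg.Agent.Lib.Helper51.SU3
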