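import Mathlib
import Cfsg.Agent.Lib.Helper51.SUMax2
set_option autoImplicit false
set_option linter.unusedSectionVars false
set_option linter.unusedVariables false
set_option linter.unusedSimpArgs false

/-! Orthonormal frames adapted to a nondegenerate subspace `W` of the unitary space, and the
elements of the stabiliser of `W` built from them. -/

namespace Cfsg.Agent.Lib.Helper51

open Matrix Cfsg.Agent.Lib.Helper08

section frame
variable {F : Type*} [Field F] [Fintype F] {q : ℕ} {n k m : ℕ}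

local notation "GLn" => Matrix.GeneralLinearGroup (Fin n) F

/-- an orthonormal frame adapted to `W`: `wW` spans `W`, `wU` spans its perp -/
structure Frame (q : ℕ) (W : Submodule F (Fin n → F)) (wW : Fin k → Fin n → F)
    (wU : Fin m → Fin n → F) : Prop where
  dW : IsDual q wW wW
  dU : IsDual q wU wU
  orth : ∀ i j, hform (Fin n) F q (wW i) (wU j) = 0
  compl : ∀ x : Fin n → F, x = Wm wW *ᵥ (Ws q wW *ᵥ x) + Wm wU *ᵥ (Ws q wU *ᵥ x)
  memW : ∀ x : Fin n → F, x ∈ W ↔ Ws q wU *ᵥ x = 0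

/-- the vector with coordinates `c`, `d` -/
def fvec (wW : Fin k → Fin n → F) (wU : Fin m → Fin n → F) (c : Fin k → F) (d : Fin m → F) :
    Fin n → F := Wm wW *ᵥ c + Wm wU *ᵥ d

variable {W : Submodule F (Fin n → F)} {wW : Fin k → Fin n → F} {wU : Fin m → Fin n → F}

theorem Frame.Ws_W_U (hF : Fintype.card F = q ^ 2) (fr : Frame q W wW wU) (d : Fin m → F) :
    Ws q wW *ᵥ (Wm wU *ᵥ d) = 0 := by
  funext i
  rw [Ws_mulVec, hform_left_Wm hF]
  have : Ws q wU *ᵥ (wW i) = 0 := by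
    funext j
    rw [Ws_mulVec, fr.orth i j, Pi.zero_apply]
  rw [this, hform_zero_right'' hF, Pi.zero_apply]

theorem Frame.Ws_U_W (hF : Fintype.card F = q ^ 2) (fr : Frame q W wW wU) (c : Fin k → F) :
    Ws q wU *ᵥ (Wm wW *ᵥ c) = 0 := by
  funext j
  rw [Ws_mulVec, hform_left_Wm hF]
  have : Ws q wW *ᵥ (wU j) = 0 := by
    funext i
    rw [Ws_mulVec, ← hform_conj hF, fr.orth i j, zero_pow (q_ne_zero' hF), Pi.zero_apply]
  rw [this, hform_zero_right'' hF, Pi.zero_apply]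

theorem Frame.coordW (hF : Fintype.card F = q ^ 2) (fr : Frame q W wW wU) (c : Fin k → F)
    (d : Fin m → F) : Ws q wW *ᵥ (fvec wW wU c d) = c := by
  unfold fvec
  rw [Matrix.mulVec_add, Ws_Wm_mulVec wW wW fr.dW, fr.Ws_W_U hF, add_zero]

theorem Frame.coordU (hF : Fintype.card F = q ^ 2) (fr : Frame q W wW wU) (c : Fin k → F)
    (d : Fin m → F) : Ws q wU *ᵥ (fvec wW wU c d) = d := by
  unfold fvec
  rw [Matrix.mulVec_add, Ws_Wm_mulVec wU wU fr.dU, fr.Ws_U_W hF, zero_add]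

theorem Frame.vec_coords (fr : Frame q W wW wU) (x : Fin n → F) :
    x = fvec wW wU (Ws q wW *ᵥ x) (Ws q wU *ᵥ x) := fr.compl x

theorem Frame.hh_vec (hF : Fintype.card F = q ^ 2) (fr : Frame q W wW wU) (c c' : Fin k → F)
    (d d' : Fin m → F) :
    hform (Fin n) F q (fvec wW wU c d) (fvec wW wU c' d') =
      hform (Fin k) F q c c' + hform (Fin m) F q d d' := by
  conv_lhs => rw [show fvec wW wU c' d' = Wm wW *ᵥ c' + Wm wU *ᵥ d' from rfl]
  rw [hform_add_right hF, hform_right_Wm hF, hform_right_Wm hF, fr.coordW hF, fr.coordU hF]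

theorem Frame.vec_mem_W (hF : Fintype.card F = q ^ 2) (fr : Frame q W wW wU) (c : Fin k → F) :
    fvec wW wU c 0 ∈ W := by
  rw [fr.memW, fr.coordU hF]

theorem Frame.eq_vec_of_mem (fr : Frame q W wW wU) (x : Fin n → F) (hx : x ∈ W) :
    x = fvec wW wU (Ws q wW *ᵥ x) 0 := by
  have h1 := fr.vec_coords x
  rw [(fr.memW x).mp hx] at h1
  exact h1

theorem Frame.vec_eq_zero (hF : Fintype.card F = q ^ 2) (fr : Frame q W wW wU) (c : Fin k → F)
    (d : Fin m → F) (h : fvec wW wU c d = 0) : c = 0 ∧ d = 0 := by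
  constructor
  · rw [← fr.coordW hF c d, h, Matrix.mulVec_zero]
  · rw [← fr.coordU hF c d, h, Matrix.mulVec_zero]

theorem fvec_smul (a : F) (c : Fin k → F) (d : Fin m → F) :
    a • fvec wW wU c d = fvec wW wU (a • c) (a • d) := by
  unfold fvec
  rw [smul_add, Matrix.mulVec_smul, Matrix.mulVec_smul]

theorem fvec_add (c c' : Fin k → F) (d d' : Fin m → F) :
    fvec wW wU c d + fvec wW wU c' d' = fvec wW wU (c + c') (d + d') := by
  unfold fvec
  rw [Matrix.mulVec_add, Matrix.mulVec_add]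
  abel

/-- the block element with components `A`, `D` -/
def pAD (q : ℕ) (wW : Fin k → Fin n → F) (wU : Fin m → Fin n → F) (A : Matrix (Fin k) (Fin k) F)
    (D : Matrix (Fin m) (Fin m) F) : Matrix (Fin n) (Fin n) F :=
  Ew q wW wW A * Ew q wU wU D

theorem Frame.pAD_vec (hF : Fintype.card F = q ^ 2) (fr : Frame q W wW wU)
    (A : Matrix (Fin k) (Fin k) F) (D : Matrix (Fin m) (Fin m) F) (c : Fin k → F)
    (d : Fin m → F) : pAD q wW wU A D *ᵥ fvec wW wU c d = fvec wW wU (A *ᵥ c) (D *ᵥ d) := by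
  unfold pAD fvec
  rw [← Matrix.mulVec_mulVec, Matrix.mulVec_add, Ew_Wm wU fr.dU, Ew_fix wU D _ (fr.Ws_U_W hF c),
    Matrix.mulVec_add, Ew_Wm wW fr.dW, Ew_fix wW A _ (fr.Ws_W_U hF _)]

theorem Frame.pAD_iso (hF : Fintype.card F = q ^ 2) (fr : Frame q W wW wU)
    (A : Matrix (Fin k) (Fin k) F) (D : Matrix (Fin m) (Fin m) F) (hA : IsIsoMat q A)
    (hD : IsIsoMat q D) : IsIsoMat q (pAD q wW wU A D) :=
  (Ew_iso hF wW fr.dW A hA).mul (Ew_iso hF wU fr.dU D hD)

theorem Frame.pAD_det (fr : Frame q W wW wU)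
    (A : Matrix (Fin k) (Fin k) F) (D : Matrix (Fin m) (Fin m) F) :
    (pAD q wW wU A D).det = A.det * D.det := by
  unfold pAD
  rw [Matrix.det_mul, Ew_det wW wW fr.dW, Ew_det wU wU fr.dU]

theorem Frame.pAD_mem (hF : Fintype.card F = q ^ 2) (fr : Frame q W wW wU)
    (A : Matrix (Fin k) (Fin k) F) (D : Matrix (Fin m) (Fin m) F) (hA : IsIsoMat q A)
    (hD : IsIsoMat q D) (hdet : A.det * D.det = 1) (t : GLn) (ht : t.1 = pAD q wW wU A D) :
    t ∈ Cfsg.Geo.subspaceStabilizer W ⊓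
      (Cfsg.GU n F q ⊓ Cfsg.Geo.specialLinear (Fin n) F) := by
  refine ⟨mem_stab_of_maps W t (fun x hx => ?_), (mem_GUSL_iff t).mpr ⟨?_, ?_⟩⟩
  · rw [fr.eq_vec_of_mem x hx, ht, fr.pAD_vec hF, Matrix.mulVec_zero]
    exact fr.vec_mem_W hF _
  · rw [ht]; exact fr.pAD_iso hF A D hA hD
  · rw [ht, fr.pAD_det, hdet]

section overgroup

theorem Frame.U_sub_XM (hF : Fintype.card F = q ^ 2) (fr : Frame q W wW wU) (M : Subgroup GLn)
    (hPM : Cfsg.Geo.subspaceStabilizer W ⊓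
      (Cfsg.GU n F q ⊓ Cfsg.Geo.specialLinear (Fin n) F) ≤ M) (d : Fin m → F)
    (hd : hform (Fin m) F q d d = 0) : fvec wW wU 0 d ∈ XM q M := by
  have hv0 : hform (Fin n) F q (fvec wW wU 0 d) (fvec wW wU 0 d) = 0 := by
    rw [fr.hh_vec hF, hd, hform_zero_left, add_zero]
  refine ⟨hv0, fun c hc t ht => hPM ⟨mem_stab_of_maps W t (fun x hx => ?_),
    (mem_GUSL_iff t).mpr ⟨?_, ?_⟩⟩⟩
  · rw [ht, qrefl_mulVec]
    have : hform (Fin n) F q x (fvec wW wU 0 d) = 0 := by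
      rw [fr.eq_vec_of_mem x hx, fr.hh_vec hF, hform_zero_left, hform_zero_right'' hF, add_zero]
    rw [this, mul_zero, zero_smul, add_zero]
    exact hx
  · rw [ht]
    exact qrefl_iso_skew hF _ hv0 c hc
  · rw [ht, det_qrefl', hv0, mul_zero, add_zero]

theorem Frame.W_sub_XM (hF : Fintype.card F = q ^ 2) (fr : Frame q W wW wU) (M : Subgroup GLn)
    (hPM : Cfsg.Geo.subspaceStabilizer W ⊓
      (Cfsg.GU n F q ⊓ Cfsg.Geo.specialLinear (Fin n) F) ≤ M) (c : Fin k → F)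
    (hc : hform (Fin k) F q c c = 0) : fvec wW wU c 0 ∈ XM q M := by
  have hv0 : hform (Fin n) F q (fvec wW wU c 0) (fvec wW wU c 0) = 0 := by
    rw [fr.hh_vec hF, hc, hform_zero_left, add_zero]
  refine ⟨hv0, fun c' hc' t ht => hPM ⟨mem_stab_of_maps W t (fun x hx => ?_),
    (mem_GUSL_iff t).mpr ⟨?_, ?_⟩⟩⟩
  · rw [ht, qrefl_mulVec]
    exact W.add_mem hx (W.smul_mem _ (fr.vec_mem_W hF c))
  · rw [ht]
    exact qrefl_iso_skew hF _ hv0 c' hc'
  · rw [ht, det_qrefl', hv0, mul_zero, add_zero]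

/-- transitivity of the stabiliser on vectors with components of given norms -/
theorem Frame.PT (hF : Fintype.card F = q ^ 2) (fr : Frame q W wW wU) (M : Subgroup GLn)
    (hPM : Cfsg.Geo.subspaceStabilizer W ⊓
      (Cfsg.GU n F q ⊓ Cfsg.Geo.specialLinear (Fin n) F) ≤ M) (hm3 : 3 ≤ m)
    (c c' : Fin k → F) (d d' : Fin m → F) (hx : fvec wW wU c d ∈ XM q M)
    (hc : c ≠ 0) (hc' : c' ≠ 0) (hd : d ≠ 0) (hd' : d' ≠ 0)
    (hcc : hform (Fin k) F q c c = hform (Fin k) F q c' c')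
    (hdd : hform (Fin m) F q d d = hform (Fin m) F q d' d') : fvec wW wU c' d' ∈ XM q M := by
  obtain ⟨A, hA, hAc⟩ := exists_iso_same_norm hF c c' hc hc' hcc
  have hnA := det_norm_of_iso hF A hA
  have hdetA : A.det ≠ 0 := by
    intro h0
    rw [h0, zero_mul] at hnA
    exact zero_ne_one hnA
  have hδ : (A.det)⁻¹ * ((A.det)⁻¹) ^ q = 1 := by
    rw [inv_pow, ← mul_inv, hnA, inv_one]
  obtain ⟨D, hD, hDd, hDdet⟩ := exists_iso_same_norm_det hF hm3 d d' hd hd' hdd _ hδ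
  have hiso := fr.pAD_iso hF A D hA hD
  set t : GLn := (hiso.isUnit hF).unit with ht
  have htv : t.1 = pAD q wW wU A D := rfl
  have htP := fr.pAD_mem hF A D hA hD (by rw [hDdet, mul_inv_cancel₀ hdetA]) t htv
  have := XM_act hF M t (hPM htP) hiso _ hx
  rw [htv, fr.pAD_vec hF, hAc, hDd] at this
  exact this

end overgroup

end frame

end Cfsg.Agent.Lib.Helper51
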