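import Mathlib
import Cfsg.Agent.Lib.Helper51.SUMax3
set_option autoImplicit false
set_option linter.unusedSectionVars false
set_option linter.unusedVariables false
set_option linter.unusedSimpArgs false

/-! Maximality of the stabiliser of a nondegenerate subspace in `SU_n(q)`, in terms of an adapted
orthonormal frame. -/

namespace Cfsg.Agent.Lib.Helper51

open Matrix Cfsg.Agent.Lib.Helper08

section partner
variable {F : Type*} [Field F] [Fintype F] {q : ℕ} {ι : Type} [Fintype ι] [DecidableEq ι]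

/-- an isotropic vector with prescribed nonzero product with a given isotropic vector -/
theorem exists_partner (hF : Fintype.card F = q ^ 2) (a : ι → F) (ha0 : a ≠ 0)
    (ha : hform ι F q a a = 0) (γ : F) (hγ : γ ≠ 0) :
    ∃ z : ι → F, z ≠ 0 ∧ hform ι F q z z = 0 ∧ hform ι F q a z = γ := by
  obtain ⟨z0, hz0, haz0, _⟩ := exists_isotropic_nonorth hF a a ha0 ha0 ha ha
  set β := hform ι F q a z0 with hβ
  have hz : hform ι F q a ((γ / β) ^ q • z0) = γ := by
    rw [hform_smul_right, pow_q_pow_q' hF, ← hβ, div_mul_cancel₀ _ haz0]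
  refine ⟨(γ / β) ^ q • z0, ?_, ?_, hz⟩
  · intro h
    rw [h, hform_zero_right'' hF] at hz
    exact hγ hz.symm
  · rw [hform_smul_left, hform_smul_right, hz0, mul_zero, mul_zero]

theorem ne_zero_of_hform_ne (v : ι → F) (h : hform ι F q v v ≠ 0) : v ≠ 0 := by
  rintro rfl
  exact h (hform_zero_left _)

end partner

section frame4
variable {F : Type*} [Field F] [Fintype F] {q : ℕ} {n k m : ℕ}

local notation "GLn" => Matrix.GeneralLinearGroup (Fin n) F

theorem stab_maps_inv (W : Submodule F (Fin n → F)) (g : GLn)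
    (hg : g ∈ Cfsg.Geo.subspaceStabilizer W) (v : Fin n → F) (hv : g.1 *ᵥ v ∈ W) : v ∈ W :=
  (hg v).mpr hv

variable {W : Submodule F (Fin n → F)} {wW : Fin k → Fin n → F} {wU : Fin m → Fin n → F}

theorem fvec_zero_left (d : Fin m → F) : fvec wW wU 0 d = Wm wU *ᵥ d := by
  unfold fvec
  rw [Matrix.mulVec_zero, zero_add]

/-- an element outside the stabiliser produces a centre with both components nonzero -/
theorem Frame.exists_x0 (hF : Fintype.card F = q ^ 2) (fr : Frame q W wW wU) (M : Subgroup GLn)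
    (hMI : M ≤ Cfsg.GU n F q ⊓ Cfsg.Geo.specialLinear (Fin n) F)
    (hPM : Cfsg.Geo.subspaceStabilizer W ⊓
      (Cfsg.GU n F q ⊓ Cfsg.Geo.specialLinear (Fin n) F) ≤ M)
    (hkm : k < m) (hm2 : 2 ≤ m) (g : GLn) (hgM : g ∈ M)
    (hg : g ∉ Cfsg.Geo.subspaceStabilizer W) :
    ∃ (c : Fin k → F) (d : Fin m → F), c ≠ 0 ∧ d ≠ 0 ∧ fvec wW wU c d ∈ XM q M := by
  have hq0 := q_ne_zero' hF
  have hgiso : IsIsoMat q g.1 := ((mem_GUSL_iff g).mp (hMI hgM)).1
  have hadj : ∀ x y : Fin n → F,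
      hform (Fin n) F q (g.1 *ᵥ x) y = hform (Fin n) F q x (g⁻¹.1 *ᵥ y) := by
    intro x y
    rw [← hgiso x (g⁻¹.1 *ᵥ y), gl_act_inv']
  have hA : ∃ (i : Fin k) (d1 : Fin m → F),
      hform (Fin n) F q (g.1 *ᵥ fvec wW wU 0 d1) (wW i) ≠ 0 := by
    by_contra hcon
    push Not at hcon
    apply hg
    set UU : Submodule F (Fin n → F) := LinearMap.ker (Matrix.mulVecLin (Ws q wW)) with hUU
    have memUU : ∀ x, x ∈ UU ↔ Ws q wW *ᵥ x = 0 := by
      intro x
      rw [hUU, LinearMap.mem_ker, Matrix.mulVecLin_apply]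
    have eqU : ∀ x ∈ UU, x = fvec wW wU 0 (Ws q wU *ᵥ x) := by
      intro x hx
      have := fr.vec_coords x
      rw [(memUU x).mp hx] at this
      exact this
    have hgU : ∀ x ∈ UU, g.1 *ᵥ x ∈ UU := by
      intro x hx
      rw [memUU]
      funext i
      rw [Ws_mulVec, eqU x hx, hcon i _, Pi.zero_apply]
    have hstU := mem_stab_of_maps UU g hgU
    apply mem_stab_of_maps W g
    intro w hw
    rw [fr.memW]
    funext j
    rw [Ws_mulVec, Pi.zero_apply, hadj]
    have hwUj : wU j ∈ UU := by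
      rw [memUU]
      funext i
      rw [Ws_mulVec, ← hform_conj hF, fr.orth i j, zero_pow hq0, Pi.zero_apply]
    have hy : g⁻¹.1 *ᵥ (wU j) ∈ UU := by
      apply stab_maps_inv UU g hstU
      rw [gl_act_inv']
      exact hwUj
    rw [fr.eq_vec_of_mem w hw, eqU _ hy, fr.hh_vec hF, hform_zero_left, hform_zero_right'' hF,
      add_zero]
  have hB : ∃ (j : Fin m) (d2 : Fin m → F),
      hform (Fin n) F q (g.1 *ᵥ fvec wW wU 0 d2) (wU j) ≠ 0 := by
    by_contra hcon
    push Not at hcon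
    set L : (Fin m → F) →ₗ[F] (Fin k → F) := Matrix.mulVecLin (Ws q wW * g.1 * Wm wU) with hL
    have hLd : ∀ d, L d = Ws q wW *ᵥ (g.1 *ᵥ fvec wW wU 0 d) := by
      intro d
      rw [hL, Matrix.mulVecLin_apply, ← Matrix.mulVec_mulVec, ← Matrix.mulVec_mulVec,
        fvec_zero_left]
    have hinj : Function.Injective L := by
      rw [injective_iff_map_eq_zero]
      intro d hd
      rw [hLd] at hd
      have h2 : Ws q wU *ᵥ (g.1 *ᵥ fvec wW wU 0 d) = 0 := by
        funext j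
        rw [Ws_mulVec, hcon j d, Pi.zero_apply]
      have h3 : g.1 *ᵥ fvec wW wU 0 d = 0 := by
        rw [fr.vec_coords (g.1 *ᵥ fvec wW wU 0 d), hd, h2]
        unfold fvec
        rw [Matrix.mulVec_zero, Matrix.mulVec_zero, add_zero]
      have h4 : fvec wW wU 0 d = 0 := by
        rw [← gl_inv_act' g (fvec wW wU 0 d), h3, Matrix.mulVec_zero]
      exact (fr.vec_eq_zero hF 0 d h4).2
    have := LinearMap.finrank_le_finrank_of_injective hinj
    rw [Module.finrank_fin_fun, Module.finrank_fin_fun] at this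
    omega
  obtain ⟨i, d1, hi⟩ := hA
  obtain ⟨j, d2, hj⟩ := hB
  set uA : Fin m → F := Ws q wU *ᵥ (g⁻¹.1 *ᵥ wW i) with huA
  set uB : Fin m → F := Ws q wU *ᵥ (g⁻¹.1 *ᵥ wU j) with huB
  have keyA : ∀ d, hform (Fin m) F q d uA =
      hform (Fin n) F q (g.1 *ᵥ fvec wW wU 0 d) (wW i) := by
    intro d
    rw [hadj, huA, ← hform_left_Wm hF, fvec_zero_left]
  have keyB : ∀ d, hform (Fin m) F q d uB =
      hform (Fin n) F q (g.1 *ᵥ fvec wW wU 0 d) (wU j) := by
    intro d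
    rw [hadj, huB, ← hform_left_Wm hF, fvec_zero_left]
  have huA0 : uA ≠ 0 := by
    intro h
    apply hi
    rw [← keyA, h, hform_zero_right'' hF]
  have huB0 : uB ≠ 0 := by
    intro h
    apply hj
    rw [← keyB, h, hform_zero_right'' hF]
  obtain ⟨z, hz, hzA, hzB⟩ := exists_isotropic_two hF hm2 uA uB huA0 huB0
  have hx0 : g.1 *ᵥ fvec wW wU 0 z ∈ XM q M :=
    XM_act hF M g hgM hgiso _ (fr.U_sub_XM hF M hPM z hz)
  refine ⟨Ws q wW *ᵥ (g.1 *ᵥ fvec wW wU 0 z), Ws q wU *ᵥ (g.1 *ᵥ fvec wW wU 0 z), ?_, ?_, ?_⟩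
  · intro h
    apply hzA
    rw [keyA]
    have := congrFun h i
    rwa [Ws_mulVec, Pi.zero_apply] at this
  · intro h
    apply hzB
    rw [keyB]
    have := congrFun h j
    rwa [Ws_mulVec, Pi.zero_apply] at this
  · rw [← fr.vec_coords]
    exact hx0

/-- from a centre with both components isotropic to one with nonisotropic components -/
theorem Frame.exists_N_of_S (hF : Fintype.card F = q ^ 2) (fr : Frame q W wW wU)
    (M : Subgroup GLn)
    (hPM : Cfsg.Geo.subspaceStabilizer W ⊓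
      (Cfsg.GU n F q ⊓ Cfsg.Geo.specialLinear (Fin n) F) ≤ M)
    (hm3 : 3 ≤ m) (c1 : Fin k → F) (d1 : Fin m → F) (hc1 : c1 ≠ 0) (hd1 : d1 ≠ 0)
    (hcc : hform (Fin k) F q c1 c1 = 0) (hdd : hform (Fin m) F q d1 d1 = 0)
    (hx1 : fvec wW wU c1 d1 ∈ XM q M) :
    ∃ (c : Fin k → F) (d : Fin m → F), hform (Fin k) F q c c ≠ 0 ∧ fvec wW wU c d ∈ XM q M := by
  have hq0 := q_ne_zero' hF
  obtain ⟨a, ha⟩ := exists_tr_ne_zero hF (K := F)
  obtain ⟨σ, hσ0, hσ⟩ := exists_skew_ne_zero hF (F := F)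
  have ha0 : a ≠ 0 := by
    rintro rfl
    apply ha
    rw [zero_pow hq0, add_zero]
  have haq0 : a ^ q ≠ 0 := pow_ne_zero _ ha0
  set τ : F := σ / a ^ q with hτ
  have e1 : a ^ q * τ = σ := by rw [hτ, mul_div_cancel₀ _ haq0]
  have e2 : a * τ ^ q = σ ^ q := by
    rw [hτ, div_pow, pow_q_pow_q' hF, mul_div_cancel₀ _ ha0]
  have hτ0 : τ ≠ 0 := div_ne_zero hσ0 haq0
  have hγ0 : τ - 1 ≠ 0 := by
    intro h
    have h1 : τ = 1 := sub_eq_zero.mp h
    rw [h1, mul_one] at e1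
    apply ha
    rw [← hσ, ← e1, pow_q_pow_q' hF]
    ring
  obtain ⟨c2, hc2, hc2c2, hc1c2⟩ := exists_partner hF c1 hc1 hcc 1 one_ne_zero
  obtain ⟨d2, hd2, hd2d2, hd1d2⟩ := exists_partner hF d1 hd1 hdd (τ - 1) hγ0
  have hx2 : fvec wW wU c2 d2 ∈ XM q M :=
    fr.PT hF M hPM hm3 c1 c2 d1 d2 hx1 hc1 hc2 hd1 hd2 (by rw [hcc, hc2c2]) (by rw [hdd, hd2d2])
  have hc2c1 : hform (Fin k) F q c2 c1 = 1 := by rw [← hform_conj hF, hc1c2, one_pow]
  have hd2d1 : hform (Fin m) F q d2 d1 = τ ^ q - 1 := by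
    rw [← hform_conj hF, hd1d2, sub_pow_q hF, one_pow]
  have h12 : hform (Fin n) F q (fvec wW wU c1 d1) (fvec wW wU c2 d2) = τ := by
    rw [fr.hh_vec hF, hc1c2, hd1d2]; ring
  have hWn : hform (Fin k) F q (c1 + a • c2) (c1 + a • c2) = a + a ^ q := by
    simp only [hform_add_left, hform_add_right hF, hform_smul_left, hform_smul_right, hcc, hc2c2,
      hc1c2, hc2c1]
    ring
  have hUn : hform (Fin m) F q (d1 + a • d2) (d1 + a • d2) = a ^ q * (τ - 1) + a * (τ ^ q - 1) := by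
    simp only [hform_add_left, hform_add_right hF, hform_smul_left, hform_smul_right, hdd, hd2d2,
      hd1d2, hd2d1]
    ring
  have hsum : fvec wW wU c1 d1 + a • fvec wW wU c2 d2 = fvec wW wU (c1 + a • c2) (d1 + a • d2) := by
    rw [fvec_smul, fvec_add]
  have hiso : hform (Fin n) F q (fvec wW wU c1 d1 + a • fvec wW wU c2 d2)
      (fvec wW wU c1 d1 + a • fvec wW wU c2 d2) = 0 := by
    rw [hsum, fr.hh_vec hF, hWn, hUn]
    linear_combination e1 + e2 + hσ
  have h3 := XM_hyp hF M _ _ hx1 hx2 a (by rw [h12]; exact hτ0) hiso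
  rw [hsum] at h3
  exact ⟨_, _, by rw [hWn]; exact ha, h3⟩

/-- all centres with nonisotropic components, from one of them -/
theorem Frame.all_N (hF : Fintype.card F = q ^ 2) (fr : Frame q W wW wU)
    (M : Subgroup GLn)
    (hPM : Cfsg.Geo.subspaceStabilizer W ⊓
      (Cfsg.GU n F q ⊓ Cfsg.Geo.specialLinear (Fin n) F) ≤ M)
    (hm3 : 3 ≤ m) (c0 : Fin k → F) (d0 : Fin m → F) (hc0 : hform (Fin k) F q c0 c0 ≠ 0)
    (hx0 : fvec wW wU c0 d0 ∈ XM q M) (c : Fin k → F) (d : Fin m → F)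
    (hc : hform (Fin k) F q c c ≠ 0)
    (hcd : hform (Fin k) F q c c + hform (Fin m) F q d d = 0) : fvec wW wU c d ∈ XM q M := by
  have h0 : hform (Fin k) F q c0 c0 + hform (Fin m) F q d0 d0 = 0 := by
    rw [← fr.hh_vec hF]; exact hx0.1
  set ν0 := hform (Fin k) F q c0 c0 with hν0
  set ν := hform (Fin k) F q c c with hν
  have hfix : (ν / ν0) ^ q = ν / ν0 := by
    rw [div_pow, hν, hν0, hform_self_pow hF, hform_self_pow hF]
  obtain ⟨l, hl⟩ := exists_nm_eq hF _ hfix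
  have hx := XM_smul hF M l _ hx0
  rw [fvec_smul] at hx
  have n1 : hform (Fin k) F q (l • c0) (l • c0) = ν := by
    rw [hform_smul_left, hform_smul_right, ← hν0]
    have : l * (l ^ q * ν0) = (l * l ^ q) * ν0 := by ring
    rw [this, hl, div_mul_cancel₀ _ hc0]
  have n2 : hform (Fin m) F q (l • d0) (l • d0) = hform (Fin m) F q d d := by
    rw [hform_smul_left, hform_smul_right]
    have : l * (l ^ q * hform (Fin m) F q d0 d0) = (l * l ^ q) * hform (Fin m) F q d0 d0 := by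
      ring
    rw [this, hl]
    have h1 : hform (Fin m) F q d0 d0 = -ν0 := by linear_combination h0
    have h2 : hform (Fin m) F q d d = -ν := by linear_combination hcd
    rw [h1, h2]
    field_simp
  have hdn : hform (Fin m) F q d d ≠ 0 := by
    intro h
    rw [h, add_zero] at hcd
    exact hc hcd
  exact fr.PT hF M hPM hm3 (l • c0) c (l • d0) d hx
    (ne_zero_of_hform_ne _ (by rw [n1]; exact hc)) (ne_zero_of_hform_ne _ hc)
    (ne_zero_of_hform_ne _ (by rw [n2]; exact hdn)) (ne_zero_of_hform_ne _ hdn) n1 n2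

/-- centres with isotropic components from those with nonisotropic components -/
theorem Frame.S_of_N (hF : Fintype.card F = q ^ 2) (fr : Frame q W wW wU)
    (M : Subgroup GLn) (hm3 : 3 ≤ m)
    (hN : ∀ (c : Fin k → F) (d : Fin m → F), hform (Fin k) F q c c ≠ 0 →
      hform (Fin k) F q c c + hform (Fin m) F q d d = 0 → fvec wW wU c d ∈ XM q M)
    (cs : Fin k → F) (ds : Fin m → F) (hcs : cs ≠ 0) (hds : ds ≠ 0)
    (hcc : hform (Fin k) F q cs cs = 0) (hdd : hform (Fin m) F q ds ds = 0) :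
    fvec wW wU cs ds ∈ XM q M := by
  have hq0 := q_ne_zero' hF
  obtain ⟨σ, hσ0, hσ⟩ := exists_skew_ne_zero hF (F := F)
  obtain ⟨d1, hd1s, hd1⟩ := exists_nonisotropic_orth hF hm3 ds hds
  have hsd1 : hform (Fin m) F q ds d1 = 0 := by
    rw [← hform_conj hF, hd1s, zero_pow hq0]
  set ν : F := - hform (Fin m) F q d1 d1 with hν
  have hν0 : ν ≠ 0 := neg_ne_zero.mpr hd1
  have hνq : ν ^ q = ν := by rw [hν, neg_pow_q hF, hform_self_pow hF]
  obtain ⟨c', hc'0, hc'c', hcsc'⟩ := exists_partner hF cs hcs hcc 1 one_ne_zero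
  have hc'cs : hform (Fin k) F q c' cs = 1 := by rw [← hform_conj hF, hcsc', one_pow]
  obtain ⟨α, hα⟩ := exists_tr_eq hF ν hνq
  obtain ⟨c1, hc1⟩ : ∃ c1 : Fin k → F, c1 = α • cs + c' := ⟨_, rfl⟩
  have hc1c1 : hform (Fin k) F q c1 c1 = ν := by
    rw [hc1]
    simp only [hform_add_left, hform_add_right hF, hform_smul_left, hform_smul_right, hcc, hc'c',
      hcsc', hc'cs]
    linear_combination hα
  have hc1cs : hform (Fin k) F q c1 cs = 1 := by
    rw [hc1]
    simp only [hform_add_left, hform_smul_left, hcc, hc'cs]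
    ring
  have hcsc1 : hform (Fin k) F q cs c1 = 1 := by rw [← hform_conj hF, hc1cs, one_pow]
  have hx1 : fvec wW wU c1 d1 ∈ XM q M := by
    apply hN
    · rw [hc1c1]; exact hν0
    · rw [hc1c1, hν]; ring
  have hx2 : fvec wW wU (c1 + σ • cs) (d1 + σ • ds) ∈ XM q M := by
    have hW2 : hform (Fin k) F q (c1 + σ • cs) (c1 + σ • cs) = ν := by
      simp only [hform_add_left, hform_add_right hF, hform_smul_left, hform_smul_right, hcc,
        hc1c1, hc1cs, hcsc1]
      linear_combination hσ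
    have hU2 : hform (Fin m) F q (d1 + σ • ds) (d1 + σ • ds) = -ν := by
      simp only [hform_add_left, hform_add_right hF, hform_smul_left, hform_smul_right, hdd,
        hd1s, hsd1, hν]
      ring
    apply hN
    · rw [hW2]; exact hν0
    · rw [hW2, hU2]; ring
  -- the line through `x2` and `x1`
  have hsum : fvec wW wU (c1 + σ • cs) (d1 + σ • ds) + (-1 : F) • fvec wW wU c1 d1 =
      σ • fvec wW wU cs ds := by
    rw [fvec_smul, fvec_smul, fvec_add]
    congr 1
    · rw [neg_one_smul]; abel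
    · rw [neg_one_smul]; abel
  have hzz : hform (Fin n) F q (fvec wW wU cs ds) (fvec wW wU cs ds) = 0 := by
    rw [fr.hh_vec hF, hcc, hdd, add_zero]
  have h21 : hform (Fin n) F q (fvec wW wU (c1 + σ • cs) (d1 + σ • ds)) (fvec wW wU c1 d1) ≠ 0 := by
    rw [fr.hh_vec hF]
    simp only [hform_add_left, hform_smul_left, hc1c1, hcsc1, hsd1, hν]
    have : -hform (Fin m) F q d1 d1 + σ * 1 + (hform (Fin m) F q d1 d1 + σ * 0) = σ := by ring
    rw [this]
    exact hσ0
  have h3 := XM_hyp hF M _ _ hx2 hx1 (-1) h21 (by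
    rw [hsum, hform_smul_left, hform_smul_right, hzz, mul_zero, mul_zero])
  rw [hsum] at h3
  have h4 := XM_smul hF M σ⁻¹ _ h3
  rwa [smul_smul, inv_mul_cancel₀ hσ0, one_smul] at h4

/-- every isotropic vector is a centre -/
theorem Frame.all_XM (hF : Fintype.card F = q ^ 2) (fr : Frame q W wW wU) (M : Subgroup GLn)
    (hMI : M ≤ Cfsg.GU n F q ⊓ Cfsg.Geo.specialLinear (Fin n) F)
    (hPM : Cfsg.Geo.subspaceStabilizer W ⊓
      (Cfsg.GU n F q ⊓ Cfsg.Geo.specialLinear (Fin n) F) ≤ M)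
    (hkm : k < m) (hm3 : 3 ≤ m) (g : GLn) (hgM : g ∈ M)
    (hg : g ∉ Cfsg.Geo.subspaceStabilizer W) (v : Fin n → F)
    (hv : hform (Fin n) F q v v = 0) : v ∈ XM q M := by
  obtain ⟨c0, d0, hc0, hd0, hx0⟩ := fr.exists_x0 hF M hMI hPM hkm (by omega) g hgM hg
  have h0 : hform (Fin k) F q c0 c0 + hform (Fin m) F q d0 d0 = 0 := by
    rw [← fr.hh_vec hF]; exact hx0.1
  have hN : ∀ (c : Fin k → F) (d : Fin m → F), hform (Fin k) F q c c ≠ 0 →
      hform (Fin k) F q c c + hform (Fin m) F q d d = 0 → fvec wW wU c d ∈ XM q M := by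
    by_cases hc00 : hform (Fin k) F q c0 c0 = 0
    · have hd00 : hform (Fin m) F q d0 d0 = 0 := by rw [hc00, zero_add] at h0; exact h0
      obtain ⟨c1, d1, hc1, hx1⟩ := fr.exists_N_of_S hF M hPM hm3 c0 d0 hc0 hd0 hc00 hd00 hx0
      exact fr.all_N hF M hPM hm3 c1 d1 hc1 hx1
    · exact fr.all_N hF M hPM hm3 c0 d0 hc00 hx0
  rw [fr.vec_coords v] at hv ⊢
  set c := Ws q wW *ᵥ v with hc
  set d := Ws q wU *ᵥ v with hd
  rw [fr.hh_vec hF] at hv
  by_cases hc0' : c = 0
  · rw [hc0'] at hv ⊢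
    rw [hform_zero_left, zero_add] at hv
    exact fr.U_sub_XM hF M hPM d hv
  by_cases hd0' : d = 0
  · rw [hd0'] at hv ⊢
    rw [hform_zero_left, add_zero] at hv
    exact fr.W_sub_XM hF M hPM c hv
  by_cases hcc : hform (Fin k) F q c c = 0
  · have hdd : hform (Fin m) F q d d = 0 := by rw [hcc, zero_add] at hv; exact hv
    exact fr.S_of_N hF M hm3 hN c d hc0' hd0' hcc hdd
  · exact hN c d hcc hv

/-- the stabiliser is a proper subgroup -/
theorem Frame.not_stab (hF : Fintype.card F = q ^ 2) (fr : Frame q W wW wU) (hn : 2 ≤ n)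
    (hW0 : W ≠ ⊥) (hm1 : 1 ≤ m) :
    ∃ g : GLn, g ∈ Cfsg.GU n F q ⊓ Cfsg.Geo.specialLinear (Fin n) F ∧
      g ∉ Cfsg.Geo.subspaceStabilizer W := by
  have hq0 := q_ne_zero' hF
  obtain ⟨w, hw, hw0⟩ := Submodule.exists_mem_ne_zero_of_ne_bot hW0
  set j0 : Fin m := ⟨0, by omega⟩ with hj0
  have hu0 : wU j0 ≠ 0 := by
    apply ne_zero_of_hform_ne (q := q)
    rw [fr.dU j0 j0, if_pos rfl]
    exact one_ne_zero
  obtain ⟨z, hzz, hzw, hzu⟩ := exists_isotropic_two hF hn w (wU j0) hw0 hu0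
  have hzW : z ∉ W := by
    intro hz
    have := (fr.memW z).mp hz
    apply hzu
    rw [← Ws_mulVec, this, Pi.zero_apply]
  obtain ⟨σ, hσ0, hσ⟩ := exists_skew_ne_zero hF (F := F)
  have hiso := qrefl_iso_skew hF z hzz σ hσ
  refine ⟨(hiso.isUnit hF).unit, (mem_GUSL_iff _).mpr ⟨hiso, ?_⟩, fun hgs => ?_⟩
  · show (qrefl q z σ).det = 1
    rw [det_qrefl', hzz, mul_zero, add_zero]
  · have h1 := stab_maps W _ hgs w hw
    have h2 : ((hiso.isUnit hF).unit : GLn).1 *ᵥ w = w + (σ * hform (Fin n) F q w z) • z :=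
      qrefl_mulVec z σ w
    rw [h2] at h1
    have h3 := W.sub_mem h1 hw
    rw [add_sub_cancel_left] at h3
    have hwz : hform (Fin n) F q w z ≠ 0 := by
      rw [← hform_conj hF]; exact pow_ne_zero _ hzw
    have h4 := W.smul_mem (σ * hform (Fin n) F q w z)⁻¹ h3
    rw [smul_smul, inv_mul_cancel₀ (mul_ne_zero hσ0 hwz), one_smul] at h4
    exact hzW h4

/-- maximality of the stabiliser of `W`, given an adapted frame -/
theorem Frame.maximal (hF : Fintype.card F = q ^ 2) (fr : Frame q W wW wU) (hn : 4 ≤ n)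
    (hW0 : W ≠ ⊥) (hkm : k < m) (hm3 : 3 ≤ m) :
    Cfsg.Geo.IsMaximalIn (Cfsg.GU n F q ⊓ Cfsg.Geo.specialLinear (Fin n) F)
      (Cfsg.Geo.subspaceStabilizer W ⊓
        (Cfsg.GU n F q ⊓ Cfsg.Geo.specialLinear (Fin n) F)) := by
  have h32 : ¬ (n = 3 ∧ q = 2) := by omega
  refine ⟨lt_of_le_of_ne inf_le_right ?_, ?_⟩
  · intro heq
    obtain ⟨g, hg, hgs⟩ := fr.not_stab hF (by omega) hW0 (by omega)
    rw [← heq] at hg
    exact hgs hg.1
  · intro M hPM hMI
    by_cases hMP : M = Cfsg.Geo.subspaceStabilizer W ⊓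
        (Cfsg.GU n F q ⊓ Cfsg.Geo.specialLinear (Fin n) F)
    · exact Or.inl hMP
    right
    have : ∃ g ∈ M, g ∉ Cfsg.Geo.subspaceStabilizer W ⊓
        (Cfsg.GU n F q ⊓ Cfsg.Geo.specialLinear (Fin n) F) := by
      by_contra hcon
      push Not at hcon
      exact hMP (le_antisymm hcon hPM)
    obtain ⟨g, hgM, hgP⟩ := this
    have hgs : g ∉ Cfsg.Geo.subspaceStabilizer W := fun h => hgP ⟨h, hMI hgM⟩
    exact le_antisymm hMI (le_of_XM hF h32 M (fr.all_XM hF M hMI hPM hkm hm3 g hgM hgs))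

end frame4

end Cfsg.Agent.Lib.Helper51
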