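import Mathlib
import Cfsg.Agent.Lib.Helper51.SUMax4
import Cfsg.Agent.Lib.Helper51.UStab4
set_option autoImplicit false
set_option linter.unusedSectionVars false
set_option linter.unusedVariables false
set_option linter.unusedSimpArgs false

/-! Existence of an orthonormal frame adapted to a nondegenerate subspace. -/

namespace Cfsg.Agent.Lib.Helper51

open Matrix Cfsg.Agent.Lib.Helper08

section frame5
variable {F : Type*} [Field F] [Fintype F] {q : ℕ} {n : ℕ}

theorem Ws_Wm_orth (hF : Fintype.card F = q ^ 2) {κ μ : Type} [Fintype κ] [DecidableEq κ]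
    [Fintype μ] [DecidableEq μ] (w : κ → Fin n → F) (w' : μ → Fin n → F)
    (horth : ∀ i j, hform (Fin n) F q (w i) (w' j) = 0) (c : κ → F) :
    Ws q w' *ᵥ (Wm w *ᵥ c) = 0 := by
  funext j
  rw [Ws_mulVec, hform_left_Wm hF]
  have : Ws q w *ᵥ (w' j) = 0 := by
    funext i
    rw [Ws_mulVec, ← hform_conj hF, horth i j, zero_pow (q_ne_zero' hF), Pi.zero_apply]
  rw [this, hform_zero_right'' hF, Pi.zero_apply]

/-- an adapted orthonormal frame of a nondegenerate subspace -/
theorem exists_frame (hF : Fintype.card F = q ^ 2) (W : Submodule F (Fin n → F))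
    (hW : ∀ u ∈ W, (∀ v ∈ W, hform (Fin n) F q u v = 0) → u = 0) :
    ∃ (k m : ℕ) (wW : Fin k → Fin n → F) (wU : Fin m → Fin n → F),
      k = Module.finrank F W ∧ k + m = n ∧ Frame q W wW wU := by
  have hq0 := q_ne_zero' hF
  obtain ⟨k, hk⟩ : ∃ k, k = Module.finrank F W := ⟨_, rfl⟩
  have hkn : k ≤ n := by
    have := Submodule.finrank_le W
    rw [Module.finrank_fin_fun] at this
    omega
  obtain ⟨b, hb⟩ := exists_onb_sub hF W k hk.symm hW
  have hUdim : Module.finrank F (LinearMap.ker (hL q W b)) = n - k := finrank_ker_hL W b hb hkn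
  obtain ⟨b', hb'⟩ := exists_onb_sub hF (LinearMap.ker (hL q W b)) (n - k) hUdim
    (ker_hL_nondeg hF W b hb)
  set wW : Fin k → Fin n → F := fun i => ((b i : W) : Fin n → F) with hwW
  set wU : Fin (n - k) → Fin n → F :=
    fun j => ((b' j : LinearMap.ker (hL q W b)) : Fin n → F) with hwU
  have horth : ∀ i j, hform (Fin n) F q (wW i) (wU j) = 0 := fun i j =>
    hform_W_ker hF W b _ (b i).2 _ (b' j).2
  have hdW : IsDual q wW wW := hb
  have hdU : IsDual q wU wU := hb'
  have hcompl : ∀ x : Fin n → F,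
      x = Wm wW *ᵥ (Ws q wW *ᵥ x) + Wm wU *ᵥ (Ws q wU *ᵥ x) := by
    intro x
    set y := x - Wm wW *ᵥ (Ws q wW *ᵥ x) with hy
    have hyU : y ∈ LinearMap.ker (hL q W b) := by
      rw [LinearMap.mem_ker, hy, map_sub, Wm_mulVec]
      have h1 : hL q W b (∑ j, (Ws q wW *ᵥ x) j • wW j) = Ws q wW *ᵥ x := hL_comb W b hb _
      rw [h1]
      funext i
      rw [Pi.sub_apply, hL_apply, Ws_mulVec, sub_self, Pi.zero_apply]
    have h2 := b'.sum_repr ⟨y, hyU⟩
    have h3 := congrArg Subtype.val h2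
    simp only [Submodule.coe_sum, Submodule.coe_smul] at h3
    have h4 : y = Wm wU *ᵥ (b'.repr ⟨y, hyU⟩ : Fin (n - k) → F) := by
      rw [Wm_mulVec]
      exact h3.symm
    have h5 : Ws q wU *ᵥ y = (b'.repr ⟨y, hyU⟩ : Fin (n - k) → F) := by
      conv_lhs => rw [h4]
      rw [Ws_Wm_mulVec wU wU hdU]
    have h6 : Ws q wU *ᵥ y = Ws q wU *ᵥ x := by
      rw [hy, Matrix.mulVec_sub, Ws_Wm_orth hF wW wU horth, sub_zero]
    rw [← h6, h5, ← h4, hy]
    abel
  refine ⟨k, n - k, wW, wU, hk, by omega, hdW, hdU, horth, hcompl, ?_⟩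
  intro x
  constructor
  · intro hx
    funext j
    rw [Ws_mulVec, Pi.zero_apply]
    exact hform_W_ker hF W b x hx _ (b' j).2
  · intro hx
    have h1 := hcompl x
    rw [hx, Matrix.mulVec_zero, add_zero, Wm_mulVec] at h1
    rw [h1]
    apply Submodule.sum_mem
    intro i _
    exact W.smul_mem _ (b i).2

end frame5

end Cfsg.Agent.Lib.Helper51
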