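import Mathlib
import Cfsg.Prelude.Def_GeometricClasses
import Cfsg.Agent.Lib.Helper11.SpMax
import Cfsg.Agent.Lib.Helper18.SympWitt

set_option autoImplicit false

namespace Cfsg.Agent.Lib.Helper51.SpDec

open Cfsg.Agent.Lib.Helper18 Cfsg.Agent.Lib.Helper11.SpPerfect Cfsg.Agent.Lib.Helper11.SpMax Matrix

section
variable {F : Type*} [Field F] (m : ℕ)

local notation "V" => (Fin m ⊕ Fin m → F)
local notation "ff" => Cfsg.sympForm m F
local notation "G" => Matrix.symplecticGroup (Fin m) F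
local notation "GLm" => Matrix.GeneralLinearGroup (Fin m ⊕ Fin m) F

/-- the image of `A : Sp` in `GL` -/
def sg (A : G) : GLm := ((Cfsg.Agent.S0270.phi m A : ↥(Cfsg.spGL m F)) : GLm)

theorem sg_mem (A : G) : sg m A ∈ Cfsg.spGL m F := (Cfsg.Agent.S0270.phi m A).2

theorem sg_act (A : G) (x : V) : (sg m A).1 *ᵥ x = A.1 *ᵥ x := rfl

theorem sp_ne_zero (A : G) (x : V) (hx : x ≠ 0) : A.1 *ᵥ x ≠ 0 := by
  intro h
  apply hx
  have := inv_mulVec_mulVec m A x
  rw [h, Matrix.mulVec_zero] at this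
  exact this.symm

theorem gl_ne_zero (g : GLm) (x : V) (hx : x ≠ 0) : g.1 *ᵥ x ≠ 0 := by
  intro h
  apply hx
  have := gl_inv_act m g x
  rw [h, Matrix.mulVec_zero] at this
  exact this.symm

theorem sf_fsum_left {ι : Type*} (s : Finset ι) (c : ι → V) (d : V) :
    ff (∑ j ∈ s, c j) d = ∑ j ∈ s, ff (c j) d := by
  have : sB m F (∑ j ∈ s, c j) d = ∑ j ∈ s, sB m F (c j) d := by
    rw [map_sum, LinearMap.sum_apply]
  simpa only [sB_apply] using this

theorem exists_perm_two {α : Type*} [DecidableEq α] (p q p' q' : α) (hpq : p ≠ q)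
    (hpq' : p' ≠ q') : ∃ σ : Equiv.Perm α, σ p = p' ∧ σ q = q' := by
  refine ⟨Equiv.swap (Equiv.swap p p' q) q' * Equiv.swap p p', ?_, ?_⟩
  · rw [Equiv.Perm.mul_apply, Equiv.swap_apply_left]
    apply Equiv.swap_apply_of_ne_of_ne
    · intro h
      have := (Equiv.swap p p').injective (h.symm.trans (Equiv.swap_apply_left p p').symm)
      exact hpq this.symm
    · exact hpq'
  · rw [Equiv.Perm.mul_apply, Equiv.swap_apply_left]

variable {t : ℕ} (k : ℕ) (D : Fin t → Submodule F (Fin m ⊕ Fin m → F))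

/-- `v` is not orthogonal to `D i` -/
def NI (v : V) (i : Fin t) : Prop := ∃ d ∈ D i, ff v d ≠ 0

variable {k D}

theorem NI_of_mem (hD : Cfsg.Geo.IsNondegenerateMDecomposition (Cfsg.sympForm m F) k D)
    (j i : Fin t) (x : V) (hx : x ∈ D j) (h : NI m D x i) : i = j := by
  by_contra hij
  obtain ⟨d, hd, hne⟩ := h
  exact hne (hD.orthogonal j i (Ne.symm hij) x hx d hd)

theorem NI_self (hD : Cfsg.Geo.IsNondegenerateMDecomposition (Cfsg.sympForm m F) k D)
    (j : Fin t) (x : V) (hx : x ∈ D j) (h0 : x ≠ 0) : NI m D x j := by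
  obtain ⟨y, hy, hxy⟩ := (hD.nondegenerate j x hx h0).2
  exact ⟨y, hy, hxy⟩

theorem block_nd (hD : Cfsg.Geo.IsNondegenerateMDecomposition (Cfsg.sympForm m F) k D)
    (j : Fin t) : ∀ x ∈ D j, x ≠ 0 → ∃ y ∈ D j, ff x y ≠ 0 :=
  fun x hx h0 => (hD.nondegenerate j x hx h0).2

theorem inter_zero (hD : Cfsg.Geo.IsNondegenerateMDecomposition (Cfsg.sympForm m F) k D)
    (i j : Fin t) (hij : i ≠ j) (x : V) (hi : x ∈ D i) (hj : x ∈ D j) : x = 0 := by
  by_contra h0
  exact hij (NI_of_mem m hD j i x hj (NI_self m hD i x hi h0))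

theorem mem_decStab_of_maps (hD : Cfsg.Geo.IsNondegenerateMDecomposition (Cfsg.sympForm m F) k D)
    (g : GLm) (σ : Equiv.Perm (Fin t)) (h : ∀ i, ∀ x ∈ D i, g.1 *ᵥ x ∈ D (σ i)) :
    g ∈ Cfsg.Geo.decompositionStabilizer D := by
  refine ⟨σ, fun i => ?_⟩
  have hinj : Function.Injective (Matrix.toLin' (g : Matrix (Fin m ⊕ Fin m) (Fin m ⊕ Fin m) F)) := by
    intro x y hxy
    rw [Matrix.toLin'_apply, Matrix.toLin'_apply] at hxy
    have := congrArg (fun z => g⁻¹.1 *ᵥ z) hxy
    simp only [gl_inv_act] at this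
    exact this
  apply Submodule.eq_of_le_of_finrank_eq
  · rintro _ ⟨x, hx, rfl⟩
    rw [Matrix.toLin'_apply]
    exact h i x hx
  · rw [← LinearEquiv.finrank_eq (Submodule.equivMapOfInjective _ hinj (D i)),
      hD.decomp.finrank_eq, hD.decomp.finrank_eq]

theorem exists_decomp (hD : Cfsg.Geo.IsNondegenerateMDecomposition (Cfsg.sympForm m F) k D)
    (v : V) : ∃ c : Fin t → V, (∀ j, c j ∈ D j) ∧ ∑ j, c j = v := by
  have hv : v ∈ ⨆ i ∈ (Finset.univ : Finset (Fin t)), D i := by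
    simp only [Finset.mem_univ, iSup_pos, hD.decomp.iSup_eq_top, Submodule.mem_top]
  obtain ⟨μ, hμ⟩ := (Submodule.mem_iSup_finset_iff_exists_sum D v).mp hv
  exact ⟨fun i => (μ i : V), fun j => (μ j).2, hμ⟩

/-- `v` has at least two nonzero components -/
def Mixed (D : Fin t → Submodule F V) (v : V) : Prop :=
  ∃ p q : Fin t, p ≠ q ∧ ∃ a ∈ D p, ∃ b ∈ D q, ∃ r : V, a ≠ 0 ∧ b ≠ 0 ∧
    (∀ d ∈ D p, ff r d = 0) ∧ (∀ d ∈ D q, ff r d = 0) ∧ v = a + b + r

theorem single_or_mixed (hD : Cfsg.Geo.IsNondegenerateMDecomposition (Cfsg.sympForm m F) k D)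
    (v : V) : (∃ j, v ∈ D j) ∨ Mixed m D v := by
  classical
  obtain ⟨c, hc, rfl⟩ := exists_decomp m hD v
  by_cases h : ∃ p q, p ≠ q ∧ c p ≠ 0 ∧ c q ≠ 0
  · right
    obtain ⟨p, q, hpq, hp0, hq0⟩ := h
    refine ⟨p, q, hpq, c p, hc p, c q, hc q, ∑ j ∈ (Finset.univ.erase p).erase q, c j, hp0, hq0,
      ?_, ?_, ?_⟩
    · intro d hd
      rw [sf_fsum_left]
      apply Finset.sum_eq_zero
      intro j hj
      have hjp : j ≠ p := (Finset.mem_erase.mp (Finset.mem_erase.mp hj).2).1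
      exact hD.orthogonal j p hjp (c j) (hc j) d hd
    · intro d hd
      rw [sf_fsum_left]
      apply Finset.sum_eq_zero
      intro j hj
      have hjq : j ≠ q := (Finset.mem_erase.mp hj).1
      exact hD.orthogonal j q hjq (c j) (hc j) d hd
    · have hq : q ∈ Finset.univ.erase p := Finset.mem_erase.mpr ⟨Ne.symm hpq, Finset.mem_univ q⟩
      rw [add_assoc, Finset.add_sum_erase _ _ hq, Finset.add_sum_erase _ _ (Finset.mem_univ p)]
  · left
    push Not at h
    by_cases h0 : ∃ p, c p ≠ 0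
    · obtain ⟨p, hp⟩ := h0
      refine ⟨p, ?_⟩
      rw [Finset.sum_eq_single p (fun j _ hjp => h p j (Ne.symm hjp) hp)
        (fun hp' => absurd (Finset.mem_univ p) hp')]
      exact hc p
    · push Not at h0
      have ht := hD.decomp.two_le
      refine ⟨⟨0, by omega⟩, ?_⟩
      rw [Finset.sum_eq_zero (fun j _ => h0 j)]
      exact Submodule.zero_mem _

theorem D_sub_XS (hD : Cfsg.Geo.IsNondegenerateMDecomposition (Cfsg.sympForm m F) k D)
    (M : Subgroup GLm) (hPM : Cfsg.Geo.decompositionStabilizer D ⊓ Cfsg.spGL m F ≤ M)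
    (j : Fin t) (w : V) (hw : w ∈ D j) : w ∈ XS m M := by
  intro c
  apply hPM
  refine ⟨mem_decStab_of_maps m hD _ 1 (fun i x hx => ?_), tg_mem m w c⟩
  rw [tg_act, Equiv.Perm.one_apply]
  by_cases hij : i = j
  · subst hij
    exact (D i).add_mem hx ((D i).smul_mem _ hw)
  · rw [hD.orthogonal i j hij x hx w hw, mul_zero, zero_smul, add_zero]
    exact hx

theorem sg_TW_mem (hD : Cfsg.Geo.IsNondegenerateMDecomposition (Cfsg.sympForm m F) k D)
    (j : Fin t) (A : G) (hA : A ∈ TW m (D j)) :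
    sg m A ∈ Cfsg.Geo.decompositionStabilizer D ⊓ Cfsg.spGL m F := by
  refine ⟨mem_decStab_of_maps m hD _ 1 (fun i x hx => ?_), sg_mem m A⟩
  rw [sg_act, Equiv.Perm.one_apply]
  by_cases hij : i = j
  · subst hij
    exact TW_maps m (D i) A hA x hx
  · rw [TW_fixes m (D j) A hA x (fun w hw => hD.orthogonal i j hij x hx w hw)]
    exact hx

/-- replacing one component of a vector of `XS` -/
theorem repl (hD : Cfsg.Geo.IsNondegenerateMDecomposition (Cfsg.sympForm m F) k D)
    (M : Subgroup GLm) (hMI : M ≤ Cfsg.spGL m F)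
    (hPM : Cfsg.Geo.decompositionStabilizer D ⊓ Cfsg.spGL m F ≤ M)
    (j : Fin t) (a a' b : V) (ha : a ∈ D j) (ha' : a' ∈ D j) (ha0 : a ≠ 0) (ha'0 : a' ≠ 0)
    (hb : ∀ d ∈ D j, ff b d = 0) (h : a + b ∈ XS m M) : a' + b ∈ XS m M := by
  obtain ⟨A, hA, hAa⟩ := reach_of_ne_zero m (D j) (block_nd m hD j) a a' ha ha' ha0 ha'0
  have hAb : A.1 *ᵥ b = b := TW_fixes m (D j) A hA b hb
  have := XS_act m M hMI (sg m A) (hPM (sg_TW_mem m hD j A hA)) _ h
  rw [sg_act, Matrix.mulVec_add, hAa, hAb] at this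
  exact this

theorem biSup_orth (hD : Cfsg.Geo.IsNondegenerateMDecomposition (Cfsg.sympForm m F) k D)
    (S : Finset (Fin t)) (q : Fin t) (hq : q ∉ S) (b : V) (hb : b ∈ ⨆ j ∈ S, D j) (a : V)
    (ha : a ∈ D q) : ff b a = 0 := by
  have hle : (⨆ j ∈ S, D j) ≤ LinearMap.ker ((sB m F).flip a) := by
    apply iSup₂_le
    intro j hj x hx
    rw [LinearMap.mem_ker, LinearMap.BilinForm.flip_apply, sB_apply]
    exact hD.orthogonal j q (fun h => hq (h ▸ hj)) x hx a ha
  have := hle hb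
  rwa [LinearMap.mem_ker, LinearMap.BilinForm.flip_apply, sB_apply] at this

theorem exists_NI_of_mem_biSup
    (hD : Cfsg.Geo.IsNondegenerateMDecomposition (Cfsg.sympForm m F) k D)
    (S : Finset (Fin t)) (b : V) (hb : b ∈ ⨆ j ∈ S, D j) (hb0 : b ≠ 0) :
    ∃ p ∈ S, ∃ u ∈ D p, ff b u ≠ 0 := by
  by_contra hcon
  push Not at hcon
  have hall : ∀ p, D p ≤ LinearMap.ker (sB m F b) := by
    intro p u hu
    rw [LinearMap.mem_ker, sB_apply]
    by_cases hp : p ∈ S
    · exact hcon p hp u hu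
    · exact biSup_orth m hD S p hp b hb u hu
  have htop : (⊤ : Submodule F V) ≤ LinearMap.ker (sB m F b) := by
    rw [← hD.decomp.iSup_eq_top]
    exact iSup_le hall
  obtain ⟨y, hy⟩ := sf_nondeg_top m b hb0
  apply hy
  have := htop (Submodule.mem_top : y ∈ ⊤)
  rwa [LinearMap.mem_ker, sB_apply] at this

theorem exists_scalar [Fintype F] (hq : Fintype.card F ≠ 2) : ∃ c : F, c ≠ 0 ∧ c ≠ 1 := by
  classical
  by_contra hcon
  push Not at hcon
  have hsub : (Finset.univ : Finset F) ⊆ {0, 1} := by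
    intro c _
    by_cases hc : c = 0
    · simp [hc]
    · simp [hcon c hc]
  have h1 := Finset.card_le_card hsub
  have h2 : ({0, 1} : Finset F).card ≤ 2 := Finset.card_le_two
  have h3 : 1 < Fintype.card F := Fintype.one_lt_card
  rw [Finset.card_univ] at h1
  omega

theorem finrank_span_pair (x d : V) (hx0 : x ≠ 0) (hxd : ff x d ≠ 0) :
    Module.finrank F (Submodule.span F ({x, d} : Set V)) = 2 := by
  have hli : LinearIndependent F ![x, d] := by
    rw [LinearIndependent.pair_iff' hx0]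
    intro s hs
    rw [← hs, sf_smul_right, sf_self, mul_zero] at hxd
    exact hxd rfl
  have hfr := finrank_span_eq_card hli
  rw [Fintype.card_fin] at hfr
  have hrange : Set.range ![x, d] = {x, d} := by
    ext y
    simp only [Set.mem_range, Set.mem_insert_iff, Set.mem_singleton_iff]
    constructor
    · rintro ⟨i, rfl⟩
      fin_cases i
      · left; rfl
      · right; rfl
    · rintro (rfl | rfl)
      · exact ⟨0, rfl⟩
      · exact ⟨1, rfl⟩
  rw [hrange] at hfr
  exact hfr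

/-- a second vector of the block orthogonal to a given one -/
theorem exists_orth_other [Fintype F]
    (hD : Cfsg.Geo.IsNondegenerateMDecomposition (Cfsg.sympForm m F) k D)
    (hex : ¬ (k = 2 ∧ Fintype.card F = 2)) (q : Fin t) (x : V) (hx : x ∈ D q) (hx0 : x ≠ 0) :
    ∃ y ∈ D q, y ≠ 0 ∧ y ≠ x ∧ ff x y = 0 := by
  by_cases hq : Fintype.card F = 2
  · have hk : k ≠ 2 := fun h => hex ⟨h, hq⟩
    obtain ⟨d, hd, hxd⟩ := block_nd m hD q x hx hx0
    have hge : Submodule.span F ({x, d} : Set V) ≤ D q := by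
      rw [Submodule.span_le]
      rintro y (rfl | rfl)
      · exact hx
      · exact hd
    have hz : ∃ z ∈ D q, z ∉ Submodule.span F ({x, d} : Set V) := by
      by_contra hcon
      push Not at hcon
      have heq : D q = Submodule.span F ({x, d} : Set V) := le_antisymm hcon hge
      have h1 := hD.decomp.finrank_eq q
      rw [heq, finrank_span_pair m x d hx0 hxd] at h1
      exact hk h1.symm
    obtain ⟨z, hz, hzs⟩ := hz
    have hxs : x ∈ Submodule.span F ({x, d} : Set V) :=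
      Submodule.subset_span (Set.mem_insert _ _)
    have hds : d ∈ Submodule.span F ({x, d} : Set V) :=
      Submodule.subset_span (Set.mem_insert_of_mem _ rfl)
    have hys : z - (ff x z / ff x d) • d ∉ Submodule.span F ({x, d} : Set V) := by
      intro h
      apply hzs
      have := Submodule.add_mem _ h (Submodule.smul_mem _ (ff x z / ff x d) hds)
      rwa [sub_add_cancel] at this
    refine ⟨z - (ff x z / ff x d) • d, (D q).sub_mem hz ((D q).smul_mem _ hd), ?_, ?_, ?_⟩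
    · intro h
      rw [h] at hys
      exact hys (Submodule.zero_mem _)
    · intro h
      rw [h] at hys
      exact hys hxs
    · rw [sf_sub_right, sf_smul_right, div_mul_cancel₀ _ hxd, sub_self]
  · obtain ⟨c, hc0, hc1⟩ := exists_scalar hq
    refine ⟨c • x, (D q).smul_mem _ hx, smul_ne_zero hc0 hx0, ?_, ?_⟩
    · intro h
      have h2 : (c - 1) • x = 0 := by rw [sub_smul, one_smul, h, sub_self]
      rcases smul_eq_zero.mp h2 with h3 | h3
      · exact hc1 (sub_eq_zero.mp h3)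
      · exact hx0 h3
    · rw [sf_smul_right, sf_self, mul_zero]

end

end Cfsg.Agent.Lib.Helper51.SpDec
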