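import Mathlib
import Cfsg.Agent.Lib.Helper51.SpDec1
import Cfsg.Agent.Lib.Helper20.SympEmbed
import Cfsg.Agent.S0752

set_option autoImplicit false

namespace Cfsg.Agent.Lib.Helper51.SpDec

open Cfsg.Agent.Lib.Helper18 Cfsg.Agent.Lib.Helper11.SpPerfect Cfsg.Agent.Lib.Helper11.SpMax Matrix

section
variable {F : Type*} [Field F] (m : ℕ)

local notation "V" => (Fin m ⊕ Fin m → F)
local notation "ff" => Cfsg.sympForm m F
local notation "G" => Matrix.symplecticGroup (Fin m) F
local notation "GLm" => Matrix.GeneralLinearGroup (Fin m ⊕ Fin m) F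

theorem exists_symp_map_frame' [Finite F] {ι : Type*} [Fintype ι] (s s' : ι → V)
    (hs : LinearIndependent F s) (hs' : LinearIndependent F s')
    (h : ∀ i j, ff (s i) (s j) = ff (s' i) (s' j)) : ∃ A : G, ∀ i, A.1 *ᵥ s i = s' i := by
  let e := Fintype.equivFin ι
  obtain ⟨A, hA⟩ := exists_symp_map_frame (s ∘ e.symm) (s' ∘ e.symm)
    (hs.comp _ e.symm.injective) (hs'.comp _ e.symm.injective) (fun i j => h _ _)
  refine ⟨A, fun i => ?_⟩
  have := hA (e i)
  simpa using this

variable {t : ℕ} {k : ℕ} {D : Fin t → Submodule F (Fin m ⊕ Fin m → F)}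

/-- the restricted form on a block -/
noncomputable def rB (W : Submodule F V) : LinearMap.BilinForm F W := (sB m F).restrict W

theorem rB_apply (W : Submodule F V) (x y : W) : rB m W x y = ff (x : V) (y : V) := by
  unfold rB
  rw [LinearMap.BilinForm.restrict_apply, LinearMap.domRestrict_apply, sB_apply]

theorem rB_alt (W : Submodule F V) : (rB m W).IsAlt := fun x => by
  rw [rB_apply]; exact sf_self m _

theorem rB_nondeg (W : Submodule F V) (hW : Cfsg.Geo.IsNondegenerateOn (Cfsg.sympForm m F) W) :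
    (rB m W).Nondegenerate := by
  constructor
  · rintro ⟨x, hx⟩ h
    by_contra hx0
    have hx0' : x ≠ 0 := fun h0 => hx0 (Subtype.ext h0)
    obtain ⟨y, hy, hxy⟩ := (hW x hx hx0').2
    have := h ⟨y, hy⟩
    rw [rB_apply] at this
    exact hxy this
  · rintro ⟨x, hx⟩ h
    by_contra hx0
    have hx0' : x ≠ 0 := fun h0 => hx0 (Subtype.ext h0)
    obtain ⟨y, hy, hxy⟩ := (hW x hx hx0').1
    have := h ⟨y, hy⟩
    rw [rB_apply] at this
    exact hxy this

theorem exists_half (hD : Cfsg.Geo.IsNondegenerateMDecomposition (Cfsg.sympForm m F) k D) :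
    ∃ m0 : ℕ, k = 2 * m0 := by
  classical
  have ht := hD.decomp.two_le
  set j : Fin t := ⟨0, by omega⟩ with hj
  obtain ⟨m', k', b, h1, h2, h3, h4⟩ := Cfsg.Agent.S0752.result (rB m (D j)) (rB_alt m (D j))
  have hB := rB_nondeg m (D j) (hD.nondegenerate j)
  obtain rfl : k' = 0 := by
    by_contra hk
    have hk' : 0 < k' := Nat.pos_of_ne_zero hk
    have h0 : b (Sum.inr ⟨0, hk'⟩) = 0 := hB.1 _ (h4 ⟨0, hk'⟩)
    exact b.ne_zero _ h0
  have hcard : Module.finrank F (D j) = 2 * m' := by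
    rw [Module.finrank_eq_card_basis b]
    simp [two_mul]
  rw [hD.decomp.finrank_eq] at hcard
  exact ⟨m', hcard⟩

/-- block permutations are induced by symplectic matrices -/
theorem exists_blockperm [Fintype F]
    (hD : Cfsg.Geo.IsNondegenerateMDecomposition (Cfsg.sympForm m F) k D)
    (σ : Equiv.Perm (Fin t)) : ∃ A : G, ∀ j, ∀ x ∈ D j, A.1 *ᵥ x ∈ D (σ j) := by
  classical
  obtain ⟨m0, hk⟩ := exists_half m hD
  have hbas : ∀ j, ∃ b : Module.Basis (Fin m0 ⊕ Fin m0) F (D j),
      ∀ a a', ff (b a : V) (b a' : V) = Matrix.J (Fin m0) F a a' := by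
    intro j
    obtain ⟨b, hb⟩ := Cfsg.Agent.Lib.Helper20.exists_symplectic_basis (rB m (D j)) (rB_alt m (D j))
      (rB_nondeg m (D j) (hD.nondegenerate j)) m0 (by rw [hD.decomp.finrank_eq j, hk])
    refine ⟨b, fun a a' => ?_⟩
    have := congrFun (congrFun hb a) a'
    rw [LinearMap.BilinForm.toMatrix_apply, rB_apply] at this
    exact this
  choose b hb using hbas
  have hint : DirectSum.IsInternal D :=
    DirectSum.isInternal_submodule_of_iSupIndep_of_iSup_eq_top hD.decomp.indep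
      hD.decomp.iSup_eq_top
  obtain ⟨s, hsdef⟩ : ∃ s : (Σ _ : Fin t, (Fin m0 ⊕ Fin m0)) → V,
      s = fun x => (b x.1 x.2 : V) := ⟨_, rfl⟩
  obtain ⟨s', hs'def⟩ : ∃ s' : (Σ _ : Fin t, (Fin m0 ⊕ Fin m0)) → V,
      s' = fun x => (b (σ x.1) x.2 : V) := ⟨_, rfl⟩
  have hs : LinearIndependent F s := by
    have heq : ⇑(hint.collectedBasis b) = s := by
      rw [hsdef]
      exact hint.collectedBasis_coe b
    rw [← heq]
    exact (hint.collectedBasis b).linearIndependent
  have hs' : LinearIndependent F s' := by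
    have hinj : Function.Injective
        (fun x : (Σ _ : Fin t, (Fin m0 ⊕ Fin m0)) => (⟨σ x.1, x.2⟩ : Σ _ : Fin t, (Fin m0 ⊕ Fin m0))) := by
      rintro ⟨j, a⟩ ⟨j', a'⟩ h
      simp only [Sigma.mk.injEq] at h
      obtain ⟨h1, h2⟩ := h
      have := σ.injective h1
      subst this
      simp only [heq_eq_eq] at h2
      rw [h2]
    have h2 : s' = s ∘ (fun x : (Σ _ : Fin t, (Fin m0 ⊕ Fin m0)) =>
        (⟨σ x.1, x.2⟩ : Σ _ : Fin t, (Fin m0 ⊕ Fin m0))) := by
      rw [hs'def, hsdef]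
      rfl
    rw [h2]
    exact hs.comp _ hinj
  have hgram : ∀ x y, ff (s x) (s y) = ff (s' x) (s' y) := by
    rintro ⟨j, a⟩ ⟨j', a'⟩
    by_cases h : j = j'
    · subst h
      rw [hsdef, hs'def]
      show ff (b j a : V) (b j a' : V) = ff (b (σ j) a : V) (b (σ j) a' : V)
      rw [hb, hb]
    · rw [hsdef, hs'def]
      show ff (b j a : V) (b j' a' : V) = ff (b (σ j) a : V) (b (σ j') a' : V)
      rw [hD.orthogonal j j' h _ (b j a).2 _ (b j' a').2,
        hD.orthogonal (σ j) (σ j') (fun h' => h (σ.injective h')) _ (b _ a).2 _ (b _ a').2]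
  obtain ⟨A, hA⟩ := exists_symp_map_frame' m s s' hs hs' hgram
  refine ⟨A, fun j x hx => ?_⟩
  have hrepr := (b j).sum_repr ⟨x, hx⟩
  have hx' : x = ∑ a, ((b j).repr ⟨x, hx⟩ a) • (b j a : V) := by
    have := congrArg Subtype.val hrepr
    rw [Submodule.coe_sum] at this
    simp only [Submodule.coe_smul] at this
    exact this.symm
  rw [hx', ← Matrix.mulVecLin_apply, map_sum]
  apply Submodule.sum_mem
  intro a _
  rw [map_smul, Matrix.mulVecLin_apply]
  apply Submodule.smul_mem
  have := hA ⟨j, a⟩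
  rw [hsdef, hs'def] at this
  simp only at this
  rw [this]
  exact (b (σ j) a).2

end

end Cfsg.Agent.Lib.Helper51.SpDec
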