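import Mathlib
import Cfsg.Agent.Lib.Helper51.SpDec2

set_option autoImplicit false

namespace Cfsg.Agent.Lib.Helper51.SpDec

open Cfsg.Agent.Lib.Helper18 Cfsg.Agent.Lib.Helper11.SpPerfect Cfsg.Agent.Lib.Helper11.SpMax Matrix

section
variable {F : Type*} [Field F] [Fintype F] (m : ℕ)

local notation "V" => (Fin m ⊕ Fin m → F)
local notation "ff" => Cfsg.sympForm m F
local notation "G" => Matrix.symplecticGroup (Fin m) F
local notation "GLm" => Matrix.GeneralLinearGroup (Fin m ⊕ Fin m) F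

variable {t : ℕ} {k : ℕ} {D : Fin t → Submodule F (Fin m ⊕ Fin m → F)}

theorem block_ne_bot (hD : Cfsg.Geo.IsNondegenerateMDecomposition (Cfsg.sympForm m F) k D)
    (i : Fin t) : D i ≠ ⊥ := by
  intro h
  have h1 := hD.decomp.finrank_eq i
  rw [h, finrank_bot] at h1
  have := hD.decomp.pos
  omega

theorem toLin_inj (g : GLm) :
    Function.Injective (Matrix.toLin' (g : Matrix (Fin m ⊕ Fin m) (Fin m ⊕ Fin m) F)) := by
  intro x y hxy
  rw [Matrix.toLin'_apply, Matrix.toLin'_apply] at hxy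
  have := congrArg (fun z => g⁻¹.1 *ᵥ z) hxy
  simp only [gl_inv_act] at this
  exact this

theorem map_eq_of_maps (hD : Cfsg.Geo.IsNondegenerateMDecomposition (Cfsg.sympForm m F) k D)
    (g : GLm) (i j : Fin t) (h : ∀ x ∈ D i, g.1 *ᵥ x ∈ D j) :
    (D i).map (Matrix.toLin' (g : Matrix (Fin m ⊕ Fin m) (Fin m ⊕ Fin m) F)) = D j := by
  apply Submodule.eq_of_le_of_finrank_eq
  · rintro _ ⟨x, hx, rfl⟩
    rw [Matrix.toLin'_apply]
    exact h x hx
  · rw [← LinearEquiv.finrank_eq (Submodule.equivMapOfInjective _ (toLin_inj m g) (D i)),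
      hD.decomp.finrank_eq, hD.decomp.finrank_eq]

theorem maps_single (hD : Cfsg.Geo.IsNondegenerateMDecomposition (Cfsg.sympForm m F) k D)
    (g : GLm) (hg : ∀ i, ∀ w ∈ D i, ∃ j, g.1 *ᵥ w ∈ D j) (i : Fin t) :
    ∃ j, ∀ w ∈ D i, g.1 *ᵥ w ∈ D j := by
  obtain ⟨w0, hw0, hw00⟩ := Submodule.exists_mem_ne_zero_of_ne_bot (block_ne_bot m hD i)
  obtain ⟨j0, hj0⟩ := hg i w0 hw0
  refine ⟨j0, fun w hw => ?_⟩
  by_cases hgw : g.1 *ᵥ w = 0
  · rw [hgw]; exact Submodule.zero_mem _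
  obtain ⟨j1, hj1⟩ := hg i w hw
  obtain ⟨j2, hj2⟩ := hg i (w0 + w) ((D i).add_mem hw0 hw)
  rw [Matrix.mulVec_add] at hj2
  have hgw0 : g.1 *ᵥ w0 ≠ 0 := gl_ne_zero m g w0 hw00
  by_cases h01 : j0 = j1
  · rw [h01]; exact hj1
  exfalso
  obtain ⟨d0, hd0, hne0⟩ := NI_self m hD j0 _ hj0 hgw0
  obtain ⟨d1, hd1, hne1⟩ := NI_self m hD j1 _ hj1 hgw
  have e0 : j0 = j2 := NI_of_mem m hD j2 j0 _ hj2 ⟨d0, hd0, by
    rw [sf_add_left, hD.orthogonal j1 j0 (Ne.symm h01) _ hj1 d0 hd0, add_zero]; exact hne0⟩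
  have e1 : j1 = j2 := NI_of_mem m hD j2 j1 _ hj2 ⟨d1, hd1, by
    rw [sf_add_left, hD.orthogonal j0 j1 h01 _ hj0 d1 hd1, zero_add]; exact hne1⟩
  exact h01 (e0.trans e1.symm)

theorem sigma_inj (hD : Cfsg.Geo.IsNondegenerateMDecomposition (Cfsg.sympForm m F) k D)
    (g : GLm) (σ : Fin t → Fin t) (h : ∀ i, ∀ w ∈ D i, g.1 *ᵥ w ∈ D (σ i)) :
    Function.Injective σ := by
  intro i i' hii
  by_contra hne
  have hmap := map_eq_of_maps m hD g i (σ i) (h i)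
  obtain ⟨w', hw', hw'0⟩ := Submodule.exists_mem_ne_zero_of_ne_bot (block_ne_bot m hD i')
  have h1 : g.1 *ᵥ w' ∈ D (σ i) := by rw [hii]; exact h i' w' hw'
  rw [← hmap] at h1
  obtain ⟨w, hw, hww⟩ := h1
  have hw_eq : w = w' := toLin_inj m g (by rw [hww, Matrix.toLin'_apply])
  subst hw_eq
  exact hw'0 (inter_zero m hD i i' hne w hw hw')

theorem exists_mixed (hD : Cfsg.Geo.IsNondegenerateMDecomposition (Cfsg.sympForm m F) k D)
    (M : Subgroup GLm) (hMI : M ≤ Cfsg.spGL m F)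
    (hPM : Cfsg.Geo.decompositionStabilizer D ⊓ Cfsg.spGL m F ≤ M)
    (g : GLm) (hgM : g ∈ M) (hg : g ∉ Cfsg.Geo.decompositionStabilizer D) :
    ∃ x ∈ XS m M, Mixed m D x := by
  by_contra hcon
  push Not at hcon
  have hsingle : ∀ x ∈ XS m M, ∃ j, x ∈ D j := by
    intro x hx
    rcases single_or_mixed m hD x with h | h
    · exact h
    · exact absurd h (hcon x hx)
  have hg1 : ∀ i, ∀ w ∈ D i, ∃ j, g.1 *ᵥ w ∈ D j := fun i w hw =>
    hsingle _ (XS_act m M hMI g hgM w (D_sub_XS m hD M hPM i w hw))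
  choose σ hσ using maps_single m hD g hg1
  have hinj := sigma_inj m hD g σ hσ
  have hbij : Function.Bijective σ := Finite.injective_iff_bijective.mp hinj
  exact hg (mem_decStab_of_maps m hD g (Equiv.ofBijective σ hbij)
    (fun i x hx => by rw [Equiv.ofBijective_apply]; exact hσ i x hx))

theorem pure2_of_mixed (hD : Cfsg.Geo.IsNondegenerateMDecomposition (Cfsg.sympForm m F) k D)
    (hex : ¬ (k = 2 ∧ Fintype.card F = 2))
    (M : Subgroup GLm) (hMI : M ≤ Cfsg.spGL m F)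
    (hPM : Cfsg.Geo.decompositionStabilizer D ⊓ Cfsg.spGL m F ≤ M)
    (x : V) (hx : x ∈ XS m M) (hmx : Mixed m D x) :
    ∃ p q : Fin t, p ≠ q ∧ ∃ a ∈ D p, ∃ b ∈ D q, a ≠ 0 ∧ b ≠ 0 ∧ a + b ∈ XS m M := by
  obtain ⟨p, q, hpq, a, ha, b, hb, r, ha0, hb0, hrp, hrq, rfl⟩ := hmx
  obtain ⟨yp, hyp, hayp⟩ := block_nd m hD p a ha ha0
  obtain ⟨yq, hyq, hyq0, hyqb, hbyq⟩ := exists_orth_other m hD hex q b hb hb0
  have hyp0 : yp ≠ 0 := by
    rintro rfl
    rw [sf_zero_right] at hayp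
    exact hayp rfl
  have h1 : yp + (b + r) ∈ XS m M := by
    apply repl m hD M hMI hPM p a yp (b + r) ha hyp ha0 hyp0
    · intro d hd
      rw [sf_add_left, hD.orthogonal q p (Ne.symm hpq) b hb d hd, hrp d hd, add_zero]
    · rw [← add_assoc]; exact hx
  have h2 : yq + (yp + r) ∈ XS m M := by
    apply repl m hD M hMI hPM q b yq (yp + r) hb hyq hb0 hyq0
    · intro d hd
      rw [sf_add_left, hD.orthogonal p q hpq yp hyp d hd, hrq d hd, add_zero]
    · have : b + (yp + r) = yp + (b + r) := by abel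
      rw [this]; exact h1
  have z1 : ff a yq = 0 := hD.orthogonal p q hpq a ha yq hyq
  have z2 : ff b yp = 0 := hD.orthogonal q p (Ne.symm hpq) b hb yp hyp
  have z3 : ff a r = 0 := by rw [sf_swap, hrp a ha, neg_zero]
  have z4 : ff b r = 0 := by rw [sf_swap, hrq b hb, neg_zero]
  have z5 : ff r yq = 0 := hrq yq hyq
  have z6 : ff r yp = 0 := hrp yp hyp
  have z7 : ff r r = 0 := sf_self m r
  have hform : ff (a + b + r) (yq + (yp + r)) = ff a yp := by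
    simp only [sf_add_left, sf_add_right, z1, z2, z3, z4, z5, z6, z7, hbyq]
    ring
  have h3 := XS_hyp m M hMI _ _ h2 hx (by rw [hform]; exact hayp) (-1)
  refine ⟨p, q, hpq, a - yp, (D p).sub_mem ha hyp, b - yq, (D q).sub_mem hb hyq, ?_, ?_, ?_⟩
  · intro h
    rw [sub_eq_zero] at h
    rw [h, sf_self] at hayp
    exact hayp rfl
  · intro h
    rw [sub_eq_zero] at h
    exact hyqb h.symm
  · have : a - yp + (b - yq) = a + b + r + (-1 : F) • (yq + (yp + r)) := by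
      rw [neg_one_smul]; abel
    rw [this]; exact h3

theorem pure2_all (hD : Cfsg.Geo.IsNondegenerateMDecomposition (Cfsg.sympForm m F) k D)
    (M : Subgroup GLm) (hMI : M ≤ Cfsg.spGL m F)
    (hPM : Cfsg.Geo.decompositionStabilizer D ⊓ Cfsg.spGL m F ≤ M)
    (p q : Fin t) (hpq : p ≠ q) (a b : V) (ha : a ∈ D p) (hb : b ∈ D q) (ha0 : a ≠ 0)
    (hb0 : b ≠ 0) (hab : a + b ∈ XS m M) (p' q' : Fin t) (hpq' : p' ≠ q') (a' b' : V)
    (ha' : a' ∈ D p') (hb' : b' ∈ D q') (ha'0 : a' ≠ 0) (hb'0 : b' ≠ 0) :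
    a' + b' ∈ XS m M := by
  obtain ⟨σ, hσp, hσq⟩ := exists_perm_two p q p' q' hpq hpq'
  obtain ⟨A, hA⟩ := exists_blockperm m hD σ
  have hAP : sg m A ∈ Cfsg.Geo.decompositionStabilizer D ⊓ Cfsg.spGL m F :=
    ⟨mem_decStab_of_maps m hD _ σ (fun i x hx => by rw [sg_act]; exact hA i x hx), sg_mem m A⟩
  have h1 := XS_act m M hMI (sg m A) (hPM hAP) _ hab
  rw [sg_act, Matrix.mulVec_add] at h1
  have hAa : A.1 *ᵥ a ∈ D p' := hσp ▸ hA p a ha
  have hAb : A.1 *ᵥ b ∈ D q' := hσq ▸ hA q b hb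
  have h2 : a' + A.1 *ᵥ b ∈ XS m M :=
    repl m hD M hMI hPM p' (A.1 *ᵥ a) a' (A.1 *ᵥ b) hAa ha' (sp_ne_zero m A a ha0) ha'0
      (fun d hd => hD.orthogonal q' p' (Ne.symm hpq') _ hAb d hd) h1
  have h3 : b' + a' ∈ XS m M :=
    repl m hD M hMI hPM q' (A.1 *ᵥ b) b' a' hAb hb' (sp_ne_zero m A b hb0) hb'0
      (fun d hd => hD.orthogonal p' q' hpq' a' ha' d hd) (by rw [add_comm]; exact h2)
  rw [add_comm]; exact h3

theorem all_of_pure2 (hD : Cfsg.Geo.IsNondegenerateMDecomposition (Cfsg.sympForm m F) k D)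
    (M : Subgroup GLm) (hMI : M ≤ Cfsg.spGL m F)
    (hPM : Cfsg.Geo.decompositionStabilizer D ⊓ Cfsg.spGL m F ≤ M)
    (H2 : ∀ p' q' : Fin t, p' ≠ q' → ∀ a' ∈ D p', ∀ b' ∈ D q', a' ≠ 0 → b' ≠ 0 →
      a' + b' ∈ XS m M) (S : Finset (Fin t)) : ∀ z ∈ ⨆ j ∈ S, D j, z ∈ XS m M := by
  classical
  induction S using Finset.induction_on with
  | empty =>
    intro z hz
    simp only [Finset.notMem_empty, not_false_eq_true, iSup_neg, iSup_bot, Submodule.mem_bot] at hz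
    rw [hz]; exact XS_zero m M
  | insert q S' hq ih =>
    intro z hz
    rw [Finset.iSup_insert] at hz
    obtain ⟨a, ha, b, hb, rfl⟩ := Submodule.mem_sup.mp hz
    by_cases ha0 : a = 0
    · rw [ha0, zero_add]; exact ih b hb
    by_cases hb0 : b = 0
    · rw [hb0, add_zero]; exact D_sub_XS m hD M hPM q a ha
    obtain ⟨p, hp, u, hu, hbu⟩ := exists_NI_of_mem_biSup m hD S' b hb hb0
    have hpq : p ≠ q := fun h => hq (h ▸ hp)
    have hu0 : u ≠ 0 := by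
      rintro rfl
      rw [sf_zero_right] at hbu
      exact hbu rfl
    have hU : u + a ∈ XS m M := H2 p q hpq u hu a ha hu0 ha0
    have huS : u ∈ ⨆ j ∈ S', D j :=
      Submodule.mem_iSup_of_mem p (Submodule.mem_iSup_of_mem hp hu)
    have hv : b - u ∈ XS m M := ih _ (Submodule.sub_mem _ hb huS)
    have hform : ff (b - u) (u + a) = ff b u := by
      rw [sf_sub_left, sf_add_right, sf_add_right, biSup_orth m hD S' q hq b hb a ha, sf_self,
        hD.orthogonal p q hpq u hu a ha]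
      ring
    have := XS_hyp m M hMI _ _ hU hv (by rw [hform]; exact hbu) 1
    rw [one_smul] at this
    have e : b - u + (u + a) = a + b := by abel
    rw [e] at this
    exact this

theorem exists_not_stab (hD : Cfsg.Geo.IsNondegenerateMDecomposition (Cfsg.sympForm m F) k D) :
    ∃ g : GLm, g ∈ Cfsg.spGL m F ∧ g ∉ Cfsg.Geo.decompositionStabilizer D := by
  have ht := hD.decomp.two_le
  obtain ⟨i0, hi0⟩ : ∃ i0 : Fin t, i0 = ⟨0, by omega⟩ := ⟨_, rfl⟩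
  obtain ⟨i1, hi1⟩ : ∃ i1 : Fin t, i1 = ⟨1, by omega⟩ := ⟨_, rfl⟩
  have h01 : i0 ≠ i1 := by rw [hi0, hi1]; simp [Fin.ext_iff]
  obtain ⟨x0, hx0, hx00⟩ := Submodule.exists_mem_ne_zero_of_ne_bot (block_ne_bot m hD i0)
  obtain ⟨x1, hx1, hx10⟩ := Submodule.exists_mem_ne_zero_of_ne_bot (block_ne_bot m hD i1)
  obtain ⟨b0, hb0, hxb⟩ := block_nd m hD i0 x0 hx0 hx00
  obtain ⟨d1, hd1, hxd⟩ := block_nd m hD i1 x1 hx1 hx10
  refine ⟨tg m (x0 + x1) 1, tg_mem m _ _, ?_⟩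
  rintro ⟨σ, hσ⟩
  obtain ⟨y, hy⟩ : ∃ y : V, y = (tg m (x0 + x1) 1).1 *ᵥ b0 := ⟨_, rfl⟩
  have hymem : y ∈ D (σ i0) := by
    rw [← hσ i0, Submodule.mem_map]
    exact ⟨b0, hb0, by rw [hy, Matrix.toLin'_apply]⟩
  have hb0w : ff b0 (x0 + x1) = ff b0 x0 := by
    rw [sf_add_right, hD.orthogonal i0 i1 h01 b0 hb0 x1 hx1, add_zero]
  have hyv : y = b0 + (ff b0 x0) • (x0 + x1) := by
    rw [hy, tg_act, one_mul, hb0w]
  have hc : ff b0 x0 ≠ 0 := by
    rw [sf_swap]; exact neg_ne_zero.mpr hxb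
  have hN0 : NI m D y i0 := by
    refine ⟨x0, hx0, ?_⟩
    rw [hyv, sf_add_left, sf_smul_left, sf_add_left, sf_self,
      hD.orthogonal i1 i0 (Ne.symm h01) x1 hx1 x0 hx0, add_zero, mul_zero, add_zero]
    exact hc
  have hN1 : NI m D y i1 := by
    refine ⟨d1, hd1, ?_⟩
    rw [hyv, sf_add_left, sf_smul_left, sf_add_left, hD.orthogonal i0 i1 h01 b0 hb0 d1 hd1,
      hD.orthogonal i0 i1 h01 x0 hx0 d1 hd1, zero_add, zero_add]
    exact mul_ne_zero hc hxd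
  have e0 := NI_of_mem m hD (σ i0) i0 y hymem hN0
  have e1 := NI_of_mem m hD (σ i0) i1 y hymem hN1
  exact h01 (e0.trans e1.symm)

/-- the stabiliser of a nondegenerate decomposition is maximal in the symplectic group -/
theorem maximal (hD : Cfsg.Geo.IsNondegenerateMDecomposition (Cfsg.sympForm m F) k D)
    (hex : ¬ (k = 2 ∧ Fintype.card F = 2)) :
    Cfsg.Geo.IsMaximalIn (Cfsg.spGL m F)
      (Cfsg.Geo.decompositionStabilizer D ⊓ Cfsg.spGL m F) := by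
  refine ⟨lt_of_le_of_ne inf_le_right ?_, ?_⟩
  · intro heq
    obtain ⟨g, hg, hgs⟩ := exists_not_stab m hD
    rw [← heq] at hg
    exact hgs hg.1
  · intro M hPM hMI
    by_cases hMP : M = Cfsg.Geo.decompositionStabilizer D ⊓ Cfsg.spGL m F
    · exact Or.inl hMP
    right
    have hex' : ∃ g ∈ M, g ∉ Cfsg.Geo.decompositionStabilizer D ⊓ Cfsg.spGL m F := by
      by_contra hcon
      push Not at hcon
      exact hMP (le_antisymm hcon hPM)
    obtain ⟨g, hgM, hgP⟩ := hex'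
    have hgs : g ∉ Cfsg.Geo.decompositionStabilizer D := fun h => hgP ⟨h, hMI hgM⟩
    obtain ⟨x, hx, hmx⟩ := exists_mixed m hD M hMI hPM g hgM hgs
    obtain ⟨p, q, hpq, a, ha, b, hb, ha0, hb0, hab⟩ :=
      pure2_of_mixed m hD hex M hMI hPM x hx hmx
    have H2 : ∀ p' q' : Fin t, p' ≠ q' → ∀ a' ∈ D p', ∀ b' ∈ D q', a' ≠ 0 → b' ≠ 0 →
        a' + b' ∈ XS m M := fun p' q' hpq' a' ha' b' hb' ha'0 hb'0 =>
      pure2_all m hD M hMI hPM p q hpq a b ha hb ha0 hb0 hab p' q' hpq' a' b' ha' hb' ha'0 hb'0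
    apply le_antisymm hMI
    apply le_of_XS_univ
    intro v
    apply all_of_pure2 m hD M hMI hPM H2 Finset.univ v
    simp only [Finset.mem_univ, iSup_pos, hD.decomp.iSup_eq_top, Submodule.mem_top]

end

end Cfsg.Agent.Lib.Helper51.SpDec
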