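import Mathlib
import Cfsg.Agent.Lib.Helper69.StNDefs
import Cfsg.Agent.S2530

set_option autoImplicit false
set_option linter.unusedVariables false

/-!
# K-StN leaf H2 (S2401): an element of `Nmon` in the kernel of `φ` lies in `Htor`
(`cs.lift` of the simple reflections into `Nmon / Htor`, Coxeter presentation of `S_{k+1}` from S2530)
-/

namespace Cfsg.Agent.Lib.Helper51.StN

open Cfsg.Agent.Lib.Helper69.StN Matrix

variable {K : Type*} [Field K] {S : Type*} [Group S]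
variable {k : ℕ} {Y : Fin (k + 1) → Fin (k + 1) → K → S}

theorem Nmon_ker_le_Htor (hX : IsSt Y) (hA : HasActsW Y)
    (hconj : ∀ {m h : S}, m ∈ Nmon Y → h ∈ Htor Y → m * h * m⁻¹ ∈ Htor Y)
    (hword : ∀ m ∈ Nmon Y, ∃ h ∈ Htor Y, ∃ l : List (Fin k), m = h * (l.map (sS Y)).prod)
    (hcox : ∀ a b : Fin k, (sS Y a * sS Y b) ^ ((CoxeterMatrix.A k).M a b) ∈ Htor Y)
    (hHacts : ∀ {h : S}, h ∈ Htor Y → ∃ d, Acts Y h 1 d)
    {φ : S →* SpecialLinearGroup (Fin (k + 1)) K}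
    (hperm : ∀ {g : S} {σ : Equiv.Perm (Fin (k + 1))} {d : Fin (k + 1) → K}, Acts Y g σ d → φ g = 1 → σ = 1)
    {m : S} (hm : m ∈ Nmon Y) (h1 : φ m = 1) : m ∈ Htor Y := by
  classical
  set Hn : Subgroup ↥(Nmon Y) := (Htor Y).subgroupOf (Nmon Y) with hHn
  have hnorm : Hn.Normal := by
    constructor
    intro x hx g
    rw [hHn, Subgroup.mem_subgroupOf] at hx ⊢
    have := hconj g.2 hx
    simpa using this
  let f : Fin k → ↥(Nmon Y) ⧸ Hn := fun a => QuotientGroup.mk ⟨sS Y a, sS_mem_Nmon Y a⟩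
  have hf : (CoxeterMatrix.A k).IsLiftable f := by
    intro a b
    have e : f a * f b = QuotientGroup.mk
        ((⟨sS Y a, sS_mem_Nmon Y a⟩ * ⟨sS Y b, sS_mem_Nmon Y b⟩ : ↥(Nmon Y))) := rfl
    rw [e, ← QuotientGroup.mk_pow, QuotientGroup.eq_one_iff, hHn, Subgroup.mem_subgroupOf]
    simpa using hcox a b
  obtain ⟨cs, hcs⟩ := Cfsg.Agent.S2530.result k
  let ψ : Equiv.Perm (Fin (k + 1)) →* ↥(Nmon Y) ⧸ Hn := cs.lift ⟨f, hf⟩
  have hψ : ∀ a, ψ (cs.simple a) = f a := fun a => cs.lift_apply_simple hf a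
  -- (i) every permutation has a lift acting as that permutation
  have hi : ∀ τ : Equiv.Perm (Fin (k + 1)), ∃ m₁ : ↥(Nmon Y), ∃ d,
      (QuotientGroup.mk m₁ : ↥(Nmon Y) ⧸ Hn) = ψ τ ∧ Acts Y (m₁ : S) τ d := by
    intro τ
    refine cs.simple_induction_left (p := fun τ => ∃ m₁ : ↥(Nmon Y), ∃ d,
      (QuotientGroup.mk m₁ : ↥(Nmon Y) ⧸ Hn) = ψ τ ∧ Acts Y (m₁ : S) τ d) τ ?_ ?_
    · refine ⟨1, fun _ => 1, by simp, ?_⟩
      simpa using Acts.one Y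
    · rintro τ' a ⟨m₁, d, e1, e2⟩
      have ha := hA a.castSucc a.succ (Fin.castSucc_lt_succ (i := a)).ne 1 one_ne_zero
      have hact := Acts.mul ha e2
      rw [← hcs a] at hact
      refine ⟨⟨sS Y a, sS_mem_Nmon Y a⟩ * m₁, _, ?_, hact⟩
      rw [map_mul, hψ, ← e1]
      rfl
  -- (ii) words
  have hw : ∀ l : List (Fin k), ∃ hmem : (l.map (sS Y)).prod ∈ Nmon Y,
      ψ (cs.wordProd l) = QuotientGroup.mk ⟨(l.map (sS Y)).prod, hmem⟩ := by
    intro l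
    induction l with
    | nil =>
      refine ⟨by simp, ?_⟩
      rw [CoxeterSystem.wordProd_nil, map_one]
      rfl
    | cons a l ih =>
      obtain ⟨hmem, e⟩ := ih
      refine ⟨by simpa using (Nmon Y).mul_mem (sS_mem_Nmon Y a) hmem, ?_⟩
      rw [CoxeterSystem.wordProd_cons, map_mul, hψ, e]
      rfl
  obtain ⟨h, hh', l, rfl⟩ := hword m hm
  obtain ⟨hmem, e⟩ := hw l
  set τ := cs.wordProd l with hτ
  have hmk : (QuotientGroup.mk ⟨h * (l.map (sS Y)).prod, hm⟩ : ↥(Nmon Y) ⧸ Hn) = ψ τ := by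
    have e2 : (⟨h * (l.map (sS Y)).prod, hm⟩ : ↥(Nmon Y)) =
        ⟨h, Htor_le_Nmon Y hh'⟩ * ⟨(l.map (sS Y)).prod, hmem⟩ := rfl
    rw [e2, QuotientGroup.mk_mul, e]
    have : (QuotientGroup.mk ⟨h, Htor_le_Nmon Y hh'⟩ : ↥(Nmon Y) ⧸ Hn) = 1 := by
      rw [QuotientGroup.eq_one_iff, hHn, Subgroup.mem_subgroupOf]
      exact hh'
    rw [this, one_mul]
  obtain ⟨m₁, d, e1, e2⟩ := hi τ
  have hquot : (QuotientGroup.mk m₁ : ↥(Nmon Y) ⧸ Hn) =
      QuotientGroup.mk ⟨h * (l.map (sS Y)).prod, hm⟩ := by rw [e1, hmk]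
  rw [QuotientGroup.eq, hHn, Subgroup.mem_subgroupOf] at hquot
  have hh2 : (m₁ : S)⁻¹ * (h * (l.map (sS Y)).prod) ∈ Htor Y := by simpa using hquot
  obtain ⟨d', hd'⟩ := hHacts hh2
  have hact := Acts.mul e2 hd'
  have hprod : (m₁ : S) * ((m₁ : S)⁻¹ * (h * (l.map (sS Y)).prod)) = h * (l.map (sS Y)).prod := by
    group
  rw [hprod] at hact
  have hτ1 : τ * 1 = 1 := hperm hact h1
  rw [mul_one] at hτ1
  rw [hτ1, map_one, QuotientGroup.eq_one_iff, hHn, Subgroup.mem_subgroupOf] at hmk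
  exact hmk

end Cfsg.Agent.Lib.Helper51.StN
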