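import Cfsg.Agent.Lib.Helper11.Syl22Defs

/-!
# K-S4346-B7 (keystone 434616): `|N_G(P)|` divides `3 * 7!`

`N_G(P)` permutes the 8 orbits of `P` on `Sylow 3 G`, fixes the orbit `{P}`, and the kernel of this action lies in `P`.
-/

set_option autoImplicit false
set_option linter.style.haveILetI false

namespace Cfsg.Agent.Lib.Helper51.Syl22

open Cfsg.Agent.Lib.Helper11.Syl22 MulAction

section

variable {G : Type*} [Group G]

/-- the orbit space of `P` on the Sylow 3-subgroups -/
abbrev Orb (P : Sylow 3 G) : Type _ := MulAction.orbitRel.Quotient ↥(P : Subgroup G) (Sylow 3 G)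

theorem orb_respects (P : Sylow 3 G) (n : G)
    (hn : n ∈ Subgroup.normalizer ((P : Subgroup G) : Set G)) (Q Q' : Sylow 3 G)
    (h : MulAction.orbitRel ↥(P : Subgroup G) (Sylow 3 G) Q Q') :
    MulAction.orbitRel ↥(P : Subgroup G) (Sylow 3 G) (n • Q) (n • Q') := by
  rw [MulAction.orbitRel_apply] at h ⊢
  obtain ⟨y, hy⟩ := h
  have hmem : n * (y : G) * n⁻¹ ∈ (P : Subgroup G) :=
    (Subgroup.mem_normalizer_iff.mp hn (y : G)).mp y.2
  refine ⟨⟨n * (y : G) * n⁻¹, hmem⟩, ?_⟩
  show (n * (y : G) * n⁻¹) • n • Q' = n • Q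
  rw [← hy]
  show (n * (y : G) * n⁻¹) • n • Q' = n • (y : G) • Q'
  rw [smul_smul, smul_smul]
  congr 1
  group

/-- the map induced by `n ∈ N(P)` on the orbit space -/
noncomputable def orbMap (P : Sylow 3 G) (n : ↥(Subgroup.normalizer ((P : Subgroup G) : Set G))) :
    Orb P → Orb P :=
  Quotient.map' (fun Q => (n : G) • Q) (fun Q Q' h => orb_respects P n n.2 Q Q' h)

theorem orbMap_mk (P : Sylow 3 G) (n : ↥(Subgroup.normalizer ((P : Subgroup G) : Set G)))
    (Q : Sylow 3 G) :
    orbMap P n (Quotient.mk'' Q) = Quotient.mk'' ((n : G) • Q) := rfl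

theorem orbMap_one (P : Sylow 3 G) (ω : Orb P) : orbMap P 1 ω = ω := by
  induction ω using Quotient.inductionOn' with
  | h Q => rw [orbMap_mk, Subgroup.coe_one, one_smul]

theorem orbMap_mul (P : Sylow 3 G) (n n' : ↥(Subgroup.normalizer ((P : Subgroup G) : Set G)))
    (ω : Orb P) : orbMap P (n * n') ω = orbMap P n (orbMap P n' ω) := by
  induction ω using Quotient.inductionOn' with
  | h Q => rw [orbMap_mk, orbMap_mk, orbMap_mk, Subgroup.coe_mul, mul_smul]

/-- the action of `N(P)` on the orbit space as a homomorphism -/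
noncomputable def orbPerm (P : Sylow 3 G) :
    ↥(Subgroup.normalizer ((P : Subgroup G) : Set G)) →* Equiv.Perm (Orb P) where
  toFun n :=
    { toFun := orbMap P n
      invFun := orbMap P n⁻¹
      left_inv := fun ω => by rw [← orbMap_mul, inv_mul_cancel, orbMap_one]
      right_inv := fun ω => by rw [← orbMap_mul, mul_inv_cancel, orbMap_one] }
  map_one' := by
    ext ω
    exact orbMap_one P ω
  map_mul' n n' := by
    ext ω
    exact orbMap_mul P n n' ω

theorem orbPerm_mk (P : Sylow 3 G) (n : ↥(Subgroup.normalizer ((P : Subgroup G) : Set G)))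
    (Q : Sylow 3 G) :
    orbPerm P n (Quotient.mk'' Q) = Quotient.mk'' ((n : G) • Q) := rfl

/-- the kernel of the action on the orbit space -/
theorem exists_of_mem_ker (P : Sylow 3 G) (n : ↥(Subgroup.normalizer ((P : Subgroup G) : Set G)))
    (hn : n ∈ (orbPerm P).ker) (Q : Sylow 3 G) :
    ∃ y ∈ (P : Subgroup G), (n : G) • Q = y • Q := by
  have h1 : orbPerm P n (Quotient.mk'' Q) = Quotient.mk'' Q := by
    rw [MonoidHom.mem_ker.mp hn]; rfl
  rw [orbPerm_mk] at h1
  have h2 := Quotient.eq''.mp h1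
  rw [MulAction.orbitRel_apply] at h2
  obtain ⟨y, hy⟩ := h2
  exact ⟨(y : G), y.2, hy.symm⟩

/-- the orbit of `P` is fixed -/
theorem orbPerm_fix (P : Sylow 3 G) (n : ↥(Subgroup.normalizer ((P : Subgroup G) : Set G))) :
    orbPerm P n (Quotient.mk'' P) = Quotient.mk'' P := by
  rw [orbPerm_mk]
  congr 1
  exact Sylow.smul_eq_iff_mem_normalizer.mpr n.2

theorem sylow_eq_of_mem (c : Ctx G) (P Q : Sylow 3 G) (y : G) (hy1 : y ≠ 1)
    (hyP : y ∈ (P : Subgroup G)) (hyQ : y ∈ (Q : Subgroup G)) : Q = P := by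
  haveI := c.fin
  have hd : Nat.card ↥((P : Subgroup G) ⊓ (Q : Subgroup G)) ∣ 3 := by
    have h := Subgroup.card_dvd_of_le (inf_le_left : (P : Subgroup G) ⊓ (Q : Subgroup G) ≤ (P : Subgroup G))
    rwa [c.h3 P] at h
  rcases (Nat.dvd_prime Nat.prime_three).mp hd with h1 | h3
  · exfalso
    have hbot := Subgroup.eq_bot_of_card_eq _ h1
    have : y ∈ (P : Subgroup G) ⊓ (Q : Subgroup G) := ⟨hyP, hyQ⟩
    rw [hbot, Subgroup.mem_bot] at this
    exact hy1 this
  · have hP : (P : Subgroup G) ⊓ (Q : Subgroup G) = (P : Subgroup G) :=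
      Subgroup.eq_of_le_of_card_ge inf_le_left (by rw [h3, c.h3 P])
    have hQ : (P : Subgroup G) ⊓ (Q : Subgroup G) = (Q : Subgroup G) :=
      Subgroup.eq_of_le_of_card_ge inf_le_right (by rw [h3, c.h3 Q])
    exact Sylow.ext (hQ.symm.trans hP)

theorem card_orb (c : Ctx G) (P : Sylow 3 G) : Nat.card (Orb P) = 8 := by
  classical
  haveI := c.fin
  haveI : Fintype ↥(P : Subgroup G) := Fintype.ofFinite _
  haveI : Fintype (Sylow 3 G) := Fintype.ofFinite _
  haveI : Fintype (Orb P) := Fintype.ofFinite _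
  have hB : ∑ g : ↥(P : Subgroup G), Fintype.card ↥(MulAction.fixedBy (Sylow 3 G) g) =
      Fintype.card (Orb P) * Fintype.card ↥(P : Subgroup G) :=
    MulAction.sum_card_fixedBy_eq_card_orbits_mul_card_group ↥(P : Subgroup G) (Sylow 3 G)
  have h3 : Fintype.card ↥(P : Subgroup G) = 3 := by
    rw [← Nat.card_eq_fintype_card]; exact c.h3 P
  have h22 : Fintype.card (Sylow 3 G) = 22 := by
    rw [← Nat.card_eq_fintype_card]; exact c.h22
  have hfix : ∀ y : ↥(P : Subgroup G),
      Fintype.card ↥(MulAction.fixedBy (Sylow 3 G) y) = 1 + (if y = 1 then 21 else 0) := by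
    intro y
    by_cases hy : y = 1
    · subst hy
      rw [if_pos rfl]
      show _ = 22
      rw [← h22]
      have hu : MulAction.fixedBy (Sylow 3 G) (1 : ↥(P : Subgroup G)) = Set.univ :=
        MulAction.fixedBy_one_eq_univ _ _
      rw [← Nat.card_eq_fintype_card, ← Nat.card_eq_fintype_card, hu]
      exact Nat.card_congr (Equiv.Set.univ _)
    · rw [if_neg hy, add_zero, Fintype.card_eq_one_iff]
      have hyP : (y : G) • P = P :=
        Sylow.smul_eq_iff_mem_normalizer.mpr (Subgroup.le_normalizer y.2)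
      refine ⟨⟨P, hyP⟩, ?_⟩
      rintro ⟨Q, hQ⟩
      apply Subtype.ext
      show Q = P
      have hQ' : (y : G) • Q = Q := hQ
      have hn : (y : G) ∈ Subgroup.normalizer ((Q : Subgroup G) : Set G) :=
        Sylow.smul_eq_iff_mem_normalizer.mp hQ'
      have hmem : (y : G) ∈ (P : Subgroup G) ⊓ Subgroup.normalizer ((Q : Subgroup G) : Set G) :=
        ⟨y.2, hn⟩
      have hmem2 : (y : G) ∈ (P : Subgroup G) ⊓ (Q : Subgroup G) := by
        rw [← IsPGroup.inf_normalizer_sylow P.2 Q]
        exact hmem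
      refine sylow_eq_of_mem c P Q (y : G) ?_ y.2 hmem2.2
      intro h1
      exact hy (Subtype.ext h1)
  simp_rw [hfix] at hB
  rw [Finset.sum_add_distrib, Finset.sum_const, Finset.card_univ, h3, Finset.sum_ite_eq'] at hB
  simp only [Finset.mem_univ, if_true, smul_eq_mul] at hB
  rw [Nat.card_eq_fintype_card]
  omega

theorem card_stabilizer_perm {Ω : Type*} [Finite Ω] (ω : Ω) :
    Nat.card ↥(MulAction.stabilizer (Equiv.Perm Ω) ω) * Nat.card Ω = (Nat.card Ω).factorial := by
  classical
  have h := Subgroup.card_mul_index (MulAction.stabilizer (Equiv.Perm Ω) ω)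
  rw [MulAction.index_stabilizer, MulAction.orbit_eq_univ, Set.ncard_univ, Nat.card_perm] at h
  exact h

/-- K-B7 (434616). -/
theorem card_normalizer_dvd (c : Ctx G) (P : Sylow 3 G)
    (hker : ∀ n ∈ Subgroup.normalizer ((P : Subgroup G) : Set G),
      (∀ Q : Sylow 3 G, ∃ y ∈ (P : Subgroup G), n • Q = y • Q) → n ∈ (P : Subgroup G)) :
    Nat.card ↥(Subgroup.normalizer ((P : Subgroup G) : Set G)) ∣ 3 * 5040 := by
  classical
  haveI := c.fin
  haveI : Finite (Orb P) := Quotient.finite _
  -- the kernel has order dividing 3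
  have hk : Nat.card ↥(orbPerm P).ker ∣ 3 := by
    have hle : (orbPerm P).ker ≤ (P : Subgroup G).subgroupOf
        (Subgroup.normalizer ((P : Subgroup G) : Set G)) := by
      intro n hn
      rw [Subgroup.mem_subgroupOf]
      exact hker n n.2 (exists_of_mem_ker P n hn)
    have h1 := Subgroup.card_dvd_of_le hle
    have h2 : Nat.card ↥((P : Subgroup G).subgroupOf
        (Subgroup.normalizer ((P : Subgroup G) : Set G))) = 3 := by
      exact (Nat.card_congr (Subgroup.subgroupOfEquivOfLe Subgroup.le_normalizer).toEquiv).trans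
        (c.h3 P)
    rwa [h2] at h1
  -- the image has order dividing 7!
  have hr : Nat.card ↥(orbPerm P).range ∣ 5040 := by
    have hle : (orbPerm P).range ≤
        MulAction.stabilizer (Equiv.Perm (Orb P)) (Quotient.mk'' P : Orb P) := by
      rintro _ ⟨n, rfl⟩
      rw [MulAction.mem_stabilizer_iff]
      exact orbPerm_fix P n
    have h1 := Subgroup.card_dvd_of_le hle
    have h2 := card_stabilizer_perm (Ω := Orb P) (Quotient.mk'' P : Orb P)
    rw [card_orb c P] at h2
    have h3 : Nat.card ↥(MulAction.stabilizer (Equiv.Perm (Orb P)) (Quotient.mk'' P : Orb P)) = 5040 := by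
      have : (8 : ℕ).factorial = 5040 * 8 := by decide
      omega
    rwa [h3] at h1
  have h := Subgroup.card_mul_index (orbPerm P).ker
  rw [Subgroup.index_ker] at h
  rw [← h]
  exact Nat.mul_dvd_mul hk hr

end

end Cfsg.Agent.Lib.Helper51.Syl22
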