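import Cfsg.Agent.Lib.Helper11.Syl22Defs
import Cfsg.Agent.Lib.Helper18.Syl22_InfEq
import Cfsg.Agent.Lib.Helper51.Syl22_AdjBasic

/-!
# K-S4346-A6 (keystone 434607): the closed neighbourhoods partition `Sylow 3 G`
-/

set_option autoImplicit false
set_option linter.style.haveILetI false
set_option linter.unusedSectionVars false
set_option linter.deprecated false

namespace Cfsg.Agent.Lib.Helper51.Syl22

open Cfsg.Agent.Lib.Helper11.Syl22
open scoped Pointwise

section

variable {G : Type*} [Group G] [Finite G]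

/-- closed neighbourhood -/
def Nb (T : Sylow 3 G) : Set (Sylow 3 G) := {S | S = T ∨ Adj T S}

/-- the Sylow subgroups containing `P ⊓ R` -/
def Fx (P R : Sylow 3 G) : Set (Sylow 3 G) :=
  {T | (P : Subgroup G) ⊓ (R : Subgroup G) ≤ (T : Subgroup G)}

theorem smul_inf_coe (g : G) (P R : Sylow 3 G) :
    ((g • P : Sylow 3 G) : Subgroup G) ⊓ ((g • R : Sylow 3 G) : Subgroup G) =
      MulAut.conj g • ((P : Subgroup G) ⊓ (R : Subgroup G)) := by
  rw [Sylow.smul_def, Sylow.smul_def, Sylow.pointwise_smul_def, Sylow.pointwise_smul_def,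
    Subgroup.smul_inf]

theorem mem_Fx_smul (g : G) (P R T : Sylow 3 G) : g • T ∈ Fx (g • P) (g • R) ↔ T ∈ Fx P R := by
  unfold Fx
  simp only [Set.mem_setOf_eq]
  rw [smul_inf_coe]
  conv_lhs => rw [Sylow.smul_def, Sylow.pointwise_smul_def]
  exact Subgroup.pointwise_smul_le_pointwise_smul_iff

/-- `Fx P R = Nb T` for every `T ∈ Fx P R`, when the cards match -/
theorem Nb_eq_Fx {P R : Sylow 3 G} (h : Adj P R) (a : ℕ)
    (ha : ∀ T : Sylow 3 G, Nat.card {S : Sylow 3 G // Adj T S} = a)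
    (hs : Nat.card {T : Sylow 3 G // (P : Subgroup G) ⊓ (R : Subgroup G) ≤ (T : Subgroup G)} = a + 1)
    (T : Sylow 3 G) (hT : T ∈ Fx P R) : Nb T = Fx P R := by
  classical
  have hsub : Fx P R ⊆ Nb T := by
    intro S hS
    by_cases hST : S = T
    · exact Or.inl hST
    · exact Or.inr (Cfsg.Agent.Lib.Helper18.Syl22.inf_eq_of_le h hT hS (Ne.symm hST)).2
  have hFx : (Fx P R).ncard = a + 1 := by
    rw [← hs, ← Nat.card_coe_set_eq]
    rfl
  have hNb : (Nb T).ncard ≤ a + 1 := by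
    have h1 : Nb T = insert T {S | Adj T S} := by
      ext S
      simp only [Nb, Set.mem_setOf_eq, Set.mem_insert_iff]
    rw [h1]
    refine (Set.ncard_insert_le _ _).trans ?_
    have h2 : ({S | Adj T S} : Set (Sylow 3 G)).ncard = a := by
      rw [← ha T, ← Nat.card_coe_set_eq]
      rfl
    rw [h2]
  exact (Set.eq_of_subset_of_ncard_le hsub (by rw [hFx]; exact hNb) (Set.toFinite _)).symm

/-- conjugation invariance of the hypotheses -/
theorem card_Fx_smul (g : G) (P R : Sylow 3 G) :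
    Nat.card {T : Sylow 3 G // ((g • P : Sylow 3 G) : Subgroup G) ⊓ ((g • R : Sylow 3 G) : Subgroup G)
      ≤ (T : Subgroup G)} =
    Nat.card {T : Sylow 3 G // (P : Subgroup G) ⊓ (R : Subgroup G) ≤ (T : Subgroup G)} := by
  symm
  refine Nat.card_congr
    { toFun := fun T => ⟨g • T.1, (mem_Fx_smul g P R T.1).mpr T.2⟩
      invFun := fun T => ⟨g⁻¹ • T.1, by
        have h := T.2
        have h3 : g • g⁻¹ • T.1 = T.1 := smul_inv_smul g T.1
        rw [← h3] at h
        exact (mem_Fx_smul g P R _).mp h⟩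
      left_inv := fun T => Subtype.ext (inv_smul_smul g T.1)
      right_inv := fun T => Subtype.ext (smul_inv_smul g T.1) }

/-- every closed neighbourhood is of the form `Fx`, hence `V ∈ Nb U → Nb V = Nb U` -/
theorem Nb_eq_of_mem {P R : Sylow 3 G} (h : Adj P R) (a : ℕ)
    (ha : ∀ T : Sylow 3 G, Nat.card {S : Sylow 3 G // Adj T S} = a)
    (hs : Nat.card {T : Sylow 3 G // (P : Subgroup G) ⊓ (R : Subgroup G) ≤ (T : Subgroup G)} = a + 1)
    (U V : Sylow 3 G) (hV : V ∈ Nb U) : Nb V = Nb U := by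
  obtain ⟨g, rfl⟩ := MulAction.exists_smul_eq G P U
  have h' : Adj (g • P) (g • R) := (adj_smul_iff g P R).mpr h
  have hs' := (card_Fx_smul g P R).trans hs
  have hU : g • P ∈ Fx (g • P) (g • R) :=
    (inf_le_left : ((g • P : Sylow 3 G) : Subgroup G) ⊓ ((g • R : Sylow 3 G) : Subgroup G) ≤ _)
  have h1 := Nb_eq_Fx h' a ha hs' (g • P) hU
  have hV' : V ∈ Fx (g • P) (g • R) := by rw [← h1]; exact hV
  rw [h1, Nb_eq_Fx h' a ha hs' V hV']

theorem ncard_Nb {P R : Sylow 3 G} (h : Adj P R) (a : ℕ)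
    (ha : ∀ T : Sylow 3 G, Nat.card {S : Sylow 3 G // Adj T S} = a)
    (hs : Nat.card {T : Sylow 3 G // (P : Subgroup G) ⊓ (R : Subgroup G) ≤ (T : Subgroup G)} = a + 1)
    (U : Sylow 3 G) : (Nb U).ncard = a + 1 := by
  obtain ⟨g, rfl⟩ := MulAction.exists_smul_eq G P U
  have h' : Adj (g • P) (g • R) := (adj_smul_iff g P R).mpr h
  have hs' := (card_Fx_smul g P R).trans hs
  have hU : g • P ∈ Fx (g • P) (g • R) :=
    (inf_le_left : ((g • P : Sylow 3 G) : Subgroup G) ⊓ ((g • R : Sylow 3 G) : Subgroup G) ≤ _)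
  rw [Nb_eq_Fx h' a ha hs' (g • P) hU, ← hs', ← Nat.card_coe_set_eq]
  rfl

end

/-- a family of "closed neighbourhoods" of constant size `k` that partitions `X` forces `k ∣ |X|` -/
theorem dvd_card_of_partition {X : Type*} [Finite X] (N : X → Set X) (k : ℕ)
    (hself : ∀ U, U ∈ N U) (hmem : ∀ U V, V ∈ N U → N V = N U) (hcard : ∀ U, (N U).ncard = k) :
    k ∣ Nat.card X := by
  classical
  haveI : Fintype X := Fintype.ofFinite X
  rw [← Nat.card_congr (Equiv.sigmaFiberEquiv N), Nat.card_sigma]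
  apply Finset.dvd_sum
  intro F _
  by_cases hF : ∃ x₀, N x₀ = F
  · obtain ⟨x₀, rfl⟩ := hF
    have h1 : {x : X | N x = N x₀} = N x₀ := by
      ext x
      constructor
      · intro hx
        have hx' : N x = N x₀ := hx
        rw [← hx']
        exact hself x
      · intro hx
        exact hmem x₀ x hx
    have h2 : Nat.card {x : X // N x = N x₀} = (N x₀).ncard := by
      have h3 : Nat.card {x : X // N x = N x₀} = Nat.card ↥{x : X | N x = N x₀} := rfl
      rw [h3, Nat.card_coe_set_eq, h1]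
    rw [h2, hcard]
  · have : IsEmpty {x : X // N x = F} := ⟨fun x => hF ⟨x.1, x.2⟩⟩
    rw [Nat.card_of_isEmpty]
    exact dvd_zero k

/-- K-A6 (434607). -/
theorem fixed_card_dvd {G : Type*} [Group G] [Finite G] {P R : Sylow 3 G} (h : Adj P R) (a : ℕ)
    (ha : ∀ T : Sylow 3 G, Nat.card {S : Sylow 3 G // Adj T S} = a)
    (hs : Nat.card {T : Sylow 3 G // (P : Subgroup G) ⊓ (R : Subgroup G) ≤ (T : Subgroup G)}
      = a + 1) :
    (a + 1) ∣ Nat.card (Sylow 3 G) :=
  dvd_card_of_partition Nb (a + 1) (fun _ => Or.inl rfl)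
    (fun U V hV => Nb_eq_of_mem h a ha hs U V hV) (fun U => ncard_Nb h a ha hs U)

end Cfsg.Agent.Lib.Helper51.Syl22
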