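/-
Keystone K-UF-T1c (570011) for S5700, architect helper43: `typeI_full`, exact spec signature.
-/
import Cfsg.Agent.Lib.Helper51.UFT1cAux
import Cfsg.Agent.Lib.Helper21.UFT1a
import Cfsg.Agent.Lib.Helper67.UFT1b

set_option autoImplicit false
set_option linter.unusedSimpArgs false
set_option linter.unusedVariables false
set_option linter.unusedSectionVars false

namespace Cfsg.Agent.Lib.Helper51.UF

open Module Matrix Cfsg.Agent.Lib.Helper19 Cfsg.Agent.Lib.Helper43 Cfsg.Agent.Lib.Helper43.UF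

variable {F : Type*} [Field F] [Fintype F] {ι : Type} [Fintype ι] [DecidableEq ι]
variable {Q : QuadraticForm F (ι → F)}
variable (hQ : (QuadraticMap.polarBilin Q).Nondegenerate) (hn : 7 ≤ Fintype.card ι)

local notation "ℬ" => QuadraticMap.polarBilin Q

/-- K-UF-T1c (570011). -/
theorem typeI_full (U : UData Q) (M : Subgroup ↥(Cfsg.Omega F ⇑Q))
    (hH : ∀ k : ↥(Cfsg.Omega F ⇑Q), (∀ x, lo Q k (U.J x) = U.J (lo Q k x)) → k ∈ M)
    (h14 : 14 ≤ Fintype.card ι) (a b : ι → F) (ha0 : a ≠ 0) (ha : Q a = 0) (hb : Q b = 0)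
    (hab : U.HOrth a b) (hbKa : b ∉ KL U a) (hbRS : b ∈ RS Q hQ hn M a)
    (u : ι → F) (hu : Q u = 0) (hbu : U.HOrth b u) : u ∈ RS Q hQ hn M b :=
  typeI_full_of hQ hn U M hH h14 (Cfsg.Agent.Lib.Helper21.UF.eich_step hQ hn U M hH h14)
    (Cfsg.Agent.Lib.Helper67.UF.tv_step hQ hn U M hH) a b ha0 ha hb hab hbKa hbRS u hu hbu

end Cfsg.Agent.Lib.Helper51.UF
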