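import Mathlib
import Cfsg.Agent.Lib.Helper51.URU6
import Cfsg.Agent.Lib.Helper49.UnipotentClasses
import Cfsg.Agent.Lib.Helper08.GUCard
set_option autoImplicit false
set_option linter.unusedSectionVars false
set_option linter.unusedVariables false

/-! Every unipotent Jordan type occurs in `GU_n(q)`: orthogonal sums of regular unipotents. -/

namespace Cfsg.Agent.Lib.Helper51.URU

open Matrix Module Cfsg.Agent.Lib.Helper49

section I
variable {K : Type*} [Field K] {n t : ℕ} {d : Fin t → ℕ}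

/-- gluing block vectors -/
def glue (e : ((k : Fin t) × Fin (d k)) ≃ Fin n) :
    (∀ k : Fin t, Fin (d k) → K) ≃ₗ[K] (Fin n → K) where
  toFun x := fun i => x (e.symm i).1 (e.symm i).2
  invFun y := fun k j => y (e ⟨k, j⟩)
  map_add' x y := by funext i; rfl
  map_smul' c x := by funext i; rfl
  left_inv x := by
    funext k j
    exact congrArg (fun s : (k : Fin t) × Fin (d k) => x s.1 s.2) (e.symm_apply_apply ⟨k, j⟩)
  right_inv y := by
    funext i
    simp only [Sigma.eta, Equiv.apply_symm_apply]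

theorem glue_apply (e : ((k : Fin t) × Fin (d k)) ≃ Fin n) (x : ∀ k : Fin t, Fin (d k) → K)
    (i : Fin n) : glue e x i = x (e.symm i).1 (e.symm i).2 := rfl

theorem glue_symm_apply (e : ((k : Fin t) × Fin (d k)) ≃ Fin n) (y : Fin n → K)
    (k : Fin t) (j : Fin (d k)) : (glue e).symm y k j = y (e ⟨k, j⟩) := rfl

theorem hermForm_glue (q : ℕ) (e : ((k : Fin t) × Fin (d k)) ≃ Fin n)
    (x y : ∀ k : Fin t, Fin (d k) → K) :
    Cfsg.hermForm n K q (glue e x) (glue e y) = ∑ k, Cfsg.hermForm (d k) K q (x k) (y k) := by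
  unfold Cfsg.hermForm
  rw [← Equiv.sum_comp e, Fintype.sum_sigma]
  apply Finset.sum_congr rfl
  intro k _
  apply Finset.sum_congr rfl
  intro j _
  rw [glue_apply, glue_apply]
  exact congrArg (fun s : (k : Fin t) × Fin (d k) => x s.1 s.2 * y s.1 s.2 ^ q)
    (e.symm_apply_apply ⟨k, j⟩)

/-- the blockwise operator -/
noncomputable def blockOp (e : ((k : Fin t) × Fin (d k)) ≃ Fin n)
    (M : ∀ k : Fin t, Matrix (Fin (d k)) (Fin (d k)) K) : (Fin n → K) →ₗ[K] (Fin n → K) :=
  (glue (K := K) e).toLinearMap ∘ₗ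
    (LinearMap.pi fun k => Matrix.toLin' (M k) ∘ₗ LinearMap.proj k) ∘ₗ
      (glue (K := K) e).symm.toLinearMap

theorem blockOp_glue (e : ((k : Fin t) × Fin (d k)) ≃ Fin n)
    (M : ∀ k : Fin t, Matrix (Fin (d k)) (Fin (d k)) K) (x : ∀ k : Fin t, Fin (d k) → K) :
    blockOp e M (glue e x) = glue e (fun k => M k *ᵥ x k) := by
  unfold blockOp
  simp only [LinearMap.comp_apply, LinearEquiv.coe_coe, LinearEquiv.symm_apply_apply]
  congr 1

theorem blockOp_one (e : ((k : Fin t) × Fin (d k)) ≃ Fin n) :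
    blockOp e (fun k => (1 : Matrix (Fin (d k)) (Fin (d k)) K)) = LinearMap.id := by
  apply LinearMap.ext
  intro y
  obtain ⟨x, rfl⟩ := (glue e).surjective y
  rw [blockOp_glue]
  simp only [Matrix.one_mulVec, LinearMap.id_apply]

theorem blockOp_sub (e : ((k : Fin t) × Fin (d k)) ≃ Fin n)
    (M M' : ∀ k : Fin t, Matrix (Fin (d k)) (Fin (d k)) K) :
    blockOp e (fun k => M k - M' k) = blockOp e M - blockOp e M' := by
  apply LinearMap.ext
  intro y
  obtain ⟨x, rfl⟩ := (glue e).surjective y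
  rw [LinearMap.sub_apply, blockOp_glue, blockOp_glue, blockOp_glue, ← map_sub]
  congr 1
  funext k
  rw [Pi.sub_apply, Matrix.sub_mulVec]

theorem blockOp_hermForm (q : ℕ) (e : ((k : Fin t) × Fin (d k)) ≃ Fin n)
    (M : ∀ k : Fin t, Matrix (Fin (d k)) (Fin (d k)) K)
    (hM : ∀ k (x y : Fin (d k) → K),
      Cfsg.hermForm (d k) K q (M k *ᵥ x) (M k *ᵥ y) = Cfsg.hermForm (d k) K q x y)
    (x y : Fin n → K) :
    Cfsg.hermForm n K q (blockOp e M x) (blockOp e M y) = Cfsg.hermForm n K q x y := by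
  obtain ⟨x, rfl⟩ := (glue e).surjective x
  obtain ⟨y, rfl⟩ := (glue e).surjective y
  rw [blockOp_glue, blockOp_glue, hermForm_glue, hermForm_glue]
  apply Finset.sum_congr rfl
  intro k _
  exact hM k _ _

end I

section J
variable {K : Type*} [Field K] [Fintype K] {q : ℕ} {n : ℕ}

open Cfsg.Agent.Lib.Helper08 (IsIsoMat)

theorem exists_GU_hasType (hK : Fintype.card K = q ^ 2) (μ : Nat.Partition n) :
    ∃ g : GL (Fin n) K, g ∈ Cfsg.GU n K q ∧ HasType g μ := by
  classical
  set l := μ.parts.toList with hl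
  let d : Fin l.length → ℕ := fun k => l.get k
  have hmap : Multiset.map d Finset.univ.val = μ.parts := by
    rw [Fin.univ_val_map, List.ofFn_get, hl, Multiset.coe_toList]
  have hd : ∀ k, 1 ≤ d k := by
    intro k
    apply μ.parts_pos
    rw [← Multiset.mem_toList]
    exact List.get_mem l k
  have hsum : ∑ k, d k = n := by
    have : (Multiset.map d Finset.univ.val).sum = n := by rw [hmap, μ.parts_sum]
    exact this
  have hcard : Fintype.card ((k : Fin l.length) × Fin (d k)) = n := by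
    rw [Fintype.card_sigma]
    simp only [Fintype.card_fin]
    exact hsum
  let e : ((k : Fin l.length) × Fin (d k)) ≃ Fin n := Fintype.equivFinOfCardEq hcard
  -- regular unipotents in each block
  have hblk : ∀ k : Fin l.length, ∃ (u : GL (Fin (d k)) K), u ∈ Cfsg.GU (d k) K q ∧
      IsRegUnip (u : Matrix (Fin (d k)) (Fin (d k)) K) := fun k => exists_regUnip_GU hK (hd k)
  choose u huU hureg using hblk
  have hcyc : ∀ k : Fin l.length, ∃ (v : Fin (d k) → K) (b : Basis (Fin (d k)) K (Fin (d k) → K)),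
      ∀ i : Fin (d k), b i = (((u k : Matrix (Fin (d k)) (Fin (d k)) K) - 1) ^ (i : ℕ)).mulVec v := by
    intro k
    obtain ⟨v, b, _, hb⟩ := exists_cyclic_basis (hd k) _ (hureg k).1 (hureg k).2
    exact ⟨v, b, hb⟩
  choose v bk hbk using hcyc
  set U : ∀ k : Fin l.length, Matrix (Fin (d k)) (Fin (d k)) K :=
    fun k => (u k : Matrix (Fin (d k)) (Fin (d k)) K) with hU
  set L := blockOp e U with hL
  set G : Matrix (Fin n) (Fin n) K := LinearMap.toMatrix' L with hG
  have hGlin : Matrix.toLin' G = L := Matrix.toLin'_toMatrix' _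
  have hGiso : IsIsoMat q G := by
    intro x y
    have h1 : ∀ z, G *ᵥ z = L z := by
      intro z
      rw [← hGlin, Matrix.toLin'_apply]
    rw [h1, h1]
    exact blockOp_hermForm q e U (fun k x y => (huU k) x y) x y
  refine ⟨(hGiso.isUnit hK).unit, hGiso, ?_⟩
  -- the Jordan basis
  let b : Basis ((k : Fin l.length) × Fin (d k)) K (Fin n → K) := (Pi.basis bk).map (glue e)
  have hbdef : ∀ (k : Fin l.length) (j : Fin (d k)), b ⟨k, j⟩ = glue e (Pi.single k (bk k j)) := by
    intro k j
    simp only [b, Basis.map_apply, Pi.basis_apply]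
  refine ⟨l.length, d, b, hd, ?_, hmap⟩
  have hnil : nilOf (hGiso.isUnit hK).unit = blockOp e (fun k => U k - 1) := by
    unfold nilOf
    rw [IsUnit.unit_spec, map_sub, hGlin, hL, blockOp_sub, blockOp_one]
    simp
  rw [hnil]
  intro k j
  rw [hbdef, blockOp_glue]
  have hsingle : (fun k' => (U k' - 1) *ᵥ (Pi.single k (bk k j) : ∀ k, Fin (d k) → K) k')
      = Pi.single k ((U k - 1) *ᵥ bk k j) := by
    funext k'
    by_cases hk : k' = k
    · subst hk
      simp only [Pi.single_eq_same]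
    · simp only [Pi.single_eq_of_ne hk, Matrix.mulVec_zero]
  rw [hsingle, hbk k j, Matrix.mulVec_mulVec, ← pow_succ']
  split_ifs with hj
  · rw [hbdef, hbk k ⟨(j : ℕ) + 1, hj⟩]
  · have : (j : ℕ) + 1 = d k := by have := j.2; omega
    rw [this, hU, (hureg k).1, Matrix.zero_mulVec, Pi.single_zero, map_zero]

end J

end Cfsg.Agent.Lib.Helper51.URU
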