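/-
Arithmetic used by K-UTi-N1 (S5953 pack of helper46): the orders of `q`, `q ^ 2` and `-q`
modulo an odd prime `r` (own copies of the parts of K-UTi-A1 that the block model needs).
-/
import Mathlib

set_option autoImplicit false
set_option linter.unusedVariables false

namespace Cfsg.Agent.Lib.Helper51.UTi

theorem orderOf_q_pos (r : ℕ) [Fact r.Prime] (q : ℕ) (hrq : ¬ r ∣ q) :
    0 < orderOf (q : ZMod r) := by
  have hr : r.Prime := Fact.out
  have hq : (q : ZMod r) ≠ 0 := by
    intro h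
    exact hrq ((ZMod.natCast_eq_zero_iff _ _).mp h)
  have h1 : (q : ZMod r) ^ (r - 1) = 1 := ZMod.pow_card_sub_one_eq_one hq
  apply Nat.pos_of_ne_zero
  intro h0
  have h2 := orderOf_dvd_of_pow_eq_one h1
  rw [h0, zero_dvd_iff] at h2
  have := hr.two_le
  omega

theorem b_eq_orderOf_sq (r : ℕ) [Fact r.Prime] (q : ℕ) (hrq : ¬ r ∣ q) (i b : ℕ)
    (hi : i = orderOf (q : ZMod r)) (hb : b = if Even i then i / 2 else i) :
    b = orderOf ((q ^ 2 : ℕ) : ZMod r) := by
  have hpos := orderOf_q_pos r q hrq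
  rw [Nat.cast_pow, orderOf_pow' (q : ZMod r) (by norm_num : (2 : ℕ) ≠ 0), ← hi, hb]
  by_cases he : Even i
  · rw [if_pos he]
    obtain ⟨j, hj⟩ := he
    have h2 : Nat.gcd i 2 = 2 := by
      rw [hj, ← two_mul]
      exact Nat.gcd_eq_right (Dvd.intro j rfl)
    rw [h2]
  · rw [if_neg he]
    have h2 : Nat.gcd i 2 = 1 := by
      have hodd : Odd i := Nat.not_even_iff_odd.mp he
      rw [Nat.gcd_comm]
      exact Nat.Coprime.gcd_eq_one (Nat.coprime_two_left.mpr hodd)
    rw [h2, Nat.div_one]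

theorem b_c_facts (r : ℕ) [Fact r.Prime] (q : ℕ) (hrq : ¬ r ∣ q) (i b c : ℕ)
    (hi : i = orderOf (q : ZMod r)) (hb : b = if Even i then i / 2 else i)
    (hc : c = if i % 4 = 0 then i else if i % 4 = 2 then i / 2 else 2 * i) :
    1 ≤ b ∧ (i % 4 = 2 → c = b) ∧ (i % 4 ≠ 2 → c = 2 * b) := by
  have hpos : 0 < i := by rw [hi]; exact orderOf_q_pos r q hrq
  by_cases he : Even i
  · rw [if_pos he] at hb
    obtain ⟨j, hj⟩ := he
    have hj0 : 1 ≤ j := by omega
    have hb' : b = j := by rw [hb, hj]; omega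
    refine ⟨by omega, ?_, ?_⟩
    · intro h4
      rw [hc, if_neg (by omega), if_pos h4, hb', hj]
      omega
    · intro h4
      have h0 : i % 4 = 0 := by omega
      rw [hc, if_pos h0, hb', hj]
      ring
  · rw [if_neg he] at hb
    have hodd : Odd i := Nat.not_even_iff_odd.mp he
    obtain ⟨j, hj⟩ := hodd
    refine ⟨by omega, ?_, ?_⟩
    · intro h4
      omega
    · intro h4
      rw [hc, if_neg (by omega), if_neg h4, hb]

/-- `r ∣ q ^ c - (-1) ^ c` for `c` the order of `-q` modulo `r` -/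
theorem dvd_pow_c (r : ℕ) [Fact r.Prime] (hr2 : r ≠ 2) (q : ℕ) (hrq : ¬ r ∣ q) (i c : ℕ)
    (hi : i = orderOf (q : ZMod r))
    (hc : c = if i % 4 = 0 then i else if i % 4 = 2 then i / 2 else 2 * i) :
    (r : ℤ) ∣ (q : ℤ) ^ c - (-1) ^ c := by
  have hr : r.Prime := Fact.out
  have hpos : 0 < i := by rw [hi]; exact orderOf_q_pos r q hrq
  rw [← ZMod.intCast_zmod_eq_zero_iff_dvd]
  push_cast
  have hxi : (q : ZMod r) ^ i = 1 := by rw [hi]; exact pow_orderOf_eq_one _
  by_cases h0 : i % 4 = 0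
  · rw [hc, if_pos h0, hxi]
    have he : Even i := ⟨i / 2, by omega⟩
    rw [he.neg_one_pow, sub_self]
  · rw [if_neg h0] at hc
    by_cases h2 : i % 4 = 2
    · rw [if_pos h2] at hc
      have hodd : Odd c := ⟨i / 4, by omega⟩
      rw [hodd.neg_one_pow, sub_neg_eq_add]
      have hsq : ((q : ZMod r) ^ c) ^ 2 = 1 := by
        rw [← pow_mul, hc]
        have : i / 2 * 2 = i := by omega
        rw [this, hxi]
      have hfac : ((q : ZMod r) ^ c - 1) * ((q : ZMod r) ^ c + 1) = 0 := by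
        have : ((q : ZMod r) ^ c - 1) * ((q : ZMod r) ^ c + 1) = ((q : ZMod r) ^ c) ^ 2 - 1 := by
          ring
        rw [this, hsq, sub_self]
      rcases mul_eq_zero.mp hfac with h | h
      · exfalso
        have h1 : (q : ZMod r) ^ c = 1 := sub_eq_zero.mp h
        have h3 := orderOf_dvd_of_pow_eq_one h1
        rw [← hi] at h3
        have h4 := Nat.le_of_dvd (by omega) h3
        omega
      · exact h
    · rw [if_neg h2] at hc
      have he : Even c := ⟨i, by omega⟩
      rw [he.neg_one_pow, hc, pow_mul', hxi, one_pow, sub_self]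

end Cfsg.Agent.Lib.Helper51.UTi
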