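/-
K-UTi-N1 (keystone 595331, S5953 pack of helper46): the block model.  `N = n / c` copies of an
element of order `r` of `GU_c(q)` (Cauchy) without fixed vectors, plus the identity on `n % c`
coordinates.
-/
import Cfsg.Agent.Lib.Helper10.UTiS5
import Cfsg.Agent.Lib.Helper46.UTiN0
import Cfsg.Agent.Lib.Helper51.UTiA1x
import Cfsg.Agent.Lib.Helper46.UTiHub1
import Cfsg.Agent.Lib.Helper51.UTiB5
import Cfsg.Agent.Lib.Helper49.UPairIndex

set_option autoImplicit false
set_option linter.unusedSectionVars false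
set_option linter.unusedVariables false

namespace Cfsg.Agent.Lib.Helper51.UTi

open Module Polynomial Cfsg.Agent.Lib.Helper98.Elus Cfsg.Agent.Lib.Helper46.UTi
open Cfsg.Agent.Lib.Helper19 (pow_q_pow_q add_pow_q sum_pow_q q_pos one_lt_q)

universe u

section model

variable {F : Type u} [Field F] (q c k N : ℕ)

/-- the model space: `N` blocks of dimension `c` and a trivial part of dimension `k` -/
abbrev VS : Type u := (Fin N → (Fin c → F)) × (Fin k → F)

/-- the form on the model space -/
def HS (u v : VS (F := F) c k N) : F :=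
  ∑ s, Cfsg.hermForm c F q (u.1 s) (v.1 s) + Cfsg.hermForm k F q u.2 v.2

variable {c k N}

/-- the model isometry -/
noncomputable def yS (y0 : (Fin c → F) →ₗ[F] (Fin c → F)) :
    VS (F := F) c k N →ₗ[F] VS (F := F) c k N :=
  LinearMap.prodMap (LinearMap.pi (fun s => y0.comp (LinearMap.proj s))) LinearMap.id

theorem yS_apply (y0 : (Fin c → F) →ₗ[F] (Fin c → F)) (u : VS (F := F) c k N) :
    yS y0 u = (fun s => y0 (u.1 s), u.2) := rfl

theorem yS_mul (a b : (Fin c → F) →ₗ[F] (Fin c → F)) :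
    (yS a : VS (F := F) c k N →ₗ[F] VS (F := F) c k N) * yS b = yS (a * b) := by
  apply LinearMap.ext
  intro u
  rw [Module.End.mul_apply, yS_apply, yS_apply, yS_apply]
  rfl

theorem yS_one : (yS 1 : VS (F := F) c k N →ₗ[F] VS (F := F) c k N) = 1 := by
  apply LinearMap.ext
  intro u
  rw [yS_apply]
  rfl

theorem yS_pow (a : (Fin c → F) →ₗ[F] (Fin c → F)) (j : ℕ) :
    (yS a : VS (F := F) c k N →ₗ[F] VS (F := F) c k N) ^ j = yS (a ^ j) := by
  induction j with
  | zero => rw [pow_zero, pow_zero, yS_one]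
  | succ j ih => rw [pow_succ, pow_succ, ih, yS_mul]

variable [Fintype F]

theorem isHerm_HS (hF : Fintype.card F = q ^ 2) :
    IsHerm q (HS (F := F) q c k N) where
  add_left := by
    intro x x' y
    unfold HS
    simp only [Prod.fst_add, Prod.snd_add, Pi.add_apply,
      Cfsg.Agent.Lib.Helper19.hermForm_add_left, Finset.sum_add_distrib]
    ring
  smul_left := by
    intro a x y
    unfold HS
    simp only [Prod.smul_fst, Prod.smul_snd, Pi.smul_apply,
      Cfsg.Agent.Lib.Helper19.hermForm_smul_left, ← Finset.mul_sum]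
    ring
  conj := by
    intro x y
    unfold HS
    rw [add_pow_q hF, sum_pow_q hF]
    congr 1
    · apply Finset.sum_congr rfl
      intro s _
      exact (Cfsg.Agent.Lib.Helper19.hermForm_conj hF _ _).symm
    · exact (Cfsg.Agent.Lib.Helper19.hermForm_conj hF _ _).symm

theorem nonDeg_HS (hF : Fintype.card F = q ^ 2) :
    NonDeg (HS (F := F) q c k N) ⊤ := by
  classical
  intro u _ hu
  have hz : ∀ (n : ℕ) (x : Fin n → F), Cfsg.hermForm n F q x 0 = 0 := fun n x =>
    (isHerm_hermForm hF n).zero_right hF x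
  apply Prod.ext
  · funext s
    apply nonDeg_hermForm hF c (u.1 s) Submodule.mem_top
    intro w _
    have h1 := hu (Pi.single s w, 0) Submodule.mem_top
    unfold HS at h1
    simp only at h1
    rw [hz, add_zero, Finset.sum_eq_single s] at h1
    · rwa [Pi.single_eq_same] at h1
    · intro s' _ hs'
      rw [Pi.single_eq_of_ne hs', hz]
    · intro hs
      exact absurd (Finset.mem_univ s) hs
  · apply nonDeg_hermForm hF k u.2 Submodule.mem_top
    intro w _
    have h1 := hu (0, w) Submodule.mem_top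
    unfold HS at h1
    simp only [Pi.zero_apply] at h1
    rw [Finset.sum_eq_zero (fun s _ => hz c (u.1 s)), zero_add] at h1
    exact h1

omit [Fintype F] in
theorem finrank_VS : finrank F (VS (F := F) c k N) = N * c + k := by
  rw [Module.finrank_prod, Module.finrank_pi_fintype, Module.finrank_fin_fun]
  simp

omit [Fintype F] in
theorem iso_yS (y0 : (Fin c → F) →ₗ[F] (Fin c → F)) (h0 : Iso (Cfsg.hermForm c F q) y0) :
    Iso (HS (F := F) q c k N) (yS y0) := by
  intro u v
  unfold HS
  rw [yS_apply, yS_apply]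
  simp only
  congr 1
  apply Finset.sum_congr rfl
  intro s _
  exact h0 _ _

omit [Fintype F] in
/-- the fixed space of the model isometry when the block has no fixed vector -/
theorem V0_yS (y0 : (Fin c → F) →ₗ[F] (Fin c → F)) (h0 : ∀ w, y0 w = w → w = 0) :
    V0 (yS y0 : VS (F := F) c k N →ₗ[F] VS (F := F) c k N) =
      LinearMap.range (LinearMap.inr F (Fin N → (Fin c → F)) (Fin k → F)) := by
  ext u
  rw [mem_V0, yS_apply, LinearMap.mem_range]
  constructor
  · intro h
    refine ⟨u.2, ?_⟩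
    apply Prod.ext
    · funext s
      have h1 := congrFun (congrArg Prod.fst h) s
      simp only at h1
      rw [LinearMap.inr_apply]
      exact (h0 _ h1).symm
    · rfl
  · rintro ⟨w, rfl⟩
    rw [LinearMap.inr_apply]
    apply Prod.ext
    · funext s
      simp
    · rfl

omit [Fintype F] in
theorem finrank_V0_yS (y0 : (Fin c → F) →ₗ[F] (Fin c → F)) (h0 : ∀ w, y0 w = w → w = 0) :
    finrank F ↥(V0 (yS y0 : VS (F := F) c k N →ₗ[F] VS (F := F) c k N)) = k := by
  rw [V0_yS y0 h0, LinearMap.finrank_range_of_inj LinearMap.inr_injective,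
    Module.finrank_fin_fun]

end model

section main


variable {F : Type u} [Field F] [Fintype F] {p : ℕ} [Fact p.Prime] [CharP F p] {q : ℕ}

/-- an element of order `r` of `GU_c(q)` without fixed vectors, `c` the order of `-q` mod `r` -/
theorem exists_block_unitary (hq : Fintype.card F = q ^ 2) (r : ℕ) [Fact r.Prime] (hrp : r ≠ p)
    (hr2 : r ≠ 2) (i b c : ℕ) (hi : i = orderOf (q : ZMod r))
    (hb : b = if Even i then i / 2 else i)
    (hc : c = if i % 4 = 0 then i else if i % 4 = 2 then i / 2 else 2 * i) :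
    ∃ y0 : (Fin c → F) →ₗ[F] (Fin c → F), Iso (Cfsg.hermForm c F q) y0 ∧ y0 ^ r = 1 ∧
      ∀ w, y0 w = w → w = 0 := by
  classical
  have hr : r.Prime := Fact.out
  have hp : p.Prime := Fact.out
  have hq0 : 0 < q := q_pos hq
  -- `r ∤ q`
  have hrq : ¬ r ∣ q := by
    intro h
    have h1 : r ∣ Fintype.card F := by rw [hq]; exact dvd_pow h (by norm_num)
    obtain ⟨f, hf⟩ := FiniteField.card F p
    rw [hf.2] at h1
    have h2 := (Nat.prime_dvd_prime_iff_eq hr hp).mp (hr.dvd_of_dvd_pow h1)
    exact hrp h2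
  have hrF : (r : F) ≠ 0 := by
    intro h
    have h1 := (CharP.cast_eq_zero_iff F p r).mp h
    exact hrp ((Nat.prime_dvd_prime_iff_eq hp hr).mp h1).symm
  have hbo := b_eq_orderOf_sq r q hrq i b hi hb
  obtain ⟨hb1, hc2', hcne2⟩ := b_c_facts r q hrq i b c hi hb hc
  have hc1 : 1 ≤ c := by
    by_cases h4 : i % 4 = 2
    · rw [(hc2' h4)]; exact hb1
    · rw [hcne2 h4]; omega
  -- `r` divides the order of `GU_c(q)`
  have hdvdZ : (r : ℤ) ∣ (q : ℤ) ^ c - (-1) ^ c := dvd_pow_c r hr2 q hrq i c hi hc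
  have hfac : r ∣ (if Even (c - 1) then q ^ (c - 1 + 1) + 1 else q ^ (c - 1 + 1) - 1) := by
    have hcc : c - 1 + 1 = c := by omega
    rw [hcc]
    by_cases hev : Even (c - 1)
    · rw [if_pos hev]
      have hodd : Odd c := by
        rw [← hcc]
        exact hev.add_one
      rw [hodd.neg_one_pow] at hdvdZ
      have h3 : ((q ^ c + 1 : ℕ) : ℤ) = (q : ℤ) ^ c - -1 := by push_cast; ring
      rw [← h3] at hdvdZ
      exact Int.natCast_dvd_natCast.mp hdvdZ
    · rw [if_neg hev]
      have hevc : Even c := by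
        rw [← hcc, Nat.even_add_one]
        exact hev
      rw [hevc.neg_one_pow] at hdvdZ
      have h3 : ((q ^ c - 1 : ℕ) : ℤ) = (q : ℤ) ^ c - 1 := by
        rw [Nat.cast_sub (Nat.one_le_pow _ _ hq0)]
        push_cast
        ring
      rw [← h3] at hdvdZ
      exact Int.natCast_dvd_natCast.mp hdvdZ
  have hcard : r ∣ Nat.card (Cfsg.GU c F q) := by
    rw [Cfsg.Agent.Lib.Helper49.card_GU_eq hq c]
    unfold Cfsg.Agent.Lib.Helper51.UPar.GUf
    apply Dvd.dvd.mul_left
    exact dvd_trans hfac (Finset.dvd_prod_of_mem _ (Finset.mem_range.mpr (by omega)))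
  obtain ⟨g, hg⟩ := exists_prime_orderOf_dvd_card' r hcard
  set y0 : (Fin c → F) →ₗ[F] (Fin c → F) :=
    Matrix.toLin' ((g : Matrix.GeneralLinearGroup (Fin c) F) : Matrix (Fin c) (Fin c) F) with hy0
  have hiso0 : Iso (Cfsg.hermForm c F q) y0 :=
    iso_toLin' c _ ((Cfsg.Agent.Lib.Helper19.mem_GU_iff _).mp g.2)
  have hgr : g ^ r = 1 := by rw [← hg]; exact pow_orderOf_eq_one g
  have hy0r : y0 ^ r = 1 := by
    rw [hy0, ← Matrix.toLin'_pow]
    have h1 : ((g : Matrix.GeneralLinearGroup (Fin c) F) : Matrix (Fin c) (Fin c) F) ^ r = 1 := by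
      have h2 := congrArg (fun x : ↥(Cfsg.GU c F q) =>
        ((x : Matrix.GeneralLinearGroup (Fin c) F) : Matrix (Fin c) (Fin c) F)) hgr
      simpa using h2
    rw [h1, Matrix.toLin'_one]
    rfl
  have hy0ne : y0 ≠ 1 := by
    intro h
    have h1 : ((g : Matrix.GeneralLinearGroup (Fin c) F) : Matrix (Fin c) (Fin c) F) = 1 := by
      apply Matrix.toLin'.injective
      rw [← hy0, h, Matrix.toLin'_one]
      rfl
    have h2 : g = 1 := by
      apply Subtype.ext
      apply Units.ext
      exact h1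
    rw [h2, orderOf_one] at hg
    have := hr.two_le
    omega
  refine ⟨y0, hiso0, hy0r, ?_⟩
  -- `V1 = ⊤`
  have hHc := isHerm_hermForm (F := F) hq c
  have hnd1 : NonDeg (Cfsg.hermForm c F q) (V1 r y0) := by
    have := (Cfsg.Agent.Lib.Helper46.UTiH.nonDeg_inf_parts hq hHc r hrF y0 hy0r hiso0 ⊤
      (nonDeg_hermForm hq c) (fun _ _ => Submodule.mem_top)).2
    rwa [top_inf_eq] at this
  have hdvd1 : b ∣ finrank F ↥(V1 r y0) := by
    have := Cfsg.Agent.Lib.Helper98.Elus.dvd_finrank_of_le_V1 r hrF y0 hy0r (V1 r y0)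
      (inv_V1 r y0) le_rfl
    rw [hq] at this
    rw [hbo]
    exact this
  have hfin : finrank F (Fin c → F) = c := Module.finrank_fin_fun F
  have hle : finrank F ↥(V1 r y0) ≤ c := by
    have := Submodule.finrank_le (V1 r y0)
    rw [hfin] at this
    exact this
  have hsum := finrank_V0_add_V1 r hrF y0 hy0r
  rw [hfin] at hsum
  have hne1 : V1 r y0 ≠ ⊥ := by
    intro hbot
    have htop := V0_sup_V1 r hrF y0 hy0r
    rw [hbot, sup_bot_eq] at htop
    apply hy0ne
    apply LinearMap.ext
    intro w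
    have : w ∈ V0 y0 := by rw [htop]; exact Submodule.mem_top
    rw [(mem_V0 y0 w).mp this]
    rfl
  have hd0 : finrank F ↥(V1 r y0) ≠ 0 := by
    intro h
    exact hne1 (Submodule.finrank_eq_zero.mp h)
  have hd1 : finrank F ↥(V1 r y0) = c := by
    obtain ⟨t, ht⟩ := hdvd1
    have ht0 : t ≠ 0 := by
      rintro rfl
      rw [mul_zero] at ht
      exact hd0 ht
    by_cases h4 : i % 4 = 2
    · have hcb := (hc2' h4)
      have ht1 : t = 1 := by
        by_contra hne
        have : 2 ≤ t := by omega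
        have : b * 2 ≤ b * t := Nat.mul_le_mul_left _ this
        omega
      rw [ht1, mul_one] at ht
      omega
    · have hcb := hcne2 h4
      have ht2 : t ≤ 2 := by
        by_contra hne
        have : 3 ≤ t := by omega
        have : b * 3 ≤ b * t := Nat.mul_le_mul_left _ this
        omega
      have ht1 : t ≠ 1 := by
        intro h1
        rw [h1, mul_one] at ht
        apply h4
        rw [hi]
        exact Cfsg.Agent.Lib.Helper10.UTi.mod_four_of_nonDeg_irred hq hHc p r hrp hr2 y0 hy0r hiso0 (V1 r y0) le_rfl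
          (inv_V1 r y0) hnd1 hne1 (by rw [ht, hbo])
      have ht3 : t = 2 := by omega
      rw [ht3] at ht
      omega
  have hV0 : finrank F ↥(V0 y0) = 0 := by omega
  intro w hw
  have hw0 : w ∈ V0 y0 := (mem_V0 y0 w).mpr hw
  have hbot : V0 y0 = ⊥ := Submodule.finrank_eq_zero.mp hV0
  rw [hbot] at hw0
  exact (Submodule.mem_bot F).mp hw0

/-- **K-UTi-N1 (595331)** block model -/
theorem bound_block (hq : Fintype.card F = q ^ 2) (n m : ℕ) (hn : 3 ≤ n) (hm : 1 ≤ m)
    (hmn : 2 * m ≤ n) (r : ℕ) [Fact r.Prime] (hrp : r ≠ p) (hr2 : r ≠ 2) (i b c : ℕ)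
    (hi : i = orderOf (q : ZMod r)) (hb : b = if Even i then i / 2 else i)
    (hc : c = if i % 4 = 0 then i else if i % 4 = 2 then i / 2 else 2 * i) (hcn : c ≤ n)
    (hL : AllFix F n m q r) : 2 * (m % b) ≤ n % c := by
  classical
  have hr : r.Prime := Fact.out
  have hp : p.Prime := Fact.out
  have hq0 : 0 < q := q_pos hq
  have hrq : ¬ r ∣ q := by
    intro h
    have h1 : r ∣ Fintype.card F := by rw [hq]; exact dvd_pow h (by norm_num)
    obtain ⟨f, hf⟩ := FiniteField.card F p
    rw [hf.2] at h1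
    have h2 := (Nat.prime_dvd_prime_iff_eq hr hp).mp (hr.dvd_of_dvd_pow h1)
    exact hrp h2
  have hrF : (r : F) ≠ 0 := by
    intro h
    have h1 := (CharP.cast_eq_zero_iff F p r).mp h
    exact hrp ((Nat.prime_dvd_prime_iff_eq hp hr).mp h1).symm
  have hbo := b_eq_orderOf_sq r q hrq i b hi hb
  obtain ⟨hb1, hc2', hcne2⟩ := b_c_facts r q hrq i b c hi hb hc
  by_cases hb1' : b = 1
  · rw [hb1', Nat.mod_one]
    omega
  have hc1 : 1 ≤ c := by
    by_cases h4 : i % 4 = 2
    · rw [(hc2' h4)]; exact hb1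
    · rw [hcne2 h4]; omega
  -- `r ∤ q ^ 2 - 1`
  have hrq2 : ¬ r ∣ q ^ 2 - 1 := by
    intro h
    apply hb1'
    rw [hbo, orderOf_eq_one_iff]
    have h1 : ((q ^ 2 - 1 : ℕ) : ZMod r) = 0 := (ZMod.natCast_eq_zero_iff _ _).mpr h
    rw [Nat.cast_sub (Nat.one_le_pow _ _ hq0), Nat.cast_one, sub_eq_zero] at h1
    exact h1
  obtain ⟨y0, hiso0, hy0r, hy0fix⟩ := exists_block_unitary (F := F) hq r hrp hr2 i b c hi hb hc
  -- the model
  set N := n / c with hN
  set k := n % c with hk
  have hnk : N * c + k = n := by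
    rw [hN, hk, mul_comm]
    exact Nat.div_add_mod n c
  have hN1 : 1 ≤ N := Nat.div_pos hcn hc1
  have hHS := isHerm_HS (F := F) q (c := c) (k := k) (N := N) hq
  have hVS := nonDeg_HS (F := F) q (c := c) (k := k) (N := N) hq
  have hfr : finrank F (VS (F := F) c k N) = n := by rw [finrank_VS, hnk]
  set y : VS (F := F) c k N →ₗ[F] VS (F := F) c k N := yS y0 with hy
  have hiso : Iso (HS (F := F) q c k N) y := iso_yS q y0 hiso0
  have hyr : y ^ r = 1 := by rw [hy, yS_pow, hy0r, yS_one]
  -- determinant one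
  have hdet : LinearMap.det y = 1 := by
    have h1 := det_pow_eq_one hq hHS hVS y hiso
    have h2 : (LinearMap.det y) ^ r = 1 := by rw [← map_pow, hyr, map_one]
    have hcop : Nat.gcd r (q + 1) = 1 := by
      rw [← Nat.coprime_iff_gcd_eq_one]
      apply (Nat.Prime.coprime_iff_not_dvd hr).mpr
      intro h
      apply hrq2
      have h3 : q ^ 2 - 1 = (q - 1) * (q + 1) := by
        obtain ⟨j, rfl⟩ : ∃ j, q = j + 1 := ⟨q - 1, by omega⟩
        simp only [Nat.add_sub_cancel]
        have : (j + 1) ^ 2 = j * (j + 1 + 1) + 1 := by ring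
        rw [this, Nat.add_sub_cancel]
      rw [h3]
      exact Dvd.dvd.mul_left h _
    have h3 : orderOf (LinearMap.det y) ∣ Nat.gcd r (q + 1) :=
      Nat.dvd_gcd (orderOf_dvd_of_pow_eq_one h2) (orderOf_dvd_of_pow_eq_one h1)
    rw [hcop, Nat.dvd_one] at h3
    exact orderOf_eq_one_iff.mp h3
  -- not scalar
  have hns : ∀ a : F, y ≠ a • 1 := by
    intro a ha
    have hc0 : 0 < c := hc1
    have hN0 : 0 < N := hN1
    obtain ⟨w0, hw0⟩ : ∃ w0 : Fin c → F, w0 ≠ 0 := by
      refine ⟨Pi.single ⟨0, hc0⟩ 1, ?_⟩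
      intro h
      have := congrFun h ⟨0, hc0⟩
      simp at this
    have h1 : y0 w0 = a • w0 := by
      have h2 := congrArg (fun f => (f (Pi.single ⟨0, hN0⟩ w0, 0) : VS (F := F) c k N).1 ⟨0, hN0⟩) ha
      simp only [hy, yS_apply, LinearMap.smul_apply, Module.End.one_apply, Prod.smul_fst,
        Pi.smul_apply, Pi.single_eq_same] at h2
      exact h2
    have ha1 : a ≠ 1 := by
      intro h
      rw [h, one_smul] at h1
      exact hw0 (hy0fix w0 h1)
    have hpow : ∀ j : ℕ, (y0 ^ j) w0 = a ^ j • w0 := by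
      intro j
      induction j with
      | zero => simp
      | succ j ih =>
        rw [pow_succ, Module.End.mul_apply, h1, map_smul, ih, smul_smul, pow_succ']
    have har : a ^ r = 1 := by
      have h3 := hpow r
      rw [hy0r, Module.End.one_apply] at h3
      have h4 : (a ^ r - 1) • w0 = 0 := by rw [sub_smul, one_smul, ← h3, sub_self]
      rcases smul_eq_zero.mp h4 with h5 | h5
      · exact sub_eq_zero.mp h5
      · exact absurd h5 hw0
    have ha0 : a ≠ 0 := by
      intro h
      rw [h, zero_pow hr.ne_zero] at har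
      exact zero_ne_one har
    have hord : orderOf a = r := orderOf_eq_prime har ha1
    have hcardpow : a ^ (q ^ 2 - 1) = 1 := by
      rw [← hq]
      exact FiniteField.pow_card_sub_one_eq_one a ha0
    apply hrq2
    rw [← hord]
    exact orderOf_dvd_of_pow_eq_one hcardpow
  -- a fixed totally isotropic `m`-space
  obtain ⟨W, hWinv, hWti, hWm⟩ := transport_model hq hHS hVS n m r hfr y hiso hdet 1
    (by rw [hyr, one_smul]) hns hL
  have hbound := Cfsg.Agent.Lib.Helper46.UTi.ti_bound_V0 hq hHS hVS r hrF y hyr hiso W hWinv hWti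
  rw [hWm, ← hbo, hy, finrank_V0_yS y0 hy0fix] at hbound
  exact hbound

end main

end Cfsg.Agent.Lib.Helper51.UTi
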